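import Groth.Agent.Unram.SpecLocal
import Groth.Agent.Unram.Descent
import Mathlib.RingTheory.Flat.Localization
import Mathlib.RingTheory.Flat.FaithfullyFlat.Basic
import Mathlib.RingTheory.RingHom.FaithfullyFlat
import Mathlib.RingTheory.Flat.Stability
import Mathlib.RingTheory.Localization.BaseChange
import Mathlib.RingTheory.Localization.LocalizationLocalization

/-! Flatness at a point: stability under base change. -/

set_option autoImplicit false
set_option backward.isDefEq.respectTransparency.types false

universe u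

open CategoryTheory Limits AlgebraicGeometry TensorProduct

namespace Groth.Agent.GrpSch

theorem flat_localization_baseChange {A B T : Type u} [CommRing A] [CommRing B] [CommRing T]
    [Algebra A B] [Algebra A T] (q' : Ideal (T ⊗[A] B)) [q'.IsPrime] (q : Ideal B) [q.IsPrime]
    (hq : q = q'.comap (Algebra.TensorProduct.includeRight : B →ₐ[A] T ⊗[A] B))
    [Module.Flat A (Localization.AtPrime q)] : Module.Flat T (Localization.AtPrime q') := by
  let C := T ⊗[A] Localization.AtPrime q
  let φ : T ⊗[A] B →ₐ[T] C :=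
    Algebra.TensorProduct.map (AlgHom.id T T) (IsScalarTower.toAlgHom A B (Localization.AtPrime q))
  let _ : Algebra (T ⊗[A] B) C := φ.toRingHom.toAlgebra
  have : IsScalarTower T (T ⊗[A] B) C := IsScalarTower.of_algebraMap_eq' φ.comp_algebraMap.symm
  let M : Submonoid (T ⊗[A] B) :=
    q.primeCompl.map (Algebra.TensorProduct.includeRight (R := A) (A := T) : B →ₐ[A] T ⊗[A] B)
  have : IsLocalization M C := IsLocalization.tensorProduct_tensorProduct_right A T q.primeCompl
    (Localization.AtPrime q) (by ext b; simp [RingHom.algebraMap_toAlgebra, φ]; rfl)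
  have hle : M ≤ q'.primeCompl := by
    rintro - ⟨b, hb, rfl⟩
    intro hb'
    exact hb (hq ▸ hb')
  let _ : Algebra C (Localization.AtPrime q') :=
    IsLocalization.localizationAlgebraOfSubmonoidLe C (Localization.AtPrime q') M q'.primeCompl hle
  have : IsScalarTower (T ⊗[A] B) C (Localization.AtPrime q') :=
    IsLocalization.localization_isScalarTower_of_submonoid_le C _ M q'.primeCompl hle
  have : IsLocalization (q'.primeCompl.map (algebraMap (T ⊗[A] B) C)) (Localization.AtPrime q') :=
    IsLocalization.isLocalization_of_submonoid_le C _ M q'.primeCompl hle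
  have : Module.Flat C (Localization.AtPrime q') :=
    IsLocalization.flat (Localization.AtPrime q') (q'.primeCompl.map (algebraMap (T ⊗[A] B) C))
  have : IsScalarTower T C (Localization.AtPrime q') := IsScalarTower.of_algebraMap_eq (R := T) (S := C) (A := Localization.AtPrime q') fun t => by
    have h1 : algebraMap T C t = algebraMap (T ⊗[A] B) C (algebraMap T (T ⊗[A] B) t) :=
      IsScalarTower.algebraMap_apply T (T ⊗[A] B) C t
    rw [h1, ← IsScalarTower.algebraMap_apply (T ⊗[A] B) C (Localization.AtPrime q'),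
      ← IsScalarTower.algebraMap_apply]
  exact Module.Flat.trans T C (Localization.AtPrime q')

/-- Flatness at a point is stable under base change. -/
theorem flat_stalkMap_of_isPullback {X Y X' Y' : Scheme.{u}} {f : X ⟶ Y} {g : Y' ⟶ Y}
    {f' : X' ⟶ Y'} {g' : X' ⟶ X} (h : IsPullback g' f' f g) (x' : X')
    (hx : (f.stalkMap (g' x')).hom.Flat) : (f'.stalkMap x').hom.Flat := by
  obtain ⟨A, B, T, _, _, _, _, _, jY, jX, jT, jP, q, _, _, _, _, eX, -, eP₁, eP₂, hq⟩ :=
    Unram.exists_affine_baseChange f g (h.isoPullback.hom x')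
  let i : Spec (.of (T ⊗[A] B)) ⟶ X' := jP ≫ h.isoPullback.inv
  have hi : i q = x' := by
    rw [Scheme.Hom.comp_apply, hq, ← Scheme.Hom.comp_apply, Iso.hom_inv_id]
    rfl
  have e₁ : i ≫ f' = Spec.map (CommRingCat.ofHom (algebraMap T (T ⊗[A] B))) ≫ jT := by
    simp only [i, Category.assoc, IsPullback.isoPullback_inv_snd, eP₂]
  have e₂ : i ≫ g' = Spec.map (CommRingCat.ofHom
      Algebra.TensorProduct.includeRight.toRingHom) ≫ jX := by
    simp only [i, Category.assoc, IsPullback.isoPullback_inv_fst, eP₁]
  let qB : PrimeSpectrum B :=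
    (Spec.map (CommRingCat.ofHom
      (Algebra.TensorProduct.includeRight (R := A) (A := T) (B := B)).toRingHom)) q
  have hqB : g' x' = jX qB := by
    rw [← hi, ← Scheme.Hom.comp_apply, e₂, Scheme.Hom.comp_apply]
  rw [hqB, Unram.stalkMap_iff_of_comm (P := fun f => f.Flat) RingHom.Flat.respectsIso f
    (Spec.map (CommRingCat.ofHom (algebraMap A B))) jX jY eX qB,
    Unram.flat_stalkMap_SpecMap_iff] at hx
  have := flat_localization_baseChange q.asIdeal qB.asIdeal rfl
  rw [← hi, Unram.stalkMap_iff_of_comm (P := fun f => f.Flat) RingHom.Flat.respectsIso f'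
    (Spec.map (CommRingCat.ofHom (algebraMap T (T ⊗[A] B)))) i jT e₁ q,
    Unram.flat_stalkMap_SpecMap_iff]
  exact this

/-- Flatness of a composite at a point descends along a morphism flat at that point. -/
theorem flat_stalkMap_of_comp {X' X Y : Scheme.{u}} (p : X' ⟶ X) (f : X ⟶ Y) (x' : X')
    (hp : (p.stalkMap x').hom.Flat) (hpf : ((p ≫ f).stalkMap x').hom.Flat) :
    (f.stalkMap (p x')).hom.Flat := by
  rw [Scheme.Hom.stalkMap_comp] at hpf
  let φ := (f.stalkMap (p x')).hom
  let ψ := (p.stalkMap x').hom
  let _ : Algebra (Y.presheaf.stalk (f (p x'))) (X.presheaf.stalk (p x')) := φ.toAlgebra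
  let _ : Algebra (X.presheaf.stalk (p x')) (X'.presheaf.stalk x') := ψ.toAlgebra
  let _ : Algebra (Y.presheaf.stalk (f (p x'))) (X'.presheaf.stalk x') := (ψ.comp φ).toAlgebra
  have : IsScalarTower (Y.presheaf.stalk (f (p x'))) (X.presheaf.stalk (p x'))
      (X'.presheaf.stalk x') := IsScalarTower.of_algebraMap_eq' rfl
  have : Module.Flat (X.presheaf.stalk (p x')) (X'.presheaf.stalk x') := hp
  have : IsLocalHom (algebraMap (X.presheaf.stalk (p x')) (X'.presheaf.stalk x')) :=
    inferInstanceAs (IsLocalHom (p.stalkMap x').hom)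
  have : Module.FaithfullyFlat (X.presheaf.stalk (p x')) (X'.presheaf.stalk x') :=
    Module.FaithfullyFlat.of_flat_of_isLocalHom
  have : Module.Flat (Y.presheaf.stalk (f (p x'))) (X'.presheaf.stalk x') := hpf
  exact Unram.flat_of_flat_faithfullyFlat (X.presheaf.stalk (p x')) (X'.presheaf.stalk x')

end Groth.Agent.GrpSch
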