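import Groth.Agent.GrpSch.SmoothRed
import Mathlib.AlgebraicGeometry.Morphisms.Immersion
import Mathlib.AlgebraicGeometry.Morphisms.SchemeTheoreticallyDominant

/-! Reduced homogeneous spaces of smooth groups are smooth. -/

set_option autoImplicit false
set_option backward.isDefEq.respectTransparency.types false

universe u

open CategoryTheory MonoidalCategory CartesianMonoidalCategory MonObj GrpObj Limits AlgebraicGeometry

namespace Groth.Agent.GrpSch

lemma exists_lift_of_isImmersion {T Z X : Scheme.{u}} [AlgebraicGeometry.IsReduced T] (i : Z ⟶ X)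
    [IsImmersion i] (g : T ⟶ X) (h : Set.range g ⊆ Set.range i) : ∃ g' : T ⟶ Z, g' ≫ i = g := by
  let U := i.coborderRange
  have hU : Set.range g ⊆ Set.range U.ι := h.trans (by
    rw [Scheme.Opens.range_ι]; exact subset_coborder)
  let g₁ := IsOpenImmersion.lift U.ι g hU
  have hg₁ : g₁ ≫ U.ι = g := IsOpenImmersion.lift_fac _ _ _
  have hr : Set.range g₁ ⊆ Set.range i.liftCoborder := by
    rintro - ⟨t, rfl⟩
    obtain ⟨z, hz⟩ := h ⟨t, rfl⟩
    refine ⟨z, U.ι.isEmbedding.injective ?_⟩
    rw [← Scheme.Hom.comp_apply, ← Scheme.Hom.comp_apply, Scheme.Hom.liftCoborder_ι, hg₁, hz]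
  have : Surjective (pullback.fst g₁ i.liftCoborder) := ⟨by
    rw [← Set.range_eq_univ, Scheme.Pullback.range_fst]
    exact Set.eq_univ_of_forall fun t => hr ⟨t, rfl⟩⟩
  have := isIso_of_isClosedImmersion_of_surjective (pullback.fst g₁ i.liftCoborder)
  refine ⟨inv (pullback.fst g₁ i.liftCoborder) ≫ pullback.snd g₁ i.liftCoborder, ?_⟩
  have e : (inv (pullback.fst g₁ i.liftCoborder) ≫ pullback.snd g₁ i.liftCoborder) ≫
      i.liftCoborder = g₁ := by
    rw [Category.assoc, ← pullback.condition, IsIso.inv_hom_id_assoc]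
  calc _ = ((inv (pullback.fst g₁ i.liftCoborder) ≫ pullback.snd g₁ i.liftCoborder) ≫
        i.liftCoborder) ≫ U.ι := by simp only [Category.assoc, U, Scheme.Hom.liftCoborder_ι]
    _ = g := by rw [e, hg₁]

/-- An automorphism preserving the range of an immersion from a reduced scheme restricts. -/
lemma exists_restrict_iso {Z X : Scheme.{u}} [AlgebraicGeometry.IsReduced Z] (i : Z ⟶ X)
    [IsImmersion i] (θ : X ≅ X) (h : θ.hom '' Set.range i = Set.range i) :
    ∃ α : Z ≅ Z, α.hom ≫ i = i ≫ θ.hom := by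
  have h' : θ.inv '' Set.range i = Set.range i := by
    conv_lhs => rw [← h]
    rw [← Set.image_comp]
    have : (θ.inv ∘ θ.hom : X → X) = id := funext fun x => by
      change θ.inv (θ.hom x) = x
      rw [← Scheme.Hom.comp_apply, Iso.hom_inv_id]; rfl
    rw [this, Set.image_id]
  obtain ⟨a, ha⟩ := exists_lift_of_isImmersion i (i ≫ θ.hom) (by
    rw [Scheme.Hom.comp_base, TopCat.coe_comp, Set.range_comp]; exact h.le)
  obtain ⟨b, hb⟩ := exists_lift_of_isImmersion i (i ≫ θ.inv) (by
    rw [Scheme.Hom.comp_base, TopCat.coe_comp, Set.range_comp]; exact h'.le)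
  exact ⟨{ hom := a
           inv := b
           hom_inv_id := by rw [← cancel_mono i, Category.assoc, hb, reassoc_of% ha]; simp
           inv_hom_id := by rw [← cancel_mono i, Category.assoc, ha, reassoc_of% hb]; simp }, ha⟩

/-- Over an algebraically closed field a reduced scheme whose automorphisms act transitively on
closed points is smooth. -/
lemma smooth_of_transitive {L : Type u} [Field L] [IsAlgClosed L] {Y : Scheme.{u}}
    (h : Y ⟶ Spec (CommRingCat.of L)) [LocallyOfFiniteType h] [AlgebraicGeometry.IsReduced Y]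
    (htr : ∀ z₁ z₂ : Y, IsClosed {z₁} → IsClosed {z₂} →
      ∃ α : Y ≅ Y, α.hom ≫ h = h ∧ α.hom z₁ = z₂) : Smooth h := by
  have := LocallyOfFiniteType.jacobsonSpace h
  rw [← Scheme.Hom.smoothLocus_eq_top_iff, ← TopologicalSpace.Opens.coe_eq_univ,
    Set.eq_univ_iff_forall]
  by_contra H
  push Not at H
  obtain ⟨x₀, hx₀⟩ := H
  obtain ⟨x, hx, hxc⟩ := nonempty_inter_closedPoints (X := Y) ⟨x₀, hx₀⟩
    h.smoothLocus.2.isClosed_compl.isLocallyClosed
  have : Nonempty Y := ⟨x₀⟩
  obtain ⟨y, (hy : y ∈ h.smoothLocus), hyc⟩ := nonempty_inter_closedPoints (X := Y)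
    h.dense_smoothLocus_of_perfectField.nonempty h.smoothLocus.2.isLocallyClosed
  obtain ⟨α, hα, hαx⟩ := htr x y hxc hyc
  rw [← hαx, ← α.hom.mem_preimage, Scheme.Hom.preimage_smoothLocus_eq] at hy
  simp only [hα] at hy
  exact hx hy

variable {K : Type u} [Field K] {G X : Over (Spec (CommRingCat.of K))} [GrpObj G]

/-- The reduced orbit of a smooth group is smooth. -/
theorem smooth_of_homogeneous [Smooth G.hom] [QuasiCompact G.hom] (a : AlgGrp.Action G X)
    (φ : G ⟶ X) (hφ : ∀ (T : Over (Spec (CommRingCat.of K))) (g h : T ⟶ G),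
      (g * h) ≫ φ = lift g (h ≫ φ) ≫ a.act)
    (O : Over (Spec (CommRingCat.of K))) (i : O ⟶ X) [IsImmersion i.left]
    [LocallyOfFiniteType O.hom] (φ₀ : G ⟶ O) (hfac : φ₀ ≫ i = φ)
    [AlgebraicGeometry.IsReduced O.left] [Surjective φ₀.left] : Smooth O.hom := by
  let L := AlgebraicClosure K
  let T : Over (Spec (CommRingCat.of K)) := Over.mk (Spec.map (CommRingCat.ofHom (algebraMap K L)))
  have hTs : Surjective T.hom :=
    ⟨Function.surjective_to_subsingleton (α := PrimeSpectrum L) (β := PrimeSpectrum K) _⟩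
  -- the base change of the group is reduced
  have hG : AlgebraicGeometry.IsReduced (T ⊗ G).left := by
    have := isReduced_geomFibre_of_smooth G
    let e : (T ⊗ G).left ≅ (geomFibre G).left := pullbackSymmetry T.hom G.hom
    exact isReduced_of_isOpenImmersion e.hom
  have hqc : QuasiCompact φ₀.left := quasiCompact_left φ₀
  have : IsDominant φ₀.left := ⟨φ₀.left.surjective.denseRange⟩
  have : IsSchemeTheoreticallyDominant φ₀.left := IsSchemeTheoreticallyDominant.of_isDominant _
  have hp := isPullback_left (isPullback_whiskerLeft T φ₀)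
  have : Flat (snd T O).left := property_snd T O inferInstance
  have hSTD : IsSchemeTheoreticallyDominant (T ◁ φ₀).left :=
    IsSchemeTheoreticallyDominant.of_isPullback hp.flip
  have : QuasiCompact (T ◁ φ₀).left := MorphismProperty.of_isPullback hp.flip hqc
  have hOred : AlgebraicGeometry.IsReduced (T ⊗ O).left :=
    IsSchemeTheoreticallyDominant.isReduced (T ◁ φ₀).left
  have : Surjective (T ◁ φ₀).left := MorphismProperty.of_isPullback hp.flip ‹Surjective φ₀.left›
  let h : (T ⊗ O).left ⟶ Spec (CommRingCat.of L) := (fst T O).left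
  have : LocallyOfFiniteType h := property_fst T O inferInstance
  let hG' : (T ⊗ G).left ⟶ Spec (CommRingCat.of L) := (fst T G).left
  have : LocallyOfFiniteType hG' := property_fst T G inferInstance
  have : JacobsonSpace (T ⊗ G).left := LocallyOfFiniteType.jacobsonSpace hG'
  -- closed points lift to `L`-points of `G`
  have hlift : ∀ z : (T ⊗ O).left, IsClosed {z} → ∃ g : T ⟶ G, ∀ p : T.left,
      (lift (𝟙 T) (g ≫ φ₀)).left p = z := by
    intro z hz
    obtain ⟨v₀, hv₀⟩ := (T ◁ φ₀).left.surjective z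
    obtain ⟨v, hv, hvc⟩ := nonempty_inter_closedPoints (X := (T ⊗ G).left)
      (Z := (T ◁ φ₀).left ⁻¹' {z}) ⟨v₀, hv₀⟩ (hz.preimage (T ◁ φ₀).left.continuous).isLocallyClosed
    let s : T ⟶ T ⊗ G := Over.homMk (pointOfClosedPoint hG' v hvc) (by
      have : (fst T G).left ≫ T.hom = (T ⊗ G).hom := Over.w (fst T G)
      rw [← this, ← Category.assoc, pointOfClosedPoint_comp]
      exact Category.id_comp T.hom)
    have hs : s ≫ fst T G = 𝟙 T := Over.OverMorphism.ext (pointOfClosedPoint_comp hG' v hvc)
    refine ⟨s ≫ snd T G, fun p => ?_⟩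
    have : lift (𝟙 T) ((s ≫ snd T G) ≫ φ₀) = s ≫ (T ◁ φ₀) := by
      apply CartesianMonoidalCategory.hom_ext <;> simp [hs]
    rw [this, comp_left_apply]
    exact (congrArg (T ◁ φ₀).left (pointOfClosedPoint_apply hG' v hvc p)).trans hv
  have hsm : Smooth h := by
    refine smooth_of_transitive h fun z₁ z₂ hz₁ hz₂ => ?_
    obtain ⟨g₁, hg₁⟩ := hlift z₁ hz₁
    obtain ⟨g₂, hg₂⟩ := hlift z₂ hz₂
    let c : T ⟶ G := g₂ * g₁⁻¹
    let θ : T ⊗ X ≅ T ⊗ X :=
      { hom := lift (fst T X) (lift (fst T X ≫ c) (snd T X) ≫ a.act)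
        inv := lift (fst T X) (lift (fst T X ≫ c⁻¹) (snd T X) ≫ a.act)
        hom_inv_id := by
          apply CartesianMonoidalCategory.hom_ext
          · simp
          · simp only [Category.assoc, lift_snd, comp_lift_assoc, lift_fst_assoc, Category.id_comp]
            rw [← act_mul, ← MonObj.comp_mul, inv_mul_cancel, MonObj.comp_one, act_one]
        inv_hom_id := by
          apply CartesianMonoidalCategory.hom_ext
          · simp
          · simp only [Category.assoc, lift_snd, comp_lift_assoc, lift_fst_assoc, Category.id_comp]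
            rw [← act_mul, ← MonObj.comp_mul, mul_inv_cancel, MonObj.comp_one, act_one] }
    let j := (T ◁ i).left
    have : IsImmersion j := MorphismProperty.of_isPullback
      (isPullback_left (isPullback_whiskerLeft T i)).flip ‹IsImmersion i.left›
    have hsq : (shearLeft c).hom ≫ (T ◁ φ) = (T ◁ φ) ≫ θ.hom := by
      apply CartesianMonoidalCategory.hom_ext
      · simp [θ, shearLeft]
      · simp only [θ, Category.assoc, lift_snd, comp_lift_assoc, whiskerLeft_fst_assoc,
          whiskerLeft_snd, shearLeft, lift_snd_assoc]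
        rw [hφ]
    have hjr : Set.range j = Set.range (T ◁ φ).left := by
      rw [← hfac, whiskerLeft_comp, Over.comp_left, Scheme.Hom.comp_base, TopCat.coe_comp,
        Set.range_comp, (T ◁ φ₀).left.surjective.range_eq, Set.image_univ]
    let θ' : (T ⊗ X).left ≅ (T ⊗ X).left := (Over.forget _).mapIso θ
    have hθr : θ'.hom '' Set.range j = Set.range j := by
      have : IsIso (shearLeft c).hom.left :=
        inferInstanceAs (IsIso ((Over.forget _).map (shearLeft c).hom))
      rw [hjr]
      have e : Set.range ((T ◁ φ) ≫ θ.hom).left = Set.range ((shearLeft c).hom ≫ (T ◁ φ)).left := by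
        rw [hsq]
      simp only [Over.comp_left, Scheme.Hom.comp_base, TopCat.coe_comp, Set.range_comp,
        (shearLeft c).hom.left.surjective.range_eq, Set.image_univ] at e
      exact e
    obtain ⟨α, hα⟩ := exists_restrict_iso j θ' hθr
    refine ⟨α, ?_, ?_⟩
    · have h1 : j ≫ (fst T X).left = h :=
        congrArg (fun q : T ⊗ O ⟶ T => q.left) (whiskerLeft_fst T i)
      have h2 : θ'.hom ≫ (fst T X).left = (fst T X).left :=
        congrArg (fun q : T ⊗ X ⟶ T => q.left) (lift_fst _ _)
      rw [← h1, reassoc_of% hα, h2]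
    · apply j.isEmbedding.injective
      rw [← Scheme.Hom.comp_apply, hα, Scheme.Hom.comp_apply]
      obtain ⟨p⟩ : Nonempty T.left := inferInstanceAs (Nonempty (PrimeSpectrum _))
      rw [← hg₁ p, ← hg₂ p]
      change θ.hom.left ((T ◁ i).left ((lift (𝟙 T) (g₁ ≫ φ₀)).left p)) =
        (T ◁ i).left ((lift (𝟙 T) (g₂ ≫ φ₀)).left p)
      simp only [← comp_left_apply]
      refine congrArg (fun q : T ⟶ T ⊗ X => q.left p) ?_
      apply CartesianMonoidalCategory.hom_ext
      · simp [θ]
      · simp only [θ, Category.assoc, lift_snd, lift_snd_assoc, comp_lift_assoc, whiskerLeft_snd,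
          lift_whiskerLeft_assoc, lift_fst_assoc, Category.id_comp, hfac]
        rw [← hφ, inv_mul_cancel_right]
  apply MorphismProperty.of_pullback_fst_of_descendsAlong
    (Q := @Surjective ⊓ @Flat ⊓ @QuasiCompact) (f := T.hom) (g := O.hom)
  · exact ⟨⟨hTs, inferInstance⟩, inferInstanceAs
      (QuasiCompact (Spec.map (CommRingCat.ofHom (algebraMap K L))))⟩
  · exact hsm

/-- The scheme theoretic image of a smooth group is smooth. -/
theorem smooth_of_image [Smooth G.hom] [QuasiCompact G.hom] (a : AlgGrp.Action G X)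
    (φ : G ⟶ X) (hφ : ∀ (T : Over (Spec (CommRingCat.of K))) (g h : T ⟶ G),
      (g * h) ≫ φ = lift g (h ≫ φ) ≫ a.act)
    {O : Scheme.{u}} (i : O ⟶ X.left) [IsImmersion i] [LocallyOfFiniteType X.hom]
    [AlgebraicGeometry.IsReduced O] (hO : Set.range i = Set.range φ.left) : Smooth (i ≫ X.hom) := by
  have := isReduced_of_smooth G
  obtain ⟨f₀, hf₀⟩ := exists_lift_of_isImmersion i φ.left hO.ge
  let O' : Over (Spec (CommRingCat.of K)) := Over.mk (i ≫ X.hom)
  let i' : O' ⟶ X := Over.homMk i rfl
  let φ₀ : G ⟶ O' := Over.homMk f₀ (by simp only [O', Over.mk_hom]; rw [reassoc_of% hf₀]; exact Over.w φ)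
  have : IsImmersion i'.left := ‹IsImmersion i›
  have : Surjective φ₀.left := ⟨fun z => by
    obtain ⟨g, hg⟩ := hO.le ⟨z, rfl⟩
    refine ⟨g, i.isEmbedding.injective ?_⟩
    rw [← Scheme.Hom.comp_apply]
    exact (congrArg (fun q : G.left ⟶ X.left => q g) hf₀).trans hg⟩
  have : LocallyOfFiniteType O'.hom := inferInstanceAs (LocallyOfFiniteType (i ≫ X.hom))
  have : AlgebraicGeometry.IsReduced O'.left := ‹AlgebraicGeometry.IsReduced O›
  exact smooth_of_homogeneous a φ hφ O' i' φ₀ (Over.OverMorphism.ext hf₀)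

end Groth.Agent.GrpSch
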