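import Groth.Agent.FlatCrit.Basic
import Mathlib

/-!
# Flatness of a local homomorphism with bijective reductions
-/

set_option autoImplicit false

universe u

open IsLocalRing

namespace Groth.Agent.GrpSch.FlatStalk

/-- a local homomorphism of noetherian local rings bijective modulo all powers of the maximal
ideal is flat -/
theorem flat_of_bijective {A B : Type u} [CommRing A] [CommRing B] [IsLocalRing A] [IsLocalRing B]
    [IsNoetherianRing A] [IsNoetherianRing B] (φ : A →+* B) (hm : (maximalIdeal A).map φ ≤ maximalIdeal B)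
    (hb : ∀ n, Function.Bijective (Ideal.quotientMap ((maximalIdeal A ^ n).map φ) φ Ideal.le_comap_map)) :
    φ.Flat := by
  let _ : Algebra A B := φ.toAlgebra
  haveI : Module.Finite B B := inferInstance
  refine FlatCrit.flat_of_lTensor_injective_mod_pow (S := B) (I := maximalIdeal A)
    (hm.trans (IsLocalRing.jacobson_eq_maximalIdeal (⊥ : Ideal B) bot_ne_top).ge) fun n N => ?_
  -- the reduction is bijective
  let f : A ⧸ maximalIdeal A ^ n →+* B ⧸ (maximalIdeal A ^ n).map φ :=
    Ideal.quotientMap _ φ Ideal.le_comap_map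
  have hbij : Function.Bijective f := hb n
  -- hence the tensor product is free of rank one
  let e := Algebra.TensorProduct.quotIdealMapEquivTensorQuot B (maximalIdeal A ^ n)
  let c := TensorProduct.comm A B (A ⧸ maximalIdeal A ^ n)
  let l : (A ⧸ maximalIdeal A ^ n) →ₗ[A ⧸ maximalIdeal A ^ n] TensorProduct A (A ⧸ maximalIdeal A ^ n) B :=
    LinearMap.toSpanSingleton _ _ ((1 : A ⧸ maximalIdeal A ^ n) ⊗ₜ[A] (1 : B))
  have hl : ∀ x, l x = c (e (f x)) := by
    intro x
    obtain ⟨a, rfl⟩ := Ideal.Quotient.mk_surjective x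
    change Ideal.Quotient.mk (maximalIdeal A ^ n) a • ((1 : A ⧸ maximalIdeal A ^ n) ⊗ₜ[A] (1 : B)) = c (e (Ideal.Quotient.mk _ (φ a)))
    rw [TensorProduct.smul_tmul', smul_eq_mul, _root_.mul_one,
      Algebra.TensorProduct.quotIdealMapEquivTensorQuot_mk, TensorProduct.comm_tmul]
    rw [show (φ a : B) = a • (1 : B) from (Algebra.algebraMap_eq_smul_one a), TensorProduct.tmul_smul,
      TensorProduct.smul_tmul']
    congr 1
    exact (Algebra.algebraMap_eq_smul_one (A := A ⧸ maximalIdeal A ^ n) a)
  have hlb : Function.Bijective l := by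
    have h' : Function.Bijective fun x => c (e (f x)) :=
      c.bijective.comp (e.bijective.comp hbij)
    exact (funext hl : ⇑l = _) ▸ h'
  haveI : Module.Flat (A ⧸ maximalIdeal A ^ n) (TensorProduct A (A ⧸ maximalIdeal A ^ n) B) :=
    Module.Flat.of_linearEquiv (LinearEquiv.ofBijective l hlb).symm
  exact FlatCrit.lTensor_injective_of_flat_quotient_pow n N

/-- the same from the completed map being an isomorphism -/
theorem flat_of_completion_iso {A B : Type u} [CommRing A] [CommRing B] [IsLocalRing A] [IsLocalRing B]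
    [IsNoetherianRing A] [IsNoetherianRing B] (φ : A →+* B)
    (h : ∀ n : ℕ, Function.Surjective ((Ideal.Quotient.mk (maximalIdeal B ^ (n + 1))).comp φ) ∧
      ∀ a : A, φ a ∈ maximalIdeal B ^ (n + 1) ↔ a ∈ maximalIdeal A ^ (n + 1)) : φ.Flat := by
  have h1 : (maximalIdeal A).map φ ≤ maximalIdeal B := Ideal.map_le_iff_le_comap.2 fun a ha => by
    have := ((h 0).2 a).2 (by simpa using ha)
    simpa using this
  have heq : (maximalIdeal A).map φ = maximalIdeal B := by
    refine le_antisymm h1 (Submodule.le_of_le_smul_of_le_jacobson_bot (IsNoetherian.noetherian _)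
      (IsLocalRing.jacobson_eq_maximalIdeal (⊥ : Ideal B) bot_ne_top).ge fun b hb => ?_)
    obtain ⟨a, ha⟩ := (h 1).1 (Ideal.Quotient.mk _ b)
    have hba : φ a - b ∈ maximalIdeal B ^ 2 := (Ideal.Quotient.mk_eq_mk_iff_sub_mem _ _).1 ha
    have haA : a ∈ maximalIdeal A := by
      by_contra hna
      have hu : IsUnit (φ a) := (IsLocalRing.notMem_maximalIdeal.1 hna).map φ
      have hmem : φ a ∈ maximalIdeal B := by
        have := add_mem (Ideal.pow_le_self (two_ne_zero) hba) hb
        simpa using this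
      exact IsLocalRing.notMem_maximalIdeal.2 hu hmem
    rw [show b = φ a + -(φ a - b) by ring]
    refine Submodule.add_mem_sup (Ideal.mem_map_of_mem φ haA) (neg_mem ?_)
    rw [smul_eq_mul, ← pow_two]; exact hba
  refine flat_of_bijective φ h1 fun n => ?_
  rcases n with _ | n
  · have hs : ∀ {R : Type u} [CommRing R] (I : Ideal R), I = ⊤ → Subsingleton (R ⧸ I) := fun I hI => Ideal.Quotient.subsingleton_iff.2 hI
    haveI := hs (maximalIdeal A ^ 0) (by simp)
    haveI := hs ((maximalIdeal A ^ 0).map φ) (by simp [Ideal.map_top])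
    exact ⟨fun x y _ => Subsingleton.elim x y, fun y => ⟨0, Subsingleton.elim _ _⟩⟩
  · have hpow : (maximalIdeal A ^ (n + 1)).map φ = maximalIdeal B ^ (n + 1) := by rw [Ideal.map_pow, heq]
    refine ⟨?_, fun y => ?_⟩
    · rw [injective_iff_map_eq_zero]
      intro x hx
      obtain ⟨a, rfl⟩ := Ideal.Quotient.mk_surjective x
      rw [Ideal.quotientMap_mk, Ideal.Quotient.eq_zero_iff_mem, hpow] at hx
      exact Ideal.Quotient.eq_zero_iff_mem.2 (((h n).2 a).1 hx)
    · obtain ⟨b, rfl⟩ := Ideal.Quotient.mk_surjective y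
      obtain ⟨a, ha⟩ := (h n).1 (Ideal.Quotient.mk _ b)
      refine ⟨Ideal.Quotient.mk _ a, ?_⟩
      rw [Ideal.quotientMap_mk, Ideal.Quotient.mk_eq_mk_iff_sub_mem, hpow]
      exact (Ideal.Quotient.mk_eq_mk_iff_sub_mem _ _).1 ha

end Groth.Agent.GrpSch.FlatStalk
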