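import Groth.Agent.GeomRed.Scheme
import Mathlib.AlgebraicGeometry.Group.Smooth
import Mathlib.AlgebraicGeometry.Morphisms.SmoothFiber
import Mathlib.CategoryTheory.Monoidal.Cartesian.Over

/-! Smoothness of group schemes. -/

set_option autoImplicit false

universe u

open CategoryTheory Limits AlgebraicGeometry MonoidalCategory CartesianMonoidalCategory

namespace Groth.Agent.GrpSch

/-- A reduced group scheme locally of finite type over a perfect field is smooth. -/
lemma smooth_of_perfectField {K : Type u} [Field K] [PerfectField K]
    (G : Over (Spec (CommRingCat.of K))) [GrpObj G] [LocallyOfFiniteType G.hom]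
    [AlgebraicGeometry.IsReduced G.left] : Smooth G.hom := by
  have := GeomRed.geometricallyReduced_of_perfectField G.hom
  have : GrpObj (Over.mk G.hom) := ‹GrpObj G›
  exact smooth_of_grpObj G.hom

/-- A flat group scheme locally of finite presentation with geometrically reduced fibres
is smooth. -/
lemma smooth_of_flat_geometricallyReduced {S : Scheme.{u}} (G : Over S) [GrpObj G] [Flat G.hom]
    [LocallyOfFinitePresentation G.hom] [GeometricallyReduced G.hom] : Smooth G.hom := by
  refine Smooth.of_smooth_fiberToSpecResidueField G.hom fun y => ?_
  let _ : GrpObj (Over.mk G.hom) := ‹GrpObj G›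
  let _ : GrpObj (Over.mk (pullback.snd G.hom (S.fromSpecResidueField y))) := Over.grpObjMkPullbackSnd
  have h₁ : LocallyOfFiniteType (pullback.snd G.hom (S.fromSpecResidueField y)) :=
    MorphismProperty.pullback_snd _ _ (inferInstanceAs (LocallyOfFiniteType G.hom))
  have h₂ : GeometricallyReduced (pullback.snd G.hom (S.fromSpecResidueField y)) :=
    MorphismProperty.pullback_snd _ _ ‹_›
  exact @smooth_of_grpObj (S.residueField y) _ _ (pullback.snd G.hom (S.fromSpecResidueField y)) h₁
    _ h₂

end Groth.Agent.GrpSch
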