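import Groth.Agent.Cartier.Scheme
import Groth.Agent.GrpSch.Smooth
import Mathlib.AlgebraicGeometry.Morphisms.LocalFlatDescent

/-! Cartier's theorem: group schemes locally of finite type in characteristic zero are smooth. -/

set_option autoImplicit false

universe u

open CategoryTheory MonoidalCategory CartesianMonoidalCategory MonObj GrpObj Limits AlgebraicGeometry

namespace Groth.Agent.GrpSch

/-- A rational point moves the unit to itself by an automorphism. -/
lemma exists_iso_one_to {S : Scheme.{u}} (G : Over S) [GrpObj G] (x : 𝟙_ (Over S) ⟶ G) :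
    ∃ σ : G ≅ G, η[G] ≫ σ.hom = x :=
  ⟨GrpObj.mulRight x, by simp [MonObj.one_eq_one, ← mul_eq_lift, MonObj.comp_mul]⟩

lemma isReduced_stalk_of_specializes {X : Scheme.{u}} {x c : X} (h : x ⤳ c)
    (hc : _root_.IsReduced (X.presheaf.stalk c)) : _root_.IsReduced (X.presheaf.stalk x) := by
  obtain ⟨V, hV, hcV, -⟩ := X.isBasis_affineOpens.exists_subset_of_mem_open
    (Set.mem_univ c) isOpen_univ
  obtain ⟨V, hV, rfl⟩ := hV
  have hxV : x ∈ V := h.mem_open V.isOpen hcV
  let _ := TopCat.Presheaf.algebra_section_stalk X.presheaf (U := V) ⟨c, hcV⟩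
  let _ := TopCat.Presheaf.algebra_section_stalk X.presheaf (U := V) ⟨x, hxV⟩
  have : IsLocalization.AtPrime (X.presheaf.stalk x) (hV.primeIdealOf ⟨x, hxV⟩).asIdeal :=
    hV.isLocalization_stalk ⟨x, hxV⟩
  have : IsLocalization.AtPrime (X.presheaf.stalk c) (hV.primeIdealOf ⟨c, hcV⟩).asIdeal :=
    hV.isLocalization_stalk ⟨c, hcV⟩
  refine ⟨fun z hz => ?_⟩
  obtain ⟨n, hn⟩ := hz
  obtain ⟨⟨a, s⟩, hz'⟩ := IsLocalization.mk'_surjective (hV.primeIdealOf ⟨x, hxV⟩).asIdeal.primeCompl z
  subst hz'
  simp only [← IsLocalization.mk'_pow, IsLocalization.mk'_eq_zero_iff] at hn ⊢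
  obtain ⟨t, ht⟩ := hn
  have h₁ : IsNilpotent (algebraMap Γ(X, V) (X.presheaf.stalk c) (a * (t : Γ(X, V)))) := by
    refine ⟨n + 1, ?_⟩
    rw [← map_pow, mul_pow, pow_succ (t : Γ(X, V)), ← _root_.mul_assoc]
    have : a ^ (n + 1) * (t : Γ(X, V)) ^ n * t = (a * (t : Γ(X, V)) ^ n) * (t * a ^ n) := by ring
    rw [this, ht, mul_zero, map_zero]
  have h₂ := h₁.eq_zero
  rw [IsLocalization.map_eq_zero_iff (hV.primeIdealOf ⟨c, hcV⟩).asIdeal.primeCompl] at h₂
  obtain ⟨w, hw⟩ := h₂
  have hle : (hV.primeIdealOf ⟨x, hxV⟩).asIdeal ≤ (hV.primeIdealOf ⟨c, hcV⟩).asIdeal := by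
    rw [PrimeSpectrum.asIdeal_le_asIdeal, PrimeSpectrum.le_iff_specializes]
    exact Topology.IsInducing.specializes_iff hV.fromSpec.isOpenEmbedding.isInducing |>.1
      (by rw [hV.fromSpec_primeIdealOf, hV.fromSpec_primeIdealOf]; exact h)
  refine ⟨⟨w * t, mul_mem (fun hw' => w.2 (hle hw')) t.2⟩, ?_⟩
  rw [← hw]
  ring

lemma isReduced_of_charZero_of_isAlgClosed {K : Type u} [Field K] [IsAlgClosed K] [CharZero K]
    (G : Over (Spec (CommRingCat.of K))) [GrpObj G] [LocallyOfFiniteType G.hom] :
    AlgebraicGeometry.IsReduced G.left := by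
  have := LocallyOfFiniteType.jacobsonSpace G.hom
  have : ∀ x : G.left, _root_.IsReduced (G.left.presheaf.stalk x) := by
    intro x
    obtain ⟨c, hc, hcx⟩ : ∃ c : G.left, IsClosed ({c} : Set G.left) ∧ c ∈ closure {x} := by
      obtain ⟨c, hc₁, hc₂⟩ := nonempty_inter_closedPoints (Z := closure {x})
        ⟨x, subset_closure rfl⟩ isClosed_closure.isLocallyClosed
      exact ⟨c, hc₂, hc₁⟩
    have hsp : x ⤳ c := specializes_iff_mem_closure.2 hcx
    let p : 𝟙_ (Over (Spec (CommRingCat.of K))) ⟶ G :=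
      Over.homMk (pointOfClosedPoint G.hom c hc) (pointOfClosedPoint_comp _ _ _)
    obtain ⟨σ, hσ⟩ := exists_iso_one_to G p
    have : IsIso σ.hom.left := inferInstanceAs (IsIso ((Over.forget _).map σ.hom))
    have hpc : σ.hom.left (η[G].left (IsLocalRing.closedPoint K)) = c := by
      rw [← comp_left_apply, hσ]
      exact pointOfClosedPoint_apply _ _ _ _
    have hd := Cartier.isDomain_stalk_one G
    have hred : _root_.IsReduced (G.left.presheaf.stalk c) := by
      rw [← hpc]
      exact isReduced_of_injective _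
        (asIso (σ.hom.left.stalkMap (η[G].left (IsLocalRing.closedPoint K)))).commRingCatIsoToRingEquiv.injective
    exact isReduced_stalk_of_specializes hsp hred
  exact isReduced_of_isReduced_stalk _

/-- Cartier's theorem. -/
lemma smooth_of_charZero {K : Type u} [Field K] [CharZero K]
    (G : Over (Spec (CommRingCat.of K))) [GrpObj G] [LocallyOfFiniteType G.hom] : Smooth G.hom := by
  let Ω : Type u := AlgebraicClosure K
  let g : Spec (CommRingCat.of Ω) ⟶ Spec (CommRingCat.of K) :=
    Spec.map (CommRingCat.ofHom (algebraMap K Ω))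
  have : CharZero Ω := charZero_of_injective_algebraMap (RingHom.injective (algebraMap K Ω))
  let _ : GrpObj (Over.mk G.hom) := ‹GrpObj G›
  let _ : GrpObj (Over.mk (pullback.snd G.hom g)) := Over.grpObjMkPullbackSnd
  have hlft : LocallyOfFiniteType (Over.mk (pullback.snd G.hom g)).hom :=
    MorphismProperty.pullback_snd _ _ (inferInstanceAs (LocallyOfFiniteType G.hom))
  have : AlgebraicGeometry.IsReduced (Over.mk (pullback.snd G.hom g)).left :=
    isReduced_of_charZero_of_isAlgClosed (Over.mk (pullback.snd G.hom g))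
  apply MorphismProperty.of_pullback_snd_of_descendsAlong
    (Q := @Surjective ⊓ @Flat ⊓ @QuasiCompact) (g := g) (f := G.hom)
  · exact ⟨⟨inferInstance, inferInstance⟩, inferInstance⟩
  · exact smooth_of_perfectField (Over.mk (pullback.snd G.hom g))

/-- A flat group scheme locally of finite presentation with fibres in characteristic zero
is smooth. -/
lemma smooth_of_flat_of_charZero {S : Scheme.{u}} (hS : ∀ s : S, CharZero (S.residueField s))
    (G : Over S) [GrpObj G] [Flat G.hom] [LocallyOfFinitePresentation G.hom] : Smooth G.hom := by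
  refine Smooth.of_smooth_fiberToSpecResidueField G.hom fun y => ?_
  let _ : GrpObj (Over.mk G.hom) := ‹GrpObj G›
  let _ : GrpObj (Over.mk (pullback.snd G.hom (S.fromSpecResidueField y))) :=
    Over.grpObjMkPullbackSnd
  have h₁ : LocallyOfFiniteType (pullback.snd G.hom (S.fromSpecResidueField y)) :=
    MorphismProperty.pullback_snd _ _ (inferInstanceAs (LocallyOfFiniteType G.hom))
  exact @smooth_of_charZero (S.residueField y) _ (hS y)
    (Over.mk (pullback.snd G.hom (S.fromSpecResidueField y))) _ h₁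

end Groth.Agent.GrpSch
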