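import Groth.Agent.GrpSch.Cat
import Mathlib.CategoryTheory.Monoidal.Cartesian.Over
import Mathlib.AlgebraicGeometry.Pullbacks
import Mathlib.AlgebraicGeometry.Morphisms.Separated
import Mathlib.AlgebraicGeometry.Morphisms.QuasiSeparated

/-!
Transfer of morphism properties for group schemes over an arbitrary base:
multiplication is a base change of the structure map, the diagonal a base change of the unit.
-/

set_option autoImplicit false

universe u

open CategoryTheory MonoidalCategory CartesianMonoidalCategory MonObj GrpObj Limits AlgebraicGeometry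

namespace Groth.Agent.GrpSch

variable {S : Scheme.{u}}

lemma isPullback_left {A B C D : Over S} {f : A ⟶ B} {g : A ⟶ C} {h : B ⟶ D} {k : C ⟶ D}
    (H : IsPullback f g h k) : IsPullback f.left g.left h.left k.left :=
  H.map (Over.forget S)

lemma isPullback_fst_snd (X Y : Over S) :
    IsPullback (fst X Y).left (snd X Y).left X.hom Y.hom :=
  IsPullback.of_hasPullback X.hom Y.hom

lemma property_snd {P : MorphismProperty Scheme.{u}} [P.IsStableUnderBaseChange] (X Y : Over S)
    (h : P X.hom) : P (snd X Y).left :=
  P.of_isPullback (isPullback_fst_snd X Y) h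

lemma property_fst {P : MorphismProperty Scheme.{u}} [P.IsStableUnderBaseChange] (X Y : Over S)
    (h : P Y.hom) : P (fst X Y).left :=
  P.of_isPullback (isPullback_fst_snd X Y).flip h

/-- If the structure map of `T` has a base-change stable property, so has `(t, g) ↦ ψ t * g`. -/
lemma property_whisker_mul {P : MorphismProperty Scheme.{u}} [P.IsStableUnderBaseChange] {G T : Over S} [GrpObj G] (ψ : T ⟶ G) (h : P T.hom) :
    P (ψ ▷ G ≫ μ[G]).left := by
  rw [← shearLeft_hom_snd, Over.comp_left]
  have : IsIso (shearLeft ψ).hom.left :=
    inferInstanceAs (IsIso ((Over.forget S).map (shearLeft ψ).hom))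
  have : P.RespectsIso := MorphismProperty.IsStableUnderBaseChange.respectsIso
  exact (MorphismProperty.cancel_left_of_respectsIso P _ _).2 (property_snd T G h)

lemma property_mul {P : MorphismProperty Scheme.{u}} [P.IsStableUnderBaseChange] (G : Over S) [GrpObj G] (h : P G.hom) : P μ[G].left := by
  have := property_whisker_mul (P := P) (𝟙 G) h
  rwa [id_whiskerRight, Category.id_comp] at this

lemma lift_id_id_left (G : Over S) :
    (lift (𝟙 G) (𝟙 G)).left = pullback.diagonal G.hom := by
  rw [Over.lift_left]
  apply pullback.hom_ext <;> simp [pullback.lift_fst, pullback.lift_snd]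

lemma property_diagonal_of_one {P : MorphismProperty Scheme.{u}} [P.IsStableUnderBaseChange]
    (G : Over S) [GrpObj G] (h : P η[G].left) : P (pullback.diagonal G.hom) := by
  rw [← lift_id_id_left]
  exact P.of_isPullback (isPullback_left (isPullback_diag (G := G))).flip h

lemma property_one_of_diagonal {P : MorphismProperty Scheme.{u}} [P.IsStableUnderBaseChange]
    (G : Over S) [GrpObj G] (h : P (pullback.diagonal G.hom)) : P η[G].left := by
  rw [← lift_id_id_left] at h
  exact P.of_isPullback (isPullback_left (isPullback_one (G := G))).flip h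

lemma isSeparated_iff_one (G : Over S) [GrpObj G] :
    IsSeparated G.hom ↔ IsClosedImmersion η[G].left :=
  ⟨fun _ => property_one_of_diagonal (P := @IsClosedImmersion) G inferInstance,
    fun h => ⟨property_diagonal_of_one (P := @IsClosedImmersion) G h⟩⟩

lemma quasiSeparated_iff_one (G : Over S) [GrpObj G] :
    QuasiSeparated G.hom ↔ QuasiCompact η[G].left :=
  ⟨fun h => property_one_of_diagonal (P := @QuasiCompact) G h.quasiCompact_diagonal,
    fun h => ⟨property_diagonal_of_one (P := @QuasiCompact) G h⟩⟩

end Groth.Agent.GrpSch
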