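import Mathlib
import Groth.Agent.GrpSch.OverBase

/-!
# Descending homomorphisms along fpqc quotient maps
-/

universe u

open AlgebraicGeometry CategoryTheory CategoryTheory.Limits MonoidalCategory CartesianMonoidalCategory MonObj GrpObj

namespace Groth.Agent.GrpSch.Desc

variable {S : Scheme.{u}} {G Q K : Over S}

lemma whiskerLeft_prop {P : MorphismProperty Scheme.{u}} [P.IsStableUnderBaseChange] (X : Over S)
    {W Y : Over S} (i : W ⟶ Y) (h : P i.left) : P (X ◁ i).left := by
  have H : IsPullback (X ◁ i) (snd X W) (snd X Y) i :=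
    IsPullback.of_isLimit' ⟨whiskerLeft_snd X i⟩ (PullbackCone.IsLimit.mk _
      (fun s => lift (s.fst ≫ fst X Y) s.snd)
      (fun s => by apply CartesianMonoidalCategory.hom_ext <;> simp [s.condition])
      (fun s => lift_snd _ _)
      (fun s m h1 h2 => by
        apply CartesianMonoidalCategory.hom_ext
        · simp [← h1]
        · simp [← h2]))
  exact P.of_isPullback (isPullback_left H).flip h

lemma whiskerRight_prop {P : MorphismProperty Scheme.{u}} [P.IsStableUnderBaseChange] (X : Over S)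
    {W Y : Over S} (i : W ⟶ Y) (h : P i.left) : P (i ▷ X).left := by
  have H : IsPullback (i ▷ X) (fst W X) (fst Y X) i :=
    IsPullback.of_isLimit' ⟨whiskerRight_fst i X⟩ (PullbackCone.IsLimit.mk _
      (fun s => lift s.snd (s.fst ≫ snd Y X))
      (fun s => by apply CartesianMonoidalCategory.hom_ext <;> simp [s.condition])
      (fun s => lift_fst _ _)
      (fun s m h1 h2 => by
        apply CartesianMonoidalCategory.hom_ext
        · simp [← h2]
        · simp [← h1]))
  exact P.of_isPullback (isPullback_left H).flip h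

lemma epi_of_effectiveEpi_left {X Y : Over S} (q : X ⟶ Y) [Epi q.left] : Epi q :=
  (Over.forget S).epi_of_epi_map (show Epi q.left from inferInstance)

/-- A morphism constant on the fibres of an effective epimorphism factors through it; if both are
homomorphisms, so is the factorisation. -/
theorem exists_desc (q : G ⟶ Q) [EffectiveEpi q.left] (f : G ⟶ K)
    (h : ∀ (T : Over S) (a b : T ⟶ G), a ≫ q = b ≫ q → a ≫ f = b ≫ f) :
    ∃ g : Q ⟶ K, q ≫ g = f ∧ ∀ g' : Q ⟶ K, q ≫ g' = f → g' = g := by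
  haveI : Epi q := epi_of_effectiveEpi_left q
  have hh : ∀ {A : Scheme.{u}} (p₁ p₂ : A ⟶ G.left),
      p₁ ≫ q.left = p₂ ≫ q.left → p₁ ≫ f.left = p₂ ≫ f.left := by
    intro A p₁ p₂ h12
    have hw : p₂ ≫ G.hom = p₁ ≫ G.hom := by
      rw [← Over.w q, ← Category.assoc, ← h12, Category.assoc]
    exact congrArg (·.left) (h (Over.mk (p₁ ≫ G.hom)) (Over.homMk p₁ rfl) (Over.homMk p₂ hw)
      (Over.OverMorphism.ext h12))
  let gl := EffectiveEpi.desc q.left f.left hh
  have hfac : q.left ≫ gl = f.left := EffectiveEpi.fac _ _ _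
  have hgl : gl ≫ K.hom = Q.hom := by
    rw [← cancel_epi q.left, ← Category.assoc, hfac, Over.w, Over.w]
  refine ⟨Over.homMk gl hgl, Over.OverMorphism.ext hfac, fun g' hg' => ?_⟩
  rw [← cancel_epi q, hg']
  exact Over.OverMorphism.ext hfac.symm

lemma isMonHom_of_epi [GrpObj G] [GrpObj Q] [GrpObj K] (q : G ⟶ Q) [IsMonHom q]
    [Epi (q ⊗ₘ q)] (g : Q ⟶ K) [IsMonHom (q ≫ g)] : IsMonHom g := by
  refine { one_hom := ?_, mul_hom := ?_ }
  · rw [← IsMonHom.one_hom (f := q), Category.assoc, IsMonHom.one_hom]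
  · rw [← cancel_epi (q ⊗ₘ q), ← Category.assoc, ← IsMonHom.mul_hom (f := q), Category.assoc,
      IsMonHom.mul_hom, ← Category.assoc, tensorHom_comp_tensorHom]

lemma epi_tensor_of_flat (q : G ⟶ Q) [Flat q.left] [Surjective q.left] [QuasiCompact q.left] :
    Epi (q ⊗ₘ q) := by
  rw [MonoidalCategory.tensorHom_def]
  haveI : Flat (q ▷ G).left := whiskerRight_prop G q ‹_›
  haveI : Surjective (q ▷ G).left := whiskerRight_prop G q ‹_›
  haveI : QuasiCompact (q ▷ G).left := whiskerRight_prop G q ‹_›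
  haveI : Flat (Q ◁ q).left := whiskerLeft_prop Q q ‹_›
  haveI : Surjective (Q ◁ q).left := whiskerLeft_prop Q q ‹_›
  haveI : QuasiCompact (Q ◁ q).left := whiskerLeft_prop Q q ‹_›
  haveI : Epi (q ▷ G) := epi_of_effectiveEpi_left _
  haveI : Epi (Q ◁ q) := epi_of_effectiveEpi_left _
  infer_instance

lemma epi_tensor_of_lfp (q : G ⟶ Q) [Flat q.left] [Surjective q.left]
    [LocallyOfFinitePresentation q.left] : Epi (q ⊗ₘ q) := by
  rw [MonoidalCategory.tensorHom_def]
  haveI : Flat (q ▷ G).left := whiskerRight_prop G q ‹_›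
  haveI : Surjective (q ▷ G).left := whiskerRight_prop G q ‹_›
  haveI : LocallyOfFinitePresentation (q ▷ G).left := whiskerRight_prop G q ‹_›
  haveI : Flat (Q ◁ q).left := whiskerLeft_prop Q q ‹_›
  haveI : Surjective (Q ◁ q).left := whiskerLeft_prop Q q ‹_›
  haveI : LocallyOfFinitePresentation (Q ◁ q).left := whiskerLeft_prop Q q ‹_›
  haveI : Epi (q ▷ G) := epi_of_effectiveEpi_left _
  haveI : Epi (Q ◁ q) := epi_of_effectiveEpi_left _
  infer_instance

end Groth.Agent.GrpSch.Desc
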