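import Groth.Agent.GrpSch.OverBase
import Groth.Prelude.Def_AlgGrp

/-! Generalities on actions of group schemes (`AlgGrp.Action`). -/

set_option autoImplicit false

universe u

open CategoryTheory MonoidalCategory CartesianMonoidalCategory MonObj GrpObj Limits AlgebraicGeometry

namespace Groth.Agent.GrpSch

variable {S : Scheme.{u}} {G X : Over S} [GrpObj G] (a : AlgGrp.Action G X)

lemma act_one {T : Over S} (x : T ⟶ X) : lift (1 : T ⟶ G) x ≫ a.act = x := by
  have h := congrArg (fun q => lift (toUnit T) x ≫ q) a.one_act
  simpa [one_eq_toUnit, leftUnitor_hom] using h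

lemma act_mul {T : Over S} (g h : T ⟶ G) (x : T ⟶ X) :
    lift (g * h) x ≫ a.act = lift g (lift h x ≫ a.act) ≫ a.act := by
  have h' := congrArg (fun q => lift (lift g h) x ≫ q) a.mul_act
  simpa [mul_eq_lift] using h'

/-- The shear automorphism `(g, x) ↦ (g, g · x)` of an action. -/
@[simps]
noncomputable def actShear : G ⊗ X ≅ G ⊗ X where
  hom := lift (fst G X) a.act
  inv := lift (fst G X) (lift (fst G X)⁻¹ (snd G X) ≫ a.act)
  hom_inv_id := by
    ext
    · simp
    · simp only [Category.assoc, lift_snd, comp_lift_assoc, GrpObj.comp_inv, lift_fst,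
        Category.id_comp]
      conv_lhs => rw [show a.act = lift (fst G X) (snd G X) ≫ a.act by simp]
      rw [comp_lift_assoc]
      simp only [lift_fst, lift_snd]
      rw [← act_mul, inv_mul_cancel, act_one]
  inv_hom_id := by
    ext
    · simp
    · simp only [Category.assoc, lift_snd, Category.id_comp]
      have key : lift (fst G X) (lift (fst G X)⁻¹ (snd G X) ≫ a.act) ≫ a.act = snd G X := by
        rw [← act_mul, mul_inv_cancel, act_one]
      exact congrArg CommaMorphism.left key

lemma actShear_hom_snd : (actShear a).hom ≫ snd G X = a.act := by simp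

/-- A base-change stable property of the group passes to the action morphism. -/
lemma property_act {P : MorphismProperty Scheme.{u}} [P.IsStableUnderBaseChange]
    (h : P G.hom) : P a.act.left := by
  rw [← actShear_hom_snd, Over.comp_left]
  have : IsIso (actShear a).hom.left :=
    inferInstanceAs (IsIso ((Over.forget S).map (actShear a).hom))
  have : P.RespectsIso := MorphismProperty.IsStableUnderBaseChange.respectsIso
  exact (MorphismProperty.cancel_left_of_respectsIso P _ _).2 (property_snd G X h)

lemma surjective_act : Surjective a.act.left := by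
  have h : (lift (1 : X ⟶ G) (𝟙 X) ≫ a.act).left = 𝟙 X.left := by rw [act_one]; rfl
  rw [Over.comp_left] at h
  have : Surjective ((lift (1 : X ⟶ G) (𝟙 X)).left ≫ a.act.left) := by rw [h]; infer_instance
  exact Surjective.of_comp (lift (1 : X ⟶ G) (𝟙 X)).left a.act.left

end Groth.Agent.GrpSch
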