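import Groth.Agent.GrpSch.IrredAlg
import Groth.Agent.FpqcDescent.ReducedSub
import Mathlib.AlgebraicGeometry.Geometrically.Irreducible
import Mathlib.AlgebraicGeometry.Pullbacks
import Mathlib.AlgebraicGeometry.Morphisms.UnderlyingMap

/-!
Irreducible schemes over algebraically closed fields are geometrically irreducible.
-/

set_option autoImplicit false
set_option backward.isDefEq.respectTransparency.types false

universe u

open CategoryTheory Limits AlgebraicGeometry

namespace Groth.Agent.GrpSch.Irred

/-- A space covered by irreducible open sets which pairwise meet is irreducible. -/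
lemma irreducibleSpace_of_cover {α : Type*} [TopologicalSpace α] [Nonempty α] {ι : Type*}
    (U : ι → Set α) (hopen : ∀ i, IsOpen (U i)) (hirr : ∀ i, IsIrreducible (U i))
    (hcov : ∀ x, ∃ i, x ∈ U i) (hmeet : ∀ i j, (U i ∩ U j).Nonempty) : IrreducibleSpace α where
  toNonempty := inferInstance
  isPreirreducible_univ := by
    rintro V W hV hW ⟨x, -, hx⟩ ⟨y, -, hy⟩
    obtain ⟨i, hi⟩ := hcov x
    obtain ⟨j, hj⟩ := hcov y
    obtain ⟨z, hzi, hzV, hzj⟩ := (hirr i).isPreirreducible V (U j) hV (hopen j) ⟨x, hi, hx⟩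
      (hmeet i j)
    obtain ⟨w, -, ⟨-, hwV⟩, hwW⟩ := (hirr j).isPreirreducible (U i ∩ V) W ((hopen i).inter hV) hW
      ⟨z, hzj, hzi, hzV⟩ ⟨y, hj, hy⟩
    exact ⟨w, trivial, hwV, hwW⟩

lemma irreducibleSpace_pullback_spec {k : Type u} [Field k] [IsAlgClosed k] (A L : Type u)
    [CommRing A] [IsDomain A] [Algebra k A] [Field L] [Algebra k L] :
    IrreducibleSpace ↥(pullback (Spec.map (CommRingCat.ofHom (algebraMap k A)))
      (Spec.map (CommRingCat.ofHom (algebraMap k L)))) := by
  rw [(pullbackSpecIso k A L).hom.homeomorph.irreducibleSpace_iff]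
  have := isDomain_tensorProduct (k := k) A L
  infer_instance

lemma irreducibleSpace_pullback {k : Type u} [Field k] [IsAlgClosed k] {X : Scheme.{u}}
    [IsIntegral X] (f : X ⟶ Spec (CommRingCat.of k)) (L : Type u) [Field L]
    (x : Spec (CommRingCat.of L) ⟶ Spec (CommRingCat.of k)) :
    IrreducibleSpace ↥(pullback f x) := by
  have : Surjective x := ⟨Function.surjective_to_subsingleton _⟩
  let p := pullback.fst f x
  have hp : Function.Surjective p := p.surjective
  have : Nonempty ↥(pullback f x) := ⟨(hp (Nonempty.some inferInstance)).choose⟩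
  refine irreducibleSpace_of_cover (ι := {U : X.affineOpens // (U.1 : Set X).Nonempty})
    (fun U => p ⁻¹' (U.1.1 : Set X)) (fun U => U.1.1.2.preimage p.continuous) (fun U => ?_)
    (fun z => ?_) (fun U V => ?_)
  · obtain ⟨⟨U, hU⟩, hne⟩ := U
    have : Nonempty U := hne.to_subtype
    have : IsDomain Γ(X, U) := inferInstance
    obtain ⟨φ, hφ⟩ := Spec.map_surjective (hU.fromSpec ≫ f)
    obtain ⟨ψ, rfl⟩ := Spec.map_surjective x
    let _ : Algebra k Γ(X, U) := φ.hom.toAlgebra
    let _ : Algebra k L := ψ.hom.toAlgebra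
    have hA : IrreducibleSpace ↥(pullback (hU.fromSpec ≫ f) (Spec.map ψ)) := by
      rw [← hφ]
      exact irreducibleSpace_pullback_spec Γ(X, U) L
    have hB : IrreducibleSpace ↥(pullback hU.fromSpec p) :=
      ((pullbackRightPullbackFstIso f (Spec.map ψ) hU.fromSpec).hom.homeomorph.irreducibleSpace_iff).2
        hA
    have := (IrreducibleSpace.isIrreducible_univ ↥(pullback hU.fromSpec p)).image _
      (pullback.snd hU.fromSpec p).continuous.continuousOn
    rwa [Set.image_univ, Scheme.Pullback.range_snd, hU.range_fromSpec] at this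
  · obtain ⟨U, hU, hzU, -⟩ := X.isBasis_affineOpens.exists_subset_of_mem_open (Set.mem_univ (p z))
      isOpen_univ
    obtain ⟨U, hU', rfl⟩ := hU
    exact ⟨⟨⟨U, hU'⟩, ⟨_, hzU⟩⟩, hzU⟩
  · obtain ⟨y, hy⟩ := nonempty_preirreducible_inter U.1.1.2 V.1.1.2 U.2 V.2
    obtain ⟨z, rfl⟩ := hp y
    exact ⟨z, hy⟩

/-- Over an algebraically closed field, an irreducible scheme is geometrically irreducible. -/
theorem geometricallyIrreducible_of_isAlgClosed {k : Type u} [Field k] [IsAlgClosed k]
    {X : Scheme.{u}} [IrreducibleSpace X] (f : X ⟶ Spec (CommRingCat.of k)) :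
    GeometricallyIrreducible f := by
  refine ⟨geometrically_iff_of_isClosedUnderIsomorphisms.mpr fun L _ x => ?_⟩
  let I := Scheme.IdealSheafData.vanishingIdeal (⊤ : TopologicalSpace.Closeds X)
  let r := I.subschemeι
  have hr : Set.range r = Set.univ := by
    rw [Scheme.IdealSheafData.range_subschemeι, Scheme.IdealSheafData.coe_support_vanishingIdeal]
    simp
  have : Surjective r := ⟨Set.range_eq_univ.1 hr⟩
  have : IrreducibleSpace I.subscheme := by
    have h := r.isClosedEmbedding.isEmbedding.toHomeomorph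
    exact (h.trans ((Homeomorph.setCongr hr).trans (Homeomorph.Set.univ X))).irreducibleSpace_iff.2
      ‹_›
  have : IsIntegral I.subscheme := isIntegral_of_irreducibleSpace_of_isReduced _
  have h1 := irreducibleSpace_pullback (r ≫ f) L x
  let q : pullback (r ≫ f) x ⟶ pullback f x :=
    pullback.map _ _ _ _ r (𝟙 _) (𝟙 _) (by simp) (by simp)
  have hq : Set.range q = Set.univ := by
    rw [Scheme.Pullback.range_map, hr]
    simp
  have := h1.isIrreducible_univ.image _ q.continuous.continuousOn
  rw [Set.image_univ, hq] at this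
  exact (irreducibleSpace_def _).2 this

end Groth.Agent.GrpSch.Irred
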