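import Groth.Agent.GrpSch.Cat
import Groth.Agent.GrpSch.Irred
import Groth.Agent.FlatMorLib.GeomDescent
import Mathlib.AlgebraicGeometry.Morphisms.Integral
import Mathlib.AlgebraicGeometry.Morphisms.UniversallyClosed
import Mathlib.CategoryTheory.Monoidal.Cartesian.Over
import Mathlib.FieldTheory.IsAlgClosed.AlgebraicClosure

/-!
Irreducible components of group schemes over a field.
-/

set_option autoImplicit false
set_option backward.isDefEq.respectTransparency.types false

universe u

open CategoryTheory MonoidalCategory CartesianMonoidalCategory MonObj GrpObj Limits AlgebraicGeometry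

namespace Groth.Agent.GrpSch

/-- A rational point lying in a closed subscheme factors through it. -/
lemma exists_factor_of_mem_range {K : Type u} [Field K] {X Z : Scheme.{u}} (r : Z ⟶ X)
    [IsClosedImmersion r] (x : Spec (CommRingCat.of K) ⟶ X)
    (hx : x (IsLocalRing.closedPoint K) ∈ Set.range r) : ∃ s, s ≫ r = x := by
  have : Surjective (pullback.snd r x) := ⟨by
    rw [← Set.range_eq_univ, Scheme.Pullback.range_snd, Set.eq_univ_iff_forall]
    intro p
    rwa [Set.mem_preimage, Subsingleton.elim (α := PrimeSpectrum K) p (IsLocalRing.closedPoint K)]⟩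
  have := isIso_of_isClosedImmersion_of_surjective (pullback.snd r x)
  exact ⟨inv (pullback.snd r x) ≫ pullback.fst r x,
    by rw [Category.assoc, pullback.condition, IsIso.inv_hom_id_assoc]⟩

variable {K : Type u} [Field K]

/-- Over an algebraically closed field, two generalizations of a rational point of a group scheme
have a common generalization. -/
theorem exists_generalization_rational [IsAlgClosed K] (G : Over (Spec (CommRingCat.of K)))
    [GrpObj G] (g : 𝟙_ (Over (Spec (CommRingCat.of K))) ⟶ G) (a b : G.left)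
    (ha : a ⤳ g.left (IsLocalRing.closedPoint K)) (hb : b ⤳ g.left (IsLocalRing.closedPoint K)) :
    ∃ d, d ⤳ a ∧ d ⤳ b := by
  have key : ∀ z : G.left, z ⤳ g.left (IsLocalRing.closedPoint K) →
      ∃ (Z : Over (Spec (CommRingCat.of K))) (j : Z ⟶ G) (s : 𝟙_ _ ⟶ Z),
        IrreducibleSpace Z.left ∧ s ≫ j = g ∧ z ∈ Set.range j.left := by
    intro z hz
    let I := Scheme.IdealSheafData.vanishingIdeal
      (⟨closure {z}, isClosed_closure⟩ : TopologicalSpace.Closeds G.left)
    have hr : Set.range I.subschemeι = closure {z} := by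
      rw [Scheme.IdealSheafData.range_subschemeι, Scheme.IdealSheafData.coe_support_vanishingIdeal]
      rfl
    obtain ⟨s, hs⟩ := exists_factor_of_mem_range (K := K) I.subschemeι g.left
      (by rw [hr]; exact hz.mem_closure)
    refine ⟨Over.mk (I.subschemeι ≫ G.hom), Over.homMk I.subschemeι rfl,
      Over.homMk s (by simp only [Over.mk_hom]; rw [← Category.assoc, hs]; exact Over.w g),
      ?_, Over.OverMorphism.ext hs, hr.ge (subset_closure rfl)⟩
    have h := I.subschemeι.isClosedEmbedding.isEmbedding.toHomeomorph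
    have : IrreducibleSpace ↥(Set.range I.subschemeι) := by
      rw [hr]
      exact Subtype.irreducibleSpace isIrreducible_singleton.closure
    exact h.irreducibleSpace_iff.2 this
  obtain ⟨Za, ja, sa, hZa, hsa, haj⟩ := key a ha
  obtain ⟨Zb, jb, sb, hZb, hsb, hbj⟩ := key b hb
  have := Irred.geometricallyIrreducible_of_isAlgClosed Za.hom
  have : IrreducibleSpace ↥(Za ⊗ Zb).left :=
    inferInstanceAs (IrreducibleSpace ↥(pullback Za.hom Zb.hom))
  let φ : Za ⊗ Zb ⟶ G := (fst Za Zb ≫ ja) * (toUnit _ ≫ g)⁻¹ * (snd Za Zb ≫ jb)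
  have h₁ : lift (𝟙 Za) (toUnit Za ≫ sb) ≫ φ = ja := by
    simp only [φ, MonObj.comp_mul, GrpObj.comp_inv, lift_fst_assoc, lift_snd_assoc,
      Category.id_comp, comp_toUnit_assoc, Category.assoc, hsb]
    rw [inv_mul_cancel_right]
  have h₂ : lift (toUnit Zb ≫ sa) (𝟙 Zb) ≫ φ = jb := by
    simp only [φ, MonObj.comp_mul, GrpObj.comp_inv, lift_fst_assoc, lift_snd_assoc,
      Category.id_comp, comp_toUnit_assoc, Category.assoc, hsa]
    rw [mul_inv_cancel, _root_.one_mul]
  have hirr : IsIrreducible (Set.range φ.left) := by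
    rw [← Set.image_univ]
    exact (IrreducibleSpace.isIrreducible_univ ↥(Za ⊗ Zb).left).image _
      φ.left.continuous.continuousOn
  have hd := hirr.closure.isGenericPoint_genericPoint isClosed_closure
  refine ⟨_, hd.specializes (subset_closure ?_), hd.specializes (subset_closure ?_)⟩
  · obtain ⟨w, rfl⟩ := haj
    exact ⟨(lift (𝟙 Za) (toUnit Za ≫ sb)).left w, congrArg (fun t : Za ⟶ G => t.left w) h₁⟩
  · obtain ⟨w, rfl⟩ := hbj
    exact ⟨(lift (toUnit Zb ≫ sa) (𝟙 Zb)).left w, congrArg (fun t : Zb ⟶ G => t.left w) h₂⟩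

/-- Two generalizations of a point of a group scheme over a field have a common generalization. -/
theorem exists_generalization (G : Over (Spec (CommRingCat.of K))) [GrpObj G] (x a b : G.left)
    (ha : a ⤳ x) (hb : b ⤳ x) : ∃ d, d ⤳ a ∧ d ⤳ b := by
  let L := AlgebraicClosure (G.left.residueField x)
  let q : Spec (CommRingCat.of L) ⟶ G.left :=
    Spec.map (CommRingCat.ofHom (algebraMap (G.left.residueField x) L)) ≫
      G.left.fromSpecResidueField x
  let f := q ≫ G.hom
  let G' : Over (Spec (CommRingCat.of L)) := (Over.pullback f).obj G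
  let _ : GrpObj G' := Functor.grpObjObj (F := Over.pullback f)
  let g : 𝟙_ (Over (Spec (CommRingCat.of L))) ⟶ G' :=
    Over.homMk (pullback.lift q (𝟙 _) (by simp [f])) (pullback.lift_snd _ _ _)
  let p : G'.left ⟶ G.left := pullback.fst G.hom f
  have hp : p (g.left (IsLocalRing.closedPoint L)) = x := by
    rw [← Scheme.Hom.comp_apply]
    have : g.left ≫ p = q := pullback.lift_fst _ _ _
    rw [this]
    exact G.left.fromSpecResidueField_apply x _
  have : Flat p := inferInstanceAs (Flat (pullback.fst G.hom f))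
  have gen := Flat.generalizingMap p
  rw [← hp] at ha hb
  obtain ⟨a', ha', rfl⟩ := gen ha
  obtain ⟨b', hb', rfl⟩ := gen hb
  obtain ⟨d, hda, hdb⟩ := exists_generalization_rational G' g a' b' ha' hb'
  exact ⟨p d, hda.map p.continuous, hdb.map p.continuous⟩

/-- Every local ring of a group scheme over a field has a unique minimal prime. -/
theorem subsingleton_minimalPrimes (G : Over (Spec (CommRingCat.of K))) [GrpObj G] (x : G.left) :
    (minimalPrimes (G.left.presheaf.stalk x)).Subsingleton := by
  intro p hp q hq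
  let st := G.left.fromSpecStalk x
  let P : PrimeSpectrum (G.left.presheaf.stalk x) := ⟨p, hp.1.1⟩
  let Q : PrimeSpectrum (G.left.presheaf.stalk x) := ⟨q, hq.1.1⟩
  have hr : Set.range st = {y | y ⤳ x} := Scheme.range_fromSpecStalk
  have hP : st P ⤳ x := hr.le ⟨P, rfl⟩
  have hQ : st Q ⤳ x := hr.le ⟨Q, rfl⟩
  obtain ⟨d, hdP, hdQ⟩ := exists_generalization G x _ _ hP hQ
  obtain ⟨R, rfl⟩ : d ∈ Set.range st := hr.ge (hdP.trans hP)
  rw [st.isEmbedding.isInducing.specializes_iff] at hdP hdQ
  have hdP := (PrimeSpectrum.le_iff_specializes R P).2 hdP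
  have hdQ := (PrimeSpectrum.le_iff_specializes R Q).2 hdQ
  exact (le_antisymm (hp.2 ⟨R.2, bot_le⟩ hdP) hdP).trans
    (le_antisymm hdQ (hq.2 ⟨R.2, bot_le⟩ hdQ))

/-- Irreducible components of a group scheme over a field are pairwise disjoint. -/
theorem eq_of_mem_irreducibleComponents (G : Over (Spec (CommRingCat.of K))) [GrpObj G]
    {Z Z' : Set G.left} (hZ : Z ∈ irreducibleComponents G.left)
    (hZ' : Z' ∈ irreducibleComponents G.left) {x : G.left} (hx : x ∈ Z) (hx' : x ∈ Z') :
    Z = Z' := by
  have ha := hZ.1.isGenericPoint_genericPoint (isClosed_of_mem_irreducibleComponents Z hZ)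
  have hb := hZ'.1.isGenericPoint_genericPoint (isClosed_of_mem_irreducibleComponents Z' hZ')
  obtain ⟨d, hda, hdb⟩ := exists_generalization G x _ _ (ha.specializes hx) (hb.specializes hx')
  have h₁ : Z ⊆ closure {d} := fun y hy => (hda.trans (ha.specializes hy)).mem_closure
  have h₂ : Z' ⊆ closure {d} := fun y hy => (hdb.trans (hb.specializes hy)).mem_closure
  exact (h₁.antisymm (hZ.2 isIrreducible_singleton.closure h₁)).trans
    (h₂.antisymm (hZ'.2 isIrreducible_singleton.closure h₂)).symm

theorem existsUnique_component (G : Over (Spec (CommRingCat.of K))) [GrpObj G] (x : G.left) :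
    ∃! Z : Set G.left, Z ∈ irreducibleComponents G.left ∧ x ∈ Z :=
  ⟨irreducibleComponent x, ⟨irreducibleComponent_mem_irreducibleComponents x, mem_irreducibleComponent⟩,
    fun _ h => eq_of_mem_irreducibleComponents G h.1
      (irreducibleComponent_mem_irreducibleComponents x) h.2 mem_irreducibleComponent⟩

/-- The component of the identity point is geometrically irreducible. -/
theorem geometricallyIrreducible_component (G : Over (Spec (CommRingCat.of K))) [GrpObj G]
    {Z : Scheme.{u}} (incl : Z ⟶ G.left) [IsClosedImmersion incl]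
    (hZ : Set.range incl ∈ irreducibleComponents G.left)
    (he : η[G].left (IsLocalRing.closedPoint K) ∈ Set.range incl) :
    GeometricallyIrreducible (incl ≫ G.hom) := by
  let L := AlgebraicClosure K
  let f : Spec (CommRingCat.of L) ⟶ Spec (CommRingCat.of K) :=
    Spec.map (CommRingCat.ofHom (algebraMap K L))
  have : IsIntegralHom f := IsIntegralHom.SpecMap_iff.2 (algebraMap_isIntegral_iff.2 inferInstance)
  have : Surjective f := ⟨Function.surjective_to_subsingleton (α := PrimeSpectrum L) (β := PrimeSpectrum K) _⟩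
  let G' : Over (Spec (CommRingCat.of L)) := (Over.pullback f).obj G
  let _ : GrpObj G' := Functor.grpObjObj (F := Over.pullback f)
  let p : G'.left ⟶ G.left := pullback.fst G.hom f
  have : Flat p := inferInstanceAs (Flat (pullback.fst G.hom f))
  have : IsIntegralHom p := inferInstanceAs (IsIntegralHom (pullback.fst G.hom f))
  have gen := Flat.generalizingMap p
  have hw : (f ≫ η[G].left) ≫ G.hom = 𝟙 _ ≫ f := by
    rw [Category.assoc, Category.id_comp]
    exact (congrArg (f ≫ ·) (Over.w η[G])).trans (Category.comp_id f)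
  let e : 𝟙_ (Over (Spec (CommRingCat.of L))) ⟶ G' :=
    Over.homMk (pullback.lift (f ≫ η[G].left) (𝟙 _) hw) (pullback.lift_snd _ _ _)
  -- the fibre of the identity point is a single point
  have hfib : ∀ z : G'.left, p z = η[G].left (IsLocalRing.closedPoint K) →
      z = e.left (IsLocalRing.closedPoint L) := by
    intro z hz
    have h : IsPullback e.left f p η[G].left := by
      refine IsPullback.of_right (h₁₂ := pullback.snd G.hom f) (h₁₁ := e.left)
        (v₁₁ := f) (v₁₂ := p) (h₂₁ := η[G].left) ?_ (pullback.lift_fst _ _ _)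
        (IsPullback.of_hasPullback G.hom f).flip
      have h1 : e.left ≫ pullback.snd G.hom f = 𝟙 _ := pullback.lift_snd _ _ _
      have h2 : η[G].left ≫ G.hom = 𝟙 _ := Over.w η[G]
      rw [h1, h2]
      exact IsPullback.id_horiz f
    obtain ⟨w, hw, -⟩ := Scheme.exists_preimage_of_isPullback h z (IsLocalRing.closedPoint K) hz
    rw [← hw, Subsingleton.elim (α := PrimeSpectrum L) w (IsLocalRing.closedPoint L)]
  set C := Set.range incl
  have hξ := hZ.1.isGenericPoint_genericPoint (isClosed_of_mem_irreducibleComponents C hZ)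
  set ξ := hZ.1.genericPoint
  have hmax : ∀ y : G.left, y ⤳ ξ → y ∈ C := by
    intro y hy
    have hle : C ⊆ closure {y} := fun z hz => (hy.trans (hξ.specializes hz)).mem_closure
    exact hZ.2 isIrreducible_singleton.closure hle (subset_closure rfl)
  have hgen : ∀ a : G'.left, p a ∈ C → ∃ m, m ⤳ a ∧ p m = ξ ∧
      m ⤳ e.left (IsLocalRing.closedPoint L) := by
    intro a ha
    obtain ⟨m, hma, hpm⟩ := gen (hξ.specializes ha)
    refine ⟨m, hma, hpm, ?_⟩
    have hclosed : IsClosed (p '' closure {m}) := p.isClosedMap _ isClosed_closure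
    have hsub : C ⊆ p '' closure {m} := by
      rw [← hξ.def]
      exact closure_minimal (Set.singleton_subset_iff.2 ⟨m, subset_closure rfl, hpm⟩) hclosed
    obtain ⟨z, hz, hpz⟩ := hsub he
    rw [← hfib z hpz]
    exact specializes_iff_mem_closure.2 hz
  -- the preimage of the component is irreducible
  have hirr : IsIrreducible (p ⁻¹' C) := by
    refine ⟨?_, ?_⟩
    · obtain ⟨z, hz⟩ := p.surjective (η[G].left (IsLocalRing.closedPoint K))
      exact ⟨z, by rw [Set.mem_preimage, hz]; exact he⟩
    · rintro V W hV hW ⟨a, ha, haV⟩ ⟨b, hb, hbW⟩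
      obtain ⟨m, hma, hpm, hme⟩ := hgen a ha
      obtain ⟨n, hnb, hpn, hne⟩ := hgen b hb
      obtain ⟨d, hdm, hdn⟩ := exists_generalization_rational G' e m n hme hne
      refine ⟨d, hmax _ (hpm ▸ hdm.map p.continuous), ?_, ?_⟩
      · exact (hdm.trans hma).mem_open hV haV
      · exact (hdn.trans hnb).mem_open hW hbW
  let c : pullback (incl ≫ G.hom) f ⟶ pullback G.hom f :=
    pullback.map _ _ _ _ incl (𝟙 _) (𝟙 _) (by simp) (by simp)
  have hc : Set.range c = p ⁻¹' C := by
    rw [Scheme.Pullback.range_map]
    simp [p, C]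
  have : IsClosedImmersion c :=
    MorphismProperty.pullbackMap (P := @IsClosedImmersion) (by infer_instance) (by infer_instance)
      rfl (Category.id_comp f).symm
  have : IrreducibleSpace ↥(pullback (incl ≫ G.hom) f) := by
    have h1 : IrreducibleSpace ↥(Set.range c) := by rw [hc]; exact Subtype.irreducibleSpace hirr
    exact c.isClosedEmbedding.isEmbedding.toHomeomorph.irreducibleSpace_iff.2 h1
  have h := Irred.geometricallyIrreducible_of_isAlgClosed (pullback.snd (incl ≫ G.hom) f)
  rw [GeometricallyIrreducible.eq_geometrically] at h ⊢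
  exact FlatMorLib.geometrically_of_isPullback_of_surjective
    (fun p _ _ h ↦ @Function.Surjective.irreducibleSpace _ _ _ _ _ p.continuous p.surjective h)
    (IsPullback.of_hasPullback _ _) h

end Groth.Agent.GrpSch
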