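import Groth.Agent.GrpSch.OverBase
import Mathlib.AlgebraicGeometry.Group.Smooth
import Mathlib.AlgebraicGeometry.Morphisms.UniversallyOpen
import Mathlib.AlgebraicGeometry.Morphisms.Immersion

/-! Topology of group schemes over a field. -/

set_option autoImplicit false

universe u

open CategoryTheory MonoidalCategory CartesianMonoidalCategory MonObj GrpObj Limits AlgebraicGeometry

namespace Groth.Agent.GrpSch

variable {S : Scheme.{u}}

lemma exists_common_point {A B C : Over S} (f : A ⟶ C) (g : B ⟶ C) (a : A.left) (b : B.left)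
    (h : f.left a = g.left b) :
    ∃ (P : Over S) (p : P.left) (u : P ⟶ A) (v : P ⟶ B),
      u ≫ f = v ≫ g ∧ u.left p = a ∧ v.left p = b := by
  obtain ⟨p, hp₁, hp₂⟩ := Scheme.Pullback.exists_preimage_pullback (f := f.left) (g := g.left) a b h
  refine ⟨Over.mk (pullback.fst f.left g.left ≫ A.hom), p, Over.homMk (pullback.fst _ _) rfl,
    Over.homMk (pullback.snd _ _) ?_, ?_, hp₁, hp₂⟩
  · change pullback.snd _ _ ≫ B.hom = pullback.fst _ _ ≫ A.hom
    rw [← Over.w f, ← Over.w g, ← Category.assoc, ← Category.assoc, pullback.condition]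
  · ext1
    exact pullback.condition

lemma comp_left_apply {A B C : Over S} (f : A ⟶ B) (g : B ⟶ C) (a : A.left) :
    (f ≫ g).left a = g.left (f.left a) := rfl

lemma isPullback_whiskerLeft (T : Over S) {H G : Over S} (ψ : H ⟶ G) :
    IsPullback (T ◁ ψ) (snd T H) (snd T G) ψ :=
  IsPullback.of_isLimit' ⟨by simp⟩ (PullbackCone.IsLimit.mk (by simp)
    (fun s => lift (s.fst ≫ fst _ _) s.snd)
    (fun s => by apply CartesianMonoidalCategory.hom_ext <;> simp [s.condition])
    (fun s => by simp)
    (fun s m h₁ h₂ => by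
      apply CartesianMonoidalCategory.hom_ext
      · simp [← h₁]
      · simp [← h₂]))

lemma range_whiskerLeft (T : Over S) {H G : Over S} (ψ : H ⟶ G) :
    Set.range (T ◁ ψ).left = (snd T G).left ⁻¹' Set.range ψ.left := by
  ext w
  constructor
  · rintro ⟨v, rfl⟩
    refine ⟨(snd T H).left v, ?_⟩
    rw [← comp_left_apply, ← (isPullback_whiskerLeft T ψ).w, comp_left_apply]
  · rintro ⟨h, hh⟩
    obtain ⟨v, hv, -⟩ := Scheme.exists_preimage_of_isPullback
      (isPullback_left (isPullback_whiskerLeft T ψ)) w h hh.symm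
    exact ⟨v, hv⟩

/-- A point of `G` as a morphism from the spectrum of its residue field. -/
noncomputable abbrev ptOver (G : Over S) (x : G.left) : Over S :=
  Over.mk (G.left.fromSpecResidueField x ≫ G.hom)

/-- A point of `G` as a morphism from the spectrum of its residue field. -/
noncomputable abbrev ptHom (G : Over S) (x : G.left) : ptOver G x ⟶ G :=
  Over.homMk (G.left.fromSpecResidueField x) rfl

lemma ptHom_apply (G : Over S) (x : G.left) (p : (ptOver G x).left) :
    (ptHom G x).left p = x :=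
  G.left.fromSpecResidueField_apply x p

variable {K : Type u} [Field K]

lemma isOpenMap_snd (T G : Over (Spec (CommRingCat.of K))) : IsOpenMap (snd T G).left := by
  have : UniversallyOpen (snd T G).left := property_snd T G inferInstance
  exact (snd T G).left.isOpenMap

lemma isOpenMap_whisker_mul {T G : Over (Spec (CommRingCat.of K))} [GrpObj G] (t : T ⟶ G) :
    IsOpenMap (t ▷ G ≫ μ[G]).left := by
  have : UniversallyOpen (t ▷ G ≫ μ[G]).left :=
    property_whisker_mul (P := @UniversallyOpen) t inferInstance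
  exact (t ▷ G ≫ μ[G]).left.isOpenMap

lemma closed_point_subsingleton (p q : ↥(𝟙_ (Over (Spec (CommRingCat.of K)))).left) : p = q :=
  Subsingleton.elim (α := PrimeSpectrum K) p q

lemma one_apply {G : Over (Spec (CommRingCat.of K))} [GrpObj G] {T : Over (Spec (CommRingCat.of K))}
    (p : T.left) (q : ↥(𝟙_ (Over (Spec (CommRingCat.of K)))).left) :
    (1 : T ⟶ G).left p = η[G].left q := by
  rw [one_eq_toUnit, comp_left_apply, closed_point_subsingleton ((toUnit T).left p) q]

section hom

variable {H G : Over (Spec (CommRingCat.of K))} [GrpObj H] [GrpObj G] (ψ : H ⟶ G) [IsMonHom ψ]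

/-- If the image of a homomorphism is open, it is closed. -/
lemma isClosed_range_of_isOpen_range (h : IsOpen (Set.range ψ.left)) :
    IsClosed (Set.range ψ.left) := by
  rw [← closure_subset_iff_isClosed]
  intro x hx
  set T := ptOver G x
  set t : T ⟶ G := ptHom G x
  let m : T ⊗ H ⟶ G := (T ◁ ψ) ≫ t ▷ G ≫ μ[G]
  have hopen : IsOpen (Set.range m.left) := by
    have : Set.range m.left = (t ▷ G ≫ μ[G]).left '' Set.range (T ◁ ψ).left := by
      rw [← Set.range_comp]; rfl
    rw [this, range_whiskerLeft]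
    exact isOpenMap_whisker_mul t _ (h.preimage (snd T G).left.continuous)
  have hm : m = (fst T H ≫ t) * (snd T H ≫ ψ) := by
    simp only [m, whiskerRight_mul, MonObj.comp_mul, whiskerLeft_fst_assoc, whiskerLeft_snd]
  obtain ⟨p₀⟩ : Nonempty T.left := inferInstanceAs (Nonempty (PrimeSpectrum _))
  have hxm : x ∈ Set.range m.left := by
    refine ⟨(lift (𝟙 T) 1).left p₀, ?_⟩
    rw [← comp_left_apply, hm, MonObj.comp_mul, lift_fst_assoc, lift_snd_assoc, MonObj.one_comp,
      _root_.mul_one, Category.id_comp]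
    exact ptHom_apply G x p₀
  obtain ⟨-, ⟨w, rfl⟩, h', hh'⟩ := mem_closure_iff.1 hx _ hopen hxm
  obtain ⟨P, p, u, v, huv, hu, hv⟩ := exists_common_point m ψ w h' hh'.symm
  rw [hm, MonObj.comp_mul, ← eq_mul_inv_iff_mul_eq, ← Category.assoc u (snd T H),
    ← GrpObj.inv_comp, ← MonObj.mul_comp, ← Category.assoc] at huv
  refine ⟨(v * (u ≫ snd T H)⁻¹).left p, ?_⟩
  rw [← comp_left_apply, ← huv, comp_left_apply]
  exact ptHom_apply G x _

omit [GrpObj H] [GrpObj G] [IsMonHom ψ] in
lemma preimage_closure_range (T : Over (Spec (CommRingCat.of K))) :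
    (snd T G).left ⁻¹' closure (Set.range ψ.left) = closure ((snd T G).left ⁻¹' Set.range ψ.left) :=
  (isOpenMap_snd T G).preimage_closure_eq_closure_preimage (snd T G).left.continuous _

/-- The closure of the image of a homomorphism is stable under multiplication. -/
lemma mul_mem_closure_range {P : Over (Spec (CommRingCat.of K))} (a b : P ⟶ G) (p : P.left)
    (ha : a.left p ∈ closure (Set.range ψ.left)) (hb : b.left p ∈ closure (Set.range ψ.left)) :
    (a * b).left p ∈ closure (Set.range ψ.left) := by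
  have step : ∀ {Q : Over (Spec (CommRingCat.of K))} (c : Q ⟶ H) (d : Q ⟶ G) (q : Q.left),
      d.left q ∈ closure (Set.range ψ.left) →
      ((c ≫ ψ) * d).left q ∈ closure (Set.range ψ.left) := by
    intro Q c d q hd
    let M : Q ⊗ G ⟶ G := (c ≫ ψ) ▷ G ≫ μ[G]
    have hM : lift (𝟙 Q) d ≫ M = (c ≫ ψ) * d := by simp [M, mul_eq_lift]
    rw [← hM, comp_left_apply]
    have hmem : (lift (𝟙 Q) d).left q ∈ (snd Q G).left ⁻¹' closure (Set.range ψ.left) := by
      rw [Set.mem_preimage, ← comp_left_apply, lift_snd]; exact hd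
    rw [preimage_closure_range] at hmem
    refine map_mem_closure M.left.continuous hmem ?_
    rw [← range_whiskerLeft]
    rintro - ⟨v, rfl⟩
    refine ⟨((fst Q H ≫ c) * snd Q H).left v, ?_⟩
    rw [← comp_left_apply, ← comp_left_apply, MonObj.mul_comp]
    congr 2
    simp [M, whiskerRight_mul, MonObj.comp_mul]
  -- reduce to a one-point test scheme
  set e := ptHom P p
  obtain ⟨p₀⟩ : Nonempty (ptOver P p).left := inferInstanceAs (Nonempty (PrimeSpectrum _))
  have hp₀ : e.left p₀ = p := ptHom_apply P p p₀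
  let M : ptOver P p ⊗ G ⟶ G := snd _ _ * (fst _ _ ≫ e ≫ b)
  have hab : lift (𝟙 _) (e ≫ a) ≫ M = e ≫ (a * b) := by
    simp [M, MonObj.comp_mul]
  rw [← hp₀, ← comp_left_apply, ← hab, comp_left_apply]
  have hmem : (lift (𝟙 _) (e ≫ a)).left p₀ ∈
      (snd (ptOver P p) G).left ⁻¹' closure (Set.range ψ.left) := by
    rw [Set.mem_preimage, ← comp_left_apply, lift_snd, comp_left_apply, hp₀]; exact ha
  rw [preimage_closure_range] at hmem
  refine closure_minimal ?_ (isClosed_closure.preimage M.left.continuous) hmem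
  rw [← range_whiskerLeft]
  rintro - ⟨v, rfl⟩
  rw [Set.mem_preimage, ← comp_left_apply]
  have hM : (ptOver P p ◁ ψ) ≫ M = (snd _ H ≫ ψ) * (fst _ H ≫ e ≫ b) := by
    simp [M, MonObj.comp_mul]
  rw [hM]
  refine step _ _ v ?_
  rw [comp_left_apply, comp_left_apply]
  simp only [e, ptHom_apply]
  exact hb

lemma inv_mem_closure_range {P : Over (Spec (CommRingCat.of K))} (a : P ⟶ G) (p : P.left)
    (ha : a.left p ∈ closure (Set.range ψ.left)) : a⁻¹.left p ∈ closure (Set.range ψ.left) := by
  rw [Hom.inv_def, comp_left_apply]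
  refine map_mem_closure ι[G].left.continuous ha ?_
  rintro - ⟨h, rfl⟩
  exact ⟨ι[H].left h, by rw [← comp_left_apply, GrpObj.inv_hom, comp_left_apply]⟩

lemma one_mem_range {P : Over (Spec (CommRingCat.of K))} (p : P.left) :
    (1 : P ⟶ G).left p ∈ Set.range ψ.left :=
  ⟨(1 : P ⟶ H).left p, by rw [← comp_left_apply, MonObj.one_comp]⟩

/-- A homomorphism with locally closed image has closed image. -/
lemma isClosed_range_of_isLocallyClosed_range (h : IsLocallyClosed (Set.range ψ.left)) :
    IsClosed (Set.range ψ.left) := by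
  obtain ⟨O, Z, hO, hZ, hR⟩ := h
  have hR' : Set.range ψ.left = closure (Set.range ψ.left) ∩ O := by
    refine Set.Subset.antisymm (fun y hy => ⟨subset_closure hy, (hR.le hy).1⟩) fun y hy => ?_
    rw [hR]
    exact ⟨hy.2, closure_minimal (hR.le.trans Set.inter_subset_right) hZ hy.1⟩
  rw [← closure_subset_iff_isClosed]
  intro x hx
  set T := ptOver G x
  set t : T ⟶ G := ptHom G x
  set σ : T ⊗ G ≅ T ⊗ G := shearLeft t
  have hσ : IsIso σ.hom.left := inferInstanceAs (IsIso ((Over.forget _).map σ.hom))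
  have hopen : IsOpen (σ.hom.left '' ((snd T G).left ⁻¹' O)) :=
    σ.hom.left.homeomorph.isOpenMap _ (hO.preimage (snd T G).left.continuous)
  obtain ⟨p₀⟩ : Nonempty T.left := inferInstanceAs (Nonempty (PrimeSpectrum _))
  -- the image of `(p₀, 1)` under the shear
  set z := σ.hom.left ((lift (𝟙 T) (1 : T ⟶ G)).left p₀)
  have hzU : z ∈ σ.hom.left '' ((snd T G).left ⁻¹' O) := by
    refine ⟨_, ?_, rfl⟩
    rw [Set.mem_preimage, ← comp_left_apply, lift_snd]
    exact (hR'.le (one_mem_range ψ p₀)).2
  have hzx : (snd T G).left z = x := by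
    simp only [z, ← comp_left_apply, Category.assoc, σ, shearLeft_hom_snd, whiskerRight_mul,
      MonObj.comp_mul, lift_fst_assoc, lift_snd, _root_.mul_one, Category.id_comp]
    exact ptHom_apply G x p₀
  have hz : z ∈ closure ((snd T G).left ⁻¹' Set.range ψ.left) := by
    rw [← preimage_closure_range, Set.mem_preimage, hzx]; exact hx
  obtain ⟨-, ⟨w, hw, rfl⟩, h', hh'⟩ := mem_closure_iff.1 hz _ hopen hzU
  -- `t * g` lies in the image, where `g` lies in `O`
  obtain ⟨P, p, u, v, huv, hu, hv⟩ := exists_common_point (σ.hom ≫ snd T G) ψ w h'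
    (by rw [comp_left_apply]; exact hh'.symm)
  simp only [σ, shearLeft_hom_snd, whiskerRight_mul, MonObj.comp_mul, ← Category.assoc u] at huv
  have hmem : (u ≫ snd T G).left p ∈ closure (Set.range ψ.left) := by
    have e : u ≫ snd T G = ((u ≫ fst T G) ≫ t)⁻¹ * (v ≫ ψ) := by
      rw [← huv, inv_mul_cancel_left]
    rw [e]
    refine mul_mem_closure_range ψ _ _ p (inv_mem_closure_range ψ _ p ?_) (subset_closure ⟨_, rfl⟩)
    rw [comp_left_apply]
    rw [show t = ptHom G x from rfl, ptHom_apply G x ((u ≫ fst T G).left p)]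
    exact hx
  have hg : (u ≫ snd T G).left p ∈ Set.range ψ.left :=
    hR'.ge ⟨hmem, by rw [comp_left_apply, hu]; exact hw⟩
  obtain ⟨h'', hh''⟩ := hg
  obtain ⟨Q, q, a, b, hab, ha, hb⟩ := exists_common_point (u ≫ snd T G) ψ p h'' hh''.symm
  refine ⟨((a ≫ v) * b⁻¹).left q, ?_⟩
  have e : ((a ≫ v) * b⁻¹) ≫ ψ = ((a ≫ u) ≫ fst T G) ≫ t := by
    rw [MonObj.mul_comp, GrpObj.inv_comp, Category.assoc, ← huv, MonObj.comp_mul, ← hab,
      mul_inv_cancel_right]
    simp only [Category.assoc]
  rw [← comp_left_apply, e, comp_left_apply]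
  exact ptHom_apply G x _

end hom

end Groth.Agent.GrpSch
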