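import Groth.Agent.GrpSch.FlatPoint
import Groth.Agent.GrpSch.Component
import Groth.Agent.GrpSch.FieldTop
import Groth.Agent.GrpSch.Action
import Mathlib.AlgebraicGeometry.Morphisms.Flat
import Mathlib.RingTheory.KrullDimension.Zero

/-! Homomorphisms onto reduced group schemes over a field are flat. -/

set_option autoImplicit false
set_option backward.isDefEq.respectTransparency.types false

universe u

open CategoryTheory MonoidalCategory CartesianMonoidalCategory MonObj GrpObj Limits AlgebraicGeometry

namespace Groth.Agent.GrpSch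

/-- Every morphism is flat at a point over a maximal point of a reduced target. -/
lemma flat_stalkMap_of_maximal {X Y : Scheme.{u}} [AlgebraicGeometry.IsReduced Y] (f : X ⟶ Y)
    (x : X) (h : ∀ z, z ⤳ f x → z = f x) : (f.stalkMap x).hom.Flat := by
  have hco : Order.coheight (f x) = 0 := by
    rw [Order.coheight_eq_zero]
    intro z hz
    rw [h z hz]
  have : Ring.KrullDimLE 0 (Y.presheaf.stalk (f x)) := krullDimLE_of_coheight_le hco.le
  have : _root_.IsReduced (Y.presheaf.stalk (f x)) := inferInstance
  let _ : Field (Y.presheaf.stalk (f x)) :=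
    (Ring.KrullDimLE.isField_of_isReduced (R := Y.presheaf.stalk (f x))).toField
  let _ : Algebra (Y.presheaf.stalk (f x)) (X.presheaf.stalk x) := (f.stalkMap x).hom.toAlgebra
  exact (inferInstance : Module.Flat (Y.presheaf.stalk (f x)) (X.presheaf.stalk x))

variable {K : Type u} [Field K] {G X : Over (Spec (CommRingCat.of K))}

/-- A morphism equivariant for transitive translations is flat everywhere if it is flat
somewhere. -/
theorem flat_of_transitive (f : G ⟶ X) (y₀ : G.left) (hη : (f.left.stalkMap y₀).hom.Flat)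
    (htr : ∀ (P : Over (Spec (CommRingCat.of K))) (a b : P ⟶ G),
      ∃ (θ : P ⊗ X ≅ P ⊗ X) (σ : P ⊗ G ≅ P ⊗ G),
        σ.hom ≫ (P ◁ f) = (P ◁ f) ≫ θ.hom ∧ lift (𝟙 P) b ≫ σ.hom = lift (𝟙 P) a) :
    Flat f.left := by
  refine Flat.of_stalkMap _ fun x => ?_
  obtain ⟨w, hw₁, hw₂⟩ := Scheme.Pullback.exists_preimage_pullback (f := G.hom) (g := G.hom) x y₀
    (Subsingleton.elim (α := PrimeSpectrum K) _ _)
  set P := ptOver (G ⊗ G) w
  set pt := ptHom (G ⊗ G) w
  obtain ⟨p⟩ : Nonempty P.left := inferInstanceAs (Nonempty (PrimeSpectrum _))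
  obtain ⟨θ, σ, hθσ, hab⟩ := htr P (pt ≫ fst G G) (pt ≫ snd G G)
  have : IsIso θ.hom.left := inferInstanceAs (IsIso ((Over.forget _).map θ.hom))
  have : IsIso σ.hom.left := inferInstanceAs (IsIso ((Over.forget _).map σ.hom))
  set z₀ := (lift (𝟙 P) (pt ≫ snd G G)).left p
  set z₁ := (lift (𝟙 P) (pt ≫ fst G G)).left p
  have hσz : σ.hom.left z₀ = z₁ := by rw [← comp_left_apply, hab]
  have hz₀ : (snd P G).left z₀ = y₀ := by
    rw [← comp_left_apply, lift_snd, comp_left_apply]
    exact (congrArg (snd G G).left (ptHom_apply _ _ p)).trans hw₂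
  have hz₁ : (snd P G).left z₁ = x := by
    rw [← comp_left_apply, lift_snd, comp_left_apply]
    exact (congrArg (fst G G).left (ptHom_apply _ _ p)).trans hw₁
  -- flat at `z₀`
  have h₀ : ((P ◁ f).left.stalkMap z₀).hom.Flat :=
    flat_stalkMap_of_isPullback (isPullback_left (isPullback_whiskerLeft P f)).flip z₀
      (hz₀.symm ▸ hη)
  -- flat at `z₁`
  have h₁ : ((P ◁ f).left.stalkMap z₁).hom.Flat := by
    have h : ((σ.hom.left ≫ (P ◁ f).left).stalkMap z₀).hom.Flat := by
      rw [show σ.hom.left ≫ (P ◁ f).left = (P ◁ f).left ≫ θ.hom.left from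
        congrArg (fun q : P ⊗ G ⟶ P ⊗ X => q.left) hθσ, Scheme.Hom.stalkMap_comp]
      exact (RingHom.Flat.respectsIso.cancel_left_isIso _ _).2 h₀
    rw [Scheme.Hom.stalkMap_comp] at h
    rw [← hσz]
    exact (RingHom.Flat.respectsIso.cancel_right_isIso _ _).1 h
  -- descend to `x`
  have hP : Flat (snd P G).left := property_snd P G inferInstance
  have hP' : Flat (snd P X).left := property_snd P X inferInstance
  have hc : (((snd P G).left ≫ f.left).stalkMap z₁).hom.Flat := by
    rw [show (snd P G).left ≫ f.left = (P ◁ f).left ≫ (snd P X).left from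
      congrArg (fun q : P ⊗ G ⟶ X => q.left) (whiskerLeft_snd P f).symm, Scheme.Hom.stalkMap_comp]
    exact RingHom.Flat.comp (Flat.stalkMap (snd P X).left _) h₁
  rw [← hz₁]
  exact flat_stalkMap_of_comp _ _ _ (Flat.stalkMap (snd P G).left z₁) hc

variable [GrpObj G]

/-- A surjective homomorphism onto a reduced group scheme over a field is flat. -/
theorem flat_hom_of_isReduced [GrpObj X] (f : G ⟶ X) [IsMonHom f]
    [AlgebraicGeometry.IsReduced X.left] [Surjective f.left] : Flat f.left := by
  let ξ := (irreducibleComponent_mem_irreducibleComponents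
    (η[X].left (IsLocalRing.closedPoint K))).1.genericPoint
  obtain ⟨η₀, hη₀⟩ := f.left.surjective ξ
  refine flat_of_transitive f η₀ (flat_stalkMap_of_maximal _ _ fun z hz => ?_) fun P a b => ?_
  · rw [hη₀] at hz ⊢
    have hξ := (irreducibleComponent_mem_irreducibleComponents
      (η[X].left (IsLocalRing.closedPoint K))).1.isGenericPoint_genericPoint
      (isClosed_irreducibleComponent)
    have hle : irreducibleComponent (η[X].left (IsLocalRing.closedPoint K)) ⊆ closure {z} :=
      fun y hy => (hz.trans (hξ.specializes hy)).mem_closure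
    exact ((irreducibleComponent_mem_irreducibleComponents
      (η[X].left (IsLocalRing.closedPoint K))).2 isIrreducible_singleton.closure hle
      |>.antisymm hle) |> fun h => (isGenericPoint_iff_specializes.2 fun y => by
        rw [specializes_iff_mem_closure, h]).eq hξ
  · refine ⟨shearLeft ((a * b⁻¹) ≫ f), shearLeft (a * b⁻¹), ?_, ?_⟩
    · apply CartesianMonoidalCategory.hom_ext
      · simp [shearLeft]
      · simp [shearLeft, MonObj.comp_mul, MonObj.mul_comp, GrpObj.inv_comp]
    · apply CartesianMonoidalCategory.hom_ext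
      · simp [shearLeft]
      · simp [shearLeft, MonObj.comp_mul, GrpObj.comp_inv]

end Groth.Agent.GrpSch
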