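import Groth.Agent.GrpSch.AntiKer
import Groth.Agent.GrpSch.FlatHom
import Groth.Agent.GrpSch.CharZero
import Groth.Agent.GrpSch.Desc
import Groth.Agent.GrpSch.Homogeneous
import Groth.Agent.GeomRed.Tensor
import Groth.Agent.FrobUH.Basic
import Groth.Agent.RedSepLib.Reduced
import Groth.Agent.GenFlat.FppfSource
import Groth.Agent.S3278
import Groth.Prelude.Def_Red

/-!
# Anti-affine group schemes are smooth
-/

set_option autoImplicit false
set_option backward.isDefEq.respectTransparency.types false

universe u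

open CategoryTheory MonoidalCategory CartesianMonoidalCategory MonObj GrpObj Limits AlgebraicGeometry

namespace Groth.Agent.GrpSch.AntiSmooth

section FrobN

variable (p : ℕ) [Fact p.Prime]

/-- iterated absolute Frobenius -/
noncomputable def frobN (X : Scheme.{u}) [FrobSch.IsCharP X p] : ℕ → (X ⟶ X)
  | 0 => 𝟙 X
  | n + 1 => FrobSch.frob X p ≫ frobN X n

lemma frobN_comp {X Y : Scheme.{u}} [FrobSch.IsCharP X p] [FrobSch.IsCharP Y p] (f : X ⟶ Y) (n : ℕ) :
    frobN p X n ≫ f = f ≫ frobN p Y n := by
  induction n with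
  | zero => simp [frobN]
  | succ n ih =>
    rw [frobN, frobN, Category.assoc, ih, ← Category.assoc, FrobSch.frob_comp, Category.assoc]

lemma frobN_apply (X : Scheme.{u}) [FrobSch.IsCharP X p] (n : ℕ) (x : X) : frobN p X n x = x := by
  induction n with
  | zero => simp [frobN]
  | succ n ih => rw [frobN, Scheme.Hom.comp_apply, FrobSch.frob_apply, ih]

lemma frobN_app_eq_zero (X : Scheme.{u}) [FrobSch.IsCharP X p] (n : ℕ) (U : X.Opens) (s : Γ(X, U))
    (hs : s ^ p ^ n = 0) : (frobN p X n).app U s = 0 := by
  induction n generalizing s with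
  | zero => simp only [pow_zero, pow_one] at hs; rw [hs, map_zero]
  | succ n ih =>
    have h := ih (s ^ p) (by rw [← pow_mul, ← pow_succ']; exact hs)
    rw [map_pow] at h
    exact (FrobSch.frob_app X p (frobN p X n ⁻¹ᵁ U) _).trans h

lemma isIso_frobN_spec (k : Type u) [Field k] [CharP k p] [PerfectField k] (n : ℕ) :
    IsIso (frobN p (Spec (CommRingCat.of k)) n) := by
  haveI := PerfectField.toPerfectRing (K := k) p
  haveI hb : IsIso (FrobSch.frob (Spec (CommRingCat.of k)) p) := by
    have h : IsIso (FrobSch.frob (Spec (CommRingCat.of k)) p).appTop := by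
      rw [ConcreteCategory.isIso_iff_bijective]
      let e := (Scheme.ΓSpecIso (CommRingCat.of k)).commRingCatIsoToRingEquiv
      have he : ⇑(FrobSch.frob (Spec (CommRingCat.of k)) p).appTop.hom = e.symm ∘ (frobenius k p) ∘ e := by
        funext s
        simp only [Function.comp_apply, frobenius_def, map_pow, RingEquiv.symm_apply_apply]
        exact FrobSch.frob_appTop _ p s
      change Function.Bijective ⇑(FrobSch.frob (Spec (CommRingCat.of k)) p).appTop.hom
      rw [he]
      exact e.symm.bijective.comp ((PerfectRing.bijective_frobenius).comp e.bijective)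
    exact (MorphismProperty.arrow_mk_iso_iff (MorphismProperty.isomorphisms Scheme.{u})
      (arrowIsoSpecΓOfIsAffine (FrobSch.frob (Spec (CommRingCat.of k)) p))).2
      (inferInstanceAs (IsIso (Spec.map (FrobSch.frob (Spec (CommRingCat.of k)) p).appTop)))
  induction n with
  | zero => simp only [frobN]; infer_instance
  | succ n ih => simp only [frobN]; infer_instance

end FrobN

variable {k : Type u} [Field k] (p : ℕ) [Fact p.Prime] [CharP k p]

/-- the Frobenius twist functor -/
noncomputable abbrev twist (n : ℕ) :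
    Over (Spec (CommRingCat.of k)) ⥤ Over (Spec (CommRingCat.of k)) :=
  Over.pullback (frobN p (Spec (CommRingCat.of k)) n)

lemma charP_left (X : Over (Spec (CommRingCat.of k))) : FrobSch.IsCharP X.left p :=
  FrobSch.IsCharP.of_hom X.hom p

/-- the relative Frobenius -/
noncomputable def rel (n : ℕ) (X : Over (Spec (CommRingCat.of k))) : X ⟶ (twist p n).obj X :=
  haveI := charP_left p X
  Over.homMk (pullback.lift (frobN p X.left n) X.hom (frobN_comp p X.hom n))
    (pullback.lift_snd _ _ _)

lemma rel_fst (n : ℕ) (X : Over (Spec (CommRingCat.of k))) :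
    haveI := charP_left p X
    (rel p n X).left ≫ pullback.fst X.hom (frobN p (Spec (CommRingCat.of k)) n) = frobN p X.left n :=
  pullback.lift_fst _ _ _

lemma rel_naturality (n : ℕ) {X Y : Over (Spec (CommRingCat.of k))} (f : X ⟶ Y) :
    rel p n X ≫ (twist p n).map f = f ≫ rel p n Y := by
  haveI := charP_left p X
  haveI := charP_left p Y
  apply Over.OverMorphism.ext
  apply pullback.hom_ext
  · simp only [rel, Over.comp_left, Category.assoc, Over.homMk_left, Over.pullback_map_left,
      pullback.lift_fst, pullback.lift_fst_assoc]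
    exact frobN_comp p f.left n
  · simp only [rel, Over.comp_left, Category.assoc, Over.homMk_left, Over.pullback_map_left,
      pullback.lift_snd, Over.w]

lemma isMonHom_rel (n : ℕ) (G : Over (Spec (CommRingCat.of k))) [GrpObj G] :
    letI : GrpObj ((twist p n).obj G) := Red.grpObj_bc _ G
    IsMonHom (rel p n G) := by
  let F := twist (k := k) p n
  have hδ : rel p n (G ⊗ G) ≫ Functor.OplaxMonoidal.δ F G G = rel p n G ⊗ₘ rel p n G := by
    apply CartesianMonoidalCategory.hom_ext
    · rw [Category.assoc, Functor.OplaxMonoidal.δ_fst, tensorHom_fst]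
      exact rel_naturality p n (fst G G)
    · rw [Category.assoc, Functor.OplaxMonoidal.δ_snd, tensorHom_snd]
      exact rel_naturality p n (snd G G)
  constructor
  · rw [← rel_naturality p n η[G]]
    change _ = Functor.LaxMonoidal.ε F ≫ F.map η[G]
    congr 1
    haveI : IsIso (Functor.OplaxMonoidal.η F) := inferInstance
    rw [← cancel_mono (Functor.OplaxMonoidal.η F)]
    exact toUnit_unique _ _
  · rw [← rel_naturality p n μ[G]]
    change _ = (rel p n G ⊗ₘ rel p n G) ≫ Functor.LaxMonoidal.μ F G G ≫ F.map μ[G]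
    rw [← hδ, Category.assoc, Functor.Monoidal.δ_μ_assoc]

/-- iterated relative Frobenius into the twist of the reduced subgroup -/
lemma exists_hom_to_reduced (N : Over (Spec (CommRingCat.of k))) [GrpObj N]
    [LocallyOfFiniteType N.hom] [QuasiCompact N.hom] (H : Over (Spec (CommRingCat.of k))) [GrpObj H]
    (i : H ⟶ N) [IsMonHom i] [IsClosedImmersion i.left] [Surjective i.left] :
    ∃ (n : ℕ) (q : N ⟶ (twist p n).obj H),
      (letI : GrpObj ((twist p n).obj H) := Red.grpObj_bc _ H; IsMonHom q) ∧ i ≫ q = rel p n H := by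
  haveI := charP_left p N
  haveI : IsLocallyNoetherian N.left := LocallyOfFiniteType.isLocallyNoetherian N.hom
  haveI : CompactSpace N.left := QuasiCompact.compactSpace_of_compactSpace N.hom
  obtain ⟨s, hs⟩ : ∃ s : Finset N.left.affineOpens, ⨆ U : s, (U.1 : N.left.Opens) = ⊤ := by
    obtain ⟨t, ht⟩ := isCompact_univ.elim_finite_subcover (fun U : N.left.affineOpens => (U.1 : Set N.left))
      (fun U => U.1.2) (fun x _ => Set.mem_iUnion.2 (by
        obtain ⟨_, ⟨U, hU, rfl⟩, hxU, -⟩ := N.left.isBasis_affineOpens.exists_subset_of_mem_open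
          (Set.mem_univ x) isOpen_univ
        exact ⟨⟨U, hU⟩, hxU⟩))
    refine ⟨t, eq_top_iff.2 fun x hx => ?_⟩
    obtain ⟨U, hU⟩ := Set.mem_iUnion.1 (ht hx)
    simp only [Set.mem_iUnion] at hU
    obtain ⟨hUt, hxU⟩ := hU
    exact TopologicalSpace.Opens.mem_iSup.2 ⟨⟨U, hUt⟩, hxU⟩
  have hnil : ∀ U : N.left.affineOpens, ∃ e, (i.left.ker.ideal U) ^ e = ⊥ := by
    intro U
    haveI : IsNoetherianRing Γ(N.left, U.1) := IsLocallyNoetherian.component_noetherian U
    have hle : i.left.ker.ideal U ≤ nilradical Γ(N.left, U.1) := by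
      intro s hs
      rw [mem_nilradical]
      rw [Scheme.Hom.ker_apply] at hs
      refine (Scheme.isNilpotent_iff_basicOpen_eq_bot_of_isCompact U.2.isCompact s).2 ?_
      ext x
      simp only [TopologicalSpace.Opens.coe_bot, Set.mem_empty_iff_false, iff_false]
      intro hx
      obtain ⟨y, rfl⟩ := i.left.surjective x
      have h1 : y ∈ i.left ⁻¹ᵁ N.left.basicOpen s := hx
      rw [Scheme.preimage_basicOpen, show i.left.app U.1 s = 0 from hs, Scheme.basicOpen_zero] at h1
      exact h1
    obtain ⟨e, he⟩ := (Ideal.FG.isNilpotent_iff_le_nilradical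
      ((isNoetherianRing_iff_ideal_fg _).1 ‹_› _)).2 hle
    exact ⟨e, he⟩
  choose e he using hnil
  let n := s.sup e + 1
  have hker : i.left.ker ≤ (frobN p N.left n).ker := by
    refine Scheme.IdealSheafData.le_of_iSup_eq_top (fun U : s => U.1) hs fun U => ?_
    intro t ht
    haveI : QuasiCompact (frobN p N.left n) := quasiCompact_of_compactSpace _
    rw [Scheme.Hom.ker_apply]
    refine frobN_app_eq_zero p N.left n _ t ?_
    have h1 : t ^ e U.1 = 0 := by
      have := Ideal.pow_mem_pow ht (e U.1)
      rwa [he] at this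
    have h2 : e U.1 ≤ p ^ n :=
      ((Finset.le_sup (f := e) U.2).trans (Nat.le_succ _)).trans (Nat.lt_pow_self (Fact.out : p.Prime).one_lt).le
    rw [← Nat.sub_add_cancel h2, pow_add, h1, mul_zero]
  let l := IsClosedImmersion.lift i.left (frobN p N.left n) hker
  have hl : l ≫ i.left = frobN p N.left n := IsClosedImmersion.lift_fac _ _ _
  have hlw : l ≫ H.hom = N.hom ≫ frobN p (Spec (CommRingCat.of k)) n := by
    rw [← Over.w i, ← Category.assoc, hl, frobN_comp]
  let q : N ⟶ (twist p n).obj H := Over.homMk (pullback.lift l N.hom hlw) (pullback.lift_snd _ _ _)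
  have hq : q ≫ (twist p n).map i = rel p n N := by
    apply Over.OverMorphism.ext
    apply pullback.hom_ext
    · simp only [q, rel, Over.comp_left, Category.assoc, Over.homMk_left, Over.pullback_map_left,
        pullback.lift_fst, pullback.lift_fst_assoc, hl]
    · simp only [q, rel, Over.comp_left, Category.assoc, Over.homMk_left, Over.pullback_map_left,
        pullback.lift_snd]
  haveI : Mono i := (Over.forget _).mono_of_mono_map (show Mono i.left from inferInstance)
  haveI : Mono ((twist p n).map i) := (twist p n).map_mono i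
  letI : GrpObj ((twist p n).obj H) := Red.grpObj_bc _ H
  letI : GrpObj ((twist p n).obj N) := Red.grpObj_bc _ N
  haveI : IsMonHom ((twist p n).map i) := Functor.map.instIsMonHom (f := i) (F := twist p n)
  haveI := isMonHom_rel p n N
  refine ⟨n, q, ⟨?_, ?_⟩, ?_⟩
  · rw [← cancel_mono ((twist p n).map i), Category.assoc, hq, IsMonHom.one_hom, IsMonHom.one_hom]
  · rw [← cancel_mono ((twist p n).map i), Category.assoc, hq, IsMonHom.mul_hom, Category.assoc,
      IsMonHom.mul_hom (f := (twist p n).map i), tensorHom_comp_tensorHom_assoc, hq]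
  · rw [← cancel_mono ((twist p n).map i), Category.assoc, hq, rel_naturality]

omit p [Fact p.Prime] [CharP k p] in
/-- the reduced subgroup scheme -/
lemma exists_reduced_subgroup [PerfectField k] (N : Over (Spec (CommRingCat.of k))) [GrpObj N] :
    ∃ (H : Over (Spec (CommRingCat.of k))) (_ : GrpObj H) (i : H ⟶ N), IsMonHom i ∧
      IsClosedImmersion i.left ∧ Surjective i.left ∧ AlgebraicGeometry.IsReduced H.left := by
  let Y := N.left.nilradical.subscheme
  let j : Y ⟶ N.left := N.left.nilradical.subschemeι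
  have hY : AlgebraicGeometry.IsReduced Y := RedSepLib.isReduced_nilradical
  have hr : Set.range j = Set.univ := by
    rw [Scheme.IdealSheafData.range_subschemeι, Scheme.support_nilradical]
    rfl
  haveI : IsClosedImmersion j := inferInstance
  haveI : Surjective j := ⟨Set.range_eq_univ.1 hr⟩
  let H : Over (Spec (CommRingCat.of k)) := Over.mk (j ≫ N.hom)
  let i : H ⟶ N := Over.homMk j rfl
  haveI : Mono i := (Over.forget _).mono_of_mono_map (show Mono i.left from inferInstanceAs (Mono j))
  have key : ∀ (T : Over (Spec (CommRingCat.of k))), AlgebraicGeometry.IsReduced T.left → ∀ (g : T ⟶ N),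
      ∃ a : T ⟶ H, a ≫ i = g := by
    intro T _ g
    obtain ⟨a, ha⟩ := exists_lift_of_isImmersion j g.left (by rw [hr]; exact Set.subset_univ _)
    refine ⟨Over.homMk a ?_, Over.OverMorphism.ext ha⟩
    change a ≫ j ≫ N.hom = T.hom
    rw [← Category.assoc, ha, Over.w g]
  haveI : AlgebraicGeometry.IsReduced H.left := hY
  have hHH : AlgebraicGeometry.IsReduced (H ⊗ H).left :=
    GeomRed.isReduced_pullback_of_perfectField H.hom H.hom
  have h1 : AlgebraicGeometry.IsReduced (𝟙_ (Over (Spec (CommRingCat.of k)))).left :=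
    inferInstanceAs (AlgebraicGeometry.IsReduced (Spec (CommRingCat.of k)))
  obtain ⟨e, he⟩ := key _ h1 η[N]
  obtain ⟨m, hm⟩ := key _ hHH ((fst H H ≫ i) * (snd H H ≫ i))
  obtain ⟨v, hv⟩ := key H hY i⁻¹
  obtain ⟨hg, hi⟩ := exists_grpObj_of_mono i ⟨e, he⟩
    (fun T a b => ⟨lift a b ≫ m, by rw [Category.assoc, hm, MonObj.comp_mul, lift_fst_assoc, lift_snd_assoc]⟩)
    (fun T a => ⟨a ≫ v, by rw [Category.assoc, hv, GrpObj.comp_inv]⟩)
  exact ⟨H, hg, i, hi, inferInstanceAs (IsClosedImmersion j), inferInstanceAs (Surjective j), hY⟩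

include p in
theorem isReduced_of_perfect [PerfectField k] (N : Over (Spec (CommRingCat.of k))) [GrpObj N]
    [LocallyOfFiniteType N.hom] [QuasiCompact N.hom]
    (hN : Function.Bijective ((Scheme.ΓSpecIso (CommRingCat.of k)).inv ≫ N.hom.appTop).hom) :
    AlgebraicGeometry.IsReduced N.left := by
  haveI := SepPoints.isSeparated_grp N
  haveI := Rigidity.isCommMonObj_of_bijective N hN
  obtain ⟨H, _, i, _, _, _, _⟩ := exists_reduced_subgroup N
  haveI : Mono i := (Over.forget _).mono_of_mono_map (show Mono i.left from inferInstance)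
  haveI : LocallyOfFiniteType H.hom := by rw [← Over.w i]; infer_instance
  haveI : QuasiCompact H.hom := by rw [← Over.w i]; infer_instance
  obtain ⟨n, q, hq, hiq⟩ := exists_hom_to_reduced p N H i
  haveI := charP_left p N
  haveI := charP_left p H
  haveI := isIso_frobN_spec p k n
  letI : GrpObj ((twist p n).obj H) := Red.grpObj_bc _ H
  haveI : IsMonHom q := hq
  haveI : IsIso (pullback.fst H.hom (frobN p (Spec (CommRingCat.of k)) n)) :=
    MorphismProperty.pullback_fst (P := MorphismProperty.isomorphisms Scheme.{u}) _ _ ‹_›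
  haveI : AlgebraicGeometry.IsReduced ((twist p n).obj H).left :=
    isReduced_of_isOpenImmersion (pullback.fst H.hom (frobN p (Spec (CommRingCat.of k)) n))
  haveI : LocallyOfFiniteType ((twist p n).obj H).hom :=
    MorphismProperty.pullback_snd (P := @LocallyOfFiniteType) _ _ inferInstance
  haveI : QuasiCompact ((twist p n).obj H).hom := MorphismProperty.pullback_snd (P := @QuasiCompact) _ _ inferInstance
  haveI : IsSeparated ((twist p n).obj H).hom := SepPoints.isSeparated_grp ((twist p n).obj H)
  -- `i ≫ q` is the Frobenius of `H`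
  haveI : IsMonHom (rel p n H) := hiq ▸ inferInstanceAs (IsMonHom (i ≫ q))
  haveI hrs : Surjective (rel p n H).left := ⟨fun y => by
    refine ⟨pullback.fst H.hom (frobN p (Spec (CommRingCat.of k)) n) y, ?_⟩
    apply (pullback.fst H.hom (frobN p (Spec (CommRingCat.of k)) n)).isOpenEmbedding.injective
    rw [← Scheme.Hom.comp_apply, rel_fst, frobN_apply]⟩
  haveI : Flat (rel p n H).left := flat_hom_of_isReduced (rel p n H)
  haveI : IsLocallyNoetherian ((twist p n).obj H).left := LocallyOfFiniteType.isLocallyNoetherian ((twist p n).obj H).hom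
  haveI : LocallyOfFiniteType (rel p n H).left := by
    have h : LocallyOfFiniteType ((rel p n H).left ≫ ((twist p n).obj H).hom) := by rw [Over.w]; infer_instance
    exact locallyOfFiniteType_of_comp (rel p n H).left ((twist p n).obj H).hom
  haveI : LocallyOfFinitePresentation (rel p n H).left := inferInstance
  -- the kernel of `q`
  obtain ⟨K, κ, hκ, hKq⟩ : ∃ (K : Over (Spec (CommRingCat.of k))) (κ : K ⟶ N),
      IsClosedImmersion κ.left ∧ IsPullback κ (toUnit K) q η[((twist p n).obj H)] := by
    have h := IsPullback.of_hasPullback q η[((twist p n).obj H)]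
    refine ⟨_, pullback.fst q η[((twist p n).obj H)], ?_, by rwa [toUnit_unique (pullback.snd q η[((twist p n).obj H)]) (toUnit _)] at h⟩
    haveI : IsClosedImmersion η[((twist p n).obj H)].left := by
      haveI : IsClosedImmersion (η[((twist p n).obj H)].left ≫ ((twist p n).obj H).hom) := by
        rw [Over.w η[((twist p n).obj H)]]; exact inferInstanceAs (IsClosedImmersion (𝟙 (Spec (CommRingCat.of k))))
      exact IsClosedImmersion.of_comp η[((twist p n).obj H)].left ((twist p n).obj H).hom
    exact MorphismProperty.of_isPullback (P := @IsClosedImmersion) (isPullback_left h).flip inferInstance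
  haveI : Mono κ := (Over.forget _).mono_of_mono_map (show Mono κ.left from inferInstance)
  obtain ⟨_, _⟩ := exists_grpObj_of_isKernel hKq
  haveI : LocallyOfFiniteType K.hom := by rw [← Over.w κ]; infer_instance
  haveI : QuasiCompact K.hom := by rw [← Over.w κ]; infer_instance
  haveI : Subsingleton K.left := ⟨fun a b => by
    apply κ.left.isClosedEmbedding.injective
    have h : ∀ c : K.left, q.left (κ.left c) = η[((twist p n).obj H)].left (IsLocalRing.closedPoint k) := fun c => by
      rw [← comp_left_apply, hKq.w, comp_left_apply]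
      congr 1
      exact Subsingleton.elim (α := PrimeSpectrum k) _ _
    obtain ⟨a', ha'⟩ := i.left.surjective (κ.left a)
    obtain ⟨b', hb'⟩ := i.left.surjective (κ.left b)
    have h2 : (rel p n H).left a' = (rel p n H).left b' := by
      rw [← hiq, comp_left_apply, comp_left_apply, ha', hb', h, h]
    have h3 := congrArg (pullback.fst H.hom (frobN p (Spec (CommRingCat.of k)) n)) h2
    rw [← Scheme.Hom.comp_apply, rel_fst, ← Scheme.Hom.comp_apply, rel_fst, frobN_apply, frobN_apply] at h3
    rw [← ha', ← hb', h3]⟩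
  haveI : IsAffine K.left := by
    rcases isEmpty_or_nonempty K.left with hK | ⟨⟨x⟩⟩
    · exact isAffine_of_isEmpty
    · obtain ⟨_, ⟨U, hU, rfl⟩, hxU, -⟩ := K.left.isBasis_affineOpens.exists_subset_of_mem_open
        (Set.mem_univ x) isOpen_univ
      have : U = ⊤ := top_le_iff.1 fun y _ => Subsingleton.elim x y ▸ hxU
      subst this
      haveI : IsAffine (⊤ : K.left.Opens).toScheme := hU
      exact IsAffine.of_isIso (Scheme.topIso K.left).inv
  -- `K ∩ H`
  obtain ⟨M, j, hj, hMq⟩ : ∃ (M : Over (Spec (CommRingCat.of k))) (j : M ⟶ H),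
      IsClosedImmersion j.left ∧ IsPullback j (toUnit M) (i ≫ q) η[((twist p n).obj H)] := by
    have h := IsPullback.of_hasPullback (i ≫ q) η[((twist p n).obj H)]
    refine ⟨_, pullback.fst (i ≫ q) η[((twist p n).obj H)], ?_, by rwa [toUnit_unique (pullback.snd (i ≫ q) η[((twist p n).obj H)]) (toUnit _)] at h⟩
    haveI : IsClosedImmersion η[((twist p n).obj H)].left := by
      haveI : IsClosedImmersion (η[((twist p n).obj H)].left ≫ ((twist p n).obj H).hom) := by
        rw [Over.w η[((twist p n).obj H)]]; exact inferInstanceAs (IsClosedImmersion (𝟙 (Spec (CommRingCat.of k))))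
      exact IsClosedImmersion.of_comp η[((twist p n).obj H)].left ((twist p n).obj H).hom
    exact MorphismProperty.of_isPullback (P := @IsClosedImmersion) (isPullback_left h).flip inferInstance
  haveI : Mono j := (Over.forget _).mono_of_mono_map (show Mono j.left from inferInstance)
  obtain ⟨_, _⟩ := exists_grpObj_of_isKernel hMq
  obtain ⟨m, hm⟩ : ∃ m : M ⟶ K, m ≫ κ = j ≫ i :=
    (isKernel_factors_iff hKq (j ≫ i)).2 (by
      rw [Category.assoc]; exact (isKernel_factors_iff hMq j).1 ⟨𝟙 M, Category.id_comp _⟩)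
  haveI : IsMonHom m := by
    constructor
    · rw [← cancel_mono κ, Category.assoc, hm, ← Category.assoc, IsMonHom.one_hom, IsMonHom.one_hom,
        IsMonHom.one_hom]
    · rw [← cancel_mono κ, Category.assoc, hm, ← Category.assoc, IsMonHom.mul_hom, Category.assoc,
        IsMonHom.mul_hom, tensorHom_comp_tensorHom_assoc, Category.assoc, IsMonHom.mul_hom (f := κ),
        tensorHom_comp_tensorHom_assoc, hm]
  haveI : IsClosedImmersion m.left := by
    haveI : IsClosedImmersion (m.left ≫ κ.left) := by
      rw [← Over.comp_left, hm, Over.comp_left]; infer_instance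
    exact IsClosedImmersion.of_comp m.left κ.left
  have hnorm : AlgGrp.IsNormalHom m := fun T g z => ⟨z, by
    apply (cancel_mono κ).1
    rw [MonObj.mul_comp, MonObj.mul_comp, GrpObj.inv_comp, mul_comm (g ≫ κ), mul_inv_cancel_right]⟩
  obtain ⟨R, _, π, _, hRa, hRf, hπf, hπs, hπk⟩ := Groth.Agent.S3278.result k K M m hnorm
  haveI := hRa
  haveI := SepPoints.isSeparated_grp R
  -- `H ⊗ K ⟶ N` is faithfully flat
  let mu : H ⊗ K ⟶ N := (fst H K ≫ i) * (snd H K ≫ κ)
  have hκq : κ ≫ q = 1 := (isKernel_factors_iff hKq κ).1 ⟨𝟙 K, Category.id_comp _⟩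
  have hsq : IsPullback mu (fst H K) q (i ≫ q) := by
    have w : mu ≫ q = fst H K ≫ i ≫ q := by
      simp only [mu, MonObj.mul_comp, Category.assoc, hκq, MonObj.comp_one, _root_.mul_one]
    have hex : ∀ s : PullbackCone q (i ≫ q), ∃ a : s.pt ⟶ K, a ≫ κ = (s.snd ≫ i)⁻¹ * s.fst := fun s =>
      (isKernel_factors_iff hKq _).2 (by
        rw [MonObj.mul_comp, GrpObj.inv_comp, s.condition, Category.assoc, inv_mul_cancel])
    choose a ha using hex
    refine IsPullback.of_isLimit' ⟨w⟩ (PullbackCone.IsLimit.mk _ (fun s => lift s.snd (a s))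
      (fun s => ?_) (fun s => lift_fst _ _) fun s f hf₁ hf₂ => ?_)
    · simp only [mu, MonObj.comp_mul, lift_fst_assoc, lift_snd_assoc, ha, mul_inv_cancel_left]
    · apply CartesianMonoidalCategory.hom_ext
      · rw [lift_fst]; exact hf₂
      · rw [lift_snd, ← cancel_mono κ, ha, ← hf₁, ← hf₂]
        simp only [mu, MonObj.comp_mul, Category.assoc, inv_mul_cancel_left]
  have hsql := (isPullback_left hsq).flip
  haveI : Flat mu.left := MorphismProperty.of_isPullback (P := @Flat) hsql (by rw [hiq]; infer_instance)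
  haveI : Surjective mu.left := MorphismProperty.of_isPullback (P := @Surjective) hsql (by rw [hiq]; infer_instance)
  haveI : LocallyOfFinitePresentation mu.left :=
    MorphismProperty.of_isPullback (P := @LocallyOfFinitePresentation) hsql (by rw [hiq]; infer_instance)
  -- the homomorphism to `R`
  obtain ⟨r, hr, -⟩ := Desc.exists_desc mu (snd H K ≫ π) (fun T a b hab => by
    simp only [mu, MonObj.comp_mul] at hab
    set h₁ := a ≫ fst H K
    set h₂ := b ≫ fst H K
    set x₁ := a ≫ snd H K
    set x₂ := b ≫ snd H K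
    have hab' : (h₁ ≫ i) * (x₁ ≫ κ) = (h₂ ≫ i) * (x₂ ≫ κ) := by simpa [h₁, h₂, x₁, x₂] using hab
    have hy : (h₂⁻¹ * h₁) ≫ i = (x₂ * x₁⁻¹) ≫ κ := by
      rw [MonObj.mul_comp, MonObj.mul_comp, GrpObj.inv_comp, GrpObj.inv_comp, inv_mul_eq_iff_eq_mul,
        ← _root_.mul_assoc, eq_mul_inv_iff_mul_eq, hab']
    obtain ⟨z, hz⟩ := (isKernel_factors_iff hMq (h₂⁻¹ * h₁)).2 (by
      rw [← Category.assoc, hy, Category.assoc, hκq, MonObj.comp_one])
    have hz' : z ≫ m = x₂ * x₁⁻¹ := by
      rw [← cancel_mono κ, Category.assoc, hm, ← Category.assoc, hz, hy]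
    have h1 : (x₂ * x₁⁻¹) ≫ π = 1 := (isKernel_factors_iff hπk _).1 ⟨z, hz'⟩
    rw [MonObj.mul_comp, GrpObj.inv_comp, mul_inv_eq_one] at h1
    simpa [x₁, x₂] using h1.symm)
  have hr1 : r = 1 := by
    haveI := AffEnv.compactSpace_left N
    haveI : IsIso (toUnit N).left.appTop := by
      haveI : IsIso ((Scheme.ΓSpecIso (CommRingCat.of k)).inv ≫ N.hom.appTop) :=
        (ConcreteCategory.isIso_iff_bijective _).2 hN
      haveI : IsIso N.hom.appTop := IsIso.of_isIso_comp_left (Scheme.ΓSpecIso (CommRingCat.of k)).inv _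
      rw [show (toUnit N).left = N.hom from (Category.comp_id _).symm.trans (Over.w (toUnit N))]
      infer_instance
    haveI : IsAffine (𝟙_ (Over (Spec (CommRingCat.of k)))).left := inferInstanceAs (IsAffine (Spec _))
    obtain ⟨g, hg, -⟩ := AffEnv.existsUnique_desc (toUnit N) r
    have h1 : η[N] ≫ r = η[R] := by
      have e : η[N] = lift (1 : _ ⟶ H) (1 : _ ⟶ K) ≫ mu := by
        simp only [mu, MonObj.comp_mul, lift_fst_assoc, lift_snd_assoc]
        rw [MonObj.one_comp, MonObj.one_comp, _root_.one_mul, Hom.one_def]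
        rw [toUnit_unique (toUnit (𝟙_ _)) (𝟙 _), Category.id_comp]
      rw [e, Category.assoc, hr, lift_snd_assoc, MonObj.one_comp, Hom.one_def,
        toUnit_unique (toUnit (𝟙_ _)) (𝟙 _), Category.id_comp]
    have hg' : g = η[R] := by
      rw [← h1, ← hg, ← Category.assoc, toUnit_unique (η[N] ≫ toUnit N) (𝟙 _), Category.id_comp]
    rw [← hg, hg', Hom.one_def]
  have hπ1 : π = 1 := by
    have := congrArg (fun φ => lift (1 : K ⟶ H) (𝟙 K) ≫ φ) hr
    rw [hr1] at this
    simpa using this.symm
  obtain ⟨z, hz⟩ := (isKernel_factors_iff hπk (𝟙 K)).2 (by rw [Category.id_comp, hπ1])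
  have hκ : κ = (z ≫ j) ≫ i := by rw [Category.assoc, ← hm, reassoc_of% hz]
  let w : H ⊗ K ⟶ H := fst H K * (snd H K ≫ z ≫ j)
  have hw : w ≫ i = mu := by
    simp only [w, mu, MonObj.mul_comp, Category.assoc, hκ]
  obtain ⟨s, hs, -⟩ := Desc.exists_desc mu w (fun T a b hab => by
    rw [← cancel_mono i, Category.assoc, Category.assoc, hw, hab])
  have hsi : s ≫ i = 𝟙 N := by
    haveI : Epi mu := Desc.epi_of_effectiveEpi_left mu
    rw [← cancel_epi mu, ← Category.assoc, hs, hw, Category.comp_id]
  haveI : IsIso i := ⟨s, by rw [← cancel_mono i, Category.assoc, hsi, Category.comp_id, Category.id_comp], hsi⟩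
  haveI : IsIso i.left := inferInstanceAs (IsIso ((Over.forget _).map i))
  exact isReduced_of_isOpenImmersion (inv i.left)

omit p [Fact p.Prime] [CharP k p] in
/-- anti-affine group schemes are smooth -/
theorem smooth (N : Over (Spec (CommRingCat.of k))) [GrpObj N]
    [LocallyOfFiniteType N.hom] [QuasiCompact N.hom]
    (hN : Function.Bijective ((Scheme.ΓSpecIso (CommRingCat.of k)).inv ≫ N.hom.appTop).hom) :
    Smooth N.hom := by
  let Ω : Type u := AlgebraicClosure k
  let g : Spec (CommRingCat.of Ω) ⟶ Spec (CommRingCat.of k) :=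
    Spec.map (CommRingCat.ofHom (algebraMap k Ω))
  let Nb : Over (Spec (CommRingCat.of Ω)) := Red.bc g N
  letI : GrpObj Nb := Red.grpObj_bc g N
  haveI : LocallyOfFiniteType Nb.hom := MorphismProperty.pullback_snd _ _ ‹LocallyOfFiniteType N.hom›
  haveI : QuasiCompact Nb.hom := MorphismProperty.pullback_snd _ _ ‹QuasiCompact N.hom›
  have hNb : Function.Bijective ((Scheme.ΓSpecIso (CommRingCat.of Ω)).inv ≫ Nb.hom.appTop).hom := by
    haveI := AffEnv.compactSpace_left N
    haveI := AffEnv.quasiSeparatedSpace_left N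
    let Y : Over (Spec (CommRingCat.of k)) := Over.mk g
    haveI : CompactSpace Y.left := inferInstanceAs (CompactSpace (PrimeSpectrum Ω))
    haveI : QuasiSeparatedSpace Y.left := inferInstanceAs (QuasiSeparatedSpace (Spec (CommRingCat.of Ω)))
    haveI : IsIso ((Scheme.ΓSpecIso (CommRingCat.of k)).inv ≫ N.hom.appTop) :=
      (ConcreteCategory.isIso_iff_bijective _).2 hN
    haveI : IsIso N.hom.appTop := IsIso.of_isIso_comp_left (Scheme.ΓSpecIso (CommRingCat.of k)).inv _
    have h := AffEnv.isPushout_appTop N Y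
    haveI : IsIso (snd N Y).left.appTop := h.isIso_inr_of_isIso
    haveI : IsIso Nb.hom.appTop := inferInstanceAs (IsIso (snd N Y).left.appTop)
    exact ConcreteCategory.bijective_of_isIso ((Scheme.ΓSpecIso (CommRingCat.of Ω)).inv ≫ Nb.hom.appTop)
  haveI : Smooth Nb.hom := by
    rcases CharP.exists' Ω with h | ⟨q, hq, hq'⟩
    · exact smooth_of_charZero Nb
    · haveI := isReduced_of_perfect q Nb hNb
      exact smooth_of_perfectField Nb
  apply MorphismProperty.of_pullback_snd_of_descendsAlong
    (Q := @Surjective ⊓ @Flat ⊓ @QuasiCompact) (g := g) (f := N.hom)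
  · exact ⟨⟨inferInstance, inferInstance⟩, inferInstance⟩
  · exact ‹Smooth Nb.hom›

end Groth.Agent.GrpSch.AntiSmooth
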