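import Groth.Agent.GrpSch.OverBase
import Groth.Prelude.Def_AlgGrp
import Mathlib.AlgebraicGeometry.Morphisms.LocalFlatDescent

/-!
# `G ⊗ N ≅ G ×_Q G` for the kernel `N` of `q : G ⟶ Q`
-/

set_option autoImplicit false

universe u

open CategoryTheory MonoidalCategory CartesianMonoidalCategory MonObj GrpObj Limits AlgebraicGeometry

namespace Groth.Agent.GrpSch.KernelSquare

variable {S : Scheme.{u}} {N G Q : Over S} [GrpObj G] [GrpObj Q] (i : N ⟶ G) (q : G ⟶ Q) [IsMonHom q]

theorem isPullback (hk : AlgGrp.IsKernel i q) :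
    IsPullback (fst G N) (fst G N * (snd G N ≫ i)) q q := by
  have hi : ∀ {T : Over S} (n : T ⟶ N), n ≫ i ≫ q = 1 := fun n => by
    rw [hk.w, ← Category.assoc, comp_toUnit, Hom.one_def]
  have hn : ∀ s : PullbackCone q q, (s.fst⁻¹ * s.snd) ≫ q = toUnit _ ≫ η[Q] := fun s => by
    rw [MonObj.mul_comp, GrpObj.inv_comp, s.condition, inv_mul_cancel, Hom.one_def]
  refine IsPullback.of_isLimit' ⟨?_⟩ (PullbackCone.IsLimit.mk _
    (fun s => lift s.fst (hk.lift _ (toUnit _) (hn s))) (fun s => lift_fst _ _) (fun s => ?_)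
    (fun s m h1 h2 => ?_))
  · rw [MonObj.mul_comp, Category.assoc, hi, _root_.mul_one]
  · rw [MonObj.comp_mul, lift_fst, lift_snd_assoc, hk.lift_fst, mul_inv_cancel_left]
  · apply CartesianMonoidalCategory.hom_ext
    · rw [lift_fst]; exact h1
    · rw [lift_snd]
      refine hk.hom_ext ?_ (toUnit_unique _ _)
      rw [hk.lift_fst, ← h2, ← h1, MonObj.comp_mul, inv_mul_cancel_left, Category.assoc]

/-- a faithfully flat quasi-compact homomorphism with smooth kernel is smooth -/
theorem smooth_of_kernel (hk : AlgGrp.IsKernel i q) [Smooth N.hom] [Flat q.left] [Surjective q.left]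
    [QuasiCompact q.left] : Smooth q.left := by
  haveI : Smooth (fst G N).left := property_fst G N ‹_›
  exact MorphismProperty.of_isPullback_of_descendsAlong
    (P := @Smooth) (Q := @Surjective ⊓ @Flat ⊓ @QuasiCompact)
    (isPullback_left (isPullback i q hk)) ⟨⟨‹_›, ‹_›⟩, ‹_›⟩ ‹_›

end Groth.Agent.GrpSch.KernelSquare
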