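import Groth.Agent.GrpSch.FieldTop
import Mathlib.AlgebraicGeometry.AlgClosed.Basic

/-! Rational points and translations for group schemes over fields. -/

set_option autoImplicit false
set_option backward.isDefEq.respectTransparency.types false

universe u

open CategoryTheory MonoidalCategory CartesianMonoidalCategory MonObj GrpObj Limits AlgebraicGeometry

namespace Groth.Agent.GrpSch

variable {K : Type u} [Field K]

/-- Over an algebraically closed field, every closed point is a rational point. -/
lemma exists_ratPoint [IsAlgClosed K] (X : Over (Spec (CommRingCat.of K)))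
    [LocallyOfFiniteType X.hom] {x : X.left} (hx : IsClosed {x}) :
    ∃ p : 𝟙_ (Over (Spec (CommRingCat.of K))) ⟶ X, p.left (IsLocalRing.closedPoint K) = x :=
  ⟨Over.homMk (pointOfClosedPoint X.hom x hx) (pointOfClosedPoint_comp X.hom x hx),
    pointOfClosedPoint_apply X.hom x hx _⟩

/-- Over an algebraically closed field, a nonempty open contains a rational point. -/
lemma exists_ratPoint_mem [IsAlgClosed K] (X : Over (Spec (CommRingCat.of K)))
    [LocallyOfFiniteType X.hom] {U : Set X.left} (hU : IsOpen U) (hne : U.Nonempty) :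
    ∃ p : 𝟙_ (Over (Spec (CommRingCat.of K))) ⟶ X, p.left (IsLocalRing.closedPoint K) ∈ U := by
  have : JacobsonSpace X.left := LocallyOfFiniteType.jacobsonSpace X.hom
  obtain ⟨x, hxU, hx⟩ := nonempty_inter_closedPoints (X := X.left) hne hU.isLocallyClosed
  obtain ⟨p, rfl⟩ := exists_ratPoint X hx
  exact ⟨p, hxU⟩

variable {G : Over (Spec (CommRingCat.of K))} [GrpObj G]

/-- Left translation by a rational point. -/
noncomputable def translate (g : 𝟙_ (Over (Spec (CommRingCat.of K))) ⟶ G) : G ≅ G where
  hom := (toUnit G ≫ g) * 𝟙 G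
  inv := (toUnit G ≫ g)⁻¹ * 𝟙 G
  hom_inv_id := by
    simp only [MonObj.comp_mul, GrpObj.comp_inv, comp_toUnit_assoc, Category.comp_id]
    rw [inv_mul_cancel_left]
  inv_hom_id := by
    simp only [MonObj.comp_mul, comp_toUnit_assoc, Category.comp_id]
    rw [mul_inv_cancel_left]

lemma comp_translate (g : 𝟙_ (Over (Spec (CommRingCat.of K))) ⟶ G)
    {T : Over (Spec (CommRingCat.of K))} (a : T ⟶ G) :
    a ≫ (translate g).hom = (toUnit T ≫ g) * a := by
  simp [translate, MonObj.comp_mul]

lemma comp_translate_inv (g : 𝟙_ (Over (Spec (CommRingCat.of K))) ⟶ G)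
    {T : Over (Spec (CommRingCat.of K))} (a : T ⟶ G) :
    a ≫ (translate g).inv = (toUnit T ≫ g)⁻¹ * a := by
  simp [translate, MonObj.comp_mul, GrpObj.comp_inv]

lemma isOpenMap_iso {X Y : Over (Spec (CommRingCat.of K))} (e : X ≅ Y) : IsOpenMap e.hom.left := by
  have : IsIso e.hom.left := inferInstanceAs (IsIso ((Over.forget _).map e.hom))
  exact e.hom.left.homeomorph.isOpenMap

lemma eq_one_unit : η[G] = (1 : 𝟙_ (Over (Spec (CommRingCat.of K))) ⟶ G) := by
  rw [one_eq_toUnit, toUnit_unique (toUnit (𝟙_ _)) (𝟙 _), Category.id_comp]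

lemma translate_one_apply (g : 𝟙_ (Over (Spec (CommRingCat.of K))) ⟶ G) :
    (translate g).hom.left (η[G].left (IsLocalRing.closedPoint K)) =
      g.left (IsLocalRing.closedPoint K) := by
  have h : η[G] ≫ (translate g).hom = g := by
    rw [comp_translate, eq_one_unit, _root_.mul_one, toUnit_unique (toUnit (𝟙_ _)) (𝟙 _),
      Category.id_comp]
  exact congrArg (fun t : 𝟙_ _ ⟶ G => t.left (IsLocalRing.closedPoint K)) h

end Groth.Agent.GrpSch
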