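import Groth.Agent.GrpSch.Orbit
import Groth.Agent.GrpSch.Points
import Mathlib.AlgebraicGeometry.Noetherian

/-! Orbits of rational points; closed orbits; images of homomorphisms. -/

set_option autoImplicit false
set_option backward.isDefEq.respectTransparency.types false

universe u

open CategoryTheory MonoidalCategory CartesianMonoidalCategory MonObj GrpObj Limits AlgebraicGeometry Topology

namespace Groth.Agent.GrpSch

variable {K : Type u} [Field K] {G X : Over (Spec (CommRingCat.of K))}

lemma isLocallyConstructible_range (f : G ⟶ X) [LocallyOfFiniteType G.hom]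
    [LocallyOfFiniteType X.hom] [QuasiCompact f.left] :
    IsLocallyConstructible (Set.range f.left) := by
  have : IsLocallyNoetherian X.left := LocallyOfFiniteType.isLocallyNoetherian X.hom
  have : LocallyOfFiniteType f.left := by
    have : LocallyOfFiniteType (f.left ≫ X.hom) := by rw [Over.w f]; infer_instance
    exact locallyOfFiniteType_of_comp f.left X.hom
  rw [← Set.image_univ]
  exact f.left.isLocallyConstructible_image IsLocallyConstructible.univ

lemma quasiCompact_left (f : G ⟶ X) [QuasiCompact G.hom] [LocallyOfFiniteType X.hom] :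
    QuasiCompact f.left := by
  have : IsLocallyNoetherian X.left := LocallyOfFiniteType.isLocallyNoetherian X.hom
  have : QuasiCompact (f.left ≫ X.hom) := by rw [Over.w f]; infer_instance
  have : QuasiSeparated X.hom :=
    (quasiSeparated_iff_quasiSeparatedSpace X.hom).2 inferInstance
  exact QuasiCompact.of_comp f.left X.hom

variable [GrpObj G]

lemma comp_orbitMap (a : AlgGrp.Action G X) (x : 𝟙_ (Over (Spec (CommRingCat.of K))) ⟶ X)
    {T : Over (Spec (CommRingCat.of K))} (g : T ⟶ G) :
    g ≫ a.orbitMap x = lift g (toUnit T ≫ x) ≫ a.act := by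
  simp [AlgGrp.Action.orbitMap, comp_lift_assoc]

lemma mul_orbitMap (a : AlgGrp.Action G X) (x : 𝟙_ (Over (Spec (CommRingCat.of K))) ⟶ X)
    {T : Over (Spec (CommRingCat.of K))} (g h : T ⟶ G) :
    (g * h) ≫ a.orbitMap x = lift g (h ≫ a.orbitMap x) ≫ a.act := by
  rw [comp_orbitMap, comp_orbitMap, act_mul]

/-- The orbit of a rational point is locally closed. -/
theorem isLocallyClosed_orbit [LocallyOfFiniteType G.hom] [QuasiCompact G.hom]
    [LocallyOfFiniteType X.hom] (a : AlgGrp.Action G X)
    (x : 𝟙_ (Over (Spec (CommRingCat.of K))) ⟶ X) :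
    IsLocallyClosed (Set.range (a.orbitMap x).left) :=
  have := quasiCompact_left (a.orbitMap x)
  isLocallyClosed_range_orbit a _ (fun _ g h => mul_orbitMap a x g h)
    (isLocallyConstructible_range _)

/-- A group acts on any group under it by left translations. -/
@[reducible]
noncomputable def translationAction {H : Over (Spec (CommRingCat.of K))} [GrpObj H] (ψ : H ⟶ G) [IsMonHom ψ] :
    AlgGrp.Action H G where
  act := (fst H G ≫ ψ) * snd H G
  one_act := by
    rw [MonObj.comp_mul, whiskerRight_fst_assoc, whiskerRight_snd, IsMonHom.one_hom,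
      toUnit_unique (fst (𝟙_ _) G) (toUnit _), ← one_eq_toUnit, _root_.one_mul, leftUnitor_hom]
  mul_act := by
    have hμ : μ[H] ≫ ψ = (fst H H ≫ ψ) * (snd H H ≫ ψ) := by
      rw [IsMonHom.mul_hom, mul_eq_lift]
      congr 1
    simp only [MonObj.comp_mul, whiskerRight_fst_assoc, whiskerRight_snd, whiskerLeft_fst_assoc,
      whiskerLeft_snd, associator_hom_fst_assoc, associator_hom_snd_snd, hμ,
      associator_hom_snd_fst_assoc]
    rw [_root_.mul_assoc]

/-- A quasi-compact homomorphism of group schemes locally of finite type has closed image. -/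
theorem isClosed_range_hom {H : Over (Spec (CommRingCat.of K))} [GrpObj H] (ψ : H ⟶ G) [IsMonHom ψ]
    [LocallyOfFiniteType H.hom] [LocallyOfFiniteType G.hom] [QuasiCompact ψ.left] :
    IsClosed (Set.range ψ.left) := by
  refine isClosed_range_of_isLocallyClosed_range ψ ?_
  refine isLocallyClosed_range_orbit (translationAction ψ) ψ (fun T g h => ?_)
    (isLocallyConstructible_range ψ)
  rw [MonObj.comp_mul, lift_fst_assoc, lift_snd, MonObj.mul_comp]

/-- Over an algebraically closed field some orbit is closed. -/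
theorem exists_isClosed_orbit [IsAlgClosed K] [LocallyOfFiniteType G.hom] [QuasiCompact G.hom]
    [LocallyOfFiniteType X.hom] [QuasiCompact X.hom] [Nonempty X.left] (a : AlgGrp.Action G X) :
    ∃ x : 𝟙_ (Over (Spec (CommRingCat.of K))) ⟶ X, IsClosed (Set.range (a.orbitMap x).left) := by
  have : IsLocallyNoetherian X.left := LocallyOfFiniteType.isLocallyNoetherian X.hom
  have : CompactSpace X.left := QuasiCompact.compactSpace_of_compactSpace X.hom
  have : IsNoetherian X.left := {}
  have : JacobsonSpace X.left := LocallyOfFiniteType.jacobsonSpace X.hom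
  have : JacobsonSpace G.left := LocallyOfFiniteType.jacobsonSpace G.hom
  let orb := fun x : 𝟙_ (Over (Spec (CommRingCat.of K))) ⟶ X => Set.range (a.orbitMap x).left
  let C := fun x => (⟨closure (orb x), isClosed_closure⟩ : TopologicalSpace.Closeds X.left)
  obtain ⟨x₀, -⟩ := exists_ratPoint_mem X isOpen_univ Set.univ_nonempty
  obtain ⟨-, ⟨x, rfl⟩, hmin⟩ := wellFounded_lt.has_min (Set.range C) ⟨_, x₀, rfl⟩
  refine ⟨x, ?_⟩
  change IsClosed (orb x)
  by_contra hcl
  have hne : (closure (orb x) \ orb x).Nonempty :=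
    Set.sdiff_nonempty.2 fun h => hcl (closure_subset_iff_isClosed.1 h)
  have hlc : IsLocallyClosed (closure (orb x) \ orb x) := by
    obtain ⟨O, Z, hO, hZ, h⟩ := isLocallyClosed_orbit a x
    refine ⟨Set.univ, closure (orb x) \ O, isOpen_univ, isClosed_closure.sdiff hO, ?_⟩
    rw [Set.univ_inter]
    ext z
    constructor
    · rintro ⟨hz, hz'⟩
      exact ⟨hz, fun hzO => hz' (h.ge ⟨hzO, closure_minimal (h.le.trans Set.inter_subset_right) hZ hz⟩)⟩
    · rintro ⟨hz, hz'⟩
      exact ⟨hz, fun hzR => hz' (h.le hzR).1⟩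
  obtain ⟨y₀, hy₀, hy₀c⟩ := nonempty_inter_closedPoints (X := X.left) hne hlc
  obtain ⟨y, rfl⟩ := exists_ratPoint X hy₀c
  -- translations by rational points preserve the closure of the orbit
  have hinv : ∀ g : 𝟙_ _ ⟶ G, ∀ z ∈ closure (orb x),
      (lift (toUnit X ≫ g) (𝟙 X) ≫ a.act).left z ∈ closure (orb x) := by
    intro g z hz
    refine map_mem_closure (lift (toUnit X ≫ g) (𝟙 X) ≫ a.act).left.continuous hz ?_
    rintro _ ⟨h, rfl⟩
    refine ⟨((toUnit G ≫ g) * 𝟙 G).left h, ?_⟩
    rw [← comp_left_apply, ← comp_left_apply, mul_orbitMap, Category.id_comp, comp_lift_assoc,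
      comp_toUnit_assoc, Category.comp_id]
  have hsub : orb y ⊆ closure (orb x) := by
    rintro _ ⟨g, rfl⟩
    by_contra hg
    obtain ⟨g', hg', hg'c⟩ := nonempty_inter_closedPoints (X := G.left)
      (Z := (a.orbitMap y).left ⁻¹' (closure (orb x))ᶜ) ⟨g, hg⟩
      (isClosed_closure.isOpen_compl.preimage (a.orbitMap y).left.continuous).isLocallyClosed
    obtain ⟨g'', rfl⟩ := exists_ratPoint G hg'c
    apply hg'
    have h := hinv g'' _ hy₀.1
    rw [← comp_left_apply, comp_lift_assoc, comp_toUnit_assoc, Category.comp_id] at h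
    change (a.orbitMap y).left (g''.left (IsLocalRing.closedPoint K)) ∈ closure (orb x)
    rw [← comp_left_apply, comp_orbitMap]
    rwa [toUnit_unique (toUnit (𝟙_ _)) (𝟙 _), Category.id_comp] at h ⊢
  have hdisj : Disjoint (orb y) (orb x) := by
    rw [Set.disjoint_left]
    intro z hzy hzx
    obtain ⟨g₀, rfl⟩ := hzy
    obtain ⟨g', hg', hg'c⟩ := nonempty_inter_closedPoints (X := G.left)
      (Z := (a.orbitMap y).left ⁻¹' orb x) ⟨g₀, hzx⟩
      ((isLocallyClosed_orbit a x).preimage (a.orbitMap y).left.continuous)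
    obtain ⟨g, rfl⟩ := exists_ratPoint G hg'c
    set gy := g ≫ a.orbitMap y
    have hgyc : IsClosed ({gy.left (IsLocalRing.closedPoint K)} : Set X.left) :=
      (pointEquivClosedPoint X.hom ⟨gy.left, Over.w gy⟩).2
    obtain ⟨h', hh', hh'c⟩ := nonempty_inter_closedPoints (X := G.left)
      (Z := (a.orbitMap x).left ⁻¹' {gy.left (IsLocalRing.closedPoint K)})
      (by obtain ⟨h, hh⟩ := (show gy.left (IsLocalRing.closedPoint K) ∈ orb x from hg'); exact ⟨h, hh⟩)
      (hgyc.preimage (a.orbitMap x).left.continuous).isLocallyClosed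
    obtain ⟨h, rfl⟩ := exists_ratPoint G hh'c
    have heq : g ≫ a.orbitMap y = h ≫ a.orbitMap x :=
      Over.OverMorphism.ext (ext_of_apply_closedPoint_eq X.hom (Over.w gy)
        (Over.w (h ≫ a.orbitMap x)) (by rw [comp_left_apply]; exact hh'.symm))
    apply hy₀.2
    refine ⟨(g⁻¹ * h).left (IsLocalRing.closedPoint K), ?_⟩
    rw [← comp_left_apply, mul_orbitMap, ← heq, ← mul_orbitMap, inv_mul_cancel, comp_orbitMap,
      act_one, toUnit_unique (toUnit (𝟙_ _)) (𝟙 _), Category.id_comp]
  have hlt : C y < C x := by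
    refine lt_of_le_of_ne (closure_minimal hsub isClosed_closure) fun h => ?_
    have hsub' : orb x ⊆ closure (orb y) := by
      have h' : closure (orb y) = closure (orb x) :=
        congrArg (fun c : TopologicalSpace.Closeds X.left => (c : Set X.left)) h
      rw [h']; exact subset_closure
    obtain ⟨O, Z, hO, hZ, he⟩ := isLocallyClosed_orbit a x
    obtain ⟨e, he'⟩ : (orb x).Nonempty := ⟨_, η[G].left (IsLocalRing.closedPoint K), rfl⟩
    obtain ⟨z, hzO, hzy⟩ := mem_closure_iff.1 (hsub' he') O hO (he.le he').1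
    exact Set.disjoint_left.1 hdisj hzy
      (he.ge ⟨hzO, closure_minimal (he.le.trans Set.inter_subset_right) hZ (hsub hzy)⟩)
  exact hmin _ ⟨y, rfl⟩ hlt

end Groth.Agent.GrpSch
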