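import Groth.Agent.GrpSch.Desc
import Groth.Prelude.Def_AlgGrp

/-!
# The group structure on the quotient by a normal subgroup
-/

universe u

open AlgebraicGeometry CategoryTheory MonoidalCategory CartesianMonoidalCategory MonObj GrpObj

namespace Groth.Agent.GrpSch.QuotGroup

open Groth.Agent.GrpSch.Desc

variable {S : Scheme.{u}}

lemma tensor_prop {P : MorphismProperty Scheme.{u}} [P.IsStableUnderBaseChange] [P.IsStableUnderComposition]
    {A B A' B' : Over S} (f : A ⟶ B) (g : A' ⟶ B') (hf : P f.left) (hg : P g.left) : P (f ⊗ₘ g).left := by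
  rw [MonoidalCategory.tensorHom_def, Over.comp_left]
  exact P.comp_mem _ _ (whiskerRight_prop A' f hf) (whiskerLeft_prop B g hg)

lemma epi_of_cover {A B : Over S} (f : A ⟶ B) (h1 : Flat f.left) (h2 : Surjective f.left)
    (h3 : LocallyOfFinitePresentation f.left) : Epi f :=
  epi_of_effectiveEpi_left f

variable {H G Q : Over S} [GrpObj H] [GrpObj G]

theorem existsUnique (i : H ⟶ G) [IsMonHom i] (hn : AlgGrp.IsNormalHom i)
    (q : G ⟶ Q) [Surjective q.left] [Flat q.left] [LocallyOfFinitePresentation q.left]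
    (hP : IsPullback (fst G H) ((G ◁ i) ≫ μ[G]) q q) :
    ∃! s : GrpObj Q, @IsMonHom (Over S) _ _ G Q GrpObj.toMonObj s.toMonObj q := by
  have rel : ∀ {T : Over S} (a b : T ⟶ G), a ≫ q = b ≫ q → ∃ n : T ⟶ H, b = a * (n ≫ i) := by
    intro T a b hab
    refine ⟨hP.lift a b hab ≫ snd G H, ?_⟩
    conv_lhs => rw [← hP.lift_snd a b hab]
    rw [← Category.assoc, show hP.lift a b hab ≫ (G ◁ i) = lift a (hP.lift a b hab ≫ snd G H ≫ i) from by
      refine CartesianMonoidalCategory.hom_ext _ _ ?_ ?_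
      · rw [Category.assoc, whiskerLeft_fst, lift_fst]; exact hP.lift_fst a b hab
      · rw [Category.assoc, whiskerLeft_snd, lift_snd], ← Hom.mul_def, Category.assoc]
  have mk_eq : ∀ {T : Over S} (a : T ⟶ G) (n : T ⟶ H), (a * (n ≫ i)) ≫ q = a ≫ q := by
    intro T a n
    have h := lift a n ≫= hP.w
    rw [lift_fst_assoc, ← Category.assoc, ← Category.assoc, lift_whiskerLeft, ← Hom.mul_def] at h
    exact h.symm
  have hinv : ∀ (T : Over S) (a b : T ⟶ G), a ≫ q = b ≫ q → a ≫ ι[G] ≫ q = b ≫ ι[G] ≫ q := by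
    intro T a b hab
    obtain ⟨n, rfl⟩ := rel a b hab
    obtain ⟨n', hn'⟩ := hn T a n⁻¹
    rw [← Category.assoc, ← Category.assoc, ← Hom.inv_def, ← Hom.inv_def,
      show (a * (n ≫ i))⁻¹ = a⁻¹ * (n' ≫ i) by rw [← hn', GrpObj.inv_comp]; group, mk_eq]
  have hmul : ∀ (T : Over S) (a b : T ⟶ G ⊗ G), a ≫ (q ⊗ₘ q) = b ≫ (q ⊗ₘ q) →
      a ≫ μ[G] ≫ q = b ≫ μ[G] ≫ q := by
    intro T a b hab
    have h1 := hab =≫ fst Q Q
    have h2 := hab =≫ snd Q Q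
    simp only [Category.assoc, tensorHom_fst, tensorHom_snd] at h1 h2
    rw [← Category.assoc, ← Category.assoc] at h1 h2
    obtain ⟨n₁, hn₁⟩ := rel _ _ h1
    obtain ⟨n₂, hn₂⟩ := rel _ _ h2
    obtain ⟨n', hn'⟩ := hn T (a ≫ snd G G)⁻¹ n₁
    have e : ∀ c : T ⟶ G ⊗ G, c ≫ μ[G] = (c ≫ fst G G) * (c ≫ snd G G) := fun c => by
      rw [Hom.mul_def, ← CartesianMonoidalCategory.comp_lift, lift_fst_snd, Category.comp_id]
    rw [← Category.assoc, ← Category.assoc, e a, e b, hn₁, hn₂,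
      show (a ≫ fst G G) * (n₁ ≫ i) * ((a ≫ snd G G) * (n₂ ≫ i)) =
        ((a ≫ fst G G) * (a ≫ snd G G)) * (n' ≫ i) * (n₂ ≫ i) by rw [← hn']; group, mk_eq, mk_eq]
  haveI f2 : Flat (q ⊗ₘ q).left := tensor_prop q q ‹_› ‹_›
  haveI s2 : Surjective (q ⊗ₘ q).left := tensor_prop q q ‹_› ‹_›
  haveI p2 : LocallyOfFinitePresentation (q ⊗ₘ q).left := tensor_prop q q ‹_› ‹_›
  haveI : Epi q := epi_of_cover q ‹_› ‹_› ‹_›
  haveI : Epi (q ⊗ₘ q) := epi_of_cover _ f2 s2 p2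
  haveI : Epi ((q ⊗ₘ q) ⊗ₘ q) := epi_of_cover _ (tensor_prop _ q f2 ‹_›) (tensor_prop _ q s2 ‹_›)
    (tensor_prop _ q p2 ‹_›)
  obtain ⟨m, hm, hm'⟩ := exists_desc (q ⊗ₘ q) (μ[G] ≫ q) hmul
  obtain ⟨j, hj, -⟩ := exists_desc q (ι[G] ≫ q) hinv
  have h_one_mul : ((η[G] ≫ q) ▷ Q) ≫ m = (λ_ Q).hom := by
    haveI : Epi (𝟙_ (Over S) ◁ q) := epi_of_cover _ (whiskerLeft_prop _ q ‹_›) (whiskerLeft_prop _ q ‹_›)
      (whiskerLeft_prop _ q ‹_›)
    rw [← cancel_epi (𝟙_ (Over S) ◁ q), whisker_exchange_assoc, comp_whiskerRight, Category.assoc,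
      ← MonoidalCategory.tensorHom_def_assoc, hm, MonObj.one_mul_assoc, leftUnitor_naturality]
  have h_mul_one : (Q ◁ (η[G] ≫ q)) ≫ m = (ρ_ Q).hom := by
    haveI : Epi (q ▷ 𝟙_ (Over S)) := epi_of_cover _ (whiskerRight_prop _ q ‹_›) (whiskerRight_prop _ q ‹_›)
      (whiskerRight_prop _ q ‹_›)
    rw [← cancel_epi (q ▷ 𝟙_ (Over S)), ← whisker_exchange_assoc, MonoidalCategory.whiskerLeft_comp,
      Category.assoc, ← MonoidalCategory.tensorHom_def'_assoc, hm, MonObj.mul_one_assoc,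
      rightUnitor_naturality]
  have h_assoc : (m ▷ Q) ≫ m = (α_ Q Q Q).hom ≫ (Q ◁ m) ≫ m := by
    rw [← cancel_epi ((q ⊗ₘ q) ⊗ₘ q)]
    have l1 : ((q ⊗ₘ q) ⊗ₘ q) ≫ (m ▷ Q) = (μ[G] ▷ G) ≫ (q ⊗ₘ q) := by
      rw [← tensorHom_id, ← tensorHom_id, tensorHom_comp_tensorHom, tensorHom_comp_tensorHom, hm]
      simp
    have l2 : (q ⊗ₘ (q ⊗ₘ q)) ≫ (Q ◁ m) = (G ◁ μ[G]) ≫ (q ⊗ₘ q) := by
      rw [← id_tensorHom, ← id_tensorHom, tensorHom_comp_tensorHom, tensorHom_comp_tensorHom, hm]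
      simp
    rw [reassoc_of% l1, hm, associator_naturality_assoc, reassoc_of% l2, hm, MonObj.mul_assoc_assoc]
  have hl : lift j (𝟙 Q) ≫ m = toUnit Q ≫ η[G] ≫ q := by
    rw [← cancel_epi q, ← Category.assoc, comp_lift, hj, Category.comp_id,
      show lift (ι[G] ≫ q) q = lift ι[G] (𝟙 G) ≫ (q ⊗ₘ q) by simp, Category.assoc, hm, GrpObj.left_inv_assoc,
      comp_toUnit_assoc]
  have hr : lift (𝟙 Q) j ≫ m = toUnit Q ≫ η[G] ≫ q := by
    rw [← cancel_epi q, ← Category.assoc, comp_lift, hj, Category.comp_id,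
      show lift q (ι[G] ≫ q) = lift (𝟙 G) ι[G] ≫ (q ⊗ₘ q) by simp, Category.assoc, hm, GrpObj.right_inv_assoc,
      comp_toUnit_assoc]
  let s : GrpObj Q :=
    { one := η[G] ≫ q, mul := m, inv := j, one_mul := h_one_mul, mul_one := h_mul_one,
      mul_assoc := h_assoc, left_inv := hl, right_inv := hr }
  refine ⟨s, @IsMonHom.mk _ _ _ _ _ _ s.toMonObj q rfl hm.symm, fun s' hs' => GrpObj.ext _ _ ?_⟩
  refine @MonObj.ext _ _ _ _ s'.toMonObj s.toMonObj ?_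
  exact hm' _ (IsMonHom.mul_hom (f := q)).symm

end Groth.Agent.GrpSch.QuotGroup
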