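import Mathlib

/-!
# The locus where a base change lands in a closed subscheme

For `π : P ⟶ T` covered by charts `Spec B → Spec A` with `B` projective over `A` and a closed
immersion `e : E ⟶ P`, the functor of `f : T' ⟶ T` such that `T' ×_T P → P` factors through
`e` is represented by a closed subscheme of `T`.
-/

universe u

open AlgebraicGeometry CategoryTheory CategoryTheory.Limits

namespace Groth.Agent.GrpSch.WeilClosed

variable {E P T : Scheme.{u}} (e : E ⟶ P) (π : P ⟶ T)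

/-- every point of `P` over the image of `f` lands in `E` scheme theoretically -/
def Agree {T' : Scheme.{u}} (f : T' ⟶ T) : Prop :=
  ∀ ⦃Q : Scheme.{u}⦄ (g : Q ⟶ P) (h : Q ⟶ T'), g ≫ π = h ≫ f → ∃ l, l ≫ e = g

/-- `π` is covered by charts `Spec B → Spec A` with `B` projective over `A` -/
def ProjChart : Prop :=
  ∀ t : T, ∃ (A : CommRingCat.{u}) (j : Spec A ⟶ T) (_ : IsOpenImmersion j),
    t ∈ Set.range j ∧ ∀ p : P, π p ∈ Set.range j →
      ∃ (B : CommRingCat.{u}) (φ : A ⟶ B) (k : Spec B ⟶ P) (_ : IsOpenImmersion k),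
        p ∈ Set.range k ∧ k ≫ π = Spec.map φ ≫ j ∧
          letI := φ.hom.toAlgebra
          Module.Projective A B

variable {e π}

lemma Agree.comp {T' T'' : Scheme.{u}} {f : T' ⟶ T} (h : Agree e π f) (a : T'' ⟶ T') :
    Agree e π (a ≫ f) :=
  fun Q g b hb => h g (b ≫ a) (by rw [hb, Category.assoc])

/-- factoring through a mono is local on the source -/
lemma factors_of_local [Mono e] {Q : Scheme.{u}} (g : Q ⟶ P)
    (H : ∀ q : Q, ∃ V : Q.Opens, q ∈ V ∧ ∃ l : V.toScheme ⟶ E, l ≫ e = V.ι ≫ g) :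
    ∃ l, l ≫ e = g := by
  choose V hqV l hl using H
  have hcov : ⨆ q, V q = ⊤ := by
    ext q; simpa using ⟨q, hqV q⟩
  let 𝒰 := Q.openCoverOfIsOpenCover V hcov
  let l' : ∀ q : 𝒰.I₀, 𝒰.X q ⟶ E := l
  have hl' : ∀ q : 𝒰.I₀, l' q ≫ e = 𝒰.f q ≫ g := hl
  refine ⟨Scheme.Cover.glueMorphisms 𝒰 l' (fun x y => ?_), ?_⟩
  · rw [← cancel_mono e, Category.assoc, Category.assoc, hl' x, hl' y, ← Category.assoc,
      ← Category.assoc]
    exact congrArg (· ≫ g) pullback.condition
  · apply 𝒰.hom_ext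
    intro q
    rw [← Category.assoc, Scheme.Cover.ι_glueMorphisms]
    exact hl' q

lemma Agree.of_cover [Mono e] {T' : Scheme.{u}} {f : T' ⟶ T} (𝒱 : T'.OpenCover)
    (H : ∀ i, Agree e π (𝒱.f i ≫ f)) : Agree e π f := by
  intro Q g h hgh
  refine factors_of_local g fun q => ?_
  obtain ⟨i, y, hy⟩ := 𝒱.exists_eq (h q)
  refine ⟨h ⁻¹ᵁ (𝒱.f i).opensRange, ⟨y, hy⟩, ?_⟩
  have hr : Set.range ((h ⁻¹ᵁ (𝒱.f i).opensRange).ι ≫ h) ⊆ Set.range (𝒱.f i) := by
    rintro _ ⟨z, rfl⟩
    exact z.2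
  refine H i _ (IsOpenImmersion.lift (𝒱.f i) _ hr) ?_
  rw [IsOpenImmersion.lift_fac_assoc, Category.assoc, Category.assoc, hgh]

/-- coefficient lemma for projective modules -/
lemma mem_map_of_forall_one_tmul_eq_zero {A B : Type u} [CommRing A] [CommRing B] [Algebra A B]
    [Module.Projective A B] {x : B} {L : Ideal A}
    (H : ∀ ℓ : B →ₗ[A] A, ℓ x ∈ L) : x ∈ L.map (algebraMap A B) := by
  obtain ⟨s, hs⟩ := Module.Projective.out (R := A) (P := B)
  rw [← hs x, Finsupp.linearCombination_apply]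
  refine Ideal.sum_mem _ fun b _ => ?_
  have : s x b ∈ L := H ((Finsupp.lapply b) ∘ₗ s)
  simp only [id, Algebra.smul_def]
  exact Ideal.mul_mem_right _ _ (Ideal.mem_map_of_mem _ this)

lemma Spec_hom_factor {X : Scheme.{u}} {B : CommRingCat.{u}} (g : X ⟶ Spec B) :
    g = X.toSpecΓ ≫ Spec.map ((Scheme.ΓSpecIso B).inv ≫ g.appTop) := by
  rw [Spec.map_comp, ← Scheme.toSpecΓ_naturality_assoc, ← SpecMap_ΓSpecIso_hom,
    ← Spec.map_comp, Iso.inv_hom_id, Spec.map_id, Category.comp_id]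

/-- minimal agreeing ideal in a chart -/
lemma exists_ideal_chart [IsClosedImmersion e] {A : CommRingCat.{u}} (j : Spec A ⟶ T)
    [IsOpenImmersion j]
    (hj : ∀ p : P, π p ∈ Set.range j →
      ∃ (B : CommRingCat.{u}) (φ : A ⟶ B) (k : Spec B ⟶ P) (_ : IsOpenImmersion k),
        p ∈ Set.range k ∧ k ≫ π = Spec.map φ ≫ j ∧
          letI := φ.hom.toAlgebra
          Module.Projective A B) :
    ∃ L : Ideal A, ∀ (C : CommRingCat.{u}) (ψ : A ⟶ C),
      Agree e π (Spec.map ψ ≫ j) ↔ L ≤ RingHom.ker ψ.hom := by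
  let L : Ideal A := sInf {K | ∃ (C : CommRingCat.{u}) (ψ : A ⟶ C),
    Agree e π (Spec.map ψ ≫ j) ∧ K = RingHom.ker ψ.hom}
  have hL : Agree e π (Spec.map (CommRingCat.ofHom (Ideal.Quotient.mk L)) ≫ j) := by
    intro Q g h hgh
    refine factors_of_local g fun q => ?_
    have hq : π (g q) ∈ Set.range j := by
      refine ⟨Spec.map (CommRingCat.ofHom (Ideal.Quotient.mk L)) (h q), ?_⟩
      rw [← Scheme.Hom.comp_apply g π, hgh]; rfl
    obtain ⟨B, φ, k, _, hp, hk, hproj⟩ := hj (g q) hq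
    let V := g ⁻¹ᵁ k.opensRange
    refine ⟨V, hp, ?_⟩
    have hr : Set.range (V.ι ≫ g) ⊆ Set.range k := by
      rintro _ ⟨z, rfl⟩; exact z.2
    let g' := IsOpenImmersion.lift k (V.ι ≫ g) hr
    have hg' : g' ≫ k = V.ι ≫ g := IsOpenImmersion.lift_fac _ _ _
    have h1 : g' ≫ Spec.map φ =
        (V.ι ≫ h) ≫ Spec.map (CommRingCat.ofHom (Ideal.Quotient.mk L)) := by
      rw [← cancel_mono j, Category.assoc, Category.assoc, Category.assoc, ← hk,
        ← Category.assoc g', hg', Category.assoc, hgh]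
    obtain ⟨J, iso, hiso⟩ :=
      IsClosedImmersion.Spec_iff.mp (inferInstance : IsClosedImmersion (pullback.snd e k))
    let β : B ⟶ Γ(V.toScheme, ⊤) := (Scheme.ΓSpecIso B).inv ≫ g'.appTop
    have hg'β : g' = V.toScheme.toSpecΓ ≫ Spec.map β := Spec_hom_factor g'
    -- the pullback of the closed subscheme to the chart contains all agreeing points
    have hJ : J ≤ L.map φ.hom := by
      intro x hx
      algebraize [φ.hom]
      apply mem_map_of_forall_one_tmul_eq_zero
      intro ℓ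
      refine Submodule.mem_sInf.mpr ?_
      rintro K ⟨C, ψ, hψ, rfl⟩
      algebraize [ψ.hom]
      obtain ⟨l, hl⟩ := hψ
        (Spec.map (CommRingCat.ofHom (R := B) (S := TensorProduct A C B)
          Algebra.TensorProduct.includeRight.toRingHom) ≫ k)
        (Spec.map (CommRingCat.ofHom (R := C) (S := TensorProduct A C B)
          Algebra.TensorProduct.includeLeftRingHom)) (by
          rw [Category.assoc, hk, ← Category.assoc, ← Category.assoc, ← Spec.map_comp,
            ← Spec.map_comp]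
          congr 2
          ext a
          exact ((Algebra.TensorProduct.includeRight (R := A) (A := C) (B := B)).commutes a).trans
            (Algebra.TensorProduct.algebraMap_apply a))
      let l' := pullback.lift l _ hl ≫ iso.hom
      have hl' : l' ≫ Spec.map (CommRingCat.ofHom (Ideal.Quotient.mk J)) =
          Spec.map (CommRingCat.ofHom (R := B) (S := TensorProduct A C B)
            Algebra.TensorProduct.includeRight.toRingHom) := by
        rw [Category.assoc, ← hiso, pullback.lift_snd]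
      rw [← Spec.map_preimage l', ← Spec.map_comp, Spec.map_inj] at hl'
      have h2 : (1 : C) ⊗ₜ[A] x = 0 := by
        have h3 := congrArg (fun F => F.hom x) hl'
        simp only [CommRingCat.hom_comp, CommRingCat.hom_ofHom, RingHom.comp_apply] at h3
        rw [Ideal.Quotient.eq_zero_iff_mem.mpr hx, map_zero] at h3
        exact h3.symm
      have h4 := congrArg ((TensorProduct.rid A C).toLinearMap ∘ₗ ℓ.lTensor C) h2
      simpa [Algebra.smul_def, RingHom.algebraMap_toAlgebra] using h4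
    have hβ : J ≤ RingHom.ker β.hom := by
      refine hJ.trans (Ideal.map_le_iff_le_comap.mpr fun a ha => ?_)
      have h2 := h1
      rw [hg'β, Spec_hom_factor (V.ι ≫ h), Category.assoc, Category.assoc, ← Spec.map_comp,
        ← Spec.map_comp] at h2
      have h3 : φ ≫ β = CommRingCat.ofHom (Ideal.Quotient.mk L) ≫
          ((Scheme.ΓSpecIso _).inv ≫ (V.ι ≫ h).appTop) := by
        have := congrArg Scheme.Hom.appTop h2
        rw [Scheme.Hom.comp_appTop, Scheme.Hom.comp_appTop, Scheme.toSpecΓ_appTop,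
          Scheme.ΓSpecIso_naturality, Scheme.ΓSpecIso_naturality] at this
        exact (cancel_epi (Scheme.ΓSpecIso A).hom).mp this
      have := congrArg (fun F => F.hom a) h3
      simp only [CommRingCat.hom_comp, CommRingCat.hom_ofHom, RingHom.comp_apply] at this
      rw [Ideal.Quotient.eq_zero_iff_mem.mpr ha, map_zero, map_zero] at this
      exact this
    refine ⟨V.toScheme.toSpecΓ ≫ Spec.map (CommRingCat.ofHom (Ideal.Quotient.lift J β.hom hβ))
      ≫ iso.inv ≫ pullback.fst e k, ?_⟩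
    simp only [Category.assoc, pullback.condition]
    rw [hiso, Category.assoc, Iso.inv_hom_id_assoc, ← hg', hg'β, Category.assoc,
      ← Spec.map_comp_assoc]
    rfl
  refine ⟨L, fun C ψ => ⟨fun hψ => sInf_le ⟨C, ψ, hψ, rfl⟩, fun hle => ?_⟩⟩
  have : Spec.map ψ ≫ j =
      Spec.map (CommRingCat.ofHom (Ideal.Quotient.lift L ψ.hom hle)) ≫
        Spec.map (CommRingCat.ofHom (Ideal.Quotient.mk L)) ≫ j := by
    rw [← Spec.map_comp_assoc]; rfl
  rw [this]
  exact hL.comp _

variable (e π)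

/-- existence of a minimal agreeing ideal on an affine open -/
def Good (U : T.affineOpens) : Prop :=
  ∃ L : Ideal Γ(T, U.1), ∀ (C : CommRingCat.{u}) (ψ : Γ(T, U.1) ⟶ C),
    Agree e π (Spec.map ψ ≫ U.2.fromSpec) ↔ L ≤ RingHom.ker ψ.hom

variable {e π}

lemma ideal_unique {U : T.affineOpens} {L L' : Ideal Γ(T, U.1)}
    (h : ∀ (C : CommRingCat.{u}) (ψ : Γ(T, U.1) ⟶ C),
      Agree e π (Spec.map ψ ≫ U.2.fromSpec) ↔ L ≤ RingHom.ker ψ.hom)
    (h' : ∀ (C : CommRingCat.{u}) (ψ : Γ(T, U.1) ⟶ C),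
      Agree e π (Spec.map ψ ≫ U.2.fromSpec) ↔ L' ≤ RingHom.ker ψ.hom) : L = L' := by
  refine le_antisymm ?_ ?_
  · simpa using ((h _ (CommRingCat.ofHom (Ideal.Quotient.mk L'))).symm.trans
      (h' _ (CommRingCat.ofHom (Ideal.Quotient.mk L')))).mpr (by simp)
  · simpa using ((h _ (CommRingCat.ofHom (Ideal.Quotient.mk L))).symm.trans
      (h' _ (CommRingCat.ofHom (Ideal.Quotient.mk L)))).mp (by simp)

lemma good_of_le {U W : T.affineOpens} (hle : W.1 ≤ U.1) {L : Ideal Γ(T, U.1)}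
    (h : ∀ (C : CommRingCat.{u}) (ψ : Γ(T, U.1) ⟶ C),
      Agree e π (Spec.map ψ ≫ U.2.fromSpec) ↔ L ≤ RingHom.ker ψ.hom) :
    ∀ (C : CommRingCat.{u}) (ψ : Γ(T, W.1) ⟶ C),
      Agree e π (Spec.map ψ ≫ W.2.fromSpec) ↔
        L.map (T.presheaf.map (homOfLE hle).op).hom ≤ RingHom.ker ψ.hom := by
  intro C ψ
  rw [← U.2.map_fromSpec W.2 (homOfLE hle).op, ← Spec.map_comp_assoc, h,
    Ideal.map_le_iff_le_comap, RingHom.comap_ker]
  rfl

lemma good_of_subset_chart [IsClosedImmersion e] {A : CommRingCat.{u}} {j : Spec A ⟶ T}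
    [IsOpenImmersion j]
    (hj : ∀ p : P, π p ∈ Set.range j →
      ∃ (B : CommRingCat.{u}) (φ : A ⟶ B) (k : Spec B ⟶ P) (_ : IsOpenImmersion k),
        p ∈ Set.range k ∧ k ≫ π = Spec.map φ ≫ j ∧
          letI := φ.hom.toAlgebra
          Module.Projective A B)
    (U : T.affineOpens) (hU : (U.1 : Set T) ⊆ Set.range j) : Good e π U := by
  obtain ⟨L, hL⟩ := exists_ideal_chart (e := e) j hj
  let θ := Spec.preimage (IsOpenImmersion.lift j U.2.fromSpec (by
    rw [U.2.range_fromSpec]; exact hU))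
  have hθ : Spec.map θ ≫ j = U.2.fromSpec := by
    rw [Spec.map_preimage, IsOpenImmersion.lift_fac]
  refine ⟨L.map θ.hom, fun C ψ => ?_⟩
  rw [← hθ, ← Spec.map_comp_assoc, hL, Ideal.map_le_iff_le_comap, RingHom.comap_ker]
  rfl

lemma exists_lift_away (U : T.affineOpens) (s : Γ(T, U.1)) {C : CommRingCat.{u}}
    (ψ : Γ(T, U.1) ⟶ C) :
    ∃ ψs : Γ(T, T.basicOpen s) ⟶ .of (Localization.Away (ψ.hom s)),
      (∀ a, ψs.hom ((T.presheaf.map (homOfLE (T.basicOpen_le s)).op).hom a) =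
        algebraMap C (Localization.Away (ψ.hom s)) (ψ.hom a)) ∧
      Spec.map ψs ≫ (U.2.basicOpen s).fromSpec =
        Spec.map (CommRingCat.ofHom (algebraMap C (Localization.Away (ψ.hom s)))) ≫
          Spec.map ψ ≫ U.2.fromSpec := by
  letI := U.2.isLocalization_basicOpen s
  have hu : IsUnit ((algebraMap C (Localization.Away (ψ.hom s))).comp ψ.hom s) :=
    IsLocalization.Away.algebraMap_isUnit (ψ.hom s)
  obtain ⟨f, hf⟩ : ∃ f : Γ(T, T.basicOpen s) →+* Localization.Away (ψ.hom s),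
      f.comp (algebraMap Γ(T, U.1) Γ(T, T.basicOpen s)) =
        (algebraMap C (Localization.Away (ψ.hom s))).comp ψ.hom :=
    ⟨_, IsLocalization.Away.lift_comp s hu⟩
  refine ⟨CommRingCat.ofHom f, fun a => RingHom.congr_fun hf a, ?_⟩
  rw [← U.2.map_fromSpec (U.2.basicOpen s) (homOfLE (T.basicOpen_le s)).op,
    ← Spec.map_comp_assoc, ← Spec.map_comp_assoc]
  congr 2
  exact CommRingCat.hom_ext hf

/-- compatibility of the local ideals on overlaps -/
lemma exists_pow_mul_mem (U : T.affineOpens) (s t : Γ(T, U.1))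
    {L : Ideal Γ(T, T.basicOpen s)} {M : Ideal Γ(T, T.basicOpen t)}
    (hL : ∀ (C : CommRingCat.{u}) (ψ : Γ(T, T.basicOpen s) ⟶ C),
      Agree e π (Spec.map ψ ≫ (U.2.basicOpen s).fromSpec) ↔ L ≤ RingHom.ker ψ.hom)
    (hM : ∀ (C : CommRingCat.{u}) (ψ : Γ(T, T.basicOpen t) ⟶ C),
      Agree e π (Spec.map ψ ≫ (U.2.basicOpen t).fromSpec) ↔ M ≤ RingHom.ker ψ.hom)
    {x : Γ(T, U.1)} (hx : (T.presheaf.map (homOfLE (T.basicOpen_le s)).op).hom x ∈ L) :
    ∃ m : ℕ, (T.presheaf.map (homOfLE (T.basicOpen_le t)).op).hom (s ^ m * x) ∈ M := by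
  let Vt : T.affineOpens := ⟨T.basicOpen t, U.2.basicOpen t⟩
  let Vs : T.affineOpens := ⟨T.basicOpen s, U.2.basicOpen s⟩
  let σ : Γ(T, T.basicOpen t) := (T.presheaf.map (homOfLE (T.basicOpen_le t)).op).hom s
  letI := (U.2.basicOpen t).isLocalization_basicOpen σ
  let W : T.affineOpens := ⟨T.basicOpen σ, (U.2.basicOpen t).basicOpen σ⟩
  have hWt : W.1 ≤ T.basicOpen t := T.basicOpen_le _
  have hWs : W.1 ≤ T.basicOpen s := by
    change T.basicOpen σ ≤ _
    simp only [σ]
    rw [Scheme.basicOpen_res]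
    exact inf_le_right
  have heq := ideal_unique (good_of_le (U := Vs) (W := W) hWs hL)
    (good_of_le (U := Vt) (W := W) hWt hM)
  have h1 : (T.presheaf.map (homOfLE hWs).op).hom
      ((T.presheaf.map (homOfLE (T.basicOpen_le s)).op).hom x) ∈
        L.map (T.presheaf.map (homOfLE hWs).op).hom := Ideal.mem_map_of_mem _ hx
  rw [heq, ← RingHom.comp_apply, ← CommRingCat.hom_comp, ← T.presheaf.map_comp] at h1
  have h2 : algebraMap Γ(T, T.basicOpen t) Γ(T, T.basicOpen σ)
      ((T.presheaf.map (homOfLE (T.basicOpen_le t)).op).hom x) ∈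
        M.map (algebraMap Γ(T, T.basicOpen t) Γ(T, T.basicOpen σ)) := by
    change (T.presheaf.map (homOfLE hWt).op).hom _ ∈ _
    rw [← RingHom.comp_apply, ← CommRingCat.hom_comp, ← T.presheaf.map_comp]
    exact h1
  obtain ⟨_, ⟨m, rfl⟩, hm⟩ :=
    (IsLocalization.algebraMap_mem_map_algebraMap_iff (.powers σ) _ _ _).mp h2
  refine ⟨m, ?_⟩
  rw [map_mul, map_pow]
  exact hm

lemma good_all [IsClosedImmersion e] (hπ : ProjChart π) (U : T.affineOpens) : Good e π U := by
  classical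
  have hb : ∀ x : U.1, ∃ s : Γ(T, U.1),
      (x : T) ∈ T.basicOpen s ∧ Good e π (T.affineBasicOpen s) := by
    intro x
    obtain ⟨A, j, hjo, hx, hj⟩ := hπ x
    obtain ⟨s, hs, hxs⟩ := U.2.exists_basicOpen_le (V := j.opensRange) ⟨x, hx⟩ x.2
    exact ⟨s, hxs, good_of_subset_chart hj _ fun z hz => hs hz⟩
  choose s hxs hgood using hb
  have hspan : Ideal.span (Set.range s) = ⊤ := by
    rw [← U.2.iSup_basicOpen_eq_self_iff]
    refine le_antisymm (iSup_le fun _ => T.basicOpen_le _) fun x hx => ?_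
    exact TopologicalSpace.Opens.mem_iSup.mpr ⟨⟨_, Set.mem_range_self ⟨x, hx⟩⟩, hxs ⟨x, hx⟩⟩
  obtain ⟨S, hS, hspan⟩ := (Ideal.span_eq_top_iff_finite _).mp hspan
  have hgood' : ∀ i : S, ∃ L : Ideal Γ(T, T.basicOpen (i.1 : Γ(T, U.1))),
      ∀ (C : CommRingCat.{u}) (ψ : Γ(T, T.basicOpen i.1) ⟶ C),
        Agree e π (Spec.map ψ ≫ (U.2.basicOpen i.1).fromSpec) ↔ L ≤ RingHom.ker ψ.hom := by
    intro i
    obtain ⟨x, hx⟩ := hS i.2
    have := hgood x
    rw [hx] at this
    exact this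
  choose L hL using hgood'
  refine ⟨⨅ i : S, (L i).comap (T.presheaf.map (homOfLE (T.basicOpen_le i.1)).op).hom,
    fun C ψ => ⟨fun hψ x hx => ?_, fun hle => ?_⟩⟩
  · rw [RingHom.mem_ker]
    let J : Ideal C := LinearMap.ker (LinearMap.mulRight C (ψ.hom x))
    suffices hJ : J.radical = ⊤ by
      have h1 : (1 : C) ∈ J := by rw [Ideal.radical_eq_top.mp hJ]; trivial
      simpa [J] using h1
    rw [eq_top_iff, ← Ideal.map_top ψ.hom, ← hspan, Ideal.map_span, Ideal.span_le]
    rintro _ ⟨i, hi, rfl⟩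
    obtain ⟨ψi, hcomm, hfrom⟩ := exists_lift_away U i ψ
    have h1 : L ⟨i, hi⟩ ≤ RingHom.ker ψi.hom := by
      refine (hL ⟨i, hi⟩ _ ψi).mp ?_
      rw [hfrom]
      exact hψ.comp _
    have h2 : ψi.hom ((T.presheaf.map (homOfLE (T.basicOpen_le i)).op).hom x) = 0 :=
      h1 ((Ideal.mem_iInf.mp hx) ⟨i, hi⟩)
    rw [hcomm] at h2
    obtain ⟨⟨_, n, rfl⟩, hn⟩ := (IsLocalization.map_eq_zero_iff
      (.powers (ψ.hom i)) (Localization.Away (ψ.hom i)) (ψ.hom x)).mp h2
    exact ⟨n, hn⟩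
  · have hspan' : Ideal.span (Set.range fun i : S => ψ.hom i) = ⊤ := by
      rw [show (Set.range fun i : S => ψ.hom i) = ψ.hom '' (S : Set Γ(T, U.1)) by ext; simp,
        ← Ideal.map_span, hspan, Ideal.map_top]
    refine Agree.of_cover (Scheme.affineOpenCoverOfSpanRangeEqTop _ hspan').openCover
      fun (i : S) => ?_
    obtain ⟨ψi, hcomm, hfrom⟩ := exists_lift_away U i.1 ψ
    change Agree e π (Spec.map (CommRingCat.ofHom
      (algebraMap C (Localization.Away (ψ.hom i.1)))) ≫ Spec.map ψ ≫ _)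
    rw [← hfrom, hL]
    intro y hy
    letI := U.2.isLocalization_basicOpen i.1
    obtain ⟨n, x, hxy⟩ := IsLocalization.Away.surj i.1 y
    have hx : (T.presheaf.map (homOfLE (T.basicOpen_le i.1)).op).hom x ∈ L i := by
      change algebraMap Γ(T, U.1) Γ(T, T.basicOpen i.1) x ∈ L i
      rw [← hxy]
      exact Ideal.mul_mem_right _ _ hy
    choose m hm using fun k : S => exists_pow_mul_mem U i.1 k.1 (hL i) (hL k) hx
    have hx0 : i.1 ^ (Finset.univ.sup m) * x ∈
        ⨅ k : S, (L k).comap (T.presheaf.map (homOfLE (T.basicOpen_le k.1)).op).hom := by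
      refine Ideal.mem_iInf.mpr fun k => ?_
      obtain ⟨d, hd⟩ := Nat.exists_eq_add_of_le (Finset.le_sup (f := m) (Finset.mem_univ k))
      rw [Ideal.mem_comap, hd, add_comm, pow_add, mul_assoc, map_mul]
      exact Ideal.mul_mem_left _ _ (hm k)
    have h3 : ψ.hom (i.1 ^ (Finset.univ.sup m) * x) = 0 := hle hx0
    rw [map_mul] at h3
    have h4 := congrArg (algebraMap C (Localization.Away (ψ.hom i.1))) h3
    rw [map_zero, map_mul, map_pow, map_pow] at h4
    have h5 : algebraMap C (Localization.Away (ψ.hom i.1)) (ψ.hom x) = 0 :=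
      ((IsLocalization.Away.algebraMap_isUnit (ψ.hom i.1)).pow _).mul_right_eq_zero.mp h4
    rw [← hcomm] at h5
    change ψi.hom (algebraMap Γ(T, U.1) Γ(T, T.basicOpen i.1) x) = 0 at h5
    rw [← hxy, map_mul] at h5
    have hv : IsUnit (ψi.hom (algebraMap Γ(T, U.1) Γ(T, T.basicOpen i.1) i.1 ^ n)) :=
      ((IsLocalization.Away.algebraMap_isUnit i.1).pow _).map _
    exact hv.mul_left_eq_zero.mp h5

variable (e π)

/-- the glued ideal sheaf -/
noncomputable def ideal [IsClosedImmersion e] (hπ : ProjChart π) : T.IdealSheafData where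
  ideal U := (good_all (e := e) hπ U).choose
  map_ideal_basicOpen U f :=
    ideal_unique (good_of_le (W := T.affineBasicOpen f) (T.basicOpen_le f)
      (good_all (e := e) hπ U).choose_spec) (good_all (e := e) hπ _).choose_spec

/-- Representability of the locus of agreement by a closed subscheme. -/
theorem exists_closed_agree [IsClosedImmersion e] (hπ : ProjChart π) :
    ∃ (Z : Scheme.{u}) (i : Z ⟶ T), IsClosedImmersion i ∧
      ∀ (T' : Scheme.{u}) (f : T' ⟶ T), (∃ z, z ≫ i = f) ↔ Agree e π f := by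
  let K := ideal e π hπ
  have hK : ∀ (U : T.affineOpens) (C : CommRingCat.{u}) (ψ : Γ(T, U.1) ⟶ C),
      Agree e π (Spec.map ψ ≫ U.2.fromSpec) ↔ K.ideal U ≤ RingHom.ker ψ.hom :=
    fun U => (good_all (e := e) hπ U).choose_spec
  refine ⟨K.subscheme, K.subschemeι, inferInstance, fun T' f => ⟨?_, fun hf => ?_⟩⟩
  · rintro ⟨z, rfl⟩
    refine Agree.comp (Agree.of_cover K.subschemeCover.openCover fun U => ?_) z
    change Agree e π (K.subschemeCover.f U ≫ K.subschemeι)
    rw [Scheme.IdealSheafData.subschemeCover_map_subschemeι]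
    have : K.glueDataObjι U ≫ U.1.ι =
        Spec.map (CommRingCat.ofHom (Ideal.Quotient.mk (K.ideal U))) ≫ U.2.fromSpec := by
      simp [Scheme.IdealSheafData.glueDataObjι_ι]
    rw [this]
    exact (hK U _ _).mpr (by simp)
  · have hle : K ≤ f.ker := by
      refine Scheme.IdealSheafData.le_ofIdeals_iff.mpr fun U x hx => ?_
      rw [RingHom.mem_ker]
      refine T'.sheaf.eq_of_locally_eq'
        (fun V : {V : T'.affineOpens // V.1 ≤ f ⁻¹ᵁ U.1} => V.1.1) (f ⁻¹ᵁ U.1)
        (fun V => homOfLE V.2) ?_ _ _ fun V => ?_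
      · intro z hz
        obtain ⟨_, ⟨W, hW, rfl⟩, hzW, hWle⟩ :=
          T'.isBasis_affineOpens.exists_subset_of_mem_open hz (f ⁻¹ᵁ U.1).2
        exact TopologicalSpace.Opens.mem_iSup.mpr ⟨⟨⟨W, hW⟩, hWle⟩, hzW⟩
      · refine Eq.trans ?_ (map_zero _).symm
        have h1 := (hK U _ (f.appLE U.1 V.1.1 V.2)).mp (by
          rw [IsAffineOpen.SpecMap_appLE_fromSpec f U.2 V.1.2 V.2]
          exact hf.comp _) hx
        exact h1
    exact ⟨IsClosedImmersion.lift K.subschemeι f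
      (by rwa [Scheme.IdealSheafData.ker_subschemeι]), IsClosedImmersion.lift_fac _ _ _⟩

end Groth.Agent.GrpSch.WeilClosed
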