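import Mathlib
import Groth.Agent.GrpSch.WeilClosed
import Groth.Agent.GrpSch.OverBase

/-!
# Agreement loci of families of morphisms

For `a b : Y ⊗ T ⟶ W` over `S` with `Y` covered by charts with projective coordinate rings and
closed equalizer, the locus in `T` over which `a` and `b` agree is a closed subscheme.
-/

universe u

open AlgebraicGeometry CategoryTheory CategoryTheory.Limits MonoidalCategory CartesianMonoidalCategory

namespace Groth.Agent.GrpSch.WeilClosed

/-- universal property of the pullback of the diagonal -/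
lemma equalizer_iff {P W S : Scheme.{u}} (w : W ⟶ S) (a b : P ⟶ W) (hab : a ≫ w = b ≫ w)
    (Q : Scheme.{u}) (g : Q ⟶ P) :
    (∃ l, l ≫ pullback.snd (pullback.diagonal w) (pullback.lift a b hab) = g) ↔
      g ≫ a = g ≫ b := by
  refine ⟨?_, fun h => ?_⟩
  · rintro ⟨l, rfl⟩
    have hc := pullback.condition (f := pullback.diagonal w) (g := pullback.lift a b hab)
    have ha : pullback.snd (pullback.diagonal w) (pullback.lift a b hab) ≫ a =
        pullback.fst (pullback.diagonal w) (pullback.lift a b hab) := by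
      have := congrArg (· ≫ pullback.fst w w) hc.symm
      rwa [Category.assoc, Category.assoc, pullback.lift_fst, pullback.diagonal_fst,
        Category.comp_id] at this
    have hb : pullback.snd (pullback.diagonal w) (pullback.lift a b hab) ≫ b =
        pullback.fst (pullback.diagonal w) (pullback.lift a b hab) := by
      have := congrArg (· ≫ pullback.snd w w) hc.symm
      rwa [Category.assoc, Category.assoc, pullback.lift_snd, pullback.diagonal_snd,
        Category.comp_id] at this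
    rw [Category.assoc, Category.assoc, ha, hb]
  · refine ⟨pullback.lift (g ≫ a) g ?_, pullback.lift_snd _ _ _⟩
    apply pullback.hom_ext
    · rw [Category.assoc (g ≫ a), Category.assoc g (pullback.lift a b hab), pullback.diagonal_fst,
        Category.comp_id, pullback.lift_fst]
    · rw [Category.assoc (g ≫ a), Category.assoc g (pullback.lift a b hab), pullback.diagonal_snd,
        Category.comp_id, pullback.lift_snd, h]

/-- the equalizer of two morphisms into a separated scheme over a base -/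
lemma exists_closed_equalizer {P W S : Scheme.{u}} (w : W ⟶ S) [IsSeparated w] (a b : P ⟶ W)
    (hab : a ≫ w = b ≫ w) :
    ∃ (E : Scheme.{u}) (e : E ⟶ P), IsClosedImmersion e ∧
      ∀ (Q : Scheme.{u}) (g : Q ⟶ P), (∃ l, l ≫ e = g) ↔ g ≫ a = g ≫ b :=
  ⟨_, pullback.snd (pullback.diagonal w) (pullback.lift a b hab), inferInstance,
    equalizer_iff w a b hab⟩

/-- the equalizer of two morphisms which pull back every open in the same way -/
lemma exists_closed_equalizer_of_stable {P W : Scheme.{u}} (a b : P ⟶ W)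
    {S : Scheme.{u}} (w : W ⟶ S) (hab : a ≫ w = b ≫ w)
    (hst : ∀ U : W.Opens, b ⁻¹ᵁ U ≤ a ⁻¹ᵁ U) :
    ∃ (E : Scheme.{u}) (e : E ⟶ P), IsClosedImmersion e ∧
      ∀ (Q : Scheme.{u}) (g : Q ⟶ P), (∃ l, l ≫ e = g) ↔ g ≫ a = g ≫ b := by
  have hmain := equalizer_iff w a b hab
  refine ⟨_, pullback.snd (pullback.diagonal w) (pullback.lift a b hab), ?_, hmain⟩
  set e := pullback.snd (pullback.diagonal w) (pullback.lift a b hab) with he
  apply IsClosedImmersion.of_isPreimmersion
  rw [← isOpen_compl_iff, isOpen_iff_forall_mem_open]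
  intro z hz
  obtain ⟨_, ⟨U, hU, rfl⟩, hzU, -⟩ :=
    W.isBasis_affineOpens.exists_subset_of_mem_open (Set.mem_univ (b z)) isOpen_univ
  obtain ⟨U, rfl⟩ : ∃ U' : W.Opens, U' = U := ⟨U, rfl⟩
  let V := b ⁻¹ᵁ (U : W.Opens)
  have hra : Set.range (V.ι ≫ a) ⊆ Set.range U.ι := by
    rintro _ ⟨v, rfl⟩
    rw [Scheme.Opens.range_ι]
    exact hst U v.2
  have hrb : Set.range (V.ι ≫ b) ⊆ Set.range U.ι := by
    rintro _ ⟨v, rfl⟩
    rw [Scheme.Opens.range_ι]
    exact v.2
  let a' := IsOpenImmersion.lift U.ι (V.ι ≫ a) hra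
  let b' := IsOpenImmersion.lift U.ι (V.ι ≫ b) hrb
  have : IsAffine U := hU
  obtain ⟨E', e', he', hE'⟩ := exists_closed_equalizer (terminal.from (U : Scheme.{u})) a' b'
    (Subsingleton.elim _ _)
  refine ⟨V.ι '' (Set.range e')ᶜ, ?_, ?_, ?_⟩
  · rintro _ ⟨v, hv, rfl⟩ ⟨y, hy⟩
    apply hv
    let V' := e ⁻¹ᵁ V
    have hy' : y ∈ V' := show e y ∈ V from hy ▸ v.2
    let k := IsOpenImmersion.lift V.ι (V'.ι ≫ e) (by
      rintro _ ⟨t, rfl⟩
      rw [Scheme.Opens.range_ι]
      exact t.2)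
    have hk : k ≫ V.ι = V'.ι ≫ e := IsOpenImmersion.lift_fac _ _ _
    obtain ⟨l, hl⟩ := (hE' _ k).mpr (by
      rw [← cancel_mono U.ι, Category.assoc, Category.assoc, IsOpenImmersion.lift_fac,
        IsOpenImmersion.lift_fac, ← Category.assoc, ← Category.assoc, hk, Category.assoc,
        Category.assoc, (hmain _ e).mp ⟨𝟙 _, Category.id_comp _⟩])
    refine ⟨l ⟨y, hy'⟩, V.ι.isOpenEmbedding.injective ?_⟩
    rw [← Scheme.Hom.comp_apply l e', hl, ← Scheme.Hom.comp_apply k V.ι, hk]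
    exact hy
  · exact V.ι.isOpenEmbedding.isOpenMap _ e'.isClosedEmbedding.isClosed_range.isOpen_compl
  · refine ⟨⟨z, hzU⟩, fun ⟨y, hy⟩ => hz ?_, rfl⟩
    obtain ⟨l, hl⟩ := (hmain _ (e' ≫ V.ι)).mpr (by
      rw [Category.assoc, Category.assoc, ← IsOpenImmersion.lift_fac U.ι (V.ι ≫ a) hra,
        ← IsOpenImmersion.lift_fac U.ι (V.ι ≫ b) hrb, ← Category.assoc, ← Category.assoc,
        (hE' _ e').mp ⟨𝟙 _, Category.id_comp _⟩])
    refine ⟨l y, ?_⟩
    rw [← Scheme.Hom.comp_apply l, hl, Scheme.Hom.comp_apply, hy]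
    rfl

/-- charts with projective coordinate rings are stable under base change -/
theorem ProjChart.of_isPullback {P Y T S : Scheme.{u}} {q : Y ⟶ S} {τ : T ⟶ S} {π : P ⟶ T}
    {p : P ⟶ Y} (h : IsPullback π p τ q) (hq : ProjChart q) : ProjChart π := by
  intro t
  obtain ⟨R, j, _, ht, hj⟩ := hq (τ t)
  obtain ⟨_, ⟨U, hU, rfl⟩, htU, hUle⟩ :=
    T.isBasis_affineOpens.exists_subset_of_mem_open
      (show t ∈ (τ ⁻¹ᵁ j.opensRange : T.Opens) from ht) (τ ⁻¹ᵁ j.opensRange).2
  obtain ⟨θ, hθ⟩ : ∃ θ : R ⟶ Γ(T, U), Spec.map θ ≫ j = hU.fromSpec ≫ τ := by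
    have hr : Set.range (hU.fromSpec ≫ τ) ⊆ Set.range j := by
      rintro _ ⟨x, rfl⟩
      exact hUle (hU.range_fromSpec ▸ Set.mem_range_self x)
    exact ⟨Spec.preimage (IsOpenImmersion.lift j (hU.fromSpec ≫ τ) hr), by simp⟩
  refine ⟨Γ(T, U), hU.fromSpec, inferInstance, hU.range_fromSpec ▸ htU, fun x hx => ?_⟩
  have hy : q (p x) ∈ Set.range j := by
    rw [← Scheme.Hom.comp_apply, ← h.w, Scheme.Hom.comp_apply]
    exact hUle (hU.range_fromSpec ▸ hx)
  obtain ⟨B, φ, k, _, hk, hkq, hproj⟩ := hj (p x) hy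
  letI := θ.hom.toAlgebra
  letI := φ.hom.toAlgebra
  let m := pullback.map (Spec.map (CommRingCat.ofHom (algebraMap R Γ(T, U))))
    (Spec.map (CommRingCat.ofHom (algebraMap R B))) τ q hU.fromSpec k j hθ hkq.symm
  let k' : Spec (CommRingCat.of (TensorProduct R Γ(T, U) B)) ⟶ P :=
    (pullbackSpecIso R Γ(T, U) B).inv ≫ m ≫ h.isoPullback.inv
  refine ⟨_, CommRingCat.ofHom Algebra.TensorProduct.includeLeftRingHom, k', inferInstance,
    ?_, ?_, ?_⟩
  · have hmem : h.isoPullback.hom x ∈ Set.range m := by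
      rw [Scheme.Pullback.range_map]
      constructor
      · rw [Set.mem_preimage, ← Scheme.Hom.comp_apply, h.isoPullback_hom_fst]
        exact hx
      · rw [Set.mem_preimage, ← Scheme.Hom.comp_apply, h.isoPullback_hom_snd]
        exact hk
    obtain ⟨y, hy⟩ := hmem
    refine ⟨(pullbackSpecIso R Γ(T, U) B).hom y, ?_⟩
    simp only [k', ← Scheme.Hom.comp_apply, Iso.hom_inv_id_assoc]
    rw [Scheme.Hom.comp_apply, hy, ← Scheme.Hom.comp_apply, Iso.hom_inv_id]
    rfl
  · simp only [k', m, Category.assoc, h.isoPullback_inv_fst]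
    rw [pullback.lift_fst, ← Category.assoc, pullbackSpecIso_inv_fst]
  · haveI : Module.Projective R B := hproj
    have hP : Module.Projective Γ(T, U) (TensorProduct R Γ(T, U) B) :=
      Module.Projective.tensorProduct
    convert hP using 1
    · rfl
    · refine Module.ext' _ _ fun r m => ?_
      exact (Algebra.smul_def (R := Γ(T, U)) (A := TensorProduct R Γ(T, U) B) r m).symm

/-- every scheme over a field has charts with free coordinate rings -/
theorem projChart_of_field {k : Type u} [Field k] {Y : Scheme.{u}}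
    (q : Y ⟶ Spec (CommRingCat.of k)) : ProjChart q := by
  intro t
  refine ⟨_, 𝟙 _, inferInstance, ⟨t, rfl⟩, fun y _ => ?_⟩
  obtain ⟨_, ⟨V, hV, rfl⟩, hyV, -⟩ :=
    Y.isBasis_affineOpens.exists_subset_of_mem_open (Set.mem_univ y) isOpen_univ
  refine ⟨Γ(Y, V), Spec.preimage (hV.fromSpec ≫ q), hV.fromSpec, inferInstance,
    hV.range_fromSpec ▸ hyV, by simp, ?_⟩
  letI := (Spec.preimage (hV.fromSpec ≫ q)).hom.toAlgebra
  exact Module.Projective.of_free (R := k)

/-- affine morphisms with projective algebras of sections have projective charts -/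
theorem projChart_of_projective {Y S : Scheme.{u}} (q : Y ⟶ S) [IsAffineHom q]
    (H : ∀ s : S, ∃ U : S.affineOpens, s ∈ (U : S.Opens) ∧
      @Module.Projective Γ(S, U) _ Γ(Y, q ⁻¹ᵁ U) _ (q.app U).hom.toAlgebra.toModule) :
    ProjChart q := by
  intro s
  obtain ⟨U, hs, hproj⟩ := H s
  have hV : IsAffineOpen (q ⁻¹ᵁ U.1) := U.2.preimage q
  refine ⟨_, U.2.fromSpec, inferInstance, U.2.range_fromSpec ▸ hs, fun y hy => ?_⟩
  refine ⟨_, q.app U.1, hV.fromSpec, inferInstance, ?_, ?_, hproj⟩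
  · rw [hV.range_fromSpec]
    rw [U.2.range_fromSpec] at hy
    exact hy
  · rw [← IsAffineOpen.SpecMap_appLE_fromSpec q U.2 hV le_rfl, Scheme.Hom.appLE_eq_app]

/-- finite locally free morphisms have projective charts -/
theorem projChart_of_finite {Y S : Scheme.{u}} (q : Y ⟶ S) [IsFinite q] [Flat q]
    [LocallyOfFinitePresentation q] : ProjChart q := by
  refine projChart_of_projective q fun s => ?_
  obtain ⟨_, ⟨U, hU, rfl⟩, hsU, -⟩ :=
    S.isBasis_affineOpens.exists_subset_of_mem_open (Set.mem_univ s) isOpen_univ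
  refine ⟨⟨U, hU⟩, hsU, ?_⟩
  letI := (q.app U).hom.toAlgebra
  have hV : IsAffineOpen (q ⁻¹ᵁ U) := hU.preimage q
  haveI : Module.Finite Γ(S, U) Γ(Y, q ⁻¹ᵁ U) := q.finite_app U hU
  haveI : Algebra.FinitePresentation Γ(S, U) Γ(Y, q ⁻¹ᵁ U) := by
    have := q.finitePresentation_appLE hU hV le_rfl
    rwa [Scheme.Hom.appLE_eq_app] at this
  haveI : Module.FinitePresentation Γ(S, U) Γ(Y, q ⁻¹ᵁ U) :=
    Module.FinitePresentation.of_finite_of_finitePresentation ..
  haveI : Module.Flat Γ(S, U) Γ(Y, q ⁻¹ᵁ U) := by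
    have := q.flat_appLE hU hV le_rfl
    rwa [Scheme.Hom.appLE_eq_app] at this
  exact Module.Flat.projective_of_finitePresentation

variable {S : Scheme.{u}}

/-- The locus of `T` over which two morphisms on `Y ⊗ T` agree is a closed subscheme. -/
theorem exists_agree (Y T W : Over S) (hY : ProjChart Y.hom) (a b : Y ⊗ T ⟶ W)
    (he : ∃ (E : Scheme.{u}) (e : E ⟶ (Y ⊗ T).left), IsClosedImmersion e ∧
      ∀ (Q : Scheme.{u}) (g : Q ⟶ (Y ⊗ T).left), (∃ l, l ≫ e = g) ↔ g ≫ a.left = g ≫ b.left) :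
    ∃ (Z : Over S) (i : Z ⟶ T), IsClosedImmersion i.left ∧
      ∀ (T' : Over S) (f : T' ⟶ T), (∃ z, z ≫ i = f) ↔ (Y ◁ f) ≫ a = (Y ◁ f) ≫ b := by
  obtain ⟨E, e, _, hE⟩ := he
  have hsq : IsPullback (snd Y T).left (fst Y T).left T.hom Y.hom :=
    (isPullback_fst_snd Y T).flip
  obtain ⟨Z, i, hi, hZ⟩ :=
    exists_closed_agree e (snd Y T).left (ProjChart.of_isPullback hsq hY)
  refine ⟨Over.mk (i ≫ T.hom), Over.homMk i, hi, fun T' f => ?_⟩
  have hfac : (∃ z, z ≫ (Over.homMk i : Over.mk (i ≫ T.hom) ⟶ T) = f) ↔ ∃ z, z ≫ i = f.left := by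
    refine ⟨fun ⟨z, hz⟩ => ⟨z.left, congrArg (·.left) hz⟩, fun ⟨z, hz⟩ => ?_⟩
    exact ⟨Over.homMk z (by simp [← Category.assoc, hz]), Over.OverMorphism.ext hz⟩
  rw [hfac, hZ]
  have hsnd : (Y ◁ f).left ≫ (snd Y T).left = (snd Y T').left ≫ f.left := by
    rw [← Over.comp_left, ← Over.comp_left, whiskerLeft_snd]
  refine ⟨fun h => ?_, fun h Q g c hgc => ?_⟩
  · apply Over.OverMorphism.ext
    rw [Over.comp_left, Over.comp_left, ← hE]
    exact h _ _ hsnd
  · rw [hE]
    have hfst : (Y ◁ f).left ≫ (fst Y T).left = (fst Y T').left := by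
      rw [← Over.comp_left, whiskerLeft_fst]
    have hw : g ≫ (fst Y T).left ≫ Y.hom = c ≫ T'.hom := by
      rw [← hsq.w, ← Category.assoc, hgc, Category.assoc, Over.w]
    let g' := (isPullback_fst_snd Y T').lift (g ≫ (fst Y T).left) c (by simpa using hw)
    have hg : g' ≫ (Y ◁ f).left = g := by
      apply (isPullback_fst_snd Y T).hom_ext
      · rw [Category.assoc, hfst]; exact IsPullback.lift_fst _ _ _ _
      · rw [Category.assoc, hsnd, hgc, ← Category.assoc]
        exact congrArg (· ≫ f.left) (IsPullback.lift_snd _ _ _ _)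
    rw [← hg, Category.assoc, Category.assoc, ← Over.comp_left, ← Over.comp_left, h]

/-- agreement locus, separated target -/
theorem exists_agree_of_separated (Y T W : Over S) (hY : ProjChart Y.hom) [IsSeparated W.hom]
    (a b : Y ⊗ T ⟶ W) :
    ∃ (Z : Over S) (i : Z ⟶ T), IsClosedImmersion i.left ∧
      ∀ (T' : Over S) (f : T' ⟶ T), (∃ z, z ≫ i = f) ↔ (Y ◁ f) ≫ a = (Y ◁ f) ≫ b :=
  exists_agree Y T W hY a b
    (exists_closed_equalizer W.hom a.left b.left ((Over.w a).trans (Over.w b).symm))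

/-- agreement locus, morphisms pulling back opens in the same way -/
theorem exists_agree_of_stable (Y T W : Over S) (hY : ProjChart Y.hom) (a b : Y ⊗ T ⟶ W)
    (hst : ∀ U : W.left.Opens, b.left ⁻¹ᵁ U ≤ a.left ⁻¹ᵁ U) :
    ∃ (Z : Over S) (i : Z ⟶ T), IsClosedImmersion i.left ∧
      ∀ (T' : Over S) (f : T' ⟶ T), (∃ z, z ≫ i = f) ↔ (Y ◁ f) ≫ a = (Y ◁ f) ≫ b :=
  exists_agree Y T W hY a b
    (exists_closed_equalizer_of_stable a.left b.left W.hom ((Over.w a).trans (Over.w b).symm) hst)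

/-- "agree on every point of `Y`" in functor of points language -/
lemma whisker_eq_iff (Y T W T' : Over S) (a b : Y ⊗ T ⟶ W) (f : T' ⟶ T) :
    (Y ◁ f) ≫ a = (Y ◁ f) ≫ b ↔
      ∀ (T'' : Over S) (t : T'' ⟶ T') (g : T'' ⟶ Y), lift g (t ≫ f) ≫ a = lift g (t ≫ f) ≫ b := by
  refine ⟨fun h T'' t g => ?_, fun h => ?_⟩
  · rw [← lift_whiskerLeft, Category.assoc, h, ← Category.assoc]
  · have hlift : lift (fst Y T') (snd Y T' ≫ f) = Y ◁ f := by
      apply CartesianMonoidalCategory.hom_ext <;> simp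
    simpa [hlift] using h _ (snd Y T') (fst Y T')

end Groth.Agent.GrpSch.WeilClosed
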