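import Mathlib
import Groth.Agent.SmoothReduced.Basic
import Groth.Agent.GrpSch.AgreeLocus

/-!
# Rational points of smooth schemes over separably closed fields are dense
-/

universe u

open AlgebraicGeometry CategoryTheory CategoryTheory.Limits MonoidalCategory CartesianMonoidalCategory MonObj

namespace Groth.Agent.GrpSch.SepPoints

lemma infinite_of_isSepClosed (k : Type u) [Field k] [IsSepClosed k] : Infinite k := by
  by_contra h
  rw [not_infinite_iff_finite] at h
  have : IsAlgClosed k := inferInstance
  exact not_finite k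

/-- a nonzero smooth algebra over a separably closed field has a rational point -/
theorem exists_algHom_of_smooth (k A : Type u) [Field k] [IsSepClosed k] [CommRing A] [Algebra k A]
    [Algebra.Smooth k A] [Nontrivial A] : Nonempty (A →ₐ[k] k) := by
  classical
  have : Infinite k := infinite_of_isSepClosed k
  obtain ⟨S, hS, hstd⟩ := Algebra.Smooth.exists_span_eq_top_isStandardSmooth k A
  obtain ⟨s, hs, hsn⟩ : ∃ s ∈ S, ¬ IsNilpotent s := by
    by_contra! h
    obtain ⟨p, hp⟩ := Ideal.exists_maximal A
    refine hp.ne_top (top_le_iff.mp (hS ▸ Ideal.span_le.mpr fun s hs => ?_))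
    obtain ⟨n, hn⟩ := h s hs
    exact hp.isPrime.mem_of_pow_mem n (hn ▸ p.zero_mem)
  have : Nontrivial (Localization.Away s) := by
    refine not_subsingleton_iff_nontrivial.mp fun h => hsn ?_
    obtain ⟨n, hn⟩ := (IsLocalization.subsingleton_iff (M := Submonoid.powers s)).mp h
    exact ⟨n, hn⟩
  have := hstd s hs
  obtain ⟨n, g, hgC, hg⟩ := RingHom.IsStandardSmooth.exists_etale_mvPolynomial
    (RingHom.isStandardSmooth_algebraMap.mpr this : (algebraMap k (Localization.Away s)).IsStandardSmooth)
  let P := MvPolynomial (Fin n) k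
  algebraize [g]
  have hopen : IsOpen (Set.range (PrimeSpectrum.comap g)) :=
    (PrimeSpectrum.isOpenMap_comap_of_hasGoingDown_of_finitePresentation
      (R := P) (S := Localization.Away s)).isOpen_range
  obtain ⟨q⟩ : Nonempty (PrimeSpectrum (Localization.Away s)) := inferInstance
  obtain ⟨_, ⟨f, rfl⟩, hqf, hfsub⟩ :=
    PrimeSpectrum.isTopologicalBasis_basic_opens.exists_subset_of_mem_open
      (Set.mem_range_self q) hopen
  have hf : f ≠ 0 := by rintro rfl; simp at hqf
  obtain ⟨a, ha⟩ : ∃ a : Fin n → k, MvPolynomial.eval a f ≠ 0 := by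
    by_contra! h
    exact hf (MvPolynomial.funext fun a => by simpa using h a)
  let p : PrimeSpectrum P := ⟨RingHom.ker (MvPolynomial.eval a), RingHom.ker_isPrime _⟩
  obtain ⟨Q, hQ⟩ := hfsub (show p ∈ (PrimeSpectrum.basicOpen f : Set (PrimeSpectrum P)) from ha)
  letI : Algebra P k := (MvPolynomial.eval a).toAlgebra
  let A' := TensorProduct P k (Localization.Away s)
  let φ : P →+* Q.asIdeal.ResidueField :=
    (algebraMap (Localization.Away s) Q.asIdeal.ResidueField).comp g
  have hφ : ∀ x, φ x = φ (MvPolynomial.C (MvPolynomial.eval a x)) := by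
    intro x
    have hx : x - MvPolynomial.C (MvPolynomial.eval a x) ∈ p.asIdeal := by
      change MvPolynomial.eval a (x - MvPolynomial.C (MvPolynomial.eval a x)) = 0
      rw [map_sub, MvPolynomial.eval_C, sub_self]
    rw [← hQ] at hx
    have : φ (x - MvPolynomial.C (MvPolynomial.eval a x)) = 0 :=
      Ideal.algebraMap_residueField_eq_zero.mpr hx
    rwa [map_sub, sub_eq_zero] at this
  let f₁ : k →ₐ[P] Q.asIdeal.ResidueField :=
    { toRingHom := φ.comp MvPolynomial.C,
      commutes' := fun x => (hφ x).symm.trans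
        (IsScalarTower.algebraMap_apply P (Localization.Away s) Q.asIdeal.ResidueField x).symm }
  let f₂ : Localization.Away s →ₐ[P] Q.asIdeal.ResidueField :=
    { toRingHom := algebraMap (Localization.Away s) _,
      commutes' := fun x =>
        (IsScalarTower.algebraMap_apply P (Localization.Away s) Q.asIdeal.ResidueField x).symm }
  have : Nontrivial A' :=
    (Algebra.TensorProduct.lift f₁ f₂ (fun _ _ => mul_comm _ _)).toRingHom.domain_nontrivial
  obtain ⟨m, hm⟩ := Ideal.exists_maximal A'
  letI := Ideal.Quotient.field m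
  have : Algebra.FormallyUnramified k (A' ⧸ m) :=
    Algebra.FormallyUnramified.comp k A' (A' ⧸ m)
  have : Algebra.EssFiniteType k (A' ⧸ m) := Algebra.EssFiniteType.comp k A' (A' ⧸ m)
  have hsep : Algebra.IsSeparable k (A' ⧸ m) := Algebra.FormallyUnramified.isSeparable k (A' ⧸ m)
  have hbij := IsSepClosed.algebraMap_surjective k (A' ⧸ m)
  let e := AlgEquiv.ofBijective (Algebra.ofId k (A' ⧸ m))
    ⟨(algebraMap k (A' ⧸ m)).injective, hbij⟩
  let ψ : A →+* k := e.symm.toRingHom.comp ((Ideal.Quotient.mk m).comp
    ((Algebra.TensorProduct.includeRight : Localization.Away s →ₐ[P] A').toRingHom.comp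
      (algebraMap A (Localization.Away s))))
  refine ⟨{ toRingHom := ψ, commutes' := fun c => ?_ }⟩
  have h1 : (Algebra.TensorProduct.includeRight : Localization.Away s →ₐ[P] A')
      (algebraMap A (Localization.Away s) (algebraMap k A c)) = algebraMap k A' c := by
    rw [← IsScalarTower.algebraMap_apply, ← hgC, RingHom.comp_apply]
    refine (Algebra.TensorProduct.includeRight.commutes _).trans ?_
    change algebraMap P k (MvPolynomial.C c) ⊗ₜ[P] (1 : Localization.Away s) = c ⊗ₜ[P] 1
    congr 1
    exact MvPolynomial.eval_C c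
  change e.symm (Ideal.Quotient.mk m ((Algebra.TensorProduct.includeRight :
    Localization.Away s →ₐ[P] A') (algebraMap A (Localization.Away s) (algebraMap k A c)))) = c
  rw [h1]
  exact e.symm.commutes c

variable {L : Type u} [Field L]

/-- sections of a smooth scheme over a separably closed field are dense -/
theorem exists_section_mem [IsSepClosed L] {P : Scheme.{u}} (f : P ⟶ Spec (CommRingCat.of L))
    [Smooth f] {U : P.Opens} {x : P} (hx : x ∈ U) :
    ∃ r : Spec (CommRingCat.of L) ⟶ P, r ≫ f = 𝟙 _ ∧ ∀ z, r z ∈ U := by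
  obtain ⟨_, ⟨V, hV, rfl⟩, hxV, hVU⟩ :=
    P.isBasis_affineOpens.exists_subset_of_mem_open (show x ∈ (U : Set P) from hx) U.2
  obtain ⟨φ, hφ⟩ : ∃ φ, Spec.map φ = hV.fromSpec ≫ f := ⟨_, Spec.map_preimage _⟩
  letI := φ.hom.toAlgebra
  have : Algebra.Smooth L Γ(P, V) := by
    have := (HasRingHomProperty.Spec_iff (P := @Smooth) (φ := φ)).mp (hφ ▸ inferInstance)
    exact RingHom.smooth_algebraMap.mp this
  have : Nonempty V := ⟨⟨x, hxV⟩⟩
  obtain ⟨ψ⟩ := exists_algHom_of_smooth L Γ(P, V)
  refine ⟨Spec.map (CommRingCat.ofHom ψ.toRingHom) ≫ hV.fromSpec, ?_, fun z => hVU ?_⟩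
  · rw [Category.assoc, ← hφ, ← Spec.map_comp, ← Spec.map_id]
    congr 1
    ext c
    exact ψ.commutes c
  · exact hV.range_fromSpec ▸ Set.mem_range_self _

/-- a closed subscheme of a smooth scheme over a separably closed field containing all sections
is everything -/
theorem isIso_of_sections [IsSepClosed L] {P Z : Scheme.{u}} (f : P ⟶ Spec (CommRingCat.of L))
    [Smooth f] (c : Z ⟶ P) [IsClosedImmersion c]
    (h : ∀ r : Spec (CommRingCat.of L) ⟶ P, r ≫ f = 𝟙 _ → ∃ z, z ≫ c = r) : IsIso c := by
  have : IsReduced P := SmoothReduced.isReduced_of_smooth_scheme f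
  have : Surjective c := by
    refine ⟨Set.range_eq_univ.mp ?_⟩
    by_contra hne
    obtain ⟨x, hx⟩ := (Set.ne_univ_iff_exists_notMem _).mp hne
    obtain ⟨r, hr, hU⟩ := exists_section_mem f
      (U := ⟨(Set.range c)ᶜ, c.isClosedEmbedding.isClosed_range.isOpen_compl⟩) hx
    obtain ⟨z, hz⟩ := h r hr
    obtain ⟨pt⟩ : Nonempty (Spec (CommRingCat.of L)) := inferInstance
    exact hU pt ⟨z pt, by rw [← Scheme.Hom.comp_apply, hz]⟩
  exact isIso_of_isClosedImmersion_of_surjective c

/-- closed subschemes of a smooth scheme containing all points in a separably closed field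
extension are everything -/
theorem isIso_of_points (k K : Type u) [Field k] [Field K] [Algebra k K] [IsSepClosed K]
    {X Z : Over (Spec (CommRingCat.of k))} [Smooth X.hom] (c : Z ⟶ X) [IsClosedImmersion c.left]
    (h : ∀ x : Over.mk (Spec.map (CommRingCat.ofHom (algebraMap k K))) ⟶ X,
      ∃ z, z ≫ c = x) : IsIso c := by
  let sK := Spec.map (CommRingCat.ofHom (algebraMap k K))
  have : IsReduced X.left := SmoothReduced.isReduced_of_smooth_scheme X.hom
  have : Surjective sK := ⟨fun x => ⟨Classical.arbitrary _, Subsingleton.elim _ _⟩⟩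
  have hiso : IsIso (pullback.snd c.left (pullback.fst X.hom sK)) := by
    refine isIso_of_sections (L := K) (pullback.snd X.hom sK) _ fun r hr => ?_
    obtain ⟨z, hz⟩ := h (Over.homMk (r ≫ pullback.fst X.hom sK) (by
      rw [Category.assoc, pullback.condition, ← Category.assoc, hr]; exact Category.id_comp _))
    exact ⟨pullback.lift z.left r (congrArg (fun m => m.left) hz), pullback.lift_snd _ _ _⟩
  have : Surjective c.left := by
    refine ⟨fun x => ?_⟩
    obtain ⟨y, rfl⟩ := (pullback.fst X.hom sK).surjective x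
    obtain ⟨w, rfl⟩ := (asIso (pullback.snd c.left (pullback.fst X.hom sK))).hom.surjective y
    exact ⟨pullback.fst c.left (pullback.fst X.hom sK) w, by
      rw [← Scheme.Hom.comp_apply, pullback.condition]; rfl⟩
  have : IsIso c.left := isIso_of_isClosedImmersion_of_surjective c.left
  have : IsIso ((Over.forget _).map c) := this
  exact isIso_of_reflects_iso c (Over.forget _)

/-- morphisms to a separated scheme agreeing on points in a separably closed extension are equal -/
theorem eq_of_points (k K : Type u) [Field k] [Field K] [Algebra k K] [IsSepClosed K]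
    {X W : Over (Spec (CommRingCat.of k))} [Smooth X.hom] [IsSeparated W.hom] (a b : X ⟶ W)
    (h : ∀ x : Over.mk (Spec.map (CommRingCat.ofHom (algebraMap k K))) ⟶ X, x ≫ a = x ≫ b) :
    a = b := by
  obtain ⟨E, e, he, hE⟩ := WeilClosed.exists_closed_equalizer W.hom a.left b.left
    ((Over.w a).trans (Over.w b).symm)
  let c : Over.mk (e ≫ X.hom) ⟶ X := Over.homMk e
  have : IsClosedImmersion c.left := he
  have := isIso_of_points k K c fun x => by
    obtain ⟨l, hl⟩ := (hE _ x.left).mpr (congrArg (fun m => m.left) (h x))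
    exact ⟨Over.homMk l (by rw [← Over.w x, ← hl, Category.assoc]; rfl), Over.OverMorphism.ext hl⟩
  have hc : c ≫ a = c ≫ b := Over.OverMorphism.ext ((hE _ e).mp ⟨𝟙 _, Category.id_comp _⟩)
  exact (cancel_epi c).mp hc

lemma isSeparated_grp (G : Over (Spec (CommRingCat.of L))) [GrpObj G] : IsSeparated G.hom := by
  rw [Groth.Agent.GrpSch.isSeparated_iff_one]
  exact isClosedImmersion_of_comp_eq_id G.hom η[G].left (Over.w η[G])

end Groth.Agent.GrpSch.SepPoints
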