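import Groth.Agent.GrpSch.QuasiAffineGrp
import Groth.Agent.GrpSch.KernelSquare
import Groth.Agent.GrpSch.FlatHom
import Groth.Agent.GrpSch.Homogeneous
import Groth.Agent.GrpSch.AntiSmooth
import Groth.Agent.GrpSch.OrbitRat
import Groth.Agent.GrpSch.SepPoints
import Groth.Agent.GrpSch.QuotGroup
import Groth.Agent.ThickAffine.General
import Groth.Agent.FpqcDescent.Basic
import Groth.Agent.MultHopf.KerGrp
import Groth.Prelude.Def_Mor2

/-! Quasi-affine homomorphisms of group schemes over a field are affine. -/

set_option autoImplicit false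
set_option backward.isDefEq.respectTransparency.types false

universe u

open CategoryTheory MonoidalCategory CartesianMonoidalCategory MonObj GrpObj Limits AlgebraicGeometry

namespace Groth.Agent.GrpSch.QuasiAffineHom

/-- Affineness can be checked after composing with a surjective closed immersion. -/
theorem isAffineHom_of_thickening {X₀ X Y : Scheme.{u}} (i : X₀ ⟶ X) [IsClosedImmersion i] [Surjective i]
    (f : X ⟶ Y) [IsAffineHom (i ≫ f)] : IsAffineHom f := by
  refine ⟨fun U hU => ?_⟩
  haveI : IsClosedImmersion (i ∣_ (f ⁻¹ᵁ U)) := IsZariskiLocalAtTarget.restrict ‹IsClosedImmersion i› _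
  haveI : Surjective (i ∣_ (f ⁻¹ᵁ U)) := IsZariskiLocalAtTarget.restrict ‹Surjective i› _
  haveI : IsAffine (i ⁻¹ᵁ (f ⁻¹ᵁ U) : Scheme.{u}) := hU.preimage (i ≫ f)
  exact ThickAffine.isAffine_of_thickening (i ∣_ (f ⁻¹ᵁ U))

/-- over a perfect field, a homomorphism is affine as soon as the projection from its kernel pair is -/
theorem isAffineHom_of_kernelPair {K : Type u} [Field K] [PerfectField K]
    (G H : Over (Spec (CommRingCat.of K))) [GrpObj G] [GrpObj H]
    [LocallyOfFiniteType G.hom] [LocallyOfFiniteType H.hom]
    (f : G ⟶ H) [IsMonHom f] [QuasiCompact f.left]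
    [IsAffineHom (pullback.fst f.left f.left)] : IsAffineHom f.left := by
  haveI := SepPoints.isSeparated_grp G
  haveI := SepPoints.isSeparated_grp H
  haveI : IsSeparated f.left := by
    haveI : IsSeparated (f.left ≫ H.hom) := by rw [Over.w]; infer_instance
    exact IsSeparated.of_comp f.left H.hom
  obtain ⟨G₀, _, j, _, _, _, _⟩ := AntiSmooth.exists_reduced_subgroup G
  let g := j ≫ f
  haveI : LocallyOfFiniteType G₀.hom := by rw [← Over.w j]; infer_instance
  haveI : QuasiCompact g.left := by rw [Over.comp_left]; infer_instance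
  let Z : TopologicalSpace.Closeds H.left := ⟨Set.range g.left, isClosed_range_hom g⟩
  let I : H.left.IdealSheafData := Scheme.IdealSheafData.vanishingIdeal Z
  let R : Over (Spec (CommRingCat.of K)) := Over.mk (I.subschemeι ≫ H.hom)
  let i : R ⟶ H := Over.homMk I.subschemeι rfl
  haveI : IsClosedImmersion i.left := inferInstanceAs (IsClosedImmersion I.subschemeι)
  haveI : Mono i := (Over.forget _).mono_of_mono_map (show Mono i.left from inferInstance)
  haveI hRred : AlgebraicGeometry.IsReduced R.left := RedSepLib.isReduced_vanishingIdeal Z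
  have hr : Set.range i.left = Set.range g.left := by
    show Set.range I.subschemeι = _
    rw [Scheme.IdealSheafData.range_subschemeι, Scheme.IdealSheafData.coe_support_vanishingIdeal]
    rfl
  have key : ∀ (T : Over (Spec (CommRingCat.of K))), AlgebraicGeometry.IsReduced T.left → ∀ (t : T ⟶ H),
      Set.range t.left ⊆ Set.range g.left → ∃ a : T ⟶ R, a ≫ i = t := by
    intro T _ t ht
    obtain ⟨a, ha⟩ := exists_lift_of_isImmersion i.left t.left (by rw [hr]; exact ht)
    exact ⟨Over.homMk a (by rw [← Over.w i, ← Category.assoc, ha, Over.w]), Over.OverMorphism.ext ha⟩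
  obtain ⟨g', hg'⟩ := key G₀ inferInstance g subset_rfl
  haveI : Surjective g'.left := ⟨fun r => by
    obtain ⟨x, hx⟩ := hr.le ⟨r, rfl⟩
    refine ⟨x, i.left.isEmbedding.injective ?_⟩
    rw [← Scheme.Hom.comp_apply, ← Over.comp_left, hg']
    exact hx⟩
  haveI : LocallyOfFiniteType R.hom := inferInstanceAs (LocallyOfFiniteType (I.subschemeι ≫ H.hom))
  have hgrp : ∃ _ : GrpObj R, IsMonHom i := by
    refine exists_grpObj_of_mono i ?_ (fun T a b => ?_) (fun T a => ?_)
    · exact ⟨η[G₀] ≫ g', by rw [Category.assoc, hg', IsMonHom.one_hom]⟩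
    · obtain ⟨m, hm⟩ := key (R ⊗ R) (GeomRed.isReduced_pullback_of_perfectField R.hom R.hom)
        ((fst R R ≫ i) * (snd R R ≫ i)) (by
        have hsurj : Surjective (g' ⊗ₘ g').left :=
          QuotGroup.tensor_prop g' g' ‹Surjective g'.left› ‹Surjective g'.left›
        rintro _ ⟨x, rfl⟩
        obtain ⟨y, rfl⟩ := hsurj.surj x
        refine ⟨μ[G₀].left y, ?_⟩
        rw [← comp_left_apply, ← comp_left_apply]
        refine congrArg (fun q : G₀ ⊗ G₀ ⟶ H => q.left y) ?_
        rw [MonObj.comp_mul, tensorHom_fst_assoc, tensorHom_snd_assoc, hg', IsMonHom.mul_hom (f := g),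
          Hom.mul_def]
        simp)
      exact ⟨lift a b ≫ m, by rw [Category.assoc, hm, MonObj.comp_mul, lift_fst_assoc, lift_snd_assoc]⟩
    · obtain ⟨v, hv⟩ := key R hRred i⁻¹ (by
        rintro _ ⟨x, rfl⟩
        obtain ⟨y, rfl⟩ := g'.left.surjective x
        refine ⟨((𝟙 G₀)⁻¹ : G₀ ⟶ G₀).left y, ?_⟩
        rw [← comp_left_apply, ← comp_left_apply, GrpObj.comp_inv, hg', GrpObj.inv_comp, Category.id_comp])
      exact ⟨a ≫ v, by rw [Category.assoc, hv, GrpObj.comp_inv]⟩
  obtain ⟨_, _⟩ := hgrp
  haveI : IsMonHom g' :=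
    { one_hom := by rw [← cancel_mono i, Category.assoc, hg', IsMonHom.one_hom, IsMonHom.one_hom]
      mul_hom := by
        rw [← cancel_mono i, Category.assoc, hg', IsMonHom.mul_hom, Category.assoc,
          IsMonHom.mul_hom (f := i), tensorHom_comp_tensorHom_assoc, hg'] }
  haveI : Flat g'.left := flat_hom_of_isReduced g'
  haveI : IsLocallyNoetherian R.left := LocallyOfFiniteType.isLocallyNoetherian R.hom
  haveI : LocallyOfFiniteType (g'.left ≫ R.hom) := by rw [Over.w]; infer_instance
  haveI : LocallyOfFiniteType g'.left := locallyOfFiniteType_of_comp _ R.hom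
  haveI : LocallyOfFinitePresentation g'.left := inferInstance
  have hfac : g'.left ≫ i.left = j.left ≫ f.left := by
    rw [← Over.comp_left, hg', Over.comp_left]
  haveI : IsAffineHom (pullback.fst g'.left g'.left) := by
    haveI hsep : IsSeparated (pullback.fst g'.left g'.left ≫ j.left) := by
      haveI : IsSeparated g'.left := by
        haveI : IsSeparated (g'.left ≫ i.left) := by rw [hfac]; infer_instance
        exact IsSeparated.of_comp g'.left i.left
      infer_instance
    let m : pullback g'.left g'.left ⟶ pullback f.left f.left :=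
      pullback.map _ _ _ _ j.left j.left i.left hfac hfac
    haveI : IsClosedImmersion m := by
      have e : m = (pullback.mapDesc g'.left g'.left i.left) ≫
          pullback.map (g'.left ≫ i.left) (g'.left ≫ i.left) f.left f.left j.left j.left (𝟙 _)
            (by rw [Category.comp_id, hfac]) (by rw [Category.comp_id, hfac]) := by
        apply pullback.hom_ext <;> simp only [m, pullback.mapDesc, Category.assoc, pullback.map, pullback.lift_fst, pullback.lift_snd, pullback.lift_fst_assoc, pullback.lift_snd_assoc, Category.id_comp]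
      rw [e]
      haveI : IsClosedImmersion (pullback.mapDesc g'.left g'.left i.left) := inferInstance
      haveI : IsClosedImmersion (pullback.map (g'.left ≫ i.left) (g'.left ≫ i.left) f.left f.left j.left j.left (𝟙 _)
            (by rw [Category.comp_id, hfac]) (by rw [Category.comp_id, hfac])) :=
        MorphismProperty.pullbackMap (P := @IsClosedImmersion) ‹IsClosedImmersion j.left› ‹IsClosedImmersion j.left› hfac hfac
      exact IsClosedImmersion.comp _ _
    haveI : IsAffineHom (pullback.fst g'.left g'.left ≫ j.left) := by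
      have e : pullback.fst g'.left g'.left ≫ j.left = m ≫ pullback.fst f.left f.left := by simp only [m, pullback.map, pullback.lift_fst]
      rw [e]
      infer_instance
    exact IsAffineHom.of_comp (pullback.fst g'.left g'.left) j.left
  haveI : IsAffineHom (pullback.snd g'.left g'.left) := by
    rw [← pullbackSymmetry_hom_comp_fst]; infer_instance
  haveI : IsAffineHom g'.left := MorphismProperty.of_isPullback_of_descendsAlong
    (P := @IsAffineHom) (Q := @Surjective ⊓ @Flat ⊓ @LocallyOfFinitePresentation)
    (IsPullback.of_hasPullback g'.left g'.left).flip ⟨⟨‹_›, ‹_›⟩, ‹_›⟩ ‹_›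
  haveI : IsAffineHom (j.left ≫ f.left) := by rw [← hfac]; infer_instance
  exact isAffineHom_of_thickening j.left f.left

variable {k : Type u} [Field k] {P Q : Over (Spec (CommRingCat.of k))} [GrpObj P] [GrpObj Q]

/-- a quasi-affine homomorphism of groups over a field is affine -/
theorem isAffineHom_of_isQuasiAffine [LocallyOfFiniteType P.hom] [LocallyOfFiniteType Q.hom]
    (f : P ⟶ Q) [IsMonHom f] (hf : Mor2.IsQuasiAffine f.left) : IsAffineHom f.left := by
  haveI := hf.1
  haveI := SepPoints.isSeparated_grp Q
  -- the kernel is affine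
  let N := MultHopf.kerObj f
  let ιN := MultHopf.kerι f
  have hk : AlgGrp.IsKernel ιN f := IsPullback.of_isLimit' ⟨by rw [MultHopf.kerι_comp, Hom.one_def]⟩
    (PullbackCone.IsLimit.mk _ (fun s => MultHopf.kerLift f s.fst (by
      rw [s.condition, toUnit_unique s.snd (toUnit _), Hom.one_def]))
      (fun s => MultHopf.kerLift_ι f _ _) (fun s => toUnit_unique _ _)
      (fun s m h1 _ => equalizer.hom_ext (h1.trans (MultHopf.kerLift_ι f _ _).symm)))
  haveI : QuasiCompact N.hom := by
    have h := MorphismProperty.of_isPullback (P := @QuasiCompact) (isPullback_left hk) hf.1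
    exact h
  haveI : N.left.IsQuasiAffine := by
    obtain ⟨V, hV, heV, -⟩ := exists_isAffineOpen_mem_and_subset
      (x := η[Q].left (IsLocalRing.closedPoint k)) (U := ⊤) trivial
    haveI : (f.left ⁻¹ᵁ V : Scheme.{u}).IsQuasiAffine := hf.2 V hV
    haveI : IsImmersion η[Q].left := by
      haveI : IsClosedImmersion (η[Q].left ≫ Q.hom) := by
        rw [Over.w]
        exact inferInstanceAs (IsClosedImmersion (𝟙 (Spec (CommRingCat.of k))))
      haveI := IsClosedImmersion.of_comp η[Q].left Q.hom
      infer_instance
    haveI : IsImmersion ιN.left := MorphismProperty.of_isPullback (P := @IsImmersion) (isPullback_left hk).flip ‹_›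
    have hsub : Set.range ιN.left ⊆ Set.range (f.left ⁻¹ᵁ V).ι := by
      rw [Scheme.Opens.range_ι]
      rintro _ ⟨x, rfl⟩
      show f.left (ιN.left x) ∈ V
      rw [← comp_left_apply, hk.w, comp_left_apply, (Subsingleton.elim (α := PrimeSpectrum k) _ _ : (toUnit N).left x = IsLocalRing.closedPoint k)]
      exact heV
    let l := IsOpenImmersion.lift (f.left ⁻¹ᵁ V).ι ιN.left hsub
    haveI : IsImmersion (l ≫ (f.left ⁻¹ᵁ V).ι) := by rw [IsOpenImmersion.lift_fac]; infer_instance
    haveI := IsImmersion.of_comp l (f.left ⁻¹ᵁ V).ι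
    haveI : CompactSpace N.left := QuasiCompact.compactSpace_of_compactSpace N.hom
    exact Scheme.IsQuasiAffine.of_isImmersion l
  haveI : IsAffine N.left := QuasiAffineGrp.isAffine_of_isQuasiAffine N
  haveI : IsAffineHom N.hom := inferInstance
  have hpair : IsAffineHom (fst P N).left := property_fst P N ‹_›
  have hsq := KernelSquare.isPullback ιN f hk
  -- base change to an algebraic closure
  let L := AlgebraicClosure k
  let b : Spec (CommRingCat.of L) ⟶ Spec (CommRingCat.of k) := Spec.map (CommRingCat.ofHom (algebraMap k L))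
  let F := Over.pullback b
  letI := Red.grpObj_bc b P
  letI := Red.grpObj_bc b Q
  haveI : IsMonHom (F.map f) := (F.mapGrp.map (Grp.homMk'' f : Grp.mk P ⟶ Grp.mk Q)).hom.isMonHom_hom
  haveI : LocallyOfFiniteType (Red.bc b P).hom := MorphismProperty.pullback_snd (P := @LocallyOfFiniteType) _ _ inferInstance
  haveI : LocallyOfFiniteType (Red.bc b Q).hom := MorphismProperty.pullback_snd (P := @LocallyOfFiniteType) _ _ inferInstance
  haveI : QuasiCompact (F.map f).left := MorphismProperty.baseChange_map (P := @QuasiCompact) b f hf.1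
  haveI : IsAffineHom (pullback.fst (F.map f).left (F.map f).left) := by
    have h' := isPullback_left (hsq.map F)
    rw [← h'.isoPullback_inv_fst]
    haveI : IsAffineHom (F.map (fst P N)).left := MorphismProperty.baseChange_map (P := @IsAffineHom) b (fst P N) hpair
    infer_instance
  haveI : IsAffineHom (F.map f).left := isAffineHom_of_kernelPair (F.obj P) (F.obj Q) (F.map f)
  have hbc : IsPullback (pullback.fst Q.hom b) (pullback.snd Q.hom b) Q.hom b := IsPullback.of_hasPullback _ _
  have hsqf : IsPullback (pullback.fst P.hom b) (F.map f).left f.left (pullback.fst Q.hom b) := by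
    refine IsPullback.of_bot ?_ ?_ hbc
    · have : (F.map f).left ≫ pullback.snd Q.hom b = pullback.snd P.hom b := pullback.lift_snd _ _ _
      rw [this, Over.w f]
      exact IsPullback.of_hasPullback _ _
    · exact (pullback.lift_fst _ _ _).symm
  haveI : Surjective b :=
    ⟨Function.surjective_to_subsingleton (α := PrimeSpectrum L) (β := PrimeSpectrum k) _⟩
  haveI : QuasiCompact b := inferInstance
  haveI : Flat b := inferInstance
  exact MorphismProperty.of_isPullback_of_descendsAlong
    (P := @IsAffineHom) (Q := @Surjective ⊓ @Flat ⊓ @QuasiCompact)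
    (f := pullback.fst Q.hom b) hsqf.flip
    ⟨⟨MorphismProperty.pullback_fst (P := @Surjective) _ _ ‹_›, MorphismProperty.pullback_fst (P := @Flat) _ _ ‹_›⟩,
      MorphismProperty.pullback_fst (P := @QuasiCompact) _ _ ‹_›⟩ ‹_›

end Groth.Agent.GrpSch.QuasiAffineHom
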