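import Groth.Agent.GeomRed.Alg
import Mathlib.RingTheory.Adjoin.FG
import Mathlib.RingTheory.Flat.Basic
import Mathlib.RingTheory.TensorProduct.Free
import Mathlib.RingTheory.TensorProduct.Nontrivial

/-!
Over an algebraically closed field the tensor product of two domains is a domain.
-/

set_option autoImplicit false

open TensorProduct

namespace Groth.Agent.GrpSch.Irred

variable {k : Type*} [Field k]

lemma mul_eq_zero_of_fg [IsAlgClosed k] {A B : Type*} [CommRing A] [IsDomain A] [Algebra k A]
    [Algebra.FiniteType k A] [CommRing B] [IsDomain B] [Algebra k B]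
    (f g : B ⊗[k] A) (h : f * g = 0) : f = 0 ∨ g = 0 := by
  let b := Module.Free.chooseBasis k B
  let e := TensorProduct.equivFinsuppOfBasisLeft (N := A) b
  let ev : (A →ₐ[k] k) → (B ⊗[k] A →ₐ[k] B) := fun σ =>
    (Algebra.TensorProduct.rid k k B).toAlgHom.comp
      (Algebra.TensorProduct.map (AlgHom.id k B) σ)
  have key : ∀ (σ : A →ₐ[k] k) (w : B ⊗[k] A) (j), σ (e w j) = b.repr (ev σ w) j := by
    intro σ w j
    induction w using TensorProduct.induction_on with
    | zero => simp
    | tmul x a => simp [e, ev, mul_comm]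
    | add x y hx hy => simp [hx, hy]
  have : ∀ i j, e f i * e g j = 0 := by
    intro i j
    by_contra hne
    obtain ⟨σ, hσ⟩ := GeomRed.exists_point_ne_zero (k := k) A _ hne
    rw [map_mul] at hσ
    have hfg : ev σ f * ev σ g = 0 := by rw [← map_mul, h, map_zero]
    rcases mul_eq_zero.1 hfg with h0 | h0
    · exact left_ne_zero_of_mul hσ (by rw [key, h0]; simp)
    · exact right_ne_zero_of_mul hσ (by rw [key, h0]; simp)
  by_contra hne
  push Not at hne
  obtain ⟨i, hi⟩ : ∃ i, e f i ≠ 0 := by
    by_contra hc
    push Not at hc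
    exact hne.1 (e.injective (by rw [map_zero]; exact Finsupp.ext hc))
  obtain ⟨j, hj⟩ : ∃ j, e g j ≠ 0 := by
    by_contra hc
    push Not at hc
    exact hne.2 (e.injective (by rw [map_zero]; exact Finsupp.ext hc))
  exact mul_ne_zero hi hj (this i j)

/-- Every element of a tensor product comes from a finitely generated subalgebra. -/
lemma exists_fg_subalgebra {A B : Type*} [CommRing A] [Algebra k A] [CommRing B] [Algebra k B]
    (w : B ⊗[k] A) : ∃ (S : Subalgebra k A), S.FG ∧
      w ∈ (Algebra.TensorProduct.map (AlgHom.id k B) S.val).range := by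
  induction w using TensorProduct.induction_on with
  | zero => exact ⟨⊥, Subalgebra.fg_bot, 0, map_zero _⟩
  | tmul x a =>
    exact ⟨Algebra.adjoin k {a}, ⟨{a}, by simp⟩,
      x ⊗ₜ ⟨a, Algebra.subset_adjoin rfl⟩, by simp⟩
  | add x y hx hy =>
    obtain ⟨S, hS, x', rfl⟩ := hx
    obtain ⟨T, hT, y', rfl⟩ := hy
    refine ⟨S ⊔ T, hS.sup hT,
      Algebra.TensorProduct.map (AlgHom.id k B) (Subalgebra.inclusion le_sup_left) x' +
      Algebra.TensorProduct.map (AlgHom.id k B) (Subalgebra.inclusion le_sup_right) y', ?_⟩
    have : ∀ (U V : Subalgebra k A) (hUV : U ≤ V) (z : B ⊗[k] U),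
        Algebra.TensorProduct.map (AlgHom.id k B) V.val
          (Algebra.TensorProduct.map (AlgHom.id k B) (Subalgebra.inclusion hUV) z) =
        Algebra.TensorProduct.map (AlgHom.id k B) U.val z := by
      intro U V hUV z
      induction z using TensorProduct.induction_on with
      | zero => simp
      | tmul p q => simp
      | add p q hp hq => simp [hp, hq]
    simp [map_add, this]

/-- Over an algebraically closed field, the tensor product of two domains is a domain. -/
theorem isDomain_tensorProduct [IsAlgClosed k] (B A : Type*) [CommRing A] [IsDomain A]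
    [Algebra k A] [CommRing B] [IsDomain B] [Algebra k B] : IsDomain (B ⊗[k] A) := by
  have : Nontrivial (B ⊗[k] A) :=
    Algebra.TensorProduct.nontrivial_of_algebraMap_injective_of_isDomain k B A
      (algebraMap k B).injective (algebraMap k A).injective
  have : NoZeroDivisors (B ⊗[k] A) := ⟨fun {f g} h => by
    obtain ⟨S, hS, f', hf⟩ := exists_fg_subalgebra f
    obtain ⟨T, hT, g', hg⟩ := exists_fg_subalgebra g
    let U := S ⊔ T
    have : Algebra.FiniteType k U := U.fg_iff_finiteType.mp (hS.sup hT)
    let iU := Algebra.TensorProduct.map (AlgHom.id k B) U.val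
    have hinj : Function.Injective iU :=
      Module.Flat.lTensor_preserves_injective_linearMap (M := B) U.val.toLinearMap
        Subtype.val_injective
    have lift : ∀ (V : Subalgebra k A), V ≤ U → ∀ z,
        z ∈ (Algebra.TensorProduct.map (AlgHom.id k B) V.val).range → ∃ z', iU z' = z := by
      rintro V hV z ⟨z', rfl⟩
      refine ⟨Algebra.TensorProduct.map (AlgHom.id k B) (Subalgebra.inclusion hV) z', ?_⟩
      induction z' using TensorProduct.induction_on with
      | zero => simp
      | tmul p q => simp [iU]
      | add p q hp hq => simp only [map_add] at hp hq ⊢; rw [hp, hq]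
    obtain ⟨f', rfl⟩ := lift S le_sup_left f ⟨f', hf⟩
    obtain ⟨g', rfl⟩ := lift T le_sup_right g ⟨g', hg⟩
    rw [← map_mul, ← map_zero iU] at h
    exact (mul_eq_zero_of_fg _ _ (hinj h)).imp (fun e => by rw [e, map_zero])
      (fun e => by rw [e, map_zero])⟩
  exact NoZeroDivisors.to_isDomain _

end Groth.Agent.GrpSch.Irred
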