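import Mathlib
import Groth.Agent.GenFlat.Descent
import Groth.Agent.FlatMorLib.Approx

/-!
# Constant sections along the closed fibre of a flat family, algebraic form

A compatible family of elements of finitely presented flat algebras over a local ring, which is
killed by a section, vanishes near the closed fibre provided the closed fibre has only constant
compatible families.
-/

universe u

open TensorProduct IsLocalRing

namespace Groth.Agent.GrpSch.FibreAlg

section core

variable {R : Type u} [CommRing R] [IsLocalRing R] [IsNoetherianRing R]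
  {ι η : Type} (s t : η → ι) (i₀ : ι)
  (A : ι → Type u) [∀ i, AddCommGroup (A i)] [∀ i, Module R (A i)] [∀ i, Module.Flat R (A i)]
  (B : η → Type u) [∀ l, AddCommGroup (B l)] [∀ l, Module R (B l)] [∀ l, Module.Flat R (B l)]
  (ρ : ∀ l, A (s l) →ₗ[R] B l) (σ : ∀ l, A (t l) →ₗ[R] B l) (ε : A i₀ →ₗ[R] R)

theorem mem_pow_smul_top
    (H : ∀ z : ∀ i, ResidueField R ⊗[R] A i,
      (∀ l, (ρ l).lTensor _ (z (s l)) = (σ l).lTensor _ (z (t l))) →
        ε.lTensor _ (z i₀) = 0 → ∀ i, z i = 0)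
    (x : ∀ i, A i) (hx : ∀ l, ρ l (x (s l)) = σ l (x (t l))) (hε : ε (x i₀) = 0) (n : ℕ) :
    ∀ i, x i ∈ (maximalIdeal R ^ n : Ideal R) • (⊤ : Submodule R (A i)) := by
  classical
  induction n with
  | zero => intro i; simp
  | succ n ih =>
    set m := maximalIdeal R
    let I : Ideal R := m ^ n
    let N : Submodule R I := m • ⊤
    -- lift to `I ⊗ A`
    let μ : ∀ {M : Type u} [AddCommGroup M] [Module R M], I ⊗[R] M →ₗ[R] M :=
      fun {M} _ _ => (TensorProduct.lid R M).toLinearMap ∘ₗ (Submodule.subtype I).rTensor M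
    have hμinj : ∀ {M : Type u} [AddCommGroup M] [Module R M] [Module.Flat R M],
        Function.Injective (μ (M := M)) := by
      intro M _ _ _
      simp only [μ, LinearMap.coe_comp, LinearEquiv.coe_coe]
      exact (TensorProduct.lid R M).injective.comp
        (Module.Flat.rTensor_preserves_injective_linearMap _ Subtype.val_injective)
    have hμnat : ∀ {M M' : Type u} [AddCommGroup M] [Module R M] [AddCommGroup M'] [Module R M']
        (f : M →ₗ[R] M') (z : I ⊗[R] M), μ (f.lTensor I z) = f (μ z) := by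
      intro M M' _ _ _ _ f z
      induction z with
      | zero => simp
      | add a b ha hb => simp [ha, hb]
      | tmul a b => simp [μ]
    have hμrange : ∀ {M : Type u} [AddCommGroup M] [Module R M] (J : Ideal R) (hJ : J ≤ I) (a : M),
        a ∈ J • (⊤ : Submodule R M) →
          ∃ z : I ⊗[R] M, μ z = a ∧ z ∈ LinearMap.range ((Submodule.comap I.subtype J).subtype.rTensor M) := by
      intro M _ _ J hJ a ha
      refine Submodule.smul_induction_on ha (fun r hr b _ => ?_) (fun b c hb hc => ?_)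
      · exact ⟨⟨r, hJ hr⟩ ⊗ₜ b, by simp [μ], ⟨⟨⟨r, hJ hr⟩, hr⟩ ⊗ₜ b, by simp⟩⟩
      · obtain ⟨z, hz, hz'⟩ := hb
        obtain ⟨w, hw, hw'⟩ := hc
        exact ⟨z + w, by simp [hz, hw], add_mem hz' hw'⟩
    choose y hy _ using fun i => hμrange I le_rfl (x i) (ih i)
    have hcompat : ∀ l, (ρ l).lTensor I (y (s l)) = (σ l).lTensor I (y (t l)) := fun l =>
      hμinj (by rw [hμnat, hμnat, hy, hy, hx])
    have hεy : ε.lTensor I (y i₀) = 0 := hμinj (by rw [hμnat, hy, hε, map_zero])
    -- the graded piece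
    let V := I ⧸ N
    let q : I →ₗ[R] V := N.mkQ
    have hfun : ∀ (ℓ : V →ₗ[R] ResidueField R) (i : ι), (ℓ ∘ₗ q).rTensor (A i) (y i) = 0 := by
      intro ℓ
      refine H _ (fun l => ?_) ?_
      · rw [← LinearMap.comp_apply, ← LinearMap.comp_apply, LinearMap.lTensor_comp_rTensor,
          LinearMap.lTensor_comp_rTensor, ← LinearMap.rTensor_comp_lTensor,
          ← LinearMap.rTensor_comp_lTensor, LinearMap.comp_apply, LinearMap.comp_apply, hcompat l]
      · rw [← LinearMap.comp_apply, LinearMap.lTensor_comp_rTensor,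
          ← LinearMap.rTensor_comp_lTensor, LinearMap.comp_apply, hεy, map_zero]
    letI : Module (ResidueField R) V :=
      (inferInstance : Module (R ⧸ m) (I ⧸ (m • ⊤ : Submodule R I)))
    haveI : IsScalarTower R (ResidueField R) V :=
      IsScalarTower.of_algebraMap_smul fun r v => by
        induction v using Submodule.Quotient.induction_on with | _ v => rfl
    haveI : Module.Finite (ResidueField R) V := Module.Finite.of_restrictScalars_finite R _ _
    let b := Module.Free.chooseBasis (ResidueField R) V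
    have hzero : ∀ i, q.rTensor (A i) (y i) = 0 := by
      intro i
      have hid : q = ∑ j, ((LinearMap.toSpanSingleton (ResidueField R) V (b j)).restrictScalars R) ∘ₗ
          (((b.coord j).restrictScalars R) ∘ₗ q) := by
        ext a
        simp only [LinearMap.coe_sum, Finset.sum_apply, LinearMap.comp_apply,
          LinearMap.restrictScalars_apply, LinearMap.toSpanSingleton_apply, Module.Basis.coord_apply]
        exact (b.sum_repr (q a)).symm
      rw [hid, ← LinearMap.coe_rTensorHom, map_sum, LinearMap.sum_apply]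
      refine Finset.sum_eq_zero fun j _ => ?_
      rw [LinearMap.coe_rTensorHom, LinearMap.rTensor_comp, LinearMap.comp_apply,
        hfun ((b.coord j).restrictScalars R) i, map_zero]
    intro i
    obtain ⟨w, hw⟩ := ((rTensor_exact (A i) (f := N.subtype) (g := q)
      (LinearMap.exact_subtype_mkQ N) N.mkQ_surjective) (y i)).mp (hzero i)
    rw [← hy i, ← hw]
    clear hw
    induction w with
    | zero => simp
    | add a c ha hc => simpa using add_mem ha hc
    | tmul a c =>
      have : μ (N.subtype.rTensor (A i) (a ⊗ₜ[R] c)) = ((a : I) : R) • c := by simp [μ]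
      rw [this]
      refine Submodule.smul_mem_smul ?_ trivial
      have ha : (a : I) ∈ N := a.2
      rw [pow_succ']
      exact Submodule.smul_induction_on ha (fun r hr b _ => Ideal.mul_mem_mul hr b.2)
        (fun _ _ h h' => add_mem h h')

end core

section reduction

variable {R : Type u} [CommRing R]

/-- enlarge the base of a model -/
lemma exists_model_of_le {S S' : Subalgebra ℤ R} (h : S ≤ S') {C₀ A : Type u} [CommRing C₀]
    [Algebra S C₀] [Module.Flat S C₀] [Algebra.FinitePresentation S C₀] [CommRing A] [Algebra R A]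
    (e : A ≃ₐ[R] R ⊗[S] C₀) :
    ∃ (C₁ : Type u) (_ : CommRing C₁) (_ : Algebra S' C₁), Module.Flat S' C₁ ∧
      Algebra.FinitePresentation S' C₁ ∧ Nonempty (A ≃ₐ[R] R ⊗[S'] C₁) := by
  letI := (Subalgebra.inclusion h).toRingHom.toAlgebra
  haveI : IsScalarTower S S' R := IsScalarTower.of_algebraMap_eq fun _ => rfl
  exact ⟨S' ⊗[S] C₀, inferInstance, inferInstance, inferInstance, inferInstance,
    ⟨e.trans (Algebra.TensorProduct.cancelBaseChange S S' R R C₀).symm⟩⟩

/-- finitely many flat finitely presented algebras have models over a common finitely generated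
subring -/
lemma exists_models {ι η : Type} [Finite ι] [Finite η] (A : ι → Type u) [∀ i, CommRing (A i)]
    [∀ i, Algebra R (A i)] [∀ i, Module.Flat R (A i)] [∀ i, Algebra.FinitePresentation R (A i)]
    (B : η → Type u) [∀ l, CommRing (B l)]
    [∀ l, Algebra R (B l)] [∀ l, Module.Flat R (B l)] [∀ l, Algebra.FinitePresentation R (B l)] :
    ∃ (S : Subalgebra ℤ R), S.FG ∧
      (∀ i, ∃ (C : Type u) (_ : CommRing C) (_ : Algebra S C), Module.Flat S C ∧
        Algebra.FinitePresentation S C ∧ Nonempty (A i ≃ₐ[R] R ⊗[S] C)) ∧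
      (∀ l, ∃ (C : Type u) (_ : CommRing C) (_ : Algebra S C), Module.Flat S C ∧
        Algebra.FinitePresentation S C ∧ Nonempty (B l ≃ₐ[R] R ⊗[S] C)) := by
  classical
  cases nonempty_fintype ι
  cases nonempty_fintype η
  choose S C i1 i2 hS hf hp he using fun i => Groth.Agent.GenFlat.exists_flat_model (K := ℤ) (B := R) (C := A i)
  choose T D j1 j2 hT hf' hp' he' using fun l => Groth.Agent.GenFlat.exists_flat_model (K := ℤ) (B := R) (C := B l)
  refine ⟨Finset.univ.sup S ⊔ Finset.univ.sup T, ?_, fun i => ?_, fun l => ?_⟩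
  · exact (Finset.sup_induction (p := Subalgebra.FG) Subalgebra.fg_bot (fun a ha b hb => ha.sup hb)
      fun i _ => hS i).sup (Finset.sup_induction (p := Subalgebra.FG) Subalgebra.fg_bot
        (fun a ha b hb => ha.sup hb) fun i _ => hT i)
  · haveI := hf i
    haveI := hp i
    exact exists_model_of_le ((Finset.le_sup (Finset.mem_univ i)).trans le_sup_left) (he i).some
  · haveI := hf' l
    haveI := hp' l
    exact exists_model_of_le ((Finset.le_sup (Finset.mem_univ l)).trans le_sup_right) (he' l).some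

/-- transfer from a noetherian local model -/
theorem exists_annihilator_of_model {R₀ : Type u} [CommRing R₀] [IsLocalRing R₀] [IsNoetherianRing R₀]
    [IsLocalRing R] [Algebra R₀ R] [IsLocalHom (algebraMap R₀ R)]
    (hinj : Function.Injective (algebraMap R₀ R))
    {ι η : Type} [Finite ι] (s t : η → ι) (i₀ : ι)
    (A : ι → Type u) [∀ i, CommRing (A i)] [∀ i, Algebra R (A i)]
    (B : η → Type u) [∀ l, CommRing (B l)] [∀ l, Algebra R (B l)]
    (A₀ : ι → Type u) [∀ i, CommRing (A₀ i)] [∀ i, Algebra R₀ (A₀ i)]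
    [∀ i, Module.Flat R₀ (A₀ i)] [∀ i, Algebra.FiniteType R₀ (A₀ i)]
    (B₀ : η → Type u) [∀ l, CommRing (B₀ l)] [∀ l, Algebra R₀ (B₀ l)] [∀ l, Module.Flat R₀ (B₀ l)]
    (eA : ∀ i, A i ≃ₐ[R] R ⊗[R₀] A₀ i) (eB : ∀ l, B l ≃ₐ[R] R ⊗[R₀] B₀ l)
    (ρ : ∀ l, A (s l) →ₐ[R] B l) (σ : ∀ l, A (t l) →ₐ[R] B l) (ε : A i₀ →ₐ[R] R)
    (ρ₀ : ∀ l, A₀ (s l) →ₐ[R₀] B₀ l) (σ₀ : ∀ l, A₀ (t l) →ₐ[R₀] B₀ l) (ε₀ : A₀ i₀ →ₐ[R₀] R₀)
    (hρ : ∀ l z, eB l (ρ l ((eA (s l)).symm (1 ⊗ₜ z))) = 1 ⊗ₜ ρ₀ l z)
    (hσ : ∀ l z, eB l (σ l ((eA (t l)).symm (1 ⊗ₜ z))) = 1 ⊗ₜ σ₀ l z)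
    (hε₀ : ∀ z, ε ((eA i₀).symm (1 ⊗ₜ z)) = algebraMap R₀ R (ε₀ z))
    (H : ∀ z : ∀ i, ResidueField R ⊗[R] A i,
      (∀ l, (ρ l).toLinearMap.lTensor _ (z (s l)) = (σ l).toLinearMap.lTensor _ (z (t l))) →
        ε.toLinearMap.lTensor _ (z i₀) = 0 → ∀ i, z i = 0)
    (x : ∀ i, A i) (x₀ : ∀ i, A₀ i) (hx₀ : ∀ i, eA i (x i) = 1 ⊗ₜ x₀ i)
    (hx : ∀ l, ρ l (x (s l)) = σ l (x (t l))) (hε : ε (x i₀) = 0)
    (i : ι) (q : Ideal (A i)) [q.IsPrime]
    (hq : (maximalIdeal R).map (algebraMap R (A i)) ≤ q) : ∃ u ∉ q, u * x i = 0 := by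
  have hxe : ∀ i, x i = (eA i).symm (1 ⊗ₜ x₀ i) := fun i => by
    rw [← hx₀, AlgEquiv.symm_apply_apply]
  have hcompat : ∀ l, ρ₀ l (x₀ (s l)) = σ₀ l (x₀ (t l)) := fun l => by
    have h := congrArg (eB l) (hx l)
    rw [hxe, hxe, hρ, hσ] at h
    exact Algebra.TensorProduct.includeRight_injective (A := R) hinj h
  have hεx : ε₀ (x₀ i₀) = 0 := hinj (by rw [← hε₀, ← hxe, hε, map_zero])
  let κ : ResidueField R₀ →ₗ[R₀] ResidueField R :=
    { toFun := ResidueField.map (algebraMap R₀ R)
      map_add' := map_add _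
      map_smul' := fun r a => by
        rw [RingHom.id_apply, Algebra.smul_def, Algebra.smul_def, map_mul]
        congr 1 }
  have hκ : Function.Injective κ := (ResidueField.map (algebraMap R₀ R)).injective
  -- the comparison of closed fibres
  let Λ : ∀ {M₀ : Type u} [CommRing M₀] [Algebra R₀ M₀] {M : Type u} [CommRing M] [Algebra R M]
      (_ : M ≃ₐ[R] R ⊗[R₀] M₀), ResidueField R₀ ⊗[R₀] M₀ →ₗ[R₀] ResidueField R ⊗[R₀] M₀ :=
    fun {M₀} _ _ {M} _ _ _ => κ.rTensor M₀
  let Ψ : ∀ {M₀ : Type u} [CommRing M₀] [Algebra R₀ M₀] {M : Type u} [CommRing M] [Algebra R M]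
      (_ : M ≃ₐ[R] R ⊗[R₀] M₀), ResidueField R ⊗[R₀] M₀ ≃ₗ[R] ResidueField R ⊗[R] M :=
    fun {M₀} _ _ {M} _ _ e =>
      (TensorProduct.AlgebraTensorModule.cancelBaseChange R₀ R R (ResidueField R) M₀).symm ≪≫ₗ
        e.symm.toLinearEquiv.lTensor (ResidueField R)
  have hΨ : ∀ {M₀ : Type u} [CommRing M₀] [Algebra R₀ M₀] {M : Type u} [CommRing M] [Algebra R M]
      (e : M ≃ₐ[R] R ⊗[R₀] M₀) (a : ResidueField R) (z : M₀),
      Ψ e (a ⊗ₜ[R₀] z) = a ⊗ₜ[R] e.symm (1 ⊗ₜ z) := by
    intro M₀ _ _ M _ _ e a z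
    simp [Ψ]
  have hΛinj : ∀ i, Function.Injective (fun z => Ψ (eA i) (Λ (eA i) z)) := fun i =>
    (Ψ (eA i)).injective.comp (Module.Flat.rTensor_preserves_injective_linearMap κ hκ)
  have hn := mem_pow_smul_top s t i₀ A₀ B₀ (fun l => (ρ₀ l).toLinearMap) (fun l => (σ₀ l).toLinearMap)
    ε₀.toLinearMap (fun z hz hεz => by
      have hnat : ∀ l z, (ρ l).toLinearMap.lTensor _ (Ψ (eA (s l)) (Λ (eA (s l)) z)) =
          Ψ (eB l) (Λ (eB l) ((ρ₀ l).toLinearMap.lTensor _ z)) := by
        intro l z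
        induction z with
        | zero => simp
        | add a b ha hb => simp only [map_add, ha, hb]
        | tmul a b =>
          simp only [Λ, LinearMap.lTensor_tmul, LinearMap.rTensor_tmul, hΨ, AlgHom.toLinearMap_apply]
          rw [← hρ, AlgEquiv.symm_apply_apply]
      have hnat' : ∀ l z, (σ l).toLinearMap.lTensor _ (Ψ (eA (t l)) (Λ (eA (t l)) z)) =
          Ψ (eB l) (Λ (eB l) ((σ₀ l).toLinearMap.lTensor _ z)) := by
        intro l z
        induction z with
        | zero => simp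
        | add a b ha hb => simp only [map_add, ha, hb]
        | tmul a b =>
          simp only [Λ, LinearMap.lTensor_tmul, LinearMap.rTensor_tmul, hΨ, AlgHom.toLinearMap_apply]
          rw [← hσ, AlgEquiv.symm_apply_apply]
      have hnatε : ∀ z, TensorProduct.rid R (ResidueField R)
          (ε.toLinearMap.lTensor _ (Ψ (eA i₀) (Λ (eA i₀) z))) =
          κ (TensorProduct.rid R₀ (ResidueField R₀) (ε₀.toLinearMap.lTensor _ z)) := by
        intro z
        induction z with
        | zero => simp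
        | add a b ha hb => simp only [map_add, ha, hb]
        | tmul a b =>
          simp only [Λ, LinearMap.lTensor_tmul, LinearMap.rTensor_tmul, hΨ, AlgHom.toLinearMap_apply,
            TensorProduct.rid_tmul, map_smul, hε₀, algebraMap_smul]
      have := H (fun i => Ψ (eA i) (Λ (eA i) (z i))) (fun l => by rw [hnat, hnat', hz]) (by
        apply (TensorProduct.rid R (ResidueField R)).injective
        rw [hnatε, hεz, map_zero, map_zero, map_zero])
      exact fun i => hΛinj i ((this i).trans (by simp)))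
    x₀ hcompat hεx
  -- Krull
  haveI : IsNoetherianRing (A₀ i) := Algebra.FiniteType.isNoetherianRing R₀ _
  let θ : A₀ i →+* A i :=
    (eA i).symm.toRingEquiv.toRingHom.comp Algebra.TensorProduct.includeRight.toRingHom
  let q₀ : Ideal (A₀ i) := q.comap θ
  have hm : (maximalIdeal R₀).map (algebraMap R₀ (A₀ i)) ≤ q₀ := by
    refine Ideal.map_le_iff_le_comap.mpr fun r hr => ?_
    change (eA i).symm ((Algebra.TensorProduct.includeRight : A₀ i →ₐ[R₀] R ⊗[R₀] A₀ i)
      (algebraMap R₀ (A₀ i) r)) ∈ q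
    rw [AlgHom.commutes, IsScalarTower.algebraMap_apply R₀ R (R ⊗[R₀] A₀ i), AlgEquiv.commutes]
    exact hq (Ideal.mem_map_of_mem _ (((IsLocalRing.mem_maximalIdeal _).mpr fun hu =>
      (IsLocalRing.mem_maximalIdeal _).mp hr ((isUnit_map_iff (algebraMap R₀ R) r).mp hu))))
  have hzero : algebraMap _ (Localization.AtPrime q₀) (x₀ i) = 0 := by
    rw [← Ideal.mem_bot, ← Ideal.iInf_pow_eq_bot_of_isLocalRing
      (maximalIdeal (Localization.AtPrime q₀)) (Ideal.IsPrime.ne_top')]
    refine Ideal.mem_iInf.mpr fun n => ?_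
    have h1 : x₀ i ∈ q₀ ^ n := by
      refine Submodule.smul_induction_on (hn n i) (fun r hr a _ => ?_) fun _ _ h h' => add_mem h h'
      rw [Algebra.smul_def]
      refine Ideal.mul_mem_right _ _ (Ideal.pow_right_mono hm n ?_)
      rw [← Ideal.map_pow]
      exact Ideal.mem_map_of_mem _ hr
    rw [← IsLocalization.AtPrime.map_eq_maximalIdeal q₀ (Localization.AtPrime q₀), ← Ideal.map_pow]
    exact Ideal.mem_map_of_mem _ h1
  obtain ⟨u, hu⟩ := (IsLocalization.map_eq_zero_iff q₀.primeCompl _ _).mp hzero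
  refine ⟨θ u, u.2, ?_⟩
  rw [hxe, show (eA i).symm (1 ⊗ₜ x₀ i) = θ (x₀ i) from rfl, ← map_mul, hu, map_zero]

/-- transfer from models over a further base -/
theorem exists_annihilator_of_stage {S R₀ : Type u} [CommRing S] [CommRing R₀] [IsLocalRing R₀]
    [IsNoetherianRing R₀] [IsLocalRing R] [Algebra S R₀] [Algebra S R] [Algebra R₀ R]
    [IsScalarTower S R₀ R] [IsLocalHom (algebraMap R₀ R)]
    (hinj : Function.Injective (algebraMap R₀ R))
    {ι η : Type} [Finite ι] (s t : η → ι) (i₀ : ι)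
    (A : ι → Type u) [∀ i, CommRing (A i)] [∀ i, Algebra R (A i)]
    (B : η → Type u) [∀ l, CommRing (B l)] [∀ l, Algebra R (B l)]
    (C : ι → Type u) [∀ i, CommRing (C i)] [∀ i, Algebra S (C i)]
    [∀ i, Module.Flat S (C i)] [∀ i, Algebra.FiniteType S (C i)]
    (D : η → Type u) [∀ l, CommRing (D l)] [∀ l, Algebra S (D l)] [∀ l, Module.Flat S (D l)]
    (eA : ∀ i, A i ≃ₐ[R] R ⊗[S] C i) (eB : ∀ l, B l ≃ₐ[R] R ⊗[S] D l)
    (ρ : ∀ l, A (s l) →ₐ[R] B l) (σ : ∀ l, A (t l) →ₐ[R] B l) (ε : A i₀ →ₐ[R] R)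
    (ρ₁ : ∀ l, C (s l) →ₐ[S] R₀ ⊗[S] D l) (σ₁ : ∀ l, C (t l) →ₐ[S] R₀ ⊗[S] D l)
    (ε₁ : C i₀ →ₐ[S] R₀)
    (hρ : ∀ l c, Algebra.TensorProduct.map (IsScalarTower.toAlgHom S R₀ R) (AlgHom.id S (D l))
      (ρ₁ l c) = eB l (ρ l ((eA (s l)).symm (1 ⊗ₜ c))))
    (hσ : ∀ l c, Algebra.TensorProduct.map (IsScalarTower.toAlgHom S R₀ R) (AlgHom.id S (D l))
      (σ₁ l c) = eB l (σ l ((eA (t l)).symm (1 ⊗ₜ c))))
    (hε₁ : ∀ c, algebraMap R₀ R (ε₁ c) = ε ((eA i₀).symm (1 ⊗ₜ c)))
    (H : ∀ z : ∀ i, ResidueField R ⊗[R] A i,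
      (∀ l, (ρ l).toLinearMap.lTensor _ (z (s l)) = (σ l).toLinearMap.lTensor _ (z (t l))) →
        ε.toLinearMap.lTensor _ (z i₀) = 0 → ∀ i, z i = 0)
    (x : ∀ i, A i) (x₁ : ∀ i, R₀ ⊗[S] C i)
    (hx₁ : ∀ i, Algebra.TensorProduct.map (IsScalarTower.toAlgHom S R₀ R) (AlgHom.id S (C i))
      (x₁ i) = eA i (x i))
    (hx : ∀ l, ρ l (x (s l)) = σ l (x (t l))) (hε : ε (x i₀) = 0)
    (i : ι) (q : Ideal (A i)) [q.IsPrime]
    (hq : (maximalIdeal R).map (algebraMap R (A i)) ≤ q) : ∃ u ∉ q, u * x i = 0 := by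
  let e : ∀ i, A i ≃ₐ[R] R ⊗[R₀] (R₀ ⊗[S] C i) := fun i =>
    (eA i).trans (Algebra.TensorProduct.cancelBaseChange S R₀ R R (C i)).symm
  let e' : ∀ l, B l ≃ₐ[R] R ⊗[R₀] (R₀ ⊗[S] D l) := fun l =>
    (eB l).trans (Algebra.TensorProduct.cancelBaseChange S R₀ R R (D l)).symm
  have hcb : ∀ (M : Type u) [CommRing M] [Algebra S M] (z : R₀ ⊗[S] M),
      Algebra.TensorProduct.cancelBaseChange S R₀ R R M ((1 : R) ⊗ₜ[R₀] z) =
        Algebra.TensorProduct.map (IsScalarTower.toAlgHom S R₀ R) (AlgHom.id S M) z := by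
    intro M _ _ z
    induction z with
    | zero => simp
    | add a b ha hb => rw [TensorProduct.tmul_add, map_add, map_add, ha, hb]
    | tmul r c => simp [Algebra.smul_def]
  refine exists_annihilator_of_model (R₀ := R₀) hinj s t i₀ A B (fun i => R₀ ⊗[S] C i)
    (fun l => R₀ ⊗[S] D l) e e' ρ σ ε
    (fun l => Algebra.TensorProduct.lift (Algebra.ofId R₀ _) (ρ₁ l) fun _ _ => mul_comm _ _)
    (fun l => Algebra.TensorProduct.lift (Algebra.ofId R₀ _) (σ₁ l) fun _ _ => mul_comm _ _)
    (Algebra.TensorProduct.lift (Algebra.ofId R₀ R₀) ε₁ fun _ _ => mul_comm _ _) ?_ ?_ ?_ H x x₁ ?_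
    hx hε i q hq
  · intro l
    suffices (((e' l).toAlgHom.comp ((ρ l).comp (e (s l)).symm.toAlgHom)).restrictScalars R₀).comp
        Algebra.TensorProduct.includeRight =
        (Algebra.TensorProduct.includeRight.comp
          (Algebra.TensorProduct.lift (Algebra.ofId R₀ _) (ρ₁ l) fun _ _ => mul_comm _ _)) from
      fun z => DFunLike.congr_fun this z
    refine Algebra.TensorProduct.ext (Algebra.ext_id ..) (AlgHom.ext fun c => ?_)
    apply (Algebra.TensorProduct.cancelBaseChange S R₀ R R (D l)).injective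
    simp [e, e', hcb, hρ, ← Algebra.TensorProduct.one_def]
  · intro l
    suffices (((e' l).toAlgHom.comp ((σ l).comp (e (t l)).symm.toAlgHom)).restrictScalars R₀).comp
        Algebra.TensorProduct.includeRight =
        (Algebra.TensorProduct.includeRight.comp
          (Algebra.TensorProduct.lift (Algebra.ofId R₀ _) (σ₁ l) fun _ _ => mul_comm _ _)) from
      fun z => DFunLike.congr_fun this z
    refine Algebra.TensorProduct.ext (Algebra.ext_id ..) (AlgHom.ext fun c => ?_)
    apply (Algebra.TensorProduct.cancelBaseChange S R₀ R R (D l)).injective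
    simp [e, e', hcb, hσ, ← Algebra.TensorProduct.one_def]
  · suffices ((ε.comp (e i₀).symm.toAlgHom).restrictScalars R₀).comp
        Algebra.TensorProduct.includeRight = (Algebra.ofId R₀ R).comp
          (Algebra.TensorProduct.lift (Algebra.ofId R₀ R₀) ε₁ fun _ _ => mul_comm _ _) from
      fun z => DFunLike.congr_fun this z
    refine Algebra.TensorProduct.ext (Algebra.ext_id ..) (AlgHom.ext fun c => ?_)
    simp [e, hcb, hε₁, Algebra.ofId_apply]
  · intro i
    apply (Algebra.TensorProduct.cancelBaseChange S R₀ R R (C i)).injective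
    simp [e, hcb, hx₁]

open Groth.Agent.FlatMorLib in
set_option synthInstance.maxHeartbeats 200000 in
/-- A compatible family killed by a section vanishes near the closed fibre, if the closed fibre
has no nonzero compatible family killed by the section. -/
theorem exists_annihilator [IsLocalRing R] {ι η : Type} [Finite ι] [Finite η] (s t : η → ι) (i₀ : ι)
    (A : ι → Type u) [∀ i, CommRing (A i)]
    [∀ i, Algebra R (A i)] [∀ i, Module.Flat R (A i)] [∀ i, Algebra.FinitePresentation R (A i)]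
    (B : η → Type u) [∀ l, CommRing (B l)]
    [∀ l, Algebra R (B l)] [∀ l, Module.Flat R (B l)] [∀ l, Algebra.FinitePresentation R (B l)]
    (ρ : ∀ l, A (s l) →ₐ[R] B l) (σ : ∀ l, A (t l) →ₐ[R] B l) (ε : A i₀ →ₐ[R] R)
    (H : ∀ z : ∀ i, ResidueField R ⊗[R] A i,
      (∀ l, (ρ l).toLinearMap.lTensor _ (z (s l)) = (σ l).toLinearMap.lTensor _ (z (t l))) →
        ε.toLinearMap.lTensor _ (z i₀) = 0 → ∀ i, z i = 0)
    (x : ∀ i, A i) (hx : ∀ l, ρ l (x (s l)) = σ l (x (t l))) (hε : ε (x i₀) = 0)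
    (i : ι) (q : Ideal (A i)) [q.IsPrime]
    (hq : (maximalIdeal R).map (algebraMap R (A i)) ≤ q) : ∃ u ∉ q, u * x i = 0 := by
  classical
  cases nonempty_fintype ι
  cases nonempty_fintype η
  obtain ⟨S, hS, hA, hB⟩ := exists_models (R := R) A B
  choose C iC iC' hCf hCp eA' using hA
  choose D iD iD' hDf hDp eB' using hB
  let eA := fun i => (eA' i).some
  let eB := fun l => (eB' l).some
  haveI : Algebra.FiniteType ℤ S := (Subalgebra.fg_iff_finiteType S).1 hS
  haveI : IsNoetherianRing S := Algebra.FiniteType.isNoetherianRing ℤ S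
  haveI := hCp
  haveI := hDp
  haveI := hCf
  haveI := hDf
  -- descend the maps
  choose A₁ hA₁ φ hφ using fun l => Approx.exists_fg_lift (R := S) (A := R)
    ((((eB l).toAlgHom.comp (ρ l)).comp (eA (s l)).symm.toAlgHom).restrictScalars S |>.comp
      Algebra.TensorProduct.includeRight)
  choose A₂ hA₂ ψ hψ using fun l => Approx.exists_fg_lift (R := S) (A := R)
    ((((eB l).toAlgHom.comp (σ l)).comp (eA (t l)).symm.toAlgHom).restrictScalars S |>.comp
      Algebra.TensorProduct.includeRight)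
  let εC : C i₀ →ₐ[S] R := ((ε.comp (eA i₀).symm.toAlgHom).restrictScalars S).comp
    Algebra.TensorProduct.includeRight
  choose A₃ hA₃ hmem using fun i => Approx.exists_fg_finset_subset (R := S) (A := R)
    ({eA i (x i)} : Finset (R ⊗[S] C i))
  let A' : Subalgebra S R :=
    Finset.univ.sup A₁ ⊔ Finset.univ.sup A₂ ⊔ εC.range ⊔ Finset.univ.sup A₃
  have hA' : A'.FG := by
    refine (((Finset.sup_induction (p := Subalgebra.FG) Subalgebra.fg_bot (fun a ha b hb => ha.sup hb)
      fun i _ => hA₁ i).sup (Finset.sup_induction (p := Subalgebra.FG) Subalgebra.fg_bot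
        (fun a ha b hb => ha.sup hb) fun i _ => hA₂ i)).sup ?_).sup
      (Finset.sup_induction (p := Subalgebra.FG) Subalgebra.fg_bot (fun a ha b hb => ha.sup hb)
        fun i _ => hA₃ i)
    rw [← Algebra.map_top]
    exact (Algebra.FiniteType.out (R := S) (A := C i₀)).map εC
  have h₁ : ∀ l, A₁ l ≤ A' := fun l =>
    (Finset.le_sup (Finset.mem_univ l)).trans (le_sup_left.trans (le_sup_left.trans le_sup_left))
  have h₂ : ∀ l, A₂ l ≤ A' := fun l =>
    (Finset.le_sup (Finset.mem_univ l)).trans (le_sup_right.trans (le_sup_left.trans le_sup_left))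
  have hεr : εC.range ≤ A' := le_sup_right.trans le_sup_left
  have h₃ : ∀ i, A₃ i ≤ A' := fun i => (Finset.le_sup (Finset.mem_univ i)).trans le_sup_right
  have hmem' : ∀ i, ∃ w, Approx.valT (C i) A' w = eA i (x i) := by
    intro i
    obtain ⟨w, hw⟩ := hmem i _ (Finset.mem_singleton_self _)
    exact ⟨Approx.incT (C i) (h₃ i) w, (Approx.valT_incT _ _).trans hw⟩
  choose w hw using hmem'
  let φ' := fun l => (Approx.incT (D l) (h₁ l)).comp (φ l)
  let ψ' := fun l => (Approx.incT (D l) (h₂ l)).comp (ψ l)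
  have hφ' : ∀ l z, Approx.valT (D l) A' (Approx.ext' (φ' l) z) =
      eB l (ρ l ((eA (s l)).symm (Approx.valT (C (s l)) A' z))) := by
    intro l z
    refine Approx.valT_ext' (φ' l) (((eB l).toAlgHom.comp (ρ l)).comp (eA (s l)).symm.toAlgHom) ?_ z
    rw [← AlgHom.comp_assoc, Approx.valT_comp_incT, hφ l]; rfl
  have hψ' : ∀ l z, Approx.valT (D l) A' (Approx.ext' (ψ' l) z) =
      eB l (σ l ((eA (t l)).symm (Approx.valT (C (t l)) A' z))) := by
    intro l z
    refine Approx.valT_ext' (ψ' l) (((eB l).toAlgHom.comp (σ l)).comp (eA (t l)).symm.toAlgHom) ?_ z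
    rw [← AlgHom.comp_assoc, Approx.valT_comp_incT, hψ l]; rfl
  haveI : Algebra.FiniteType S A' := (Subalgebra.fg_iff_finiteType A').1 hA'
  haveI : IsNoetherianRing A' := Algebra.FiniteType.isNoetherianRing S A'
  -- localise
  let p : Ideal A' := (maximalIdeal R).comap A'.val.toRingHom
  let R₀ := Localization.AtPrime p
  let j : R₀ →+* R := IsLocalization.lift (M := p.primeCompl) (g := A'.val.toRingHom)
    fun y => IsLocalRing.notMem_maximalIdeal.mp y.2
  have hj : ∀ a : A', j (algebraMap A' R₀ a) = (a : R) := fun a => IsLocalization.lift_eq _ a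
  haveI : IsLocalHom j := by
    constructor
    intro a ha
    obtain ⟨a, y, rfl⟩ := IsLocalization.exists_mk'_eq p.primeCompl a
    rw [IsLocalization.AtPrime.isUnit_mk'_iff]
    intro hap
    refine (IsLocalRing.mem_maximalIdeal _).mp hap ?_
    have h2 := congrArg j (IsLocalization.mk'_spec R₀ a y)
    rw [map_mul, hj, hj] at h2
    change IsUnit (a : R)
    rw [← h2]
    exact ha.mul (IsLocalRing.notMem_maximalIdeal.mp y.2)
  let jS : R₀ →ₐ[S] R := AlgHom.mk j fun c => by
    rw [IsScalarTower.algebraMap_apply S A' R₀]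
    exact (hj _).trans rfl
  let pr : A' →ₐ[S] R₀ := IsScalarTower.toAlgHom S A' R₀
  have hjinj : Function.Injective j := by
    rw [IsLocalization.lift_injective_iff]
    refine fun a b => ⟨fun h => ?_, fun h => ?_⟩
    · have := congrArg j h
      rwa [hj, hj] at this
    · rw [Subtype.ext h]
  haveI : IsNoetherianRing R₀ := IsLocalization.isNoetherianRing p.primeCompl R₀ inferInstance
  letI : Algebra R₀ R := j.toAlgebra
  haveI : IsScalarTower S R₀ R := IsScalarTower.of_algebraMap_eq fun c => (jS.commutes c).symm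
  haveI : IsLocalHom (algebraMap R₀ R) := ‹IsLocalHom j›
  have hfac : (IsScalarTower.toAlgHom S R₀ R).comp pr = A'.val := AlgHom.ext fun a => hj a
  have hmap : ∀ (M : Type u) [CommRing M] [Algebra S M] (z : A' ⊗[S] M),
      Algebra.TensorProduct.map (IsScalarTower.toAlgHom S R₀ R) (AlgHom.id S M)
        (Algebra.TensorProduct.map pr (AlgHom.id S M) z) = Approx.valT M A' z := by
    intro M _ _ z
    rw [← AlgHom.comp_apply, ← Algebra.TensorProduct.map_comp, hfac, AlgHom.id_comp]
  refine exists_annihilator_of_stage (S := S) (R₀ := R₀) hjinj s t i₀ A B C D eA eB ρ σ ε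
    (fun l => (Algebra.TensorProduct.map pr (AlgHom.id S (D l))).comp (φ' l))
    (fun l => (Algebra.TensorProduct.map pr (AlgHom.id S (D l))).comp (ψ' l))
    (pr.comp ((Subalgebra.inclusion hεr).comp εC.rangeRestrict)) (fun l c => ?_) (fun l c => ?_)
    (fun c => hj _) H x (fun i => Algebra.TensorProduct.map pr (AlgHom.id S (C i)) (w i))
    (fun i => ?_) hx hε i q hq
  · have h1 := hφ' l (1 ⊗ₜ c)
    simp only [Approx.ext', Algebra.TensorProduct.lift_tmul, map_one, one_mul,
      Algebra.TensorProduct.map_tmul] at h1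
    rw [AlgHom.comp_apply, hmap]
    exact h1
  · have h1 := hψ' l (1 ⊗ₜ c)
    simp only [Approx.ext', Algebra.TensorProduct.lift_tmul, map_one, one_mul,
      Algebra.TensorProduct.map_tmul] at h1
    rw [AlgHom.comp_apply, hmap]
    exact h1
  · rw [hmap, hw]

end reduction

end Groth.Agent.GrpSch.FibreAlg
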