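import Mathlib

/-!
# Global functions of proper, geometrically reduced and connected schemes over a field
-/

universe u

open AlgebraicGeometry CategoryTheory CategoryTheory.Limits TensorProduct

namespace Groth.Agent.GrpSch.ProperConst

lemma exists_eq_algebraMap_of_connected {K : Type u} [Field K] [IsAlgClosed K] {X : Scheme.{u}}
    [IsReduced X] [ConnectedSpace X] [Algebra K Γ(X, ⊤)] [Algebra.IsIntegral K Γ(X, ⊤)]
    (a : Γ(X, ⊤)) : ∃ c : K, algebraMap K Γ(X, ⊤) c = a := by
  classical
  obtain ⟨p, hp, hpa⟩ := Algebra.IsIntegral.isIntegral (R := K) a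
  have hsplit := (IsAlgClosed.splits p).eq_prod_roots_of_monic hp
  rw [hsplit, Polynomial.eval₂_multiset_prod] at hpa
  simp only [Multiset.map_map, Function.comp_def, Polynomial.eval₂_sub, Polynomial.eval₂_X,
    Polynomial.eval₂_C] at hpa
  have hprod : (p.roots.map fun c => a - algebraMap K Γ(X, ⊤) c).prod = 0 := hpa
  have hunion : ∀ x : X, ∃ c ∈ p.roots.toFinset, x ∉ X.basicOpen (a - algebraMap K Γ(X, ⊤) c) := by
    intro x
    by_contra! h
    have : ∀ (s : Multiset K), (∀ c ∈ s, c ∈ p.roots) →
        x ∈ X.basicOpen ((s.map fun c => a - algebraMap K Γ(X, ⊤) c).prod) := by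
      intro s
      induction s using Multiset.induction_on with
      | empty => intro; simp [Scheme.basicOpen_of_isUnit]
      | cons c s ih =>
        intro hs
        rw [Multiset.map_cons, Multiset.prod_cons, Scheme.basicOpen_mul]
        exact ⟨h c (Multiset.mem_toFinset.mpr (hs c (Multiset.mem_cons_self _ _))),
          ih fun d hd => hs d (Multiset.mem_cons_of_mem hd)⟩
    have := this p.roots (fun _ h => h)
    rw [hprod, Scheme.basicOpen_zero] at this
    exact this
  let F : K → Set X := fun c => ((X.basicOpen (a - algebraMap K Γ(X, ⊤) c) : X.Opens) : Set X)ᶜ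
  obtain ⟨x₀⟩ : Nonempty X := inferInstance
  obtain ⟨c, hc, hxc⟩ := hunion x₀
  refine ⟨c, ?_⟩
  have hdisj : ∀ d, d ≠ c → ∀ x, x ∈ F c → x ∉ F d := by
    intro d hd x hxc hxd
    have hu : IsUnit (algebraMap K Γ(X, ⊤) (d - c)) :=
      (Ne.isUnit (sub_ne_zero.mpr hd)).map _
    have hz : algebraMap K Γ(X, ⊤) (d - c) =
        (a - algebraMap K Γ(X, ⊤) c) - (a - algebraMap K Γ(X, ⊤) d) := by
      rw [map_sub]; ring
    have hx : x ∈ X.basicOpen (algebraMap K Γ(X, ⊤) (d - c)) := by
      rw [Scheme.basicOpen_of_isUnit _ hu]; trivial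
    rw [X.mem_basicOpen_top] at hx
    simp only [F, Set.mem_compl_iff, SetLike.mem_coe, X.mem_basicOpen_top] at hxc hxd
    rw [hz, map_sub] at hx
    have hc' := (IsLocalRing.mem_maximalIdeal _).mpr (mem_nonunits_iff.mpr hxc)
    have hd' := (IsLocalRing.mem_maximalIdeal _).mpr (mem_nonunits_iff.mpr hxd)
    exact (IsLocalRing.mem_maximalIdeal _).mp (Ideal.sub_mem _ hc' hd') hx
  have hFc : F c = Set.univ := by
    refine IsClopen.eq_univ ⟨(X.basicOpen _).2.isClosed_compl, ?_⟩ ⟨x₀, hxc⟩
    rw [← isClosed_compl_iff]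
    have : (F c)ᶜ = ⋃ d ∈ (p.roots.toFinset.erase c), F d := by
      ext x
      simp only [Set.mem_compl_iff, Set.mem_iUnion, Finset.mem_erase]
      refine ⟨fun hx => ?_, fun ⟨d, ⟨hd, _⟩, hxd⟩ hxc => hdisj d hd x hxc hxd⟩
      obtain ⟨d, hd, hxd⟩ := hunion x
      exact ⟨d, ⟨fun h => hx (h ▸ hxd), hd⟩, hxd⟩
    rw [this]
    exact isClosed_biUnion_finset fun d _ => (X.basicOpen _).2.isClosed_compl
  have hbot : X.basicOpen (a - algebraMap K Γ(X, ⊤) c) = ⊥ := by
    ext x
    have : x ∈ F c := hFc ▸ trivial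
    simpa [F] using this
  exact (sub_eq_zero.mp ((basicOpen_eq_bot_iff _).mp hbot)).symm

/-- a proper, geometrically reduced, geometrically connected scheme over a field has only
constant global functions -/
theorem bijective_appTop {K : Type u} [Field K] {X : Scheme.{u}}
    (f : X ⟶ Spec (CommRingCat.of K)) [IsProper f] [GeometricallyReduced f]
    [GeometricallyConnected f] :
    Function.Bijective ((Scheme.ΓSpecIso (CommRingCat.of K)).inv ≫ f.appTop).hom := by
  let L := AlgebraicClosure K
  let σ : Spec (CommRingCat.of L) ⟶ Spec (CommRingCat.of K) :=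
    Spec.map (CommRingCat.ofHom (algebraMap K L))
  let q := pullback.snd f σ
  haveI : IsReduced (pullback f σ) :=
    GeometricallyReduced.geometrically_isReduced (f := f) σ (pullback.fst f σ) (pullback.snd f σ)
      (.of_hasPullback f σ)
  haveI : ConnectedSpace ↥(pullback f σ) :=
    GeometricallyConnected.geometrically_connectedSpace (f := f) σ (pullback.fst f σ)
      (pullback.snd f σ) (.of_hasPullback f σ)
  haveI : CompactSpace X := QuasiCompact.compactSpace_of_compactSpace f
  haveI : QuasiSeparatedSpace X := quasiSeparatedSpace_of_quasiSeparated f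
  haveI : Flat σ := inferInstance
  let F := (Scheme.ΓSpecIso (CommRingCat.of K)).inv ≫ f.appTop
  let G := (Scheme.ΓSpecIso (CommRingCat.of L)).inv ≫ q.appTop
  algebraize [F.hom]
  have hG : Function.Bijective G.hom := by
    algebraize [G.hom]
    haveI : Algebra.IsIntegral L Γ(pullback f σ, ⊤) := by
      constructor
      exact RingHom.isIntegral_respectsIso.2 (e := (Scheme.ΓSpecIso (CommRingCat.of L)).symm.commRingCatIsoToRingEquiv)
        q.appTop.hom (isIntegral_appTop_of_universallyClosed q)
    haveI : Nonempty (⊤ : (pullback f σ).Opens) := ⟨⟨Classical.arbitrary _, trivial⟩⟩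
    refine ⟨?_, fun a => exists_eq_algebraMap_of_connected a⟩
    exact G.hom.injective
  have H : IsPushout f.appTop σ.appTop (pullback.fst f σ).appTop q.appTop := by
    have hiso := isIso_pushoutSection_of_isQuasiSeparated_of_flat_right
      (IsPullback.of_hasPullback f σ) (US := ⊤) (UT := ⊤) (UX := ⊤) le_top le_top (UY := ⊤) (by simp)
      (isAffineOpen_top _) (isAffineOpen_top _) isCompact_univ isQuasiSeparated_univ
    have := (isIso_pushoutSection_iff ..).mp hiso
    simpa [Scheme.Hom.appLE_eq_app, Scheme.Hom.appTop, Scheme.Hom.appLE] using this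
  have H2 : IsPushout F (CommRingCat.ofHom (algebraMap K L)) (pullback.fst f σ).appTop G :=
    H.of_iso (Scheme.ΓSpecIso _) (Iso.refl _) (Scheme.ΓSpecIso _) (Iso.refl _)
      (by simp [F]) (by simp [σ, Scheme.ΓSpecIso_naturality]) (by simp) (by simp [G])
  let e := H2.flip.isoIsPushout _ _ (CommRingCat.isPushout_tensorProduct K L Γ(X, ⊤))
  have hl : Function.Bijective
      (Algebra.TensorProduct.includeLeftRingHom : L →+* L ⊗[K] Γ(X, ⊤)) := by
    have h1 : G ≫ e.hom = CommRingCat.ofHom Algebra.TensorProduct.includeLeftRingHom :=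
      IsPushout.inl_isoIsPushout_hom _ _ _ _
    have h2 := e.commRingCatIsoToRingEquiv.bijective.comp hG
    rw [show (Algebra.TensorProduct.includeLeftRingHom : L →+* L ⊗[K] Γ(X, ⊤)) = (G ≫ e.hom).hom
      from (congrArg CommRingCat.Hom.hom h1).symm]
    exact h2
  have hlt : Function.Bijective ((Algebra.linearMap K Γ(X, ⊤)).lTensor L) := by
    have : ((Algebra.linearMap K Γ(X, ⊤)).lTensor L : L ⊗[K] K → L ⊗[K] Γ(X, ⊤)) =
        (Algebra.TensorProduct.includeLeftRingHom : L →+* L ⊗[K] Γ(X, ⊤)) ∘
          (TensorProduct.rid K L) := by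
      funext z
      induction z with
      | zero => simp
      | add x y hx hy => simp only [map_add, Function.comp_apply] at hx hy ⊢; rw [hx, hy]
      | tmul l r =>
        simp only [LinearMap.lTensor_tmul, Algebra.linearMap_apply, Function.comp_apply,
          TensorProduct.rid_tmul, Algebra.TensorProduct.includeLeftRingHom_apply]
        rw [Algebra.algebraMap_eq_smul_one, TensorProduct.tmul_smul, TensorProduct.smul_tmul']
    rw [this]
    exact hl.comp (TensorProduct.rid K L).bijective
  exact (Module.FaithfullyFlat.lTensor_bijective_iff_bijective K L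
    (Algebra.linearMap K Γ(X, ⊤))).mp hlt

end Groth.Agent.GrpSch.ProperConst
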