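import Mathlib
import Groth.Agent.GrpSch.FibreAlg
import Groth.Agent.GrpSch.ProperConst

/-!
# Global functions of a proper flat scheme with a section over a local ring
-/

universe u

open AlgebraicGeometry CategoryTheory CategoryTheory.Limits TensorProduct IsLocalRing

namespace Groth.Agent.GrpSch.LocalConst

variable {R : CommRingCat.{u}} {X : Scheme.{u}} (π : X ⟶ Spec R)

/-- the algebra of sections of an open of a scheme over an affine base -/
noncomputable def algU (U : X.Opens) : Algebra R Γ(X, U) :=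
  ((Scheme.ΓSpecIso R).inv ≫ π.appLE ⊤ U le_top).hom.toAlgebra

variable (K : Type u) [CommRing K] [Algebra R K]

/-- comparison of sections on a base change -/
lemma exists_tensor_equiv (U : X.Opens) (hU : IsAffineOpen U) :
    letI := algU π U
    ∃ Ψ : K ⊗[R] Γ(X, U) ≃+* Γ(pullback π (Spec.map (CommRingCat.ofHom (algebraMap R K))),
        pullback.fst π (Spec.map (CommRingCat.ofHom (algebraMap R K))) ⁻¹ᵁ U),
      ∀ c a, Ψ (c ⊗ₜ a) =
        ((pullback.snd π (Spec.map (CommRingCat.ofHom (algebraMap R K)))).appLE ⊤ _ le_top).hom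
            ((Scheme.ΓSpecIso (CommRingCat.of K)).inv.hom c) *
          ((pullback.fst π (Spec.map (CommRingCat.ofHom (algebraMap R K)))).app U).hom a := by
  letI := algU π U
  let φ : R ⟶ CommRingCat.of K := CommRingCat.ofHom (algebraMap R K)
  have hiso := isIso_pushoutSection_of_isAffineOpen (IsPullback.of_hasPullback π (Spec.map φ))
    (US := ⊤) (UT := ⊤) (UX := U) le_top le_top
    (UY := pullback.fst π (Spec.map φ) ⁻¹ᵁ U) (by simp) (isAffineOpen_top _) (isAffineOpen_top _) hU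
  have H := (isIso_pushoutSection_iff ..).mp hiso
  have H2 : IsPushout ((Scheme.ΓSpecIso R).inv ≫ π.appLE ⊤ U le_top) φ
      ((pullback.fst π (Spec.map φ)).app U)
      ((Scheme.ΓSpecIso (CommRingCat.of K)).inv ≫ (pullback.snd π (Spec.map φ)).appLE ⊤ _ le_top) := by
    refine H.of_iso (Scheme.ΓSpecIso R) (Iso.refl _) (Scheme.ΓSpecIso (CommRingCat.of K)) (Iso.refl _) ?_ ?_ ?_ ?_
    · simp
    · simp only [Scheme.Hom.appLE, Category.assoc]
      rw [← Scheme.ΓSpecIso_naturality]
      congr 1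
    · simp [Scheme.Hom.appLE_eq_app]
    · simp
  let e := (H2.flip.isoIsPushout _ _ (CommRingCat.isPushout_tensorProduct R K Γ(X, U))).symm
  refine ⟨e.commRingCatIsoToRingEquiv, fun c a => ?_⟩
  have h1 : e.hom.hom (c ⊗ₜ (1 : Γ(X, U))) =
      ((pullback.snd π (Spec.map φ)).appLE ⊤ _ le_top).hom ((Scheme.ΓSpecIso (CommRingCat.of K)).inv.hom c) :=
    congrArg (fun F => F.hom c) (IsPushout.inl_isoIsPushout_inv _ _ H2.flip
      (CommRingCat.isPushout_tensorProduct R K Γ(X, U)))
  have h2 : e.hom.hom ((1 : K) ⊗ₜ a) = ((pullback.fst π (Spec.map φ)).app U).hom a :=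
    congrArg (fun F => F.hom a) (IsPushout.inr_isoIsPushout_inv _ _ H2.flip
      (CommRingCat.isPushout_tensorProduct R K Γ(X, U)))
  change e.hom.hom (c ⊗ₜ a) = _
  rw [← h1, ← h2, ← map_mul]
  congr 1
  simp

variable [IsLocalRing R]

lemma range_subset_of_mem (σ : Spec R ⟶ X) {U : X.Opens} (h : σ (closedPoint R) ∈ U) :
    ⊤ ≤ σ ⁻¹ᵁ U := fun p _ =>
  (PrimeSpectrum.le_iff_specializes p (closedPoint R)).mp
    (IsLocalRing.le_maximalIdeal p.isPrime.ne_top) |>.mem_open (σ ⁻¹ᵁ U).2 h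

/-- Over a local ring, a proper flat finitely presented scheme with a section and with
geometrically reduced and connected closed fibre has only constant global functions. -/
theorem appTop_comp_section [IsProper π] [Flat π] [LocallyOfFinitePresentation π]
    (hκ : Function.Bijective ((Scheme.ΓSpecIso (CommRingCat.of (ResidueField R))).inv ≫
      (pullback.snd π (Spec.map (CommRingCat.ofHom (residue R)))).appTop).hom)
    (σ : Spec R ⟶ X) (hσ : σ ≫ π = 𝟙 _) :
    σ.appTop ≫ π.appTop = 𝟙 _ := by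
  ext x
  change π.appTop.hom (σ.appTop.hom x) = x
  haveI : CompactSpace X := QuasiCompact.compactSpace_of_compactSpace π
  haveI : X.IsSeparated := (Scheme.isSeparated_iff _).mpr (Subsingleton.elim (π ≫ terminal.from _) (terminal.from X) ▸ inferInstance)
  rw [← sub_eq_zero]
  set y := π.appTop.hom (σ.appTop.hom x) - x with hy
  have hσy : σ.appTop.hom y = 0 := by
    have h1 : ∀ a, σ.appTop.hom (π.appTop.hom a) = a := fun a => by
      rw [← RingHom.comp_apply, ← CommRingCat.hom_comp, ← Scheme.Hom.comp_appTop, hσ]; rfl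
    rw [hy, map_sub, h1, sub_self]
  -- a finite affine cover
  let ι₀ := {U : X.Opens // IsAffineOpen U}
  obtain ⟨S, hS⟩ := isCompact_univ.elim_finite_subcover (fun U : ι₀ => (U.1 : Set X))
    (fun U => U.1.2) (fun z _ => by
      obtain ⟨_, ⟨U, hU, rfl⟩, hzU, -⟩ :=
        X.isBasis_affineOpens.exists_subset_of_mem_open (Set.mem_univ z) isOpen_univ
      exact Set.mem_iUnion.mpr ⟨⟨U, hU⟩, hzU⟩)
  obtain ⟨n, ⟨eS⟩⟩ : ∃ n, Nonempty (S ≃ Fin n) := ⟨_, ⟨Fintype.equivFin S⟩⟩
  let U : Fin n → X.Opens := fun i => (eS.symm i).1.1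
  have hU : ∀ i, IsAffineOpen (U i) := fun i => (eS.symm i).1.2
  have hcov : ∀ z : X, ∃ i, z ∈ U i := fun z => by
    obtain ⟨V, hVS, hzV⟩ := Set.mem_iUnion₂.mp (hS (Set.mem_univ z))
    exact ⟨eS ⟨V, hVS⟩, by simpa [U] using hzV⟩
  have hUU : ∀ l : Fin n × Fin n, IsAffineOpen (U l.1 ⊓ U l.2) := fun l => (hU l.1).inf (hU l.2)
  obtain ⟨i₀, hi₀⟩ := hcov (σ (closedPoint R))
  letI : ∀ i, Algebra R Γ(X, U i) := fun i => algU π (U i)
  letI : ∀ l : Fin n × Fin n, Algebra R Γ(X, U l.1 ⊓ U l.2) := fun l => algU π (U l.1 ⊓ U l.2)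
  haveI : ∀ i, Algebra.FinitePresentation R Γ(X, U i) := fun i => by
    refine RingHom.FinitePresentation.comp (π.finitePresentation_appLE (isAffineOpen_top _) (hU i) le_top) ?_
    exact RingHom.FinitePresentation.of_surjective _
      (Scheme.ΓSpecIso R).symm.commRingCatIsoToRingEquiv.surjective
      (by
        change (RingHom.ker ((Scheme.ΓSpecIso R).inv.hom)).FG
        rw [(RingHom.injective_iff_ker_eq_bot (Scheme.ΓSpecIso R).inv.hom).mp
          (Scheme.ΓSpecIso R).symm.commRingCatIsoToRingEquiv.injective]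
        exact Submodule.fg_bot)
  haveI : ∀ i, Module.Flat R Γ(X, U i) := fun i => by
    refine RingHom.Flat.comp ?_ (π.flat_appLE (isAffineOpen_top _) (hU i) le_top)
    exact RingHom.Flat.of_bijective (Scheme.ΓSpecIso R).symm.commRingCatIsoToRingEquiv.bijective
  haveI : ∀ l : Fin n × Fin n, Algebra.FinitePresentation R Γ(X, U l.1 ⊓ U l.2) := fun l => by
    refine RingHom.FinitePresentation.comp (π.finitePresentation_appLE (isAffineOpen_top _) (hUU l) le_top) ?_
    exact RingHom.FinitePresentation.of_surjective _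
      (Scheme.ΓSpecIso R).symm.commRingCatIsoToRingEquiv.surjective
      (by
        change (RingHom.ker ((Scheme.ΓSpecIso R).inv.hom)).FG
        rw [(RingHom.injective_iff_ker_eq_bot (Scheme.ΓSpecIso R).inv.hom).mp
          (Scheme.ΓSpecIso R).symm.commRingCatIsoToRingEquiv.injective]
        exact Submodule.fg_bot)
  haveI : ∀ l : Fin n × Fin n, Module.Flat R Γ(X, U l.1 ⊓ U l.2) := fun l => by
    refine RingHom.Flat.comp ?_ (π.flat_appLE (isAffineOpen_top _) (hUU l) le_top)
    exact RingHom.Flat.of_bijective (Scheme.ΓSpecIso R).symm.commRingCatIsoToRingEquiv.bijective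
  let res : ∀ {V W : X.Opens} (_ : W ≤ V), Γ(X, V) ⟶ Γ(X, W) := fun h => X.presheaf.map (homOfLE h).op
  let ρ : ∀ l : Fin n × Fin n, Γ(X, U l.1) →ₐ[R] Γ(X, U l.1 ⊓ U l.2) := fun l =>
    AlgHom.mk (res inf_le_left).hom fun r => by
      change (((Scheme.ΓSpecIso R).inv ≫ π.appLE ⊤ _ le_top) ≫ res inf_le_left).hom r = _
      simp only [res, Category.assoc, Scheme.Hom.appLE_map]
      rfl
  let σ' : ∀ l : Fin n × Fin n, Γ(X, U l.2) →ₐ[R] Γ(X, U l.1 ⊓ U l.2) := fun l =>
    AlgHom.mk (res inf_le_right).hom fun r => by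
      change (((Scheme.ΓSpecIso R).inv ≫ π.appLE ⊤ _ le_top) ≫ res inf_le_right).hom r = _
      simp only [res, Category.assoc, Scheme.Hom.appLE_map]
      rfl
  have hσU : ⊤ ≤ σ ⁻¹ᵁ U i₀ := range_subset_of_mem σ hi₀
  let ε : Γ(X, U i₀) →ₐ[R] R :=
    AlgHom.mk ((σ.appLE (U i₀) ⊤ hσU) ≫ (Scheme.ΓSpecIso R).hom).hom fun r => by
      change (((Scheme.ΓSpecIso R).inv ≫ π.appLE ⊤ _ le_top) ≫
        (σ.appLE (U i₀) ⊤ hσU) ≫ (Scheme.ΓSpecIso R).hom).hom r = r
      rw [Category.assoc, ← Category.assoc (π.appLE _ _ _), Scheme.Hom.appLE_comp_appLE]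
      have hid : ∀ (g : Spec R ⟶ Spec R) (e : ⊤ ≤ g ⁻¹ᵁ ⊤), g = 𝟙 _ → g.appLE ⊤ ⊤ e = 𝟙 _ := by
        rintro g e rfl
        simp [Scheme.Hom.appLE]
      rw [hid _ _ hσ, Category.id_comp, Iso.inv_hom_id]
      rfl
  let φ : R ⟶ CommRingCat.of (ResidueField R) := CommRingCat.ofHom (algebraMap R (ResidueField R))
  let p := pullback.fst π (Spec.map φ)
  let P := pullback π (Spec.map φ)
  have hfib : ∀ z : ∀ i, ResidueField R ⊗[R] Γ(X, U i),
      (∀ l : Fin n × Fin n, (ρ l).toLinearMap.lTensor _ (z l.1) =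
        (σ' l).toLinearMap.lTensor _ (z l.2)) →
      ε.toLinearMap.lTensor _ (z i₀) = 0 → ∀ i, z i = 0 := by
    intro z hz hεz
    choose Ψ hΨ using fun i => exists_tensor_equiv π (ResidueField R) (U i) (hU i)
    choose Ψ₂ hΨ₂ using fun l : Fin n × Fin n =>
      exists_tensor_equiv π (ResidueField R) (U l.1 ⊓ U l.2) (hUU l)
    have hres : ∀ {V W : X.Opens} (h : W ≤ V) (a : Γ(X, V)) (c : ResidueField R),
        (P.presheaf.map (homOfLE (p.preimage_mono h)).op).hom
          (((pullback.snd π (Spec.map φ)).appLE ⊤ (p ⁻¹ᵁ V) le_top).hom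
            ((Scheme.ΓSpecIso (CommRingCat.of (ResidueField R))).inv.hom c) * (p.app V).hom a) =
        ((pullback.snd π (Spec.map φ)).appLE ⊤ (p ⁻¹ᵁ W) le_top).hom
            ((Scheme.ΓSpecIso (CommRingCat.of (ResidueField R))).inv.hom c) *
          (p.app W).hom ((res h).hom a) := by
      intro V W h a c
      rw [map_mul]
      congr 1
      · rw [← RingHom.comp_apply, ← CommRingCat.hom_comp, Scheme.Hom.appLE_map]
      · change (p.app V ≫ P.presheaf.map _).hom a = (res h ≫ p.app W).hom a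
        simp only [res, Scheme.Hom.naturality]
        rfl
    have hnat1 : ∀ l w, Ψ₂ l ((ρ l).toLinearMap.lTensor _ w) =
        (P.presheaf.map (homOfLE (p.preimage_mono inf_le_left)).op).hom (Ψ l.1 w) := by
      intro l w
      induction w with
      | zero =>
        exact ((congrArg (Ψ₂ l) (map_zero _)).trans (map_zero _)).trans
          ((congrArg _ (map_zero _)).trans (map_zero _)).symm
      | add a b ha hb => simp only [map_add, ha, hb]
      | tmul c a =>
        rw [LinearMap.lTensor_tmul, hΨ₂, hΨ, hres inf_le_left a c]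
        rfl
    have hnat2 : ∀ l w, Ψ₂ l ((σ' l).toLinearMap.lTensor _ w) =
        (P.presheaf.map (homOfLE (p.preimage_mono inf_le_right)).op).hom (Ψ l.2 w) := by
      intro l w
      induction w with
      | zero =>
        exact ((congrArg (Ψ₂ l) (map_zero _)).trans (map_zero _)).trans
          ((congrArg _ (map_zero _)).trans (map_zero _)).symm
      | add a b ha hb => simp only [map_add, ha, hb]
      | tmul c a =>
        rw [LinearMap.lTensor_tmul, hΨ₂, hΨ, hres inf_le_right a c]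
        rfl
    obtain ⟨s, hs, -⟩ := P.sheaf.existsUnique_gluing' (fun i => p ⁻¹ᵁ U i) ⊤ (fun i => homOfLE le_top)
      (fun w _ => by
        obtain ⟨i, hi⟩ := hcov (p w)
        exact TopologicalSpace.Opens.mem_iSup.mpr ⟨i, hi⟩)
      (fun i => Ψ i (z i)) (fun i j => by
        have := congrArg (Ψ₂ (i, j)) (hz (i, j))
        rw [hnat1, hnat2] at this
        exact this)
    obtain ⟨c, hc⟩ := hκ.2 s
    have hzc : ∀ i, z i = c ⊗ₜ[R] 1 := by
      intro i
      apply (Ψ i).injective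
      rw [hΨ, map_one, _root_.mul_one]
      refine (hs i).symm.trans ?_
      rw [← hc]
      change (((Scheme.ΓSpecIso _).inv ≫ (pullback.snd π _).appTop) ≫
        P.presheaf.map (homOfLE le_top).op).hom c = _
      rfl
    have hc0 : c = 0 := by
      have := congrArg (TensorProduct.rid R (ResidueField R)) hεz
      rw [hzc i₀, LinearMap.lTensor_tmul, AlgHom.toLinearMap_apply, map_one, TensorProduct.rid_tmul,
        one_smul, map_zero] at this
      exact this
    intro i
    rw [hzc i, hc0, TensorProduct.zero_tmul]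
  let x' : ∀ i, Γ(X, U i) := fun i => (res le_top).hom y
  have hx' : ∀ l : Fin n × Fin n, ρ l (x' l.1) = σ' l (x' l.2) := fun l => by
    change (res le_top ≫ res inf_le_left).hom y = (res le_top ≫ res inf_le_right).hom y
    simp only [res, ← Functor.map_comp]
    rfl
  have hεx : ε (x' i₀) = 0 := by
    change ((res (le_top : U i₀ ≤ ⊤)) ≫ σ.appLE (U i₀) ⊤ hσU ≫ (Scheme.ΓSpecIso R).hom).hom y = 0
    rw [← Category.assoc, Scheme.Hom.map_appLE, CommRingCat.hom_comp, RingHom.comp_apply]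
    have : σ.appLE ⊤ ⊤ le_top = σ.appTop := σ.appLE_eq_app
    rw [this, hσy, map_zero]
  -- vanishing near the closed fibre
  let N : Set X := {w | ∃ V : X.Opens, w ∈ V ∧ (res (le_top : V ≤ ⊤)).hom y = 0}
  have hN : IsOpen N := isOpen_iff_forall_mem_open.mpr fun w ⟨V, hwV, hV⟩ =>
    ⟨V, fun v hv => ⟨V, hv, hV⟩, V.2, hwV⟩
  have hfibre : ∀ w : X, π w = closedPoint R → w ∈ N := by
    intro w hw
    obtain ⟨i, hwi⟩ := hcov w
    let q := ((hU i).primeIdealOf ⟨w, hwi⟩).asIdeal
    have hq : (maximalIdeal R).map (algebraMap R Γ(X, U i)) ≤ q := by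
      refine Ideal.map_le_iff_le_comap.mpr fun r hr => ?_
      have h1 := ((hU i).primeIdealOf ⟨w, hwi⟩)
      have h2 : (Spec.map ((Scheme.ΓSpecIso R).inv ≫ π.appLE ⊤ (U i) le_top))
          ((hU i).primeIdealOf ⟨w, hwi⟩) = closedPoint R := by
        have h3 : (hU i).fromSpec ≫ π =
            Spec.map ((Scheme.ΓSpecIso R).inv ≫ π.appLE ⊤ (U i) le_top) := by
          rw [← IsAffineOpen.SpecMap_appLE_fromSpec π (isAffineOpen_top _) (hU i) le_top,
            Spec.map_comp, IsAffineOpen.fromSpec_top, Scheme.isoSpec_Spec_inv]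
        rw [← h3, Scheme.Hom.comp_apply, (hU i).fromSpec_primeIdealOf]
        exact hw
      have h4 : r ∈ (Spec.map ((Scheme.ΓSpecIso R).inv ≫ π.appLE ⊤ (U i) le_top)
          ((hU i).primeIdealOf ⟨w, hwi⟩)).asIdeal := h2 ▸ hr
      exact h4
    obtain ⟨v, hvq, hv⟩ := FibreAlg.exists_annihilator (R := R) (fun l : Fin n × Fin n => l.1)
      (fun l => l.2) i₀ (fun i => Γ(X, U i)) (fun l => Γ(X, U l.1 ⊓ U l.2)) ρ σ' ε hfib x' hx' hεx
      i q hq
    have hwv : w ∈ X.basicOpen v := by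
      have h3 : (hU i).primeIdealOf ⟨w, hwi⟩ ∈ (hU i).fromSpec ⁻¹ᵁ X.basicOpen v := by
        rw [(hU i).fromSpec_preimage_basicOpen]; exact hvq
      have h4 : (hU i).fromSpec ((hU i).primeIdealOf ⟨w, hwi⟩) ∈ X.basicOpen v := h3
      rwa [(hU i).fromSpec_primeIdealOf] at h4
    refine ⟨X.basicOpen v, hwv, ?_⟩
    letI := (hU i).isLocalization_basicOpen v
    have h5 : algebraMap Γ(X, U i) Γ(X, X.basicOpen v) (x' i) = 0 :=
      (IsLocalization.map_eq_zero_iff (.powers v) _ _).mpr ⟨⟨v, 1, pow_one v⟩, hv⟩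
    refine Eq.trans ?_ h5
    change _ = (res le_top ≫ X.presheaf.map (homOfLE (X.basicOpen_le v)).op).hom y
    simp only [res, ← Functor.map_comp]
    rfl
  have hall : N = Set.univ := by
    by_contra hne
    have hcl : IsClosed (π '' Nᶜ) := π.isClosedMap _ hN.isClosed_compl
    have hne' : (π '' Nᶜ).Nonempty := (Set.nonempty_compl.mpr hne).image _
    obtain ⟨p', hp'⟩ := hne'
    have hcp : closedPoint R ∈ π '' Nᶜ :=
      ((PrimeSpectrum.le_iff_specializes p' (closedPoint R)).mp
        (IsLocalRing.le_maximalIdeal p'.isPrime.ne_top)).mem_closed hcl hp'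
    obtain ⟨w, hwN, hw⟩ := hcp
    exact hwN (hfibre w hw)
  choose V hwV hV using fun w => (hall ▸ Set.mem_univ w : w ∈ N)
  refine X.sheaf.eq_of_locally_eq' (fun w : X => V w) ⊤ (fun w => homOfLE le_top)
    (fun w _ => TopologicalSpace.Opens.mem_iSup.mpr ⟨w, hwV w⟩) y 0 fun w => ?_
  exact (hV w).trans (map_zero _).symm

end Groth.Agent.GrpSch.LocalConst
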