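import Mathlib
import Groth.Agent.GrpSch.LocalConst
import Groth.Agent.GrpSch.AgreeLocus

/-!
# The rigidity lemma over an arbitrary base

For `π : X ⟶ T` proper, flat, locally of finite presentation with geometrically reduced and
connected fibres and with a section `σ`, a morphism which is set theoretically constant on all
fibres factors through `π`, and the locus of constancy is open and closed.
-/

universe u

open AlgebraicGeometry CategoryTheory CategoryTheory.Limits IsLocalRing

namespace Groth.Agent.GrpSch.RigidityBase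

lemma eq_of_fromSpecStalk {X Z : Scheme.{u}} (f g : X ⟶ Z)
    (h : ∀ x : X, X.fromSpecStalk x ≫ f = X.fromSpecStalk x ≫ g) : f = g := by
  have hpt : ∀ x : X, f x = g x := by
    intro x
    have := congrArg (fun m : Spec (X.presheaf.stalk x) ⟶ Z => m (closedPoint _)) (h x)
    simpa [Scheme.fromSpecStalk_closedPoint] using this
  refine Scheme.hom_ext_of_forall f g fun x => ?_
  obtain ⟨_, ⟨W, hW, rfl⟩, hxW, -⟩ :=
    Z.isBasis_affineOpens.exists_subset_of_mem_open (Set.mem_univ (f x)) isOpen_univ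
  obtain ⟨W, rfl⟩ : ∃ W' : Z.Opens, W' = W := ⟨W, rfl⟩
  let V := f ⁻¹ᵁ (W : Z.Opens)
  refine ⟨V, hxW, ?_⟩
  haveI : IsAffine (W : Scheme.{u}) := hW
  let f' := IsOpenImmersion.lift (W : Z.Opens).ι (V.ι ≫ f) (by
    rintro _ ⟨v, rfl⟩; rw [Scheme.Opens.range_ι]; exact v.2)
  let g' := IsOpenImmersion.lift (W : Z.Opens).ι (V.ι ≫ g) (by
    rintro _ ⟨v, rfl⟩
    rw [Scheme.Opens.range_ι]
    change g (V.ι v) ∈ (W : Z.Opens)
    rw [← hpt]
    exact v.2)
  suffices f' = g' by
    rw [← IsOpenImmersion.lift_fac (W : Z.Opens).ι (V.ι ≫ f) (by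
        rintro _ ⟨v, rfl⟩; rw [Scheme.Opens.range_ι]; exact v.2),
      ← IsOpenImmersion.lift_fac (W : Z.Opens).ι (V.ι ≫ g) (by
        rintro _ ⟨v, rfl⟩
        rw [Scheme.Opens.range_ι]
        change g (V.ι v) ∈ (W : Z.Opens)
        rw [← hpt]
        exact v.2)]
    exact congrArg (· ≫ _) this
  apply ext_of_isAffine
  ext a
  refine TopCat.Presheaf.section_ext (V : Scheme.{u}).sheaf ⊤ _ _ fun y _ => ?_
  have hy : (V : Scheme.{u}).fromSpecStalk y ≫ f' = (V : Scheme.{u}).fromSpecStalk y ≫ g' := by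
    rw [← cancel_mono (W : Z.Opens).ι, Category.assoc, Category.assoc, IsOpenImmersion.lift_fac,
      IsOpenImmersion.lift_fac, ← Category.assoc, ← Category.assoc,
      ← Scheme.SpecMap_stalkMap_fromSpecStalk, Category.assoc, Category.assoc, h]
  have h2 := congrArg Scheme.Hom.appTop hy
  rw [Scheme.Hom.comp_appTop, Scheme.Hom.comp_appTop, Scheme.fromSpecStalk_appTop,
    ← Category.assoc, ← Category.assoc, ← Category.assoc, ← Category.assoc] at h2
  replace h2 := h2.trans (by rfl : _ = ((g'.appTop ≫ (V : Scheme.{u}).presheaf.germ ⊤ y trivial) ≫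
    (Scheme.ΓSpecIso ((V : Scheme.{u}).presheaf.stalk y)).inv) ≫ (Spec ((V : Scheme.{u}).presheaf.stalk y)).presheaf.map (𝟙 (Opposite.op ⊤)))
  erw [CategoryTheory.Functor.map_id, Category.comp_id, Category.comp_id, cancel_mono] at h2
  exact congrArg (fun m => m.hom a) h2

/-- every fibre, over every field, has only the constants as global functions -/
class ConstFibres {X T : Scheme.{u}} (π : X ⟶ T) : Prop where
  bijective : ∀ (K : Type u) [Field K] (τ : Spec (CommRingCat.of K) ⟶ T),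
    Function.Bijective ((Scheme.ΓSpecIso (CommRingCat.of K)).inv ≫ (pullback.snd π τ).appTop).hom

instance (priority := 100) {X T : Scheme.{u}} (π : X ⟶ T) [IsProper π] [GeometricallyReduced π]
    [GeometricallyConnected π] : ConstFibres π :=
  ⟨fun _ _ _ => ProperConst.bijective_appTop _⟩

instance {X T T' : Scheme.{u}} (π : X ⟶ T) [ConstFibres π] (b : T' ⟶ T) :
    ConstFibres (pullback.snd π b) := by
  refine ⟨fun K _ τ => ?_⟩
  let e := pullbackLeftPullbackSndIso π b τ
  have h : pullback.snd (pullback.snd π b) τ = e.hom ≫ pullback.snd π (τ ≫ b) :=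
    (pullbackLeftPullbackSndIso_hom_snd π b τ).symm
  rw [h, Scheme.Hom.comp_appTop, ← Category.assoc, CommRingCat.hom_comp]
  haveI : IsIso e.hom.appTop := inferInstanceAs (IsIso (e.hom.app ⊤))
  exact ((ConcreteCategory.isIso_iff_bijective e.hom.appTop).mp inferInstance).comp
    (ConstFibres.bijective (π := π) K (τ ≫ b))

/-- properties of the fibres used below -/
lemma bijective_fibre {X T : Scheme.{u}} (π : X ⟶ T) [ConstFibres π] {K : Type u} [Field K]
    (τ : Spec (CommRingCat.of K) ⟶ T) :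
    Function.Bijective
      ((Scheme.ΓSpecIso (CommRingCat.of K)).inv ≫ (pullback.snd π τ).appTop).hom :=
  ConstFibres.bijective K τ

/-- a morphism which maps a fibre into an affine open is constant on it -/
lemma eq_of_fibre_in_affine {X T Z : Scheme.{u}} (π : X ⟶ T) [ConstFibres π]
    (f : X ⟶ Z) (t : T) {W : Z.Opens} (hW : IsAffineOpen W)
    (h : ∀ x, π x = t → f x ∈ W) (x y : X) (hx : π x = t) (hy : π y = t) : f x = f y := by
  haveI : IsAffine (W : Scheme.{u}) := hW
  let q := pullback.snd π (T.fromSpecResidueField t)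
  have hq := bijective_fibre π (T.fromSpecResidueField t)
  let p := pullback.fst π (T.fromSpecResidueField t)
  let f' := IsOpenImmersion.lift W.ι (p ≫ f) (by
    rintro _ ⟨w, rfl⟩
    rw [Scheme.Opens.range_ι]
    refine h _ ?_
    show π (p w) = t
    rw [← Scheme.Hom.comp_apply, pullback.condition, Scheme.Hom.comp_apply]
    exact T.fromSpecResidueField_apply _ _)
  haveI : IsIso q.appTop := by
    have : IsIso ((Scheme.ΓSpecIso (CommRingCat.of (T.residueField t))).inv ≫ q.appTop) :=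
      (ConcreteCategory.isIso_iff_bijective _).mpr hq
    exact IsIso.of_isIso_comp_left (Scheme.ΓSpecIso (CommRingCat.of (T.residueField t))).inv q.appTop
  let g : Spec (T.residueField t) ⟶ (W : Scheme.{u}) :=
    (Spec (T.residueField t)).toSpecΓ ≫ Spec.map (f'.appTop ≫ inv q.appTop) ≫
      (W : Scheme.{u}).isoSpec.inv
  have hfg : f' = q ≫ g := by
    simp only [g]
    rw [Scheme.toSpecΓ_naturality_assoc, ← Spec.map_comp_assoc, Category.assoc, IsIso.inv_hom_id,
      Category.comp_id, ← Scheme.toSpecΓ_naturality_assoc]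
    simp [Scheme.isoSpec]
  have key : ∀ z, π z = t → f z = W.ι (g (closedPoint _)) := by
    intro z hz
    obtain ⟨w, hw, -⟩ := Scheme.Pullback.exists_preimage_pullback (f := π)
      (g := T.fromSpecResidueField t) z (closedPoint _)
      (hz.trans (T.fromSpecResidueField_apply _ _).symm)
    rw [← hw, ← Scheme.Hom.comp_apply, ← IsOpenImmersion.lift_fac W.ι (p ≫ f), Scheme.Hom.comp_apply]
    congr 1
    change f' w = _
    rw [hfg, Scheme.Hom.comp_apply]
    congr 1
    exact Subsingleton.elim _ _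
  rw [key x hx, key y hy]

/-- over a local ring: constant on the closed fibre implies constant -/
theorem eq_of_local {R : CommRingCat.{u}} [IsLocalRing R] {X Z : Scheme.{u}} (π : X ⟶ Spec R)
    [IsProper π] [Flat π] [LocallyOfFinitePresentation π] [ConstFibres π]
    (σ : Spec R ⟶ X) (hσ : σ ≫ π = 𝟙 _) (f : X ⟶ Z)
    (h : ∀ x, π x = closedPoint R → f x = f (σ (closedPoint R))) : f = π ≫ σ ≫ f := by
  obtain ⟨_, ⟨W, hW, rfl⟩, hzW, -⟩ := Z.isBasis_affineOpens.exists_subset_of_mem_open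
    (Set.mem_univ (f (σ (closedPoint R)))) isOpen_univ
  obtain ⟨W, rfl⟩ : ∃ W' : Z.Opens, W' = W := ⟨W, rfl⟩
  haveI : IsAffine (W : Scheme.{u}) := hW
  have hall : ∀ x : X, f x ∈ (W : Z.Opens) := by
    by_contra! hne
    obtain ⟨x, hx⟩ := hne
    have hcl : IsClosed (π '' (f ⁻¹ᵁ (W : Z.Opens) : Set X)ᶜ) :=
      π.isClosedMap _ (f ⁻¹ᵁ (W : Z.Opens)).2.isClosed_compl
    have hcp : closedPoint R ∈ π '' (f ⁻¹ᵁ (W : Z.Opens) : Set X)ᶜ :=
      ((PrimeSpectrum.le_iff_specializes (π x) (closedPoint R)).mp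
        (IsLocalRing.le_maximalIdeal (π x).isPrime.ne_top)).mem_closed hcl ⟨x, hx, rfl⟩
    obtain ⟨w, hw, hwc⟩ := hcp
    exact hw (show f w ∈ (W : Z.Opens) from h w hwc ▸ hzW)
  let f' := IsOpenImmersion.lift (W : Z.Opens).ι f (by
    rintro _ ⟨x, rfl⟩; rw [Scheme.Opens.range_ι]; exact hall x)
  have hf' : f' ≫ (W : Z.Opens).ι = f := IsOpenImmersion.lift_fac _ _ _
  have key : σ.appTop ≫ π.appTop = 𝟙 _ :=
    LocalConst.appTop_comp_section π (bijective_fibre π _) σ hσ
  have : f' = π ≫ σ ≫ f' := by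
    apply ext_of_isAffine
    rw [Scheme.Hom.comp_appTop, Scheme.Hom.comp_appTop, Category.assoc, key, Category.comp_id]
  conv_lhs => rw [← hf', this]
  simp [hf']

variable {X T Z : Scheme.{u}} (π : X ⟶ T) [IsProper π] [Flat π] [LocallyOfFinitePresentation π]
  [ConstFibres π]

/-- the points over which `f` is constant on the fibre -/
def locus (σ : T ⟶ X) (f : X ⟶ Z) : Set T := {t | ∀ x, π x = t → f x = f (σ t)}

variable {π}

/-- Rigidity after base change to where the fibres are constant. -/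
theorem fst_comp_eq (σ : T ⟶ X) (hσ : σ ≫ π = 𝟙 T) (f : X ⟶ Z) {T' : Scheme.{u}} (τ : T' ⟶ T)
    (h : ∀ t', τ t' ∈ locus π σ f) :
    pullback.fst π τ ≫ f = pullback.fst π τ ≫ π ≫ σ ≫ f := by
  refine eq_of_fromSpecStalk _ _ fun x => ?_
  set t' := pullback.snd π τ x with ht'
  let R := T'.presheaf.stalk t'
  let j : Spec R ⟶ T := T'.fromSpecStalk t' ≫ τ
  let q := pullback.snd π j
  let σ₁ : Spec R ⟶ pullback π j := pullback.lift (j ≫ σ) (𝟙 _) (by rw [Category.assoc, hσ, Category.comp_id, Category.id_comp])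
  have hloc : pullback.fst π j ≫ f = q ≫ σ₁ ≫ pullback.fst π j ≫ f := by
    refine eq_of_local q σ₁ (pullback.lift_snd _ _ _) _ fun z hz => ?_
    have h1 : π (pullback.fst π j z) = j (closedPoint R) := by
      rw [← Scheme.Hom.comp_apply, pullback.condition, Scheme.Hom.comp_apply, hz]
    have h2 : τ t' = j (closedPoint R) := by
      change _ = τ (T'.fromSpecStalk t' (closedPoint _))
      rw [Scheme.fromSpecStalk_closedPoint]
    rw [Scheme.Hom.comp_apply, Scheme.Hom.comp_apply,
      h t' _ (h1.trans h2.symm)]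
    congr 1
    rw [← Scheme.Hom.comp_apply σ₁, pullback.lift_fst, Scheme.Hom.comp_apply, h2]
  -- the stalk at `x` maps to this base change
  let a : Spec ((pullback π τ).presheaf.stalk x) ⟶ pullback π j :=
    pullback.lift ((pullback π τ).fromSpecStalk x ≫ pullback.fst π τ)
      (Spec.map ((pullback.snd π τ).stalkMap x)) (by
        rw [Category.assoc, pullback.condition, ← Category.assoc,
          ← Scheme.SpecMap_stalkMap_fromSpecStalk, Category.assoc])
  have ha : a ≫ pullback.fst π j = (pullback π τ).fromSpecStalk x ≫ pullback.fst π τ :=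
    pullback.lift_fst _ _ _
  have hfst : σ₁ ≫ pullback.fst π j = j ≫ σ := pullback.lift_fst _ _ _
  rw [← Category.assoc, ← Category.assoc, ← ha, Category.assoc, hloc, Category.assoc,
    ← Category.assoc σ₁, hfst, Category.assoc, ← Category.assoc q j,
    ← pullback.condition, Category.assoc]

/-- Rigidity: globally constant on fibres -/
theorem eq_of_forall_constant (σ : T ⟶ X) (hσ : σ ≫ π = 𝟙 T) (f : X ⟶ Z)
    (h : ∀ t, t ∈ locus π σ f) : f = π ≫ σ ≫ f := by
  have := fst_comp_eq σ hσ f (𝟙 T) fun t => h t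
  exact (cancel_epi _).mp this

omit [Flat π] [LocallyOfFinitePresentation π] in
theorem isOpen_locus (σ : T ⟶ X) (hσ : σ ≫ π = 𝟙 T) (f : X ⟶ Z) : IsOpen (locus π σ f) := by
  refine isOpen_iff_forall_mem_open.mpr fun t ht => ?_
  obtain ⟨_, ⟨W, hW, rfl⟩, hzW, -⟩ :=
    Z.isBasis_affineOpens.exists_subset_of_mem_open (Set.mem_univ (f (σ t))) isOpen_univ
  refine ⟨(π '' (f ⁻¹' (W : Set Z))ᶜ)ᶜ, fun s hs x hx => ?_,
    (π.isClosedMap _ ((W.2.preimage f.continuous).isClosed_compl)).isOpen_compl, ?_⟩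
  · refine eq_of_fibre_in_affine π f s hW (fun y hy => ?_) x (σ s) hx ?_
    · by_contra hn; exact hs ⟨y, hn, hy⟩
    · rw [← Scheme.Hom.comp_apply, hσ]; rfl
  · rintro ⟨y, hy, hyt⟩
    exact hy (show f y ∈ (W : Set Z) from ht y hyt ▸ hzW)

theorem isClosed_locus (σ : T ⟶ X) (hσ : σ ≫ π = 𝟙 T) (f : X ⟶ Z) {B : Scheme.{u}} (z : Z ⟶ B)
    [IsSeparated z] (hz : f ≫ z = (π ≫ σ ≫ f) ≫ z) : IsClosed (locus π σ f) := by
  obtain ⟨E, e, _, hE⟩ := WeilClosed.exists_closed_equalizer z f (π ≫ σ ≫ f) hz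
  have : locus π σ f = (π '' (Set.range e)ᶜ)ᶜ := by
    ext t
    refine ⟨fun ht => ?_, fun ht x hx => ?_⟩
    · rintro ⟨x, hx, hxt⟩
      apply hx
      have := fst_comp_eq σ hσ f (T.fromSpecResidueField t) fun s => by
        rwa [T.fromSpecResidueField_apply]
      obtain ⟨l, hl⟩ := (hE _ (pullback.fst π (T.fromSpecResidueField t))).mpr this
      obtain ⟨w, hw, -⟩ := Scheme.Pullback.exists_preimage_pullback (f := π)
        (g := T.fromSpecResidueField t) x (closedPoint _)
        (hxt.trans (T.fromSpecResidueField_apply _ _).symm)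
      exact ⟨l w, by rw [← Scheme.Hom.comp_apply, hl, hw]⟩
    · obtain ⟨y, rfl⟩ : x ∈ Set.range e := by
        by_contra hn; exact ht ⟨x, hn, hx⟩
      have := congrArg (fun m : E ⟶ Z => m y) ((hE _ e).mp ⟨𝟙 _, Category.id_comp _⟩)
      simp only [Scheme.Hom.comp_apply] at this
      rw [hx] at this
      exact this
  rw [this]
  exact (π.isOpenMap _ e.isClosedEmbedding.isClosed_range.isOpen_compl).isClosed_compl

/-- On the clopen locus, `f` factors through `π`. -/
theorem eq_on_locus (σ : T ⟶ X) (hσ : σ ≫ π = 𝟙 T) (f : X ⟶ Z) (V : T.Opens)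
    (hV : ∀ t ∈ V, t ∈ locus π σ f) :
    (π ⁻¹ᵁ V).ι ≫ f = (π ⁻¹ᵁ V).ι ≫ π ≫ σ ≫ f := by
  have := fst_comp_eq σ hσ f V.ι fun t => hV _ t.2
  have hl : (pullbackRestrictIsoRestrict π V).inv ≫ pullback.fst π V.ι = (π ⁻¹ᵁ V).ι :=
    pullbackRestrictIsoRestrict_inv_fst π V
  rw [← hl, Category.assoc, Category.assoc, this]

end Groth.Agent.GrpSch.RigidityBase
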