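import Mathlib
import Groth.Agent.GrpSch.RigidityBase
import Groth.Agent.GrpSch.OverBase

/-!
# Rigidity for abelian schemes over an arbitrary base
-/

universe u

open AlgebraicGeometry CategoryTheory CategoryTheory.Limits MonoidalCategory CartesianMonoidalCategory MonObj GrpObj

namespace Groth.Agent.GrpSch.AbRigid

variable {S : Scheme.{u}}

lemma isPullback_whiskerLeft_snd (X : Over S) {W Y : Over S} (i : W ⟶ Y) :
    IsPullback (X ◁ i) (snd X W) (snd X Y) i :=
  IsPullback.of_isLimit' ⟨whiskerLeft_snd X i⟩ (PullbackCone.IsLimit.mk _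
    (fun s => lift (s.fst ≫ fst X Y) s.snd)
    (fun s => by apply CartesianMonoidalCategory.hom_ext <;> simp [s.condition])
    (fun s => lift_snd _ _)
    (fun s m h1 h2 => by
      apply CartesianMonoidalCategory.hom_ext
      · simp [← h1]
      · simp [← h2]))

section

variable (X W Z : Over S) [IsProper X.hom] [Flat X.hom] [LocallyOfFinitePresentation X.hom]
  [GeometricallyReduced X.hom] [GeometricallyConnected X.hom]

/-- A morphism from `X ⊗ W`, with `X` proper flat with geometrically connected and reduced fibres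
and `W` with connected fibres, which is constant on one slice is constant along all of them. -/
theorem rigidity [GeometricallyConnected W.hom] [IsSeparated Z.hom]
    (e : 𝟙_ (Over S) ⟶ X) (e' : 𝟙_ (Over S) ⟶ W) (f : X ⊗ W ⟶ Z) (z₀ : 𝟙_ (Over S) ⟶ Z)
    (hf : (X ◁ e') ≫ f = toUnit _ ≫ z₀) :
    f = snd X W ≫ lift (toUnit W ≫ e) (𝟙 W) ≫ f := by
  let π := (snd X W).left
  haveI : IsProper π := property_snd X W ‹_›
  haveI : Flat π := property_snd X W ‹_›
  haveI : LocallyOfFinitePresentation π := property_snd X W ‹_›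
  haveI : GeometricallyReduced π := property_snd X W ‹_›
  haveI : GeometricallyConnected π := property_snd X W ‹_›
  let σ := (lift (toUnit W ≫ e) (𝟙 W)).left
  have hσ : σ ≫ π = 𝟙 W.left := by
    change (lift (toUnit W ≫ e) (𝟙 W)).left ≫ (snd X W).left = _
    rw [← Over.comp_left, lift_snd]; rfl
  have hmem : ∀ s : S, e'.left s ∈ RigidityBase.locus π σ f.left := by
    intro s
    have key : ∀ x, π x = e'.left s → f.left x = z₀.left s := by
      intro x hx
      obtain ⟨y, hy1, hy2⟩ := Scheme.exists_preimage_of_isPullback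
        (isPullback_left (isPullback_whiskerLeft_snd X e')) x s hx
      have h2 : (toUnit (X ⊗ 𝟙_ (Over S))).left y = s := by
        rw [toUnit_unique (toUnit (X ⊗ 𝟙_ (Over S))) (snd X (𝟙_ (Over S)))]; exact hy2
      rw [← hy1, ← Scheme.Hom.comp_apply, ← Over.comp_left, hf, Over.comp_left,
        Scheme.Hom.comp_apply, h2]
    intro x hx
    rw [key x hx, key (σ (e'.left s))]
    rw [← Scheme.Hom.comp_apply, hσ]
    rfl
  have hclopen : IsClopen (RigidityBase.locus π σ f.left) :=
    ⟨RigidityBase.isClosed_locus σ hσ f.left Z.hom (by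
      simp only [π, σ, ← Over.comp_left, Over.w]),
      RigidityBase.isOpen_locus σ hσ f.left⟩
  apply Over.OverMorphism.ext
  refine RigidityBase.eq_of_forall_constant σ hσ f.left fun w => ?_
  have hconn := W.hom.isConnected_preimage_singleton (W.hom w)
  refine hconn.isPreconnected.subset_isClopen hclopen ⟨e'.left (W.hom w), ?_, hmem _⟩ rfl
  change W.hom (e'.left (W.hom w)) = W.hom w
  rw [← Scheme.Hom.comp_apply, Over.w e']
  rfl

end

/-- a morphism out of an abelian scheme preserving the unit is a homomorphism -/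
theorem isMonHom_of_one (X Y : Over S) [GrpObj X] [GrpObj Y] [IsProper X.hom] [Flat X.hom]
    [LocallyOfFinitePresentation X.hom] [GeometricallyReduced X.hom]
    [GeometricallyConnected X.hom] [IsSeparated Y.hom]
    (f : X ⟶ Y) (hf : η[X] ≫ f = η[Y]) : IsMonHom f := by
  have hone : ∀ T : Over S, (1 : T ⟶ X) ≫ f = 1 := fun T => by
    rw [Hom.one_def, Category.assoc, hf, ← Hom.one_def]
  let F : X ⊗ X ⟶ Y := ((fst X X * snd X X) ≫ f) * (snd X X ≫ f)⁻¹ * (fst X X ≫ f)⁻¹
  have hcomp : ∀ (T : Over S) (a b : T ⟶ X),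
      lift a b ≫ F = ((a * b) ≫ f) * (b ≫ f)⁻¹ * (a ≫ f)⁻¹ := fun T a b => by
    simp only [F, MonObj.comp_mul, GrpObj.comp_inv, ← Category.assoc, lift_fst, lift_snd]
  have hrig := rigidity X X Y η[X] η[X] F η[Y] (by
    have hl : (X ◁ η[X]) = lift (fst X (𝟙_ _)) 1 := by
      apply CartesianMonoidalCategory.hom_ext
      · simp
      · rw [whiskerLeft_snd, lift_snd, Hom.one_def, toUnit_unique (toUnit _) (snd X (𝟙_ _))]
    rw [hl, hcomp, _root_.mul_one, hone, inv_one, _root_.mul_one, mul_inv_cancel, Hom.one_def])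
  have hF : F = 1 := by
    rw [hrig, ← Hom.one_def, hcomp, _root_.one_mul, hone, inv_one, _root_.mul_one, Category.id_comp,
      mul_inv_cancel, Hom.one_def, Hom.one_def, ← Category.assoc,
      toUnit_unique (snd X X ≫ toUnit X) (toUnit _)]
  refine { one_hom := hf, mul_hom := ?_ }
  simp only [F] at hF
  rw [mul_inv_eq_one, mul_inv_eq_iff_eq_mul] at hF
  calc μ[X] ≫ f = (fst X X * snd X X) ≫ f := by rw [Hom.mul_def, lift_fst_snd, Category.id_comp]
    _ = (fst X X ≫ f) * (snd X X ≫ f) := hF
    _ = (f ⊗ₘ f) ≫ μ[Y] := by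
      rw [Hom.mul_def]; rfl

/-- abelian schemes are commutative -/
theorem isCommMonObj (G : Over S) [GrpObj G] [IsProper G.hom] [Flat G.hom]
    [LocallyOfFinitePresentation G.hom] [GeometricallyReduced G.hom]
    [GeometricallyConnected G.hom] : IsCommMonObj G := by
  haveI := isMonHom_of_one G G ι[G] (by
    rw [← Hom.inv_def, show η[G] = (1 : 𝟙_ (Over S) ⟶ G) by
      rw [Hom.one_def, toUnit_unit, Category.id_comp], inv_one])
  refine ⟨?_⟩
  have h : ∀ a b : G ⊗ G ⟶ G, a * b = b * a := fun a b => by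
    have h1 : (a⁻¹ * b⁻¹) ≫ ι[G] = (a⁻¹ ≫ ι[G]) * (b⁻¹ ≫ ι[G]) := MonObj.mul_comp _ _ ι[G]
    simp only [← Hom.inv_def, _root_.inv_inv, _root_.mul_inv_rev] at h1
    exact h1.symm
  have := h (snd G G) (fst G G)
  rw [Hom.mul_def, Hom.mul_def, lift_fst_snd, Category.id_comp] at this
  rw [show (β_ G G).hom = lift (snd G G) (fst G G) by apply CartesianMonoidalCategory.hom_ext <;> simp]
  exact this

end Groth.Agent.GrpSch.AbRigid
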