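import Mathlib
import Groth.Agent.GrpSch.AbRigid

/-!
# Loci of agreement of homomorphisms, and descent along a proper flat morphism
-/

universe u

open AlgebraicGeometry CategoryTheory CategoryTheory.Limits MonoidalCategory CartesianMonoidalCategory MonObj GrpObj

namespace Groth.Agent.GrpSch.AbRigid

variable {S : Scheme.{u}}

theorem exists_clopen_agree (X Y : Over S) [GrpObj X] [IsProper X.hom] [Flat X.hom]
    [LocallyOfFinitePresentation X.hom] [GeometricallyReduced X.hom]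
    [GeometricallyConnected X.hom] [GrpObj Y] [IsSeparated Y.hom]
    (f g : X ⟶ Y) [IsMonHom f] [IsMonHom g] (s : S)
    (hs : X.hom.fiberι s ≫ f.left = X.hom.fiberι s ≫ g.left) :
    ∃ W : S.Opens, IsClosed (W : Set S) ∧ s ∈ W ∧
      (X.hom ⁻¹ᵁ W).ι ≫ f.left = (X.hom ⁻¹ᵁ W).ι ≫ g.left := by
  let h : X ⟶ Y := f * g⁻¹
  have hone : η[X] ≫ h = η[Y] := by
    simp only [h, MonObj.comp_mul, GrpObj.comp_inv, IsMonHom.one_hom, mul_inv_cancel]
    rw [Hom.one_def, toUnit_unit, Category.id_comp]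
  have hσ : η[X].left ≫ X.hom = 𝟙 S := Over.w η[X]
  have hsep : h.left ≫ Y.hom = (X.hom ≫ η[X].left ≫ h.left) ≫ Y.hom := by
    simp only [Category.assoc, Over.w h, hσ, Category.comp_id]
  have hclopen : IsClopen (RigidityBase.locus X.hom η[X].left h.left) :=
    ⟨RigidityBase.isClosed_locus η[X].left hσ h.left Y.hom hsep,
      RigidityBase.isOpen_locus η[X].left hσ h.left⟩
  have hpt : ∀ (A : Scheme.{u}) (a : A ⟶ X.left),
      (a ≫ f.left = a ≫ g.left ↔ a ≫ h.left = a ≫ X.hom ≫ η[X].left ≫ h.left) := by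
    intro A a
    let j : Over.mk (a ≫ X.hom) ⟶ X := Over.homMk a rfl
    have h1 : (a ≫ f.left = a ≫ g.left) ↔ j ≫ f = j ≫ g :=
      ⟨fun h => Over.OverMorphism.ext h, fun h => congrArg (·.left) h⟩
    have h2 : (a ≫ h.left = a ≫ X.hom ≫ η[X].left ≫ h.left) ↔ j ≫ h = (1 : _ ⟶ Y) := by
      have : (1 : Over.mk (a ≫ X.hom) ⟶ Y).left = a ≫ X.hom ≫ η[X].left ≫ h.left := by
        rw [Hom.one_def, ← hone]
        simp [Over.toUnit_left]
      refine ⟨fun h => Over.OverMorphism.ext (by rw [this]; exact h), fun h => ?_⟩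
      rw [← this]; exact congrArg (·.left) h
    rw [h1, h2]
    simp only [h, MonObj.comp_mul, GrpObj.comp_inv, mul_inv_eq_one]
  refine ⟨⟨_, hclopen.isOpen⟩, hclopen.isClosed, ?_, ?_⟩
  · intro x hx
    obtain ⟨y, rfl⟩ : x ∈ Set.range (X.hom.fiberι s) := by
      rw [X.hom.range_fiberι]; exact hx
    have := congrArg (fun m : X.hom.fiber s ⟶ Y.left => m y) ((hpt _ _).mp hs)
    simp only [Scheme.Hom.comp_apply] at this
    rw [hx] at this
    exact this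
  · exact (hpt _ _).mpr (RigidityBase.eq_on_locus η[X].left hσ h.left _ fun t ht => ht)

theorem exists_clopen_factor_iff {S T X Y : Scheme.{u}} (p : T ⟶ S) (q : Y ⟶ S) [IsSeparated q]
    (g : X ⟶ T) [IsProper g] [Flat g] [LocallyOfFinitePresentation g] [Surjective g]
    [RigidityBase.ConstFibres g] (f : X ⟶ Y) (hf : f ≫ q = g ≫ p) :
    ∃ W : T.Opens, IsClosed (W : Set T) ∧ (∀ t, t ∈ W ↔ (f '' (g ⁻¹' {t})).Subsingleton) ∧
      ∃ k : (W : Scheme.{u}) ⟶ Y, (g ⁻¹ᵁ W).ι ≫ f = (g ∣_ W) ≫ k := by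
  let π := pullback.snd g g
  let σ := pullback.lift (𝟙 X) (𝟙 X) (rfl : 𝟙 X ≫ g = 𝟙 X ≫ g)
  have hσ : σ ≫ π = 𝟙 X := pullback.lift_snd _ _ _
  let F := pullback.fst g g ≫ f
  have hFσ : σ ≫ F = f := by
    simp only [σ, F]
    rw [pullback.lift_fst_assoc, Category.id_comp]
  let L' := RigidityBase.locus π σ F
  have hclopen : IsClopen L' :=
    ⟨RigidityBase.isClosed_locus σ hσ F q (by
      rw [Category.assoc π, Category.assoc σ]
      simp only [F, σ, π, Category.assoc, hf, pullback.lift_fst_assoc, Category.id_comp]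
      rw [← Category.assoc (pullback.fst g g), pullback.condition, Category.assoc]),
      RigidityBase.isOpen_locus σ hσ F⟩
  have hL : ∀ x, x ∈ L' ↔ (f '' (g ⁻¹' {g x})).Subsingleton := by
    intro x
    constructor
    · intro hx
      have key : ∀ a, g a = g x → f a = f x := by
        intro a ha
        obtain ⟨z, hz1, hz2⟩ := Scheme.Pullback.exists_preimage_pullback (f := g) (g := g) a x ha
        have h1 : F z = F (σ x) := hx z hz2
        rw [← Scheme.Hom.comp_apply σ F, hFσ] at h1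
        simpa [F, hz1] using h1
      rintro _ ⟨a, ha, rfl⟩ _ ⟨b, hb, rfl⟩
      rw [key a ha, key b hb]
    · intro hx z hz
      rw [← Scheme.Hom.comp_apply σ F, hFσ]
      refine hx ⟨pullback.fst g g z, ?_, rfl⟩ ⟨x, rfl, rfl⟩
      change g (pullback.fst g g z) = g x
      rw [← Scheme.Hom.comp_apply, pullback.condition, Scheme.Hom.comp_apply]
      exact congrArg g hz
  let W : T.Opens := ⟨g '' L', g.isOpenMap _ hclopen.isOpen⟩
  have hW : ∀ x, g x ∈ W → x ∈ L' := by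
    rintro x ⟨x', hx', hxx⟩
    rw [hL, ← hxx, ← hL]; exact hx'
  refine ⟨W, g.isClosedMap _ hclopen.isClosed, ?_, ?_⟩
  · intro t
    obtain ⟨x, hx⟩ := g.surjective t
    exact ⟨fun h => hx ▸ (hL x).mp (hW x (hx ▸ h)), fun ht => ⟨x, (hL x).mpr (hx ▸ ht), hx⟩⟩
  haveI : IsProper (g ∣_ W) := inferInstance
  haveI : Flat (g ∣_ W) := inferInstance
  haveI : Surjective (g ∣_ W) := IsZariskiLocalAtTarget.restrict ‹Surjective g› W
  suffices hh : ∀ {A : Scheme.{u}} (p₁ p₂ : A ⟶ (g ⁻¹ᵁ W : Scheme.{u})),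
      p₁ ≫ (g ∣_ W) = p₂ ≫ (g ∣_ W) → p₁ ≫ (g ⁻¹ᵁ W).ι ≫ f = p₂ ≫ (g ⁻¹ᵁ W).ι ≫ f from
    ⟨EffectiveEpi.desc (g ∣_ W) ((g ⁻¹ᵁ W).ι ≫ f) hh, (EffectiveEpi.fac _ _ _).symm⟩
  intro A p₁ p₂ h12
  have key := RigidityBase.fst_comp_eq σ hσ F (g ⁻¹ᵁ W).ι fun x => hW _ x.2
  have hcond : (p₁ ≫ (g ⁻¹ᵁ W).ι) ≫ g = (p₂ ≫ (g ⁻¹ᵁ W).ι) ≫ g := by
    simp only [Category.assoc, ← morphismRestrict_ι]
    rw [← Category.assoc, h12, Category.assoc]
  let m : A ⟶ pullback π (g ⁻¹ᵁ W).ι :=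
    pullback.lift (pullback.lift (p₁ ≫ (g ⁻¹ᵁ W).ι) (p₂ ≫ (g ⁻¹ᵁ W).ι) hcond) p₂ (by simp only [π]; rw [pullback.lift_snd])
  have h2 := congrArg (m ≫ ·) key
  simp only [m, F, σ, π, pullback.lift_fst_assoc, pullback.lift_snd_assoc, Category.assoc,
    Category.id_comp] at h2
  exact h2

theorem exists_clopen_factor {S T X Y : Scheme.{u}} (p : T ⟶ S) (q : Y ⟶ S) [IsSeparated q]
    (g : X ⟶ T) [IsProper g] [Flat g] [LocallyOfFinitePresentation g] [GeometricallyConnected g]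
    [GeometricallyReduced g] (f : X ⟶ Y) (hf : f ≫ q = g ≫ p) (t : T)
    (ht : (f '' (g ⁻¹' {t})).Subsingleton) :
    ∃ W : T.Opens, IsClosed (W : Set T) ∧ t ∈ W ∧
      ∃ k : (W : Scheme.{u}) ⟶ Y, (g ⁻¹ᵁ W).ι ≫ f = (g ∣_ W) ≫ k := by
  obtain ⟨W, hW, hiff, hk⟩ := exists_clopen_factor_iff p q g f hf
  exact ⟨W, hW, (hiff t).mpr ht, hk⟩

end Groth.Agent.GrpSch.AbRigid
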