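import Groth.Agent.GrpSch.TangentMul
import Groth.Agent.GrpSch.AbRigid
import Groth.Agent.FlatLocus.Scheme
import Groth.Agent.HomLocus.Instances
import Groth.Prelude.Def_Red
import Groth.Agent.AlgSpc.LfpCancel

/-!
# Multiplication by an invertible integer on a commutative group scheme
-/

set_option autoImplicit false

universe u

open CategoryTheory MonoidalCategory CartesianMonoidalCategory MonObj GrpObj Limits AlgebraicGeometry

namespace Groth.Agent.GrpSch.AbMul

variable {S : Scheme.{u}} (G : Over S) [GrpObj G]

lemma map_zpow_id {S' : Scheme.{u}} (f : S' ⟶ S) (n : ℤ) :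
    (Over.pullback f).map (𝟙 G ^ n) = 𝟙 (Red.bc f G) ^ n := by
  rw [← (Over.pullback f).map_id G]
  exact map_zpow ((Over.pullback f).homMonoidHom) (𝟙 G) n

variable [IsCommMonObj G] [LocallyOfFinitePresentation G.hom]

lemma etale_fibre (n : ℤ) (hn : IsUnit (n : Γ(S, ⊤))) (s : S) :
    Etale ((Over.pullback (S.fromSpecResidueField s)).map (𝟙 G ^ n)).left := by
  rw [map_zpow_id]
  haveI : LocallyOfFiniteType (Red.bc (S.fromSpecResidueField s) G).hom :=
    inferInstanceAs (LocallyOfFiniteType (pullback.snd G.hom (S.fromSpecResidueField s)))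
  refine TangentMul.etale_zpow (k := S.residueField s) (Red.bc (S.fromSpecResidueField s) G) n ?_
  exact (map_intCast (S.Γevaluation s).hom n ▸ hn.map (S.Γevaluation s).hom).ne_zero

/-- multiplication by an invertible integer is étale -/
theorem etale_zpow [Flat G.hom] (n : ℤ) (hn : IsUnit (n : Γ(S, ⊤))) : Etale (𝟙 G ^ n).left := by
  haveI := TangentMul.isMonHom_zpow G n
  let u := 𝟙 G ^ n
  haveI : IsMonHom u := this
  haveI : LocallyOfFiniteType u.left := by
    haveI : LocallyOfFiniteType (u.left ≫ G.hom) := by rw [Over.w u]; infer_instance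
    exact locallyOfFiniteType_of_comp u.left G.hom
  have hw : u.left ≫ G.hom = G.hom := Over.w u
  haveI : LocallyOfFinitePresentation (u.left ≫ G.hom) := by rw [hw]; infer_instance
  haveI : LocallyOfFinitePresentation u.left :=
    Groth.Agent.AlgSpc.lfp_of_comp u.left G.hom
  have hK : IsPullback (pullback.fst u η[G]) (toUnit _) u η[G] := by
    rw [← toUnit_unique (pullback.snd u η[G]) (toUnit _)]
    exact IsPullback.of_hasPullback u η[G]
  haveI : FormallyUnramified u.left :=
    (HomLocus.unramPt.iff_fibres hK).mpr fun s => by
      haveI := etale_fibre G n hn s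
      exact inferInstanceAs (FormallyUnramified ((Over.pullback (S.fromSpecResidueField s)).map u).left)
  haveI : Flat (u.left ≫ G.hom) := by rw [hw]; infer_instance
  haveI : Flat u.left := (Flat.iff_flat_stalkMap _).mpr fun x => by
    refine (FlatLocus.flat_of_flat_fiberMap u.left G.hom x (Flat.stalkMap (u.left ≫ G.hom) x) ?_).2
    · set s := G.hom (u.left x)
      haveI : Etale ((Over.pullback (S.fromSpecResidueField s)).map u).left := etale_fibre G n hn s
      have hfl : Flat ((Over.pullback (S.fromSpecResidueField s)).map u).left := inferInstance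
      haveI : Flat (MoreMor.fiberMap u.left G.hom s) := by
        have h1 := FlatLocus.isPullback_fiberMap u.left G.hom s
        have h2 := HomLocus.PointProp.isPullback_pullbackMap G G u (S.fromSpecResidueField s)
        have e := IsPullback.isoIsPullback_hom_snd _ _ h1 (h2 : IsPullback _ _ u.left (G.hom.fiberι s))
        rw [← e]
        exact MorphismProperty.comp_mem @Flat _ _ inferInstance hfl
      exact Flat.stalkMap _ _
  exact Etale.of_formallyUnramified_of_flat u.left

/-- multiplication by an invertible integer on a proper group scheme is finite -/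
theorem isFinite_zpow [Flat G.hom] [IsProper G.hom] (n : ℤ) (hn : IsUnit (n : Γ(S, ⊤))) :
    IsFinite (𝟙 G ^ n).left := by
  haveI := etale_zpow G n hn
  haveI : IsProper (𝟙 G ^ n).left := by
    haveI : IsProper ((𝟙 G ^ n).left ≫ G.hom) := by rw [Over.w]; infer_instance
    exact MorphismProperty.of_postcomp (W := @IsProper) (W' := @IsSeparated) _ G.hom inferInstance ‹_›
  haveI : LocallyQuasiFinite (𝟙 G ^ n).left := by
    refine HasRingHomProperty.iff_appLE.2 fun U V h => ?_
    have h₁ := HasRingHomProperty.appLE (P := @LocallyOfFiniteType) (𝟙 G ^ n).left inferInstance U V h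
    have h₂ := HasRingHomProperty.appLE (P := @FormallyUnramified) (𝟙 G ^ n).left inferInstance U V h
    algebraize [((𝟙 G ^ n).left.appLE U.1 V.1 h).hom]
    change Algebra.QuasiFinite _ _
    infer_instance
  exact IsFinite.of_isProper_of_locallyQuasiFinite _

omit [IsCommMonObj G] [LocallyOfFinitePresentation G.hom] in
/-- a homomorphism with open and closed image to a group with connected fibres is surjective -/
theorem surjective_of_clopen {H : Over S} [GeometricallyConnected G.hom] (u : H ⟶ G) [GrpObj H] [IsMonHom u]
    (ho : IsOpen (Set.range u.left)) (hc : IsClosed (Set.range u.left)) : Surjective u.left := by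
  refine ⟨fun y => ?_⟩
  have hconn := G.hom.isConnected_preimage_singleton (G.hom y)
  have hsub := hconn.isPreconnected.subset_isClopen (⟨hc, ho⟩ : IsClopen (Set.range u.left))
    ⟨η[G].left (G.hom y), by
      rw [Set.mem_preimage, Set.mem_singleton_iff, ← Scheme.Hom.comp_apply, Over.w]; rfl,
      ⟨η[H].left (G.hom y), by rw [← comp_left_apply, IsMonHom.one_hom]⟩⟩
  exact hsub rfl

/-- multiplication by an invertible integer is surjective when the fibres are connected -/
theorem surjective_zpow [Flat G.hom] [IsProper G.hom] [GeometricallyConnected G.hom] (n : ℤ)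
    (hn : IsUnit (n : Γ(S, ⊤))) : Surjective (𝟙 G ^ n).left := by
  haveI := TangentMul.isMonHom_zpow G n
  haveI := etale_zpow G n hn
  haveI := isFinite_zpow G n hn
  exact surjective_of_clopen G _ (𝟙 G ^ n).left.isOpenMap.isOpen_range (𝟙 G ^ n).left.isClosedMap.isClosed_range

end Groth.Agent.GrpSch.AbMul
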