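import Mathlib
import Groth.Agent.GrpSch.SepPoints

/-!
# The affinization of a quasi-compact group scheme over a field is an affine group scheme
-/

set_option autoImplicit false
set_option backward.isDefEq.respectTransparency.types false

universe u

open CategoryTheory MonoidalCategory CartesianMonoidalCategory MonObj GrpObj Limits AlgebraicGeometry

namespace Groth.Agent.GrpSch.AffEnv

variable {k : Type u} [Field k]

/-- the affinization over `k` -/
noncomputable def aff (X : Over (Spec (CommRingCat.of k))) : Over (Spec (CommRingCat.of k)) :=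
  Over.mk (Spec.map ((Scheme.ΓSpecIso (CommRingCat.of k)).inv ≫ X.hom.appTop))

instance (X : Over (Spec (CommRingCat.of k))) : IsAffine (aff X).left :=
  inferInstanceAs (IsAffine (Spec _))

/-- the canonical morphism to the affinization -/
noncomputable def toAff (X : Over (Spec (CommRingCat.of k))) : X ⟶ aff X :=
  Over.homMk X.left.toSpecΓ (by
    change X.left.toSpecΓ ≫ Spec.map _ = X.hom
    rw [Spec.map_comp, ← Scheme.toSpecΓ_naturality_assoc, toSpecΓ_SpecMap_ΓSpecIso_inv,
      Category.comp_id])

lemma isIso_toAff_appTop (X : Over (Spec (CommRingCat.of k))) [CompactSpace X.left]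
    [QuasiSeparatedSpace X.left] : IsIso (toAff X).left.appTop := by
  change IsIso X.left.toSpecΓ.appTop
  rw [Scheme.toSpecΓ_appTop]
  infer_instance

/-- a morphism to an affine scheme, bijective on global functions, is universal for maps to affine schemes -/
theorem existsUnique_desc {P Q Z : Over (Spec (CommRingCat.of k))} (q : P ⟶ Q)
    [IsIso q.left.appTop] [IsAffine Q.left] [IsAffine Z.left] (f : P ⟶ Z) :
    ∃! g : Q ⟶ Z, q ≫ g = f := by
  let g0 : Q.left ⟶ Z.left :=
    Q.left.isoSpec.hom ≫ Spec.map (f.left.appTop ≫ inv q.left.appTop) ≫ Z.left.isoSpec.inv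
  have hg : g0.appTop = f.left.appTop ≫ inv q.left.appTop := by
    have hnat := Scheme.ΓSpecIso_naturality (f.left.appTop ≫ inv q.left.appTop)
    simp only [g0, Scheme.Hom.comp_appTop, Scheme.isoSpec_hom, Scheme.toSpecΓ_appTop, Category.assoc]
    rw [hnat, ← Category.assoc]
    simp [Scheme.isoSpec, ← Scheme.toSpecΓ_appTop]
  have hfac : q.left ≫ g0 = f.left := by
    apply ext_of_isAffine
    rw [Scheme.Hom.comp_appTop, hg, Category.assoc, IsIso.inv_hom_id, Category.comp_id]
  have hover : g0 ≫ Z.hom = Q.hom := by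
    apply ext_of_isAffine
    rw [← cancel_mono q.left.appTop, ← Scheme.Hom.comp_appTop, ← Scheme.Hom.comp_appTop]
    congr 1
    rw [← Category.assoc, hfac, Over.w f, Over.w q]
  refine ⟨Over.homMk g0 hover, Over.OverMorphism.ext hfac, fun g' hg' => Over.OverMorphism.ext ?_⟩
  apply ext_of_isAffine
  rw [← cancel_mono q.left.appTop, ← Scheme.Hom.comp_appTop, ← Scheme.Hom.comp_appTop]
  congr 1
  exact (congrArg (fun φ => φ.left) hg').trans hfac.symm

/-- Künneth for global functions -/
theorem isPushout_appTop (X Y : Over (Spec (CommRingCat.of k))) [CompactSpace X.left]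
    [QuasiSeparatedSpace X.left] [CompactSpace Y.left] [QuasiSeparatedSpace Y.left] :
    IsPushout X.hom.appTop Y.hom.appTop (fst X Y).left.appTop (snd X Y).left.appTop := by
  haveI : Flat Y.hom := inferInstance
  have H : IsPullback (fst X Y).left (snd X Y).left X.hom Y.hom := IsPullback.of_hasPullback _ _
  have hflat : (X.hom.appLE ⊤ ⊤ le_top).hom.Flat := by
    let e : k →+* Γ(Spec (CommRingCat.of k), ⊤) := (Scheme.ΓSpecIso (CommRingCat.of k)).inv.hom
    let f := (X.hom.appLE ⊤ ⊤ le_top).hom
    have h1 : (f.comp e).Flat := by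
      letI := (f.comp e).toAlgebra
      exact RingHom.flat_algebraMap_iff.2 (inferInstanceAs (Module.Flat k _))
    have hbij : Function.Bijective (Scheme.ΓSpecIso (CommRingCat.of k)).hom.hom :=
      ConcreteCategory.bijective_of_isIso (Scheme.ΓSpecIso (CommRingCat.of k)).hom
    have h2 : ((f.comp e).comp (Scheme.ΓSpecIso (CommRingCat.of k)).hom.hom).Flat :=
      (RingHom.Flat.of_bijective hbij).comp h1
    have h3 : (f.comp e).comp (Scheme.ΓSpecIso (CommRingCat.of k)).hom.hom = f := by
      ext x
      exact congrArg f ((Scheme.ΓSpecIso (CommRingCat.of k)).commRingCatIsoToRingEquiv.symm_apply_apply x)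
    rwa [h3] at h2
  have hiso : IsIso (pushoutSection H (US := ⊤) (UT := ⊤) (UX := ⊤) le_top le_top (UY := ⊤) (by simp)) :=
    isIso_pushoutSection_of_isCompact_of_flat_right_of_ringHomFlat H _ _ _ (isAffineOpen_top _)
      isCompact_univ isQuasiSeparated_univ
      isCompact_univ isQuasiSeparated_univ hflat
  have h := (isIso_pushoutSection_iff ..).mp hiso
  have e : ∀ {A B : Scheme.{u}} (g : A ⟶ B), g.appLE ⊤ ⊤ le_top = g.appTop := fun g =>
    Scheme.Hom.appLE_eq_app g
  simp only [e] at h
  exact h

lemma qs_tensor (X Y : Over (Spec (CommRingCat.of k))) [CompactSpace X.left]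
    [QuasiSeparatedSpace X.left] [CompactSpace Y.left] [QuasiSeparatedSpace Y.left] :
    CompactSpace (X ⊗ Y).left ∧ QuasiSeparatedSpace (X ⊗ Y).left := by
  have : QuasiCompact Y.hom := quasiCompact_of_compactSpace Y.hom
  have : QuasiCompact (fst X Y).left := inferInstanceAs (QuasiCompact (pullback.fst X.hom Y.hom))
  have : QuasiSeparated Y.hom := by
    have h := (quasiSeparatedSpace_iff_quasiSeparated Y.left).1 ‹_›
    rw [← terminal.comp_from Y.hom] at h
    exact QuasiSeparated.of_comp Y.hom (terminal.from _)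
  have : QuasiSeparated (fst X Y).left := inferInstanceAs (QuasiSeparated (pullback.fst X.hom Y.hom))
  exact ⟨QuasiCompact.compactSpace_of_compactSpace (fst X Y).left,
    quasiSeparatedSpace_of_quasiSeparated (fst X Y).left⟩

theorem isIso_tensor_appTop {P₁ Q₁ P₂ Q₂ : Over (Spec (CommRingCat.of k))} (q₁ : P₁ ⟶ Q₁) (q₂ : P₂ ⟶ Q₂)
    [CompactSpace P₁.left] [QuasiSeparatedSpace P₁.left] [CompactSpace P₂.left] [QuasiSeparatedSpace P₂.left]
    [IsAffine Q₁.left] [IsAffine Q₂.left] [IsIso q₁.left.appTop] [IsIso q₂.left.appTop] :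
    IsIso (q₁ ⊗ₘ q₂).left.appTop := by
  have hP := isPushout_appTop P₁ P₂
  have hQ := isPushout_appTop Q₁ Q₂
  have h1 : (fst Q₁ Q₂).left.appTop ≫ (q₁ ⊗ₘ q₂).left.appTop = q₁.left.appTop ≫ (fst P₁ P₂).left.appTop := by
    rw [← Scheme.Hom.comp_appTop, ← Scheme.Hom.comp_appTop]
    exact congrArg (fun φ => φ.left.appTop) (tensorHom_fst q₁ q₂)
  have h2 : (snd Q₁ Q₂).left.appTop ≫ (q₁ ⊗ₘ q₂).left.appTop = q₂.left.appTop ≫ (snd P₁ P₂).left.appTop := by
    rw [← Scheme.Hom.comp_appTop, ← Scheme.Hom.comp_appTop]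
    exact congrArg (fun φ => φ.left.appTop) (tensorHom_snd q₁ q₂)
  have hw₁ : Q₁.hom.appTop ≫ q₁.left.appTop = P₁.hom.appTop := by
    rw [← Scheme.Hom.comp_appTop, Over.w q₁]
  have hw₂ : Q₂.hom.appTop ≫ q₂.left.appTop = P₂.hom.appTop := by
    rw [← Scheme.Hom.comp_appTop, Over.w q₂]
  have hQ' : IsPushout P₁.hom.appTop P₂.hom.appTop
      (inv q₁.left.appTop ≫ (fst Q₁ Q₂).left.appTop) (inv q₂.left.appTop ≫ (snd Q₁ Q₂).left.appTop) :=
    hQ.of_iso (Iso.refl _) (asIso q₁.left.appTop) (asIso q₂.left.appTop) (Iso.refl _)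
      (by simpa using hw₁) (by simpa using hw₂) (by simp) (by simp)
  have : (q₁ ⊗ₘ q₂).left.appTop = (hQ'.isoIsPushout _ _ hP).hom := by
    apply hQ'.hom_ext
    · rw [IsPushout.inl_isoIsPushout_hom, Category.assoc, h1, IsIso.inv_hom_id_assoc]
    · rw [IsPushout.inr_isoIsPushout_hom, Category.assoc, h2, IsIso.inv_hom_id_assoc]
  rw [this]
  infer_instance

lemma isAffine_tensor (X Y : Over (Spec (CommRingCat.of k))) [IsAffine X.left] [IsAffine Y.left] :
    IsAffine (X ⊗ Y).left :=
  inferInstanceAs (IsAffine (pullback X.hom Y.hom))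

variable (G : Over (Spec (CommRingCat.of k))) [GrpObj G] [QuasiCompact G.hom]

lemma compactSpace_left : CompactSpace G.left :=
  QuasiCompact.compactSpace_of_compactSpace G.hom

lemma quasiSeparatedSpace_left : QuasiSeparatedSpace G.left :=
  haveI := SepPoints.isSeparated_grp G
  quasiSeparatedSpace_of_quasiSeparated G.hom

theorem exists_grpObj : ∃ _ : GrpObj (aff G), IsMonHom (toAff G) := by
  haveI := compactSpace_left G
  haveI := quasiSeparatedSpace_left G
  haveI := isIso_toAff_appTop G
  obtain ⟨_, _⟩ := qs_tensor G G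
  haveI := isAffine_tensor (aff G) (aff G)
  haveI := isIso_tensor_appTop (toAff G) (toAff G)
  haveI := isAffine_tensor (aff G ⊗ aff G) (aff G)
  haveI := isIso_tensor_appTop (toAff G ⊗ₘ toAff G) (toAff G)
  obtain ⟨m, hm, -⟩ := existsUnique_desc (toAff G ⊗ₘ toAff G) (μ[G] ≫ toAff G)
  obtain ⟨n, hn, -⟩ := existsUnique_desc (toAff G) (ι[G] ≫ toAff G)
  have hm' : ∀ (T : Over (Spec (CommRingCat.of k))) (a b : T ⟶ G),
      lift (a ≫ toAff G) (b ≫ toAff G) ≫ m = (a * b) ≫ toAff G := by
    intro T a b
    rw [← lift_map, Category.assoc, hm, ← Category.assoc]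
    rfl
  let e : 𝟙_ (Over (Spec (CommRingCat.of k))) ⟶ aff G := η[G] ≫ toAff G
  let hG : GrpObj (aff G) :=
    { one := e
      mul := m
      inv := n
      one_mul := by
        haveI := isIso_toAff_appTop G
        rw [← cancel_epi (λ_ (aff G)).inv]
        apply (existsUnique_desc (toAff G) (toAff G)).unique
        · have : toAff G ≫ (λ_ (aff G)).inv ≫ e ▷ aff G =
              lift ((toUnit G ≫ η[G]) ≫ toAff G) (𝟙 G ≫ toAff G) := by
            apply CartesianMonoidalCategory.hom_ext <;> simp [e]
          rw [← Category.assoc (λ_ _).inv, ← Category.assoc (toAff G), this, hm', ← Hom.one_def,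
            _root_.one_mul, Category.id_comp]
        · simp
      mul_one := by
        rw [← cancel_epi (ρ_ (aff G)).inv]
        apply (existsUnique_desc (toAff G) (toAff G)).unique
        · have : toAff G ≫ (ρ_ (aff G)).inv ≫ aff G ◁ e =
              lift (𝟙 G ≫ toAff G) ((toUnit G ≫ η[G]) ≫ toAff G) := by
            apply CartesianMonoidalCategory.hom_ext <;> simp [e]
          rw [← Category.assoc (ρ_ _).inv, ← Category.assoc (toAff G), this, hm', ← Hom.one_def,
            _root_.mul_one, Category.id_comp]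
        · simp
      mul_assoc := by
        apply (existsUnique_desc ((toAff G ⊗ₘ toAff G) ⊗ₘ toAff G)
          ((fst (G ⊗ G) G ≫ fst G G * fst (G ⊗ G) G ≫ snd G G * snd (G ⊗ G) G) ≫ toAff G)).unique
        · have : ((toAff G ⊗ₘ toAff G) ⊗ₘ toAff G) ≫ m ▷ aff G =
              lift ((fst (G ⊗ G) G ≫ fst G G * fst (G ⊗ G) G ≫ snd G G) ≫ toAff G)
                (snd (G ⊗ G) G ≫ toAff G) := by
            apply CartesianMonoidalCategory.hom_ext
            · rw [lift_fst, Category.assoc, whiskerRight_fst, tensorHom_fst_assoc, hm, ← Category.assoc,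
                Hom.mul_def, ← comp_lift, lift_fst_snd, Category.comp_id]
            · simp
          rw [← Category.assoc, this, hm']
        · have : ((toAff G ⊗ₘ toAff G) ⊗ₘ toAff G) ≫ (α_ (aff G) (aff G) (aff G)).hom ≫ aff G ◁ m =
              lift ((fst (G ⊗ G) G ≫ fst G G) ≫ toAff G)
                ((fst (G ⊗ G) G ≫ snd G G * snd (G ⊗ G) G) ≫ toAff G) := by
            apply CartesianMonoidalCategory.hom_ext
            · simp
            · rw [lift_snd, ← hm']
              simp only [Category.assoc, whiskerLeft_snd]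
              rw [← Category.assoc (α_ _ _ _).hom, ← Category.assoc ((toAff G ⊗ₘ toAff G) ⊗ₘ toAff G)]
              congr 1
              apply CartesianMonoidalCategory.hom_ext <;> simp
          rw [← Category.assoc (α_ _ _ _).hom, ← Category.assoc ((toAff G ⊗ₘ toAff G) ⊗ₘ toAff G),
            this, hm', _root_.mul_assoc]
      left_inv := by
        apply (existsUnique_desc (toAff G) ((1 : G ⟶ G) ≫ toAff G)).unique
        · rw [← Category.assoc, comp_lift, hn, Category.comp_id]
          conv_lhs => arg 1; arg 2; rw [← Category.id_comp (toAff G)]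
          rw [hm', GrpObj.inv_eq_inv, inv_mul_cancel]
        · rw [Hom.one_def, ← Category.assoc, comp_toUnit, Category.assoc]
      right_inv := by
        apply (existsUnique_desc (toAff G) ((1 : G ⟶ G) ≫ toAff G)).unique
        · rw [← Category.assoc, comp_lift, hn, Category.comp_id]
          conv_lhs => arg 1; arg 1; rw [← Category.id_comp (toAff G)]
          rw [hm', GrpObj.inv_eq_inv, mul_inv_cancel]
        · rw [Hom.one_def, ← Category.assoc, comp_toUnit, Category.assoc] }
  exact ⟨hG, ⟨rfl, hm.symm⟩⟩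

end Groth.Agent.GrpSch.AffEnv
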