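import Groth.Agent.GrpSch.AffThmAlg
import Groth.Agent.GrpSch.FlatHom
import Groth.Agent.HomLocus.Basic
import Groth.Agent.GenFlat.FppfSource
import Groth.Agent.RegNormal.Basic

/-!
# Schematically dominant homomorphisms to affine group schemes are faithfully flat

A homomorphism from a group scheme of finite type over a field to an affine group scheme, injective
on global functions, is faithfully flat, and the target is of finite type.
-/

set_option autoImplicit false
set_option backward.isDefEq.respectTransparency.types false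

universe u

open CategoryTheory MonoidalCategory CartesianMonoidalCategory MonObj GrpObj Limits AlgebraicGeometry
open TensorProduct

namespace Groth.Agent.GrpSch.AffThm

variable {k : Type u} [Field k] {G H : Over (Spec (CommRingCat.of k))} [GrpObj G] [GrpObj H]
  (u : G ⟶ H) [IsMonHom u]

/-- the two projections of `G ×_H G` are flat -/
theorem flat_pullback_fst : Flat (pullback.fst u.left u.left) ∧ Flat (pullback.snd u.left u.left) := by
  have hK : IsPullback (pullback.fst u η[H]) (toUnit (pullback u η[H])) u η[H] := by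
    have h := IsPullback.of_hasPullback u η[H]
    rwa [toUnit_unique (pullback.snd u η[H]) (toUnit _)] at h
  obtain ⟨kk, -, hsh⟩ := HomLocus.exists_isPullback_shear hK (IsPullback.of_hasPullback u u)
  haveI : Flat (toUnit (pullback u η[H])).left := by
    have : (toUnit (pullback u η[H])).left = (pullback u η[H]).hom :=
      (Category.comp_id _).symm.trans (Over.w (toUnit (pullback u η[H])))
    rw [this]
    exact (fun X : Over (Spec (CommRingCat.of k)) => (inferInstance : Flat X.hom)) _
  have h1 : Flat (pullback.fst u u).left :=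
    MorphismProperty.of_isPullback (P := @Flat) (isPullback_left hsh).flip inferInstance
  have hl := isPullback_left (IsPullback.of_hasPullback u u)
  have h2 : Flat (pullback.fst u.left u.left) := by
    rw [← hl.isoPullback_inv_fst]
    exact MorphismProperty.comp_mem @Flat _ _ inferInstance h1
  refine ⟨h2, ?_⟩
  rw [← pullbackSymmetry_hom_comp_fst]
  exact MorphismProperty.comp_mem @Flat _ _ inferInstance h2

omit [GrpObj G] in
lemma exists_affine_cover [QuasiCompact G.hom] : ∃ (P : Scheme.{u}) (p : P ⟶ G.left),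
    IsAffine P ∧ Flat p ∧ Surjective p ∧ LocallyOfFinitePresentation p := by
  haveI := QuasiCompact.compactSpace_of_compactSpace G.hom
  let 𝒰 := G.left.affineCover.finiteSubcover
  haveI : ∀ i, IsAffine (𝒰.X i) := fun i => inferInstanceAs (IsAffine (Spec _))
  refine ⟨∐ 𝒰.X, Sigma.desc 𝒰.f, inferInstance, ?_, ⟨fun x => ?_⟩, ?_⟩
  · exact IsZariskiLocalAtSource.of_openCover (P := @Flat) (sigmaOpenCover 𝒰.X) fun i => by
      change Flat (Sigma.ι 𝒰.X i ≫ Sigma.desc 𝒰.f)
      rw [Sigma.ι_desc]
      infer_instance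
  · obtain ⟨i, y, rfl⟩ := 𝒰.exists_eq x
    exact ⟨(Sigma.ι 𝒰.X i) y, by rw [← Scheme.Hom.comp_apply, Sigma.ι_desc]⟩
  · exact IsZariskiLocalAtSource.of_openCover (P := @LocallyOfFinitePresentation) (sigmaOpenCover 𝒰.X)
      fun i => by
        change LocallyOfFinitePresentation (Sigma.ι 𝒰.X i ≫ Sigma.desc 𝒰.f)
        rw [Sigma.ι_desc]
        infer_instance

lemma appTop_injective_of_flat_surjective {X Y : Scheme.{u}} (p : X ⟶ Y) [Flat p] [Surjective p] :
    Function.Injective p.appTop.hom := by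
  rw [injective_iff_map_eq_zero]
  intro s hs
  apply Y.IsSheaf.section_ext
  intro y hy
  obtain ⟨x, rfl⟩ := p.surjective y
  have hff : Function.Injective (p.stalkMap x).hom := by
    let _ : Algebra (Y.presheaf.stalk (p x)) (X.presheaf.stalk x) := (p.stalkMap x).hom.toAlgebra
    have : Module.Flat (Y.presheaf.stalk (p x)) (X.presheaf.stalk x) := Flat.stalkMap p x
    have : IsLocalHom (algebraMap (Y.presheaf.stalk (p x)) (X.presheaf.stalk x)) :=
      inferInstanceAs (IsLocalHom (p.stalkMap x).hom)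
    have : Module.FaithfullyFlat (Y.presheaf.stalk (p x)) (X.presheaf.stalk x) :=
      Module.FaithfullyFlat.of_flat_of_isLocalHom
    exact FaithfulSMul.algebraMap_injective (Y.presheaf.stalk (p x)) (X.presheaf.stalk x)
  have h0 : Y.presheaf.germ ⊤ (p x) trivial s = 0 := by
    apply hff
    rw [map_zero]
    refine (Scheme.Hom.germ_stalkMap_apply p ⊤ x trivial s).trans ?_
    change X.presheaf.germ _ x _ (p.appTop.hom s) = 0
    rw [hs, map_zero]
  obtain ⟨W, hxW, i₁, i₂, h⟩ := Y.presheaf.germ_eq (U := ⊤) (V := ⊤) (p x) trivial trivial s 0 (by rw [h0, map_zero])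
  rw [map_zero] at h
  exact ⟨W, le_top, hxW, h.trans (map_zero _).symm⟩

/-- flatness over every maximal point -/
theorem exists_flat_point [LocallyOfFiniteType G.hom] [QuasiCompact G.hom] [IsAffine H.left]
    (hinj : Function.Injective u.left.appTop.hom) (z : H.left) (hz : ∀ z', z' ⤳ z → z' = z) :
    ∃ y : G.left, u.left y = z ∧ (u.left.stalkMap y).hom.Flat := by
  obtain ⟨P, p, _, _, _, _⟩ := exists_affine_cover (G := G)
  let j : P ⟶ H.left := p ≫ u.left
  haveI : IsLocallyNoetherian G.left := LocallyOfFiniteType.isLocallyNoetherian G.hom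
  haveI : IsLocallyNoetherian P := LocallyOfFiniteType.isLocallyNoetherian (p ≫ G.hom)
  haveI : IsNoetherianRing Γ(P, ⊤) := IsLocallyNoetherian.component_noetherian ⟨⊤, isAffineOpen_top P⟩
  algebraize [j.appTop.hom]
  have hjinj : Function.Injective (algebraMap Γ(H.left, ⊤) Γ(P, ⊤)) := by
    change Function.Injective j.appTop.hom
    simp only [j, Scheme.Hom.comp_appTop, CommRingCat.hom_comp, RingHom.coe_comp]
    exact (appTop_injective_of_flat_surjective p).comp hinj
  let sf : Spec Γ(P, ⊤) ⟶ Spec Γ(H.left, ⊤) :=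
    Spec.map (CommRingCat.ofHom (algebraMap Γ(H.left, ⊤) Γ(P, ⊤)))
  have hsf : P.isoSpec.hom ≫ sf = j ≫ H.left.isoSpec.hom := (Scheme.isoSpec_hom_naturality j)
  obtain ⟨hf1, hf2⟩ := flat_pullback_fst u
  -- flatness of `P ×_H P ⟶ P`
  have hPP : Flat (pullback.fst j j) := by
    have s3 := IsPullback.of_hasPullback p
      (pullback.fst (pullback.snd u.left u.left) p ≫ pullback.fst u.left u.left)
    have s12 : IsPullback (pullback.fst (pullback.snd u.left u.left) p ≫ pullback.fst u.left u.left)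
        (pullback.snd (pullback.snd u.left u.left) p) u.left j :=
      ((IsPullback.of_hasPullback (pullback.snd u.left u.left) p).flip.paste_vert
        (IsPullback.of_hasPullback u.left u.left).flip).flip
    have s123 : IsPullback (pullback.fst p (pullback.fst (pullback.snd u.left u.left) p ≫ pullback.fst u.left u.left))
        (pullback.snd p _ ≫ pullback.snd (pullback.snd u.left u.left) p) j j :=
      s3.paste_vert s12
    haveI : Flat (pullback.snd (pullback.snd u.left u.left) p) :=
      MorphismProperty.pullback_snd (P := @Flat) _ _ hf2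
    have h : Flat (pullback.snd p (pullback.fst (pullback.snd u.left u.left) p ≫ pullback.fst u.left u.left) ≫
        pullback.snd (pullback.snd u.left u.left) p) := inferInstance
    rw [← pullbackSymmetry_hom_comp_snd, ← s123.isoPullback_inv_snd]
    infer_instance
  haveI : Module.Flat Γ(P, ⊤) (Γ(P, ⊤) ⊗[Γ(H.left, ⊤)] Γ(P, ⊤)) := by
    have sq : IsPullback (pullback.fst j j ≫ P.isoSpec.hom) (pullback.snd j j ≫ P.isoSpec.hom) sf sf :=
      (IsPullback.of_hasPullback j j).of_iso (Iso.refl _) P.isoSpec P.isoSpec H.left.isoSpec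
        (by simp) (by simp) hsf.symm hsf.symm
    have : Flat (Spec.map (CommRingCat.ofHom (algebraMap Γ(P, ⊤) (Γ(P, ⊤) ⊗[Γ(H.left, ⊤)] Γ(P, ⊤))))) := by
      rw [← pullbackSpecIso_inv_fst' Γ(H.left, ⊤) Γ(P, ⊤) Γ(P, ⊤)]
      change Flat (_ ≫ pullback.fst sf sf)
      rw [← sq.isoPullback_inv_fst]
      infer_instance
    exact RingHom.flat_algebraMap_iff.1 (HasRingHomProperty.Spec_iff.1 this)
  let ξ : PrimeSpectrum Γ(H.left, ⊤) := H.left.isoSpec.hom z
  have hξ : ξ.asIdeal ∈ minimalPrimes Γ(H.left, ⊤) := by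
    refine ⟨⟨ξ.2, bot_le⟩, fun q hq hle => ?_⟩
    have h1 : (⟨q, hq.1⟩ : PrimeSpectrum Γ(H.left, ⊤)) ⤳ ξ := (PrimeSpectrum.le_iff_specializes _ _).1 hle
    have h2 : H.left.isoSpec.inv ⟨q, hq.1⟩ = z := hz _ (by
      have := h1.map H.left.isoSpec.inv.continuous
      rwa [show H.left.isoSpec.inv ξ = z from by simp [ξ, ← Scheme.Hom.comp_apply]] at this)
    have h3 : (⟨q, hq.1⟩ : PrimeSpectrum Γ(H.left, ⊤)) = ξ := by
      refine (H.left.isoSpec.inv.isOpenEmbedding.injective ?_)
      refine h2.trans ?_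
      simp [ξ, ← Scheme.Hom.comp_apply]
    rw [← h3]
  obtain ⟨hBS, hne⟩ := AffThmAlg.flat_localization_tensor hjinj ξ.asIdeal hξ
  set R := Localization.AtPrime ξ.asIdeal
  let S := R ⊗[Γ(H.left, ⊤)] Γ(P, ⊤)
  letI : Algebra Γ(P, ⊤) S := Algebra.TensorProduct.rightAlgebra
  haveI : IsScalarTower Γ(H.left, ⊤) Γ(P, ⊤) S := IsScalarTower.of_algebraMap_eq fun b => by
    show algebraMap _ S b = (1 : R) ⊗ₜ algebraMap _ Γ(P, ⊤) b
    rw [Algebra.TensorProduct.algebraMap_apply, Algebra.algebraMap_eq_smul_one b,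
      Algebra.algebraMap_eq_smul_one b, TensorProduct.smul_tmul]
  haveI : IsLocalization (Algebra.algebraMapSubmonoid Γ(P, ⊤) ξ.asIdeal.primeCompl) S :=
    IsLocalization.tensorRight (A := R) ξ.asIdeal.primeCompl
  let sS : Spec (CommRingCat.of S) ⟶ Spec Γ(P, ⊤) := Spec.map (CommRingCat.ofHom (algebraMap Γ(P, ⊤) S))
  haveI : Flat sS := HasRingHomProperty.Spec_iff.2 (RingHom.flat_algebraMap_iff.2
    (IsLocalization.flat S (Algebra.algebraMapSubmonoid Γ(P, ⊤) ξ.asIdeal.primeCompl)))
  haveI : Flat (sS ≫ sf) := by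
    rw [← Spec.map_comp, ← CommRingCat.ofHom_comp, ← IsScalarTower.algebraMap_eq]
    exact HasRingHomProperty.Spec_iff.2 (RingHom.flat_algebraMap_iff.2 hBS)
  obtain ⟨q⟩ : Nonempty (PrimeSpectrum S) := inferInstance
  have hq : sf (sS q) = ξ := by
    have hsS : sS ≫ sf = Spec.map (CommRingCat.ofHom (algebraMap Γ(H.left, ⊤) S)) := by
      rw [← Spec.map_comp, ← CommRingCat.ofHom_comp, ← IsScalarTower.algebraMap_eq]
    rw [← Scheme.Hom.comp_apply, hsS]
    apply PrimeSpectrum.ext
    change q.asIdeal.comap (algebraMap Γ(H.left, ⊤) S) = ξ.asIdeal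
    refine (fun h => le_antisymm h (hξ.2 ⟨Ideal.IsPrime.comap _, bot_le⟩ h)) ?_
    rw [IsScalarTower.algebraMap_eq Γ(H.left, ⊤) R S, ← Ideal.comap_comap]
    exact (Ideal.comap_mono (IsLocalRing.le_maximalIdeal (Ideal.IsPrime.comap (algebraMap R S)).ne_top)).trans
      (IsLocalization.AtPrime.under_maximalIdeal R ξ.asIdeal).le
  let m : Spec (CommRingCat.of S) ⟶ G.left := sS ≫ P.isoSpec.inv ≫ p
  have hm : m ≫ u.left = (sS ≫ sf) ≫ H.left.isoSpec.inv := by
    rw [(Iso.eq_inv_comp _).2 hsf]
    simp [m, j]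
  refine ⟨m q, ?_, ?_⟩
  · rw [← Scheme.Hom.comp_apply, hm, Scheme.Hom.comp_apply, Scheme.Hom.comp_apply, hq]
    simp [ξ, ← Scheme.Hom.comp_apply]
  · refine flat_stalkMap_of_comp m u.left q (Flat.stalkMap m q) ?_
    haveI : Flat (m ≫ u.left) := by rw [hm]; infer_instance
    exact Flat.stalkMap (m ≫ u.left) q

lemma exists_maximal_point (X : Scheme.{u}) [Nonempty X] : ∃ w : X, ∀ w', w' ⤳ w → w' = w := by
  obtain ⟨x⟩ := ‹Nonempty X›
  have hξ := (irreducibleComponent_mem_irreducibleComponents x).1.isGenericPoint_genericPoint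
    isClosed_irreducibleComponent
  refine ⟨(irreducibleComponent_mem_irreducibleComponents x).1.genericPoint, fun w hw => ?_⟩
  have hle : irreducibleComponent x ⊆ closure {w} :=
    fun y hy => (hw.trans (hξ.specializes hy)).mem_closure
  exact (((irreducibleComponent_mem_irreducibleComponents x).2 isIrreducible_singleton.closure hle
      |>.antisymm hle) |> fun h => (isGenericPoint_iff_specializes.2 fun y => by
        rw [specializes_iff_mem_closure, h]).eq hξ)

lemma maximal_image {X Y : Scheme.{u}} (f : X ⟶ Y) [Flat f] (w : X) (hw : ∀ w', w' ⤳ w → w' = w) :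
    ∀ y, y ⤳ f w → y = f w := by
  intro y hy
  obtain ⟨w', hw', rfl⟩ := Flat.generalizingMap f hy
  rw [hw w' hw']

/-- a homomorphism whose image contains all maximal points is surjective -/
theorem surjective_of_maximal (h : ∀ z : H.left, (∀ z', z' ⤳ z → z' = z) → ∃ y, u.left y = z) :
    Surjective u.left := by
  refine ⟨fun x => ?_⟩
  set P := ptOver H x
  set pt := ptHom H x
  obtain ⟨p₀⟩ : Nonempty P.left := inferInstanceAs (Nonempty (PrimeSpectrum _))
  haveI : Nonempty (P ⊗ H).left := ⟨(lift (𝟙 P) (1 : P ⟶ H)).left p₀⟩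
  obtain ⟨w, hw⟩ := exists_maximal_point (P ⊗ H).left
  haveI : Flat (snd P H).left := property_snd P H inferInstance
  let nv : P ⊗ H ≅ P ⊗ H :=
    { hom := lift (fst P H) (snd P H)⁻¹
      inv := lift (fst P H) (snd P H)⁻¹
      hom_inv_id := by
        apply CartesianMonoidalCategory.hom_ext
        · simp
        · rw [Category.assoc, lift_snd, GrpObj.comp_inv, lift_snd, _root_.inv_inv, Category.id_comp]
      inv_hom_id := by
        apply CartesianMonoidalCategory.hom_ext
        · simp
        · rw [Category.assoc, lift_snd, GrpObj.comp_inv, lift_snd, _root_.inv_inv, Category.id_comp] }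
  let θ : P ⊗ H ≅ P ⊗ H := nv ≪≫ shearLeft pt
  haveI : IsIso θ.hom.left := inferInstanceAs (IsIso ((Over.forget _).map θ.hom))
  let t₂ : P ⊗ H ⟶ H := (fst P H ≫ pt) * (snd P H)⁻¹
  have ht₂ : θ.hom ≫ snd P H = t₂ := by
    simp [θ, nv, t₂, shearLeft, MonObj.comp_mul]
  haveI : Flat t₂.left := by rw [← ht₂, Over.comp_left]; infer_instance
  obtain ⟨y₁, hy₁⟩ := h _ (maximal_image (snd P H).left w hw)
  obtain ⟨y₂, hy₂⟩ := h _ (maximal_image t₂.left w hw)
  obtain ⟨r₁, hr₁, -⟩ := Scheme.Pullback.exists_preimage_pullback (f := (snd P H).left) (g := u.left) w y₁ hy₁.symm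
  let T₁ : Over (Spec (CommRingCat.of k)) := Over.mk (pullback.fst (snd P H).left u.left ≫ (P ⊗ H).hom)
  let a : T₁ ⟶ P ⊗ H := Over.homMk (pullback.fst (snd P H).left u.left) rfl
  let g₁ : T₁ ⟶ G := Over.homMk (pullback.snd (snd P H).left u.left) (by
    rw [← Over.w u, ← Category.assoc, ← pullback.condition, Category.assoc, Over.w (snd P H)]
    rfl)
  have hg₁ : g₁ ≫ u = a ≫ snd P H := Over.OverMorphism.ext pullback.condition.symm
  obtain ⟨r₂, hr₂, -⟩ := Scheme.Pullback.exists_preimage_pullback (f := (a ≫ t₂).left) (g := u.left) r₁ y₂ (by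
    rw [comp_left_apply]
    exact (congrArg _ hr₁).trans hy₂.symm)
  let T₂ : Over (Spec (CommRingCat.of k)) := Over.mk (pullback.fst (a ≫ t₂).left u.left ≫ T₁.hom)
  let c : T₂ ⟶ T₁ := Over.homMk (pullback.fst (a ≫ t₂).left u.left) rfl
  let g₂ : T₂ ⟶ G := Over.homMk (pullback.snd (a ≫ t₂).left u.left) (by
    rw [← Over.w u, ← Category.assoc, ← pullback.condition, Category.assoc, Over.w (a ≫ t₂)]
    rfl)
  have hg₂ : g₂ ≫ u = c ≫ a ≫ t₂ := Over.OverMorphism.ext pullback.condition.symm
  refine ⟨(g₂ * (c ≫ g₁)).left r₂, ?_⟩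
  rw [← comp_left_apply, MonObj.mul_comp, Category.assoc, hg₁, hg₂]
  simp only [t₂, MonObj.comp_mul, GrpObj.comp_inv, inv_mul_cancel_right]
  rw [comp_left_apply, comp_left_apply, comp_left_apply]
  exact ptHom_apply H x _

/-- a homomorphism to an affine group, injective on functions, is faithfully flat -/
theorem flat_surjective [LocallyOfFiniteType G.hom] [QuasiCompact G.hom] [IsAffine H.left]
    (hinj : Function.Injective u.left.appTop.hom) : Flat u.left ∧ Surjective u.left := by
  haveI : Nonempty H.left := ⟨η[H].left (IsLocalRing.closedPoint k)⟩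
  obtain ⟨z, hz⟩ := exists_maximal_point H.left
  obtain ⟨y, -, hy⟩ := exists_flat_point u hinj z hz
  refine ⟨flat_of_transitive u y hy fun P a b => ⟨shearLeft ((a * b⁻¹) ≫ u), shearLeft (a * b⁻¹), ?_, ?_⟩,
    surjective_of_maximal u fun z hz => (exists_flat_point u hinj z hz).imp fun _ h => h.1⟩
  · apply CartesianMonoidalCategory.hom_ext
    · simp [shearLeft]
    · simp [shearLeft, MonObj.comp_mul, MonObj.mul_comp, GrpObj.inv_comp]
  · apply CartesianMonoidalCategory.hom_ext
    · simp [shearLeft]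
    · simp [shearLeft, MonObj.comp_mul, GrpObj.comp_inv]

/-- the target is of finite type -/
theorem locallyOfFiniteType [LocallyOfFiniteType G.hom] [QuasiCompact G.hom] [IsAffine H.left]
    (hinj : Function.Injective u.left.appTop.hom) :
    LocallyOfFiniteType H.hom ∧ LocallyOfFinitePresentation u.left := by
  obtain ⟨hfl, hsurj⟩ := flat_surjective u hinj
  obtain ⟨P, p, _, _, _, _⟩ := exists_affine_cover (G := G)
  let j : P ⟶ H.left := p ≫ u.left
  haveI : IsLocallyNoetherian P := LocallyOfFiniteType.isLocallyNoetherian (p ≫ G.hom)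
  haveI : IsNoetherianRing Γ(P, ⊤) := IsLocallyNoetherian.component_noetherian ⟨⊤, isAffineOpen_top P⟩
  algebraize [j.appTop.hom]
  haveI : Flat (Spec.map j.appTop) := by
    have : Spec.map j.appTop = P.isoSpec.inv ≫ j ≫ H.left.isoSpec.hom :=
      (Iso.eq_inv_comp _).2 (Scheme.isoSpec_hom_naturality j)
    rw [this]; infer_instance
  haveI : Surjective (Spec.map j.appTop) := by
    have : Spec.map j.appTop = P.isoSpec.inv ≫ j ≫ H.left.isoSpec.hom :=
      (Iso.eq_inv_comp _).2 (Scheme.isoSpec_hom_naturality j)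
    rw [this]; infer_instance
  haveI : Module.FaithfullyFlat Γ(H.left, ⊤) Γ(P, ⊤) :=
    RingHom.faithfullyFlat_algebraMap_iff.1 (RingHom.FaithfullyFlat.iff_flat_and_comap_surjective.2
      ⟨(HasRingHomProperty.Spec_iff (P := @Flat)).1 ‹Flat (Spec.map j.appTop)›, (Spec.map j.appTop).surjective⟩)
  haveI : IsNoetherianRing Γ(H.left, ⊤) :=
    RegNormal.isNoetherianRing_of_faithfullyFlat Γ(H.left, ⊤) Γ(P, ⊤)
  haveI : IsLocallyNoetherian H.left := isLocallyNoetherian_of_isOpenImmersion H.left.isoSpec.hom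
  haveI : LocallyOfFiniteType (u.left ≫ H.hom) := by rw [Over.w u]; infer_instance
  haveI : LocallyOfFiniteType u.left := locallyOfFiniteType_of_comp u.left H.hom
  haveI : LocallyOfFinitePresentation u.left := inferInstance
  exact ⟨GenFlat.locallyOfFiniteType_of_fppf_comp u.left H.hom, ‹_›⟩

end Groth.Agent.GrpSch.AffThm
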