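import Groth.Agent.GrpSch.FixedPtApps
import Groth.Agent.GrpSch.AffThm
import Groth.Agent.S3278

/-!
# Affine quotient of a connected group by its centre
-/

set_option autoImplicit false
set_option backward.isDefEq.respectTransparency.types false

universe u

open CategoryTheory MonoidalCategory CartesianMonoidalCategory MonObj GrpObj Limits AlgebraicGeometry

namespace Groth.Agent.GrpSch.FixedPt

variable {k : Type u} [Field k]

/-- an action on an affine scheme descends to the affinisation -/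
theorem exists_action_aff (G P : Over (Spec (CommRingCat.of k))) [GrpObj G] [QuasiCompact G.hom]
    [GrpObj (AffEnv.aff G)] [IsMonHom (AffEnv.toAff G)]
    [IsAffine P.left] (a : AlgGrp.Action G P) :
    ∃ a' : AlgGrp.Action (AffEnv.aff G) P, ∀ (T : Over (Spec (CommRingCat.of k))) (g : T ⟶ G) (y : T ⟶ P),
      lift (g ≫ AffEnv.toAff G) y ≫ a'.act = lift g y ≫ a.act := by
  open AffEnv in
  haveI := compactSpace_left G
  haveI := quasiSeparatedSpace_left G
  haveI := AffEnv.isIso_toAff_appTop G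
  haveI : IsIso (𝟙 P : P ⟶ P).left.appTop := by
    rw [Over.id_left, Scheme.Hom.id_appTop]; infer_instance
  obtain ⟨_, _⟩ := AffEnv.qs_tensor G G
  haveI := AffEnv.isAffine_tensor (AffEnv.aff G) P
  haveI := AffEnv.isIso_tensor_appTop (AffEnv.toAff G) (𝟙 P)
  haveI := AffEnv.isAffine_tensor (AffEnv.aff G) (AffEnv.aff G)
  haveI := AffEnv.isIso_tensor_appTop (AffEnv.toAff G) (AffEnv.toAff G)
  haveI := AffEnv.isAffine_tensor (AffEnv.aff G ⊗ AffEnv.aff G) P
  haveI := AffEnv.isIso_tensor_appTop (AffEnv.toAff G ⊗ₘ AffEnv.toAff G) (𝟙 P)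
  set t := AffEnv.toAff G
  obtain ⟨b, hb, -⟩ := AffEnv.existsUnique_desc (t ⊗ₘ 𝟙 P) a.act
  have hb' : ∀ (T : Over (Spec (CommRingCat.of k))) (g : T ⟶ G) (y : T ⟶ P),
      lift (g ≫ t) y ≫ b = lift g y ≫ a.act := fun T g y => by
    rw [← hb, ← Category.assoc, lift_map, Category.comp_id]
  refine ⟨{ act := b, one_act := ?_, mul_act := ?_ }, hb'⟩
  · have : η[AffEnv.aff G] ▷ P = lift ((toUnit _ ≫ η[G]) ≫ t) (snd _ _) := by
      apply CartesianMonoidalCategory.hom_ext
      · rw [whiskerRight_fst, lift_fst, Category.assoc, IsMonHom.one_hom,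
          toUnit_unique (fst (𝟙_ _) P) (toUnit _)]
      · simp
    rw [this, hb', ← Hom.one_def, act_one, leftUnitor_hom]
  · let g₁ := fst (G ⊗ G) P ≫ fst G G
    let g₂ := fst (G ⊗ G) P ≫ snd G G
    let y := snd (G ⊗ G) P
    apply (AffEnv.existsUnique_desc ((t ⊗ₘ t) ⊗ₘ 𝟙 P) (lift (g₁ * g₂) y ≫ a.act)).unique
    · have : ((t ⊗ₘ t) ⊗ₘ 𝟙 P) ≫ μ[AffEnv.aff G] ▷ P = lift ((g₁ * g₂) ≫ t) y := by
        apply CartesianMonoidalCategory.hom_ext
        · rw [Category.assoc, whiskerRight_fst, tensorHom_fst_assoc, lift_fst, ← IsMonHom.mul_hom (f := t),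
            ← Category.assoc]
          simp only [g₁, g₂, Hom.mul_def]
          rw [← comp_lift, lift_fst_snd, Category.comp_id]
        · simp [y]
      rw [← Category.assoc, this, hb']
    · have : ((t ⊗ₘ t) ⊗ₘ 𝟙 P) ≫ (α_ _ _ P).hom ≫ AffEnv.aff G ◁ b =
          lift (g₁ ≫ t) (lift (g₂ ≫ t) y ≫ b) := by
        apply CartesianMonoidalCategory.hom_ext
        · simp [g₁]
        · simp only [Category.assoc, whiskerLeft_snd, lift_snd]
          rw [← Category.assoc (α_ _ _ _).hom, ← Category.assoc ((t ⊗ₘ t) ⊗ₘ 𝟙 P)]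
          congr 1
          apply CartesianMonoidalCategory.hom_ext <;> simp [g₂, y]
      rw [← Category.assoc (α_ _ _ _).hom, ← Category.assoc ((t ⊗ₘ t) ⊗ₘ 𝟙 P), this, hb', hb', act_mul]

/-- an action with a fixed rational point, detected on infinitesimal neighbourhoods, has the same
kernel as an action on an affine scheme -/
theorem exists_faithful_affine {G X : Over (Spec (CommRingCat.of k))} [GrpObj G]
    [LocallyOfFiniteType G.hom] [QuasiCompact G.hom]
    (a : AlgGrp.Action G X)
    (x : 𝟙_ (Over (Spec (CommRingCat.of k))) ⟶ X) (hx : a.IsFixedPt x)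
    (V : Over (Spec (CommRingCat.of k))) [IsAffine V.left] (v : V ⟶ X) [IsOpenImmersion v.left]
    (hxV : x.left (IsLocalRing.closedPoint k) ∈ Set.range v.left)
    (hdet : ∀ (B : ℕ → Over (Spec (CommRingCat.of k))) (j : ∀ n, B n ⟶ V) (m : Ideal Γ(V.left, ⊤)),
      m.IsMaximal → (∀ x0 : 𝟙_ (Over (Spec (CommRingCat.of k))) ⟶ V, x0 ≫ v = x →
        ∀ b, b ∈ m ↔ x0.left.appTop b = 0) →
      (∀ n, IsAffine (B n).left) →
      (∀ b : Γ(V.left, ⊤), (∀ n, (j n).left.appTop b = 0) → ∀ n, b ∈ m ^ (n + 1)) →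
      ∀ (T : Over (Spec (CommRingCat.of k))) (g : T ⟶ G),
        (∀ n (T' : Over (Spec (CommRingCat.of k))) (t : T' ⟶ T) (y : T' ⟶ B n),
          lift (t ≫ g) (y ≫ j n ≫ v) ≫ a.act = y ≫ j n ≫ v) → Triv a g) :
    ∃ (P : Over (Spec (CommRingCat.of k))) (e : AlgGrp.Action G P), IsAffine P.left ∧
      ∀ (T : Over (Spec (CommRingCat.of k))) (g : T ⟶ G), Triv e g ↔ Triv a g := by
  obtain ⟨m, hm, hmx, B, j, c, hB, hcx, hsub, hcl, hpow, hfac⟩ := PtNbhd.exists_nbhd_affine x V v hxV
  haveI := SepPoints.isSeparated_grp G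
  have hmono : ∀ n, Mono (j n ≫ v) := fun n => by
    haveI := hcl n
    haveI : Mono (j n ≫ v).left := by rw [Over.comp_left]; infer_instance
    exact (Over.forget _).mono_of_mono_map (show Mono (j n ≫ v).left from inferInstance)
  have hrest : ∀ n, ∃ b : AlgGrp.Action G (B n), ∀ (T : Over (Spec (CommRingCat.of k))) (h : T ⟶ G)
      (y : T ⟶ B n), lift h y ≫ b.act ≫ j n ≫ v = lift h (y ≫ j n ≫ v) ≫ a.act := fun n => by
    obtain ⟨g, hg⟩ := hfac G n ((G ◁ (j n ≫ v)) ≫ a.act) (by
      rw [← Category.assoc, ← whiskerLeft_comp, hcx]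
      have : G ◁ x = lift (fst G (𝟙_ _)) (toUnit _ ≫ x) := by
        apply CartesianMonoidalCategory.hom_ext
        · simp
        · rw [whiskerLeft_snd, lift_snd, toUnit_unique (snd G (𝟙_ _)) (toUnit _)]
      rw [this, hx])
    haveI := hmono n
    obtain ⟨b, -, hb⟩ := exists_restrict a (j n ≫ v) g hg
    exact ⟨b, hb⟩
  choose b hb using hrest
  have hloc : ∀ n, ∃ (Z : Over (Spec (CommRingCat.of k))) (i : Z ⟶ G), IsClosedImmersion i.left ∧
      ∀ (T : Over (Spec (CommRingCat.of k))) (g : T ⟶ G), (∃ z, z ≫ i = g) ↔ Triv (b n) g := fun n => by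
    haveI := hB n
    exact exists_trivLocus (b n)
  choose Z i hi hZ using hloc
  -- restriction to smaller neighbourhoods
  have hdown : ∀ (n : ℕ) (T : Over (Spec (CommRingCat.of k))) (g : T ⟶ G),
      Triv (b n) g → ∀ (T' : Over (Spec (CommRingCat.of k))) (t : T' ⟶ T) (y : T' ⟶ B n),
        lift (t ≫ g) (y ≫ j n ≫ v) ≫ a.act = y ≫ j n ≫ v := fun n T g h T' t y => by
    rw [← hb, ← Category.assoc, h T' t y]
  have hup : ∀ (n : ℕ) (T : Over (Spec (CommRingCat.of k))) (g : T ⟶ G),
      (∀ (T' : Over (Spec (CommRingCat.of k))) (t : T' ⟶ T) (y : T' ⟶ B n),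
        lift (t ≫ g) (y ≫ j n ≫ v) ≫ a.act = y ≫ j n ≫ v) → Triv (b n) g := fun n T g h T' t y => by
    haveI := hmono n
    rw [← cancel_mono (j n ≫ v), Category.assoc, hb]
    exact h T' t y
  -- a single neighbourhood detects triviality
  let Z' : ℕ → Over (Spec (CommRingCat.of k)) := fun n => Nat.rec (Z 0) (fun p _ => Z (p + 1)) n
  have hall : ∀ n, ∀ (T : Over (Spec (CommRingCat.of k))) (g : T ⟶ G),
      (∀ p, p ≤ n → Triv (b p) g) ↔ ∀ p, p ≤ n → ∃ z, z ≫ i p = g := fun n T g => by
    simp only [hZ]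
  have hinter : ∀ n, ∃ (W : Over (Spec (CommRingCat.of k))) (w : W ⟶ G), IsClosedImmersion w.left ∧
      ∀ (T : Over (Spec (CommRingCat.of k))) (g : T ⟶ G), (∃ z, z ≫ w = g) ↔ ∀ p, p ≤ n → Triv (b p) g := by
    intro n
    induction n with
    | zero =>
      refine ⟨Z 0, i 0, hi 0, fun T g => ?_⟩
      rw [hZ]
      exact ⟨fun h p hp => by rwa [Nat.le_zero.1 hp], fun h => h 0 le_rfl⟩
    | succ n ih =>
      obtain ⟨W, w, hw, hW⟩ := ih
      haveI := hi (n + 1)
      haveI := hw
      let W' : Over (Spec (CommRingCat.of k)) :=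
        Over.mk (pullback.fst w.left (i (n + 1)).left ≫ W.hom)
      let w' : W' ⟶ W := Over.homMk (pullback.fst w.left (i (n + 1)).left) rfl
      refine ⟨W', w' ≫ w, inferInstanceAs (IsClosedImmersion (pullback.fst w.left (i (n + 1)).left ≫ w.left)),
        fun T g => ⟨fun ⟨z, hz⟩ p hp => ?_, fun h => ?_⟩⟩
      · rcases Nat.lt_or_ge p (n + 1) with hlt | hge
        · exact (hW T g).1 ⟨z ≫ w', by rw [Category.assoc, hz]⟩ p (by omega)
        · obtain rfl : p = n + 1 := le_antisymm hp hge
          refine (hZ (n + 1) T g).1 ⟨z ≫ Over.homMk (pullback.snd w.left (i (n + 1)).left) ?_, ?_⟩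
          · change pullback.snd _ _ ≫ (Z (n + 1)).hom = pullback.fst _ _ ≫ W.hom
            rw [← Over.w (i (n + 1)), ← Over.w w, pullback.condition_assoc]
          · rw [← hz, Category.assoc]
            congr 1
            exact Over.OverMorphism.ext pullback.condition.symm
      · obtain ⟨z₁, hz₁⟩ := (hW T g).2 fun p hp => h p (by omega)
        obtain ⟨z₂, hz₂⟩ := (hZ (n + 1) T g).2 (h (n + 1) le_rfl)
        refine ⟨Over.homMk (pullback.lift z₁.left z₂.left
          (congrArg (fun φ => φ.left) (hz₁.trans hz₂.symm))) ?_, ?_⟩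
        · change pullback.lift _ _ _ ≫ pullback.fst _ _ ≫ W.hom = T.hom
          rw [pullback.lift_fst_assoc, Over.w z₁]
        · refine ((Category.assoc _ _ _).symm.trans (congrArg (· ≫ w) ?_)).trans hz₁
          exact Over.OverMorphism.ext (pullback.lift_fst _ _ _)
  choose W w hw hW using hinter
  obtain ⟨N, hN⟩ := exists_stab w fun n =>
    (hW n _ (w (n + 1))).2 fun p hp => (hW (n + 1) _ (w (n + 1))).1 ⟨𝟙 _, Category.id_comp _⟩ p (by omega)
  -- the finitely many neighbourhoods glued into one affine scheme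
  have hq1 : ∀ (T : Over (Spec (CommRingCat.of k))) (g : T ⟶ G),
      Triv a g ↔ ∀ p, p ≤ N → Triv (b p) g := by
    intro T g
    refine ⟨fun hg p _ => hup p T g fun T' t y => hg T' t _, fun hg => ?_⟩
    refine hdet B j m hm hmx hB hpow T g fun n => hdown n T g ?_
    obtain ⟨f, hf⟩ := hN n
    obtain ⟨z, hz⟩ := (hW N T g).2 hg
    exact (hW n T g).1 ⟨z ≫ f, by rw [Category.assoc, hf, hz]⟩ n le_rfl
  let P : ℕ → Over (Spec (CommRingCat.of k)) := fun n => Nat.rec (B 0) (fun p W' => W' ⊗ B (p + 1)) n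
  have hP : ∀ n, n ≤ N → ∃ e : AlgGrp.Action G (P n),
      IsAffine (P n).left ∧ (∃ _ : 𝟙_ (Over (Spec (CommRingCat.of k))) ⟶ P n, True) ∧
      ∀ (T : Over (Spec (CommRingCat.of k))) (g : T ⟶ G), (Triv e g ↔ ∀ p, p ≤ n → Triv (b p) g) := by
    intro n hn
    induction n with
    | zero =>
      exact ⟨b 0, hB 0, ⟨c 0, trivial⟩, fun T g => ⟨fun h p hp => by
        obtain rfl := Nat.le_zero.1 hp
        exact h, fun h => h 0 le_rfl⟩⟩
    | succ n ih =>
      obtain ⟨e, he, ⟨s, -⟩, hfaith⟩ := ih (by omega)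
      let e' := b (n + 1)
      haveI := hB (n + 1)
      haveI := he
      let act : G ⊗ (P n ⊗ B (n + 1)) ⟶ P n ⊗ B (n + 1) :=
        lift (lift (fst _ _) (snd _ _ ≫ fst _ _) ≫ e.act) (lift (fst _ _) (snd _ _ ≫ snd _ _) ≫ e'.act)
      have hact : ∀ (T : Over (Spec (CommRingCat.of k))) (g : T ⟶ G) (y : T ⟶ P n) (z : T ⟶ B (n + 1)),
          lift g (lift y z) ≫ act = lift (lift g y ≫ e.act) (lift g z ≫ e'.act) := fun T g y z => by
        simp only [act, comp_lift, comp_lift_assoc, lift_fst, lift_snd_assoc, lift_snd]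
      refine ⟨{ act := act, one_act := ?_, mul_act := ?_ }, AffEnv.isAffine_tensor _ _,
        ⟨lift s (c (n + 1)), trivial⟩, ?_⟩
      · have : η[G] ▷ (P n ⊗ B (n + 1)) = lift (1 : _ ⟶ G) (lift (snd _ _ ≫ fst _ _) (snd _ _ ≫ snd _ _)) := by
          apply CartesianMonoidalCategory.hom_ext
          · rw [whiskerRight_fst, lift_fst, Hom.one_def,
              toUnit_unique (fst (𝟙_ _) (P n ⊗ B (n + 1))) (toUnit _)]
          · rw [whiskerRight_snd, lift_snd, ← comp_lift, lift_fst_snd, Category.comp_id]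
        rw [this, hact, act_one, act_one, leftUnitor_hom, ← comp_lift, lift_fst_snd, Category.comp_id]
      · let g₁ := fst (G ⊗ G) (P n ⊗ B (n + 1)) ≫ fst G G
        let g₂ := fst (G ⊗ G) (P n ⊗ B (n + 1)) ≫ snd G G
        let y := snd (G ⊗ G) (P n ⊗ B (n + 1)) ≫ fst _ _
        let z := snd (G ⊗ G) (P n ⊗ B (n + 1)) ≫ snd _ _
        have e3 : μ[G] ▷ (P n ⊗ B (n + 1)) = lift (g₁ * g₂) (lift y z) := by
          apply CartesianMonoidalCategory.hom_ext
          · rw [whiskerRight_fst, lift_fst, ← MonObj.comp_mul, Hom.mul_def, lift_fst_snd, Category.id_comp]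
          · rw [whiskerRight_snd, lift_snd, ← comp_lift, lift_fst_snd, Category.comp_id]
        have e4 : (α_ G G (P n ⊗ B (n + 1))).hom ≫ G ◁ act ≫ act = lift g₁ (lift g₂ (lift y z) ≫ act) ≫ act := by
          rw [← Category.assoc]
          congr 1
          apply CartesianMonoidalCategory.hom_ext
          · simp [g₁]
          · simp only [Category.assoc, whiskerLeft_snd, lift_snd]
            rw [← Category.assoc (α_ G G (P n ⊗ B (n + 1))).hom]
            congr 1
            apply CartesianMonoidalCategory.hom_ext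
            · simp [g₂]
            · rw [lift_snd, Category.assoc, associator_hom_snd_snd]
              simp only [y, z]
              rw [← comp_lift, lift_fst_snd, Category.comp_id]
        rw [e3, hact, e4, hact, hact, act_mul, act_mul]
      · intro T g
        constructor
        · intro hg p hp T' t y
          rcases Nat.lt_or_ge p (n + 1) with hlt | hge
          · have htriv : Triv e g := fun T₂ t₂ y₂ => by
              have h2 := congrArg (· ≫ fst _ _) (hg T₂ t₂ (lift y₂ (toUnit T₂ ≫ c (n + 1))))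
              simp only [hact] at h2
              exact (lift_fst _ _).symm.trans (h2.trans (lift_fst _ _))
            exact (hfaith T g).1 htriv p (by omega) T' t y
          · obtain rfl : p = n + 1 := le_antisymm hp hge
            have h2 := congrArg (· ≫ snd _ _) (hg T' t (lift (toUnit T' ≫ s) y))
            simp only [hact] at h2
            exact (lift_snd _ _).symm.trans (h2.trans (lift_snd _ _))
        · intro hg T' t y
          obtain ⟨y₁, y₂, rfl⟩ : ∃ y₁ y₂, lift y₁ y₂ = y :=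
            ⟨y ≫ fst _ _, y ≫ snd _ _, by rw [← comp_lift, lift_fst_snd, Category.comp_id]⟩
          change lift (t ≫ g) (lift y₁ y₂) ≫ act = _
          rw [hact, (hfaith T g).2 (fun p hp => hg p (by omega)) T' t y₁, hg (n + 1) le_rfl T' t y₂]
  obtain ⟨e, he, -, hfaith⟩ := hP N le_rfl
  exact ⟨P N, e, he, fun T g => (hfaith T g).trans (hq1 T g).symm⟩

/-- the centraliser of a connected group is the kernel of an action on an affine scheme -/
theorem exists_affine_action_centre (G : Over (Spec (CommRingCat.of k))) [GrpObj G]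
    [LocallyOfFiniteType G.hom] [QuasiCompact G.hom] [ConnectedSpace G.left] :
    ∃ (P : Over (Spec (CommRingCat.of k))) (e : AlgGrp.Action G P), IsAffine P.left ∧
      ∀ (T : Over (Spec (CommRingCat.of k))) (g : T ⟶ G), Triv e g ↔
        ∀ (T' : Over (Spec (CommRingCat.of k))) (t : T' ⟶ T) (h : T' ⟶ G), (t ≫ g) * h = h * (t ≫ g) := by
  haveI := SepPoints.isSeparated_grp G
  haveI : IsLocallyNoetherian G.left := LocallyOfFiniteType.isLocallyNoetherian G.hom
  haveI : IrreducibleSpace G.left := Saturation.irreducibleSpace_of_connected G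
  obtain ⟨V, v, hV, hv, hxV, hgood⟩ := exists_good_nbhd G η[G]
  -- conjugation
  let c : G ⊗ G ⟶ G := fst G G * snd G G * (fst G G)⁻¹
  have hc : ∀ {T : Over (Spec (CommRingCat.of k))} (g y : T ⟶ G), lift g y ≫ c = g * y * g⁻¹ :=
    fun g y => by simp [c, MonObj.comp_mul, GrpObj.comp_inv]
  let a : AlgGrp.Action G G :=
    { act := c
      one_act := by
        have : η[G] ▷ G = lift (1 : _ ⟶ G) (snd _ _) := by
          apply CartesianMonoidalCategory.hom_ext
          · rw [whiskerRight_fst, lift_fst, Hom.one_def, toUnit_unique (fst (𝟙_ _) G) (toUnit _)]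
          · simp
        rw [this, hc, inv_one, _root_.mul_one, _root_.one_mul, leftUnitor_hom]
      mul_act := by
        let g₁ := fst (G ⊗ G) G ≫ fst G G
        let g₂ := fst (G ⊗ G) G ≫ snd G G
        have e1 : μ[G] ▷ G = lift (g₁ * g₂) (snd _ _) := by
          apply CartesianMonoidalCategory.hom_ext
          · rw [whiskerRight_fst, lift_fst, ← MonObj.comp_mul, Hom.mul_def, lift_fst_snd, Category.id_comp]
          · simp
        have e2 : (α_ G G G).hom ≫ G ◁ c ≫ c = lift g₁ (lift g₂ (snd _ _) ≫ c) ≫ c := by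
          rw [← Category.assoc]
          congr 1
          apply CartesianMonoidalCategory.hom_ext
          · simp [g₁]
          · simp only [Category.assoc, whiskerLeft_snd, lift_snd]
            rw [← Category.assoc (α_ G G G).hom]
            congr 1
            apply CartesianMonoidalCategory.hom_ext <;> simp [g₂]
        rw [e1, hc, e2, hc, hc]
        group }
  obtain ⟨P', e, hP', he⟩ := exists_faithful_affine a η[G] (fun T g => by
    change lift g _ ≫ c = _
    rw [hc, ← Hom.one_def, _root_.mul_one, mul_inv_cancel]) V v hxV fun B j' m hm hmx hB hpow T g hg => by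
    obtain ⟨x0, hx0⟩ : ∃ x0 : 𝟙_ (Over (Spec (CommRingCat.of k))) ⟶ V, x0 ≫ v = η[G] := by
      let l := IsOpenImmersion.lift v.left η[G].left (by
        rintro _ ⟨t, rfl⟩
        rwa [closed_point_subsingleton t (IsLocalRing.closedPoint k)])
      refine ⟨Over.homMk l ?_, Over.OverMorphism.ext (IsOpenImmersion.lift_fac _ _ _)⟩
      rw [← Over.w v, ← Category.assoc, IsOpenImmersion.lift_fac]
      exact Over.w η[G]
    let P : T ⊗ G ⟶ G := lift (fst T G ≫ g) (snd T G) ≫ c
    have hP : ∀ {T' : Over (Spec (CommRingCat.of k))} (t : T' ⟶ T) (y : T' ⟶ G),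
        lift t y ≫ P = (t ≫ g) * y * (t ≫ g)⁻¹ := fun t y => by
      simp [P, c, MonObj.comp_mul, GrpObj.comp_inv]
    have hPV : (T ◁ v) ≫ P = (T ◁ v) ≫ snd T G := by
      refine @JointInj.ext k _ ℕ T V G _ _ B hB j' (fun b hb => ?_) _ _ fun n => ?_
      · refine hgood x0 hx0 b fun n => ?_
        have : m = RingHom.ker x0.left.appTop.hom := Ideal.ext fun b => hmx x0 hx0 b
        rw [← this]
        exact hpow b hb n
      · have := hg n (T ⊗ B n) (fst _ _) (snd _ _)
        rw [← Category.assoc, ← Category.assoc (T ◁ j' n)]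
        simp only [P, Category.assoc, whiskerLeft_snd, whiskerLeft_snd_assoc, comp_lift_assoc,
          whiskerLeft_fst_assoc]
        exact this
    let vv : V ⊗ V ⟶ G := (v ⊗ₘ v) ≫ μ[G]
    haveI : Flat vv.left := by
      haveI : Flat μ[G].left := property_mul (P := @Flat) G inferInstance
      haveI : IsOpenImmersion (v ⊗ₘ v).left := by
        rw [MonoidalCategory.tensorHom_def, Over.comp_left]
        haveI : IsOpenImmersion (v ▷ V).left := Desc.whiskerRight_prop V v hv
        haveI : IsOpenImmersion (G ◁ v).left := Desc.whiskerLeft_prop G v hv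
        infer_instance
      exact inferInstanceAs (Flat ((v ⊗ₘ v).left ≫ μ[G].left))
    haveI : LocallyOfFinitePresentation vv.left := by
      haveI : LocallyOfFinitePresentation G.hom := inferInstance
      haveI : LocallyOfFinitePresentation μ[G].left :=
        property_mul (P := @LocallyOfFinitePresentation) G inferInstance
      haveI : IsOpenImmersion (v ⊗ₘ v).left := by
        rw [MonoidalCategory.tensorHom_def, Over.comp_left]
        haveI : IsOpenImmersion (v ▷ V).left := Desc.whiskerRight_prop V v hv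
        haveI : IsOpenImmersion (G ◁ v).left := Desc.whiskerLeft_prop G v hv
        infer_instance
      exact inferInstanceAs (LocallyOfFinitePresentation ((v ⊗ₘ v).left ≫ μ[G].left))
    haveI : Surjective vv.left := ⟨fun y => by
      have hd : Dense (Set.range v.left) :=
        v.left.isOpenEmbedding.isOpen_range.dense ⟨_, hxV⟩
      obtain ⟨w, ⟨⟨w₁, hw₁⟩, ⟨w₂, hw₂⟩⟩, rfl⟩ :=
        (mul_image_dense_eq_univ G v.left.isOpenEmbedding.isOpen_range hd hd).ge (Set.mem_univ y)
      have hr := Scheme.Pullback.range_map V.hom V.hom G.hom G.hom v.left v.left (𝟙 _)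
        ((Category.comp_id _).trans (Over.w v).symm) ((Category.comp_id _).trans (Over.w v).symm)
      have e : (v ⊗ₘ v).left = pullback.map V.hom V.hom G.hom G.hom v.left v.left (𝟙 _)
          ((Category.comp_id _).trans (Over.w v).symm) ((Category.comp_id _).trans (Over.w v).symm) := by
        apply pullback.hom_ext
        · rw [pullback.lift_fst]
          exact congrArg (fun φ => φ.left) (tensorHom_fst v v)
        · rw [pullback.lift_snd]
          exact congrArg (fun φ => φ.left) (tensorHom_snd v v)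
      obtain ⟨p, hp⟩ : w ∈ Set.range (v ⊗ₘ v).left := by
        rw [e, hr]; exact ⟨⟨w₁, hw₁⟩, ⟨w₂, hw₂⟩⟩
      exact ⟨p, by rw [comp_left_apply, hp]⟩⟩
    haveI : Flat (T ◁ vv).left := Desc.whiskerLeft_prop T vv ‹_›
    haveI : Surjective (T ◁ vv).left := Desc.whiskerLeft_prop T vv ‹_›
    haveI : LocallyOfFinitePresentation (T ◁ vv).left := Desc.whiskerLeft_prop T vv ‹_›
    haveI : Epi (T ◁ vv) := Desc.epi_of_effectiveEpi_left _
    have hall : P = snd T G := by
      rw [← cancel_epi (T ◁ vv)]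
      have h1 := congrArg (fun φ => lift (fst T (V ⊗ V)) (snd T (V ⊗ V) ≫ fst V V) ≫ φ) hPV
      have h2 := congrArg (fun φ => lift (fst T (V ⊗ V)) (snd T (V ⊗ V) ≫ snd V V) ≫ φ) hPV
      simp only [lift_whiskerLeft_assoc, hP, lift_snd] at h1 h2
      have hvv : T ◁ vv = lift (fst T (V ⊗ V))
          (((snd T (V ⊗ V) ≫ fst V V) ≫ v) * ((snd T (V ⊗ V) ≫ snd V V) ≫ v)) := by
        apply CartesianMonoidalCategory.hom_ext
        · simp
        · rw [lift_snd, whiskerLeft_snd, mul_eq_lift]
          simp only [vv, ← Category.assoc]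
          congr 1
          apply CartesianMonoidalCategory.hom_ext <;> simp
      rw [hvv, hP, lift_snd]
      conv_rhs => rw [← h1, ← h2]
      group
    exact triv_of_eq a g hall
  refine ⟨P', e, hP', fun T g => (he T g).trans ⟨fun h T' t y => ?_, fun h T' t y => ?_⟩⟩
  · have h1 : lift (t ≫ g) y ≫ c = y := h T' t y
    rw [hc] at h1
    exact mul_inv_eq_iff_eq_mul.1 h1
  · change lift (t ≫ g) y ≫ c = y
    rw [hc]
    exact mul_inv_eq_iff_eq_mul.2 (h T' t y)

/-- the centre of a connected group, with affine quotient -/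
theorem exists_centre_quot (G : Over (Spec (CommRingCat.of k))) [GrpObj G]
    [LocallyOfFiniteType G.hom] [QuasiCompact G.hom] [ConnectedSpace G.left] :
    ∃ (Z : Over (Spec (CommRingCat.of k))) (_ : GrpObj Z) (i : Z ⟶ G), IsMonHom i ∧ IsClosedImmersion i.left ∧
      (∀ (T : Over (Spec (CommRingCat.of k))) (g : T ⟶ G),
        (∃ z : T ⟶ Z, z ≫ i = g) ↔ ∀ (T' : Over (Spec (CommRingCat.of k))) (t : T' ⟶ T) (h : T' ⟶ G), (t ≫ g) * h = h * (t ≫ g)) ∧
      ∃ (Q : Over (Spec (CommRingCat.of k))) (_ : GrpObj Q) (q : G ⟶ Q), IsMonHom q ∧ IsAffine Q.left ∧ LocallyOfFiniteType Q.hom ∧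
        Flat q.left ∧ Surjective q.left ∧ AlgGrp.IsKernel i q := by
  obtain ⟨P, e, hP, he⟩ := exists_affine_action_centre G
  obtain ⟨_, _⟩ := AffEnv.exists_grpObj G
  haveI := AffEnv.compactSpace_left G
  haveI := AffEnv.quasiSeparatedSpace_left G
  haveI := AffEnv.isIso_toAff_appTop G
  have hinj : Function.Injective (AffEnv.toAff G).left.appTop.hom := (ConcreteCategory.bijective_of_isIso (AffEnv.toAff G).left.appTop).1
  obtain ⟨hAft, htlfp⟩ := AffThm.locallyOfFiniteType (AffEnv.toAff G) hinj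
  obtain ⟨htf, hts⟩ := AffThm.flat_surjective (AffEnv.toAff G) hinj
  obtain ⟨e', he'⟩ := exists_action_aff G P e
  haveI : IsSeparated P.hom := inferInstance
  obtain ⟨N, n, hn, hN⟩ := exists_trivLocus e'
  haveI := hn
  haveI : Mono n := (Over.forget _).mono_of_mono_map (show Mono n.left from inferInstance)
  have hone : ∀ (T : Over (Spec (CommRingCat.of k))), Triv e' (1 : T ⟶ (AffEnv.aff G)) := fun T T' s y => by
    rw [MonObj.comp_one, act_one]
  have hmul : ∀ (T : Over (Spec (CommRingCat.of k))) (g h : T ⟶ (AffEnv.aff G)), Triv e' g → Triv e' h → Triv e' (g * h) :=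
    fun T g h hg hh T' s y => by rw [MonObj.comp_mul, act_mul, hh T' s y, hg T' s y]
  have hinv : ∀ (T : Over (Spec (CommRingCat.of k))) (g : T ⟶ (AffEnv.aff G)), Triv e' g → Triv e' g⁻¹ :=
    fun T g hg T' s y => by
      conv_lhs => rw [← hg T' s y]
      rw [← act_mul, GrpObj.comp_inv, inv_mul_cancel, act_one]
  obtain ⟨_, _⟩ : ∃ _ : GrpObj N, IsMonHom n := by
    refine exists_grpObj_of_mono n ?_ (fun T a b => ?_) fun T a => ?_
    · exact ((hN _ η[(AffEnv.aff G)]).2 (by
        have := hone (𝟙_ (Over (Spec (CommRingCat.of k))))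
        rwa [Hom.one_def, toUnit_unique (toUnit (𝟙_ _)) (𝟙 _), Category.id_comp] at this))
    · exact (hN _ _).2 (hmul _ _ _ ((hN _ _).1 ⟨a, rfl⟩) ((hN _ _).1 ⟨b, rfl⟩))
    · exact (hN _ _).2 (hinv _ _ ((hN _ _).1 ⟨a, rfl⟩))
  have hnorm : AlgGrp.IsNormalHom n := fun T g z => by
    obtain ⟨z', hz'⟩ := (hN T (g * (z ≫ n) * g⁻¹)).2 fun T' s y => by
      rw [MonObj.comp_mul, MonObj.comp_mul, GrpObj.comp_inv, act_mul, act_mul,
        ((hN T _).1 ⟨z, rfl⟩) T' s, ← act_mul, mul_inv_cancel, act_one]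
    exact ⟨z', hz'.symm⟩
  obtain ⟨Q, _, q, _, hQa, hQf, hqf, hqs, hqk⟩ := Groth.Agent.S3278.result k (AffEnv.aff G) N n hnorm
  haveI := SepPoints.isSeparated_grp Q
  obtain ⟨Z, i, hi, hiZ⟩ : ∃ (Z : Over (Spec (CommRingCat.of k))) (i : Z ⟶ G),
      IsClosedImmersion i.left ∧ AlgGrp.IsKernel i ((AffEnv.toAff G) ≫ q) := by
    have h := IsPullback.of_hasPullback ((AffEnv.toAff G) ≫ q) η[Q]
    refine ⟨_, pullback.fst ((AffEnv.toAff G) ≫ q) η[Q], ?_, by rwa [toUnit_unique (pullback.snd ((AffEnv.toAff G) ≫ q) η[Q]) (toUnit _)] at h⟩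
    haveI : IsClosedImmersion η[Q].left := by
      haveI : IsClosedImmersion (η[Q].left ≫ Q.hom) := by rw [Over.w η[Q]]; exact inferInstanceAs (IsClosedImmersion (𝟙 (Spec (CommRingCat.of k))))
      exact IsClosedImmersion.of_comp η[Q].left Q.hom
    exact MorphismProperty.of_isPullback (P := @IsClosedImmersion) (isPullback_left h).flip inferInstance
  haveI : Mono i := mono_of_isKernel hiZ
  obtain ⟨_, _⟩ := exists_grpObj_of_isKernel hiZ
  refine ⟨Z, ‹_›, i, ‹_›, hi, fun T g => ?_, Q, ‹_›, (AffEnv.toAff G) ≫ q, inferInstance, hQa, hQf,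
    inferInstanceAs (Flat ((AffEnv.toAff G).left ≫ q.left)), inferInstanceAs (Surjective ((AffEnv.toAff G).left ≫ q.left)), hiZ⟩
  rw [isKernel_factors_iff hiZ g, ← Category.assoc, ← isKernel_factors_iff hqk (g ≫ (AffEnv.toAff G)), hN, ← he]
  constructor
  · intro h T' s y
    rw [← he', Category.assoc]
    exact h T' s y
  · intro h T' s y
    rw [← Category.assoc, he']
    exact h T' s y

end Groth.Agent.GrpSch.FixedPt
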