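import Mathlib

/-!
# Descent of flatness along injective maps out of local rings with nilpotent maximal ideal
-/

set_option autoImplicit false

universe u v w

open TensorProduct

namespace Groth.Agent.GrpSch.AffThmAlg

section Ker

variable {S : Type u} [CommRing S] {F : Type v} [AddCommGroup F] [Module S F] {M : Type w}
  [AddCommGroup M] [Module S M]

/-- for a surjection onto a flat module, the kernel is a pure submodule -/
theorem ker_inf_smul_top_le [Module.Flat S M] (f : F →ₗ[S] M) (hf : Function.Surjective f) (J : Ideal S) :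
    LinearMap.ker f ⊓ J • ⊤ ≤ J • LinearMap.ker f := by
  rintro x ⟨hx, hxJ⟩
  let μF : ↥J ⊗[S] F →ₗ[S] F := TensorProduct.lift ((LinearMap.lsmul S F).comp J.subtype)
  let μM : ↥J ⊗[S] M →ₗ[S] M := TensorProduct.lift ((LinearMap.lsmul S M).comp J.subtype)
  obtain ⟨t, ht⟩ : ∃ t, μF t = x := by
    refine Submodule.smul_induction_on hxJ (fun r hr n _ => ⟨⟨r, hr⟩ ⊗ₜ n, by simp [μF]⟩) ?_
    rintro a b ⟨s, rfl⟩ ⟨t, rfl⟩
    exact ⟨s + t, map_add _ _ _⟩
  have hnat : ∀ t, μM (f.lTensor ↥J t) = f (μF t) := by
    intro t
    induction t with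
    | zero => simp
    | tmul j n => simp [μF, μM]
    | add a b ha hb => simp [ha, hb]
  have h0 : f.lTensor ↥J t = 0 := by
    have hinj : Function.Injective μM := by
      have h : μM = (TensorProduct.lid S M).toLinearMap ∘ₗ J.subtype.rTensor M :=
        TensorProduct.ext' fun j n => by simp [μM]
      rw [h]
      exact (TensorProduct.lid S M).injective.comp
        (Module.Flat.rTensor_preserves_injective_linearMap _ Subtype.val_injective)
    apply hinj
    rw [hnat, ht, map_zero]
    exact hx
  have hex : Function.Exact (LinearMap.ker f).subtype f := f.exact_subtype_ker_map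
  obtain ⟨p, hp⟩ := (lTensor_exact ↥J hex hf t).1 h0
  rw [← ht, ← hp]
  clear hp
  induction p with
  | zero => simp
  | tmul j n =>
    simp only [LinearMap.lTensor_tmul, μF, TensorProduct.lift.tmul, LinearMap.coe_comp,
      Function.comp_apply, LinearMap.lsmul_apply, Submodule.subtype_apply]
    exact Submodule.smul_mem_smul j.2 n.2
  | add a b ha hb => rw [map_add, map_add]; exact add_mem ha hb

theorem injective_of_ker_le_smul_top [Module.Flat S M] (f : F →ₗ[S] M) (hf : Function.Surjective f)
    (J : Ideal S) (hJ : IsNilpotent J) (hker : LinearMap.ker f ≤ J • ⊤) : Function.Injective f := by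
  rw [← LinearMap.ker_eq_bot, eq_bot_iff]
  have h1 : LinearMap.ker f ≤ J • LinearMap.ker f := fun x hx =>
    ker_inf_smul_top_le f hf J ⟨hx, hker hx⟩
  obtain ⟨n, hn⟩ := hJ
  have h : ∀ m, LinearMap.ker f ≤ J ^ m • LinearMap.ker f := by
    intro m
    induction m with
    | zero => simp
    | succ m ih =>
      refine ih.trans ((Submodule.smul_mono le_rfl h1).trans ?_)
      rw [pow_succ, ← smul_eq_mul, Submodule.smul_assoc]
  have := h n
  rwa [hn, Submodule.zero_eq_bot, Submodule.bot_smul] at this

end Ker

variable {R : Type u} [CommRing R] [IsLocalRing R] {S : Type u} [CommRing S] [Algebra R S]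

/-- flatness descends along an injective map out of a local ring with nilpotent maximal ideal -/
theorem flat_of_injective_of_flat_tensor (hinj : Function.Injective (algebraMap R S))
    (hn : IsNilpotent (IsLocalRing.maximalIdeal R)) (M : Type u) [AddCommGroup M] [Module R M]
    [Module.Flat S (S ⊗[R] M)] : Module.Flat R M := by
  classical
  let m := IsLocalRing.maximalIdeal R
  letI : Field (R ⧸ m) := Ideal.Quotient.field m
  let ι := Module.Basis.ofVectorSpaceIndex (R ⧸ m) (M ⧸ (m • ⊤ : Submodule R M))
  let b : Module.Basis ι (R ⧸ m) (M ⧸ (m • ⊤ : Submodule R M)) := Module.Basis.ofVectorSpace _ _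
  choose e he using fun i => Submodule.mkQ_surjective (m • ⊤ : Submodule R M) (b i)
  let π : (ι →₀ R) →ₗ[R] M := Finsupp.linearCombination R e
  have hπ : Function.Surjective π := by
    rw [← LinearMap.range_eq_top]
    set N := LinearMap.range π with hN
    have htop : N ⊔ m • ⊤ = ⊤ := by
      rw [eq_top_iff]
      rintro x -
      have hx : Submodule.mkQ (m • ⊤ : Submodule R M) x ∈ N.map (Submodule.mkQ (m • ⊤ : Submodule R M)) := by
        generalize Submodule.mkQ (m • ⊤ : Submodule R M) x = y
        rw [← b.linearCombination_repr y]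
        refine Submodule.sum_mem _ fun i _ => ?_
        obtain ⟨r, hr⟩ := Ideal.Quotient.mk_surjective (b.repr y i)
        simp only
        rw [← hr, ← he i]
        refine ⟨r • e i, ⟨Finsupp.single i r, by simp [π]⟩, ?_⟩
        rw [map_smul]
        rfl
      rw [← Submodule.mem_comap, Submodule.comap_map_mkQ] at hx
      rwa [sup_comm]
    have h : ∀ n, N ⊔ m ^ n • ⊤ = ⊤ := by
      intro n
      induction n with
      | zero => simp
      | succ n ih =>
        refine top_le_iff.1 (ih.ge.trans (sup_le le_sup_left ?_))
        conv_lhs => rw [← htop]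
        rw [Submodule.smul_sup, pow_succ, ← smul_eq_mul, Submodule.smul_assoc]
        exact sup_le (Submodule.smul_le_right.trans le_sup_left) le_sup_right
    obtain ⟨n, hn⟩ := hn
    have := h n
    rwa [show m ^ n = ⊥ from hn, Submodule.bot_smul, sup_bot_eq] at this
  let Φ : (ι →₀ S) →ₗ[S] S ⊗[R] M := Finsupp.linearCombination S fun i => (1 : S) ⊗ₜ e i
  have hΦπ : ∀ x, Φ (x.mapRange (algebraMap R S) (map_zero _)) = (1 : S) ⊗ₜ π x := by
    intro x
    induction x using Finsupp.induction_linear with
    | zero => simp
    | single i r => simp [Φ, π, algebraMap_smul]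
    | add p q hp hq => simp [Finsupp.mapRange_add (map_add (algebraMap R S)), hp, hq, tmul_add]
  have hΦ : Function.Surjective Φ := by
    intro z
    induction z with
    | zero => exact ⟨0, map_zero _⟩
    | tmul s x =>
      obtain ⟨y, rfl⟩ := hπ x
      refine ⟨s • y.mapRange (algebraMap R S) (map_zero _), ?_⟩
      rw [map_smul, hΦπ, TensorProduct.smul_tmul', smul_eq_mul, mul_one]
    | add p q hp hq =>
      obtain ⟨a, rfl⟩ := hp
      obtain ⟨c, rfl⟩ := hq
      exact ⟨a + c, map_add _ _ _⟩
  let J := m.map (algebraMap R S)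
  have hJ : IsNilpotent J := by
    obtain ⟨n, hn⟩ := hn
    exact ⟨n, by rw [← Ideal.map_pow, show m ^ n = ⊥ from hn, Ideal.map_bot]; rfl⟩
  let g : R ⧸ m →+* S ⧸ J := Ideal.quotientMap J (algebraMap R S) Ideal.le_comap_map
  have hker : LinearMap.ker Φ ≤ J • ⊤ := by
    intro x hx
    have hcoord : ∀ i, x i ∈ J := by
      intro i
      let φ : M →ₗ[R] R ⧸ m :=
        ((b.coord i).restrictScalars R).comp (Submodule.mkQ (m • ⊤ : Submodule R M))
      let c : S ⊗[R] M →ₗ[R] S ⧸ J := TensorProduct.lift
        (LinearMap.mk₂ R (fun s x => Ideal.Quotient.mk J s * g (φ x))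
          (fun s t x => by simp [add_mul])
          (fun r s x => by rw [Algebra.smul_def, map_mul, Algebra.smul_def, mul_assoc]; rfl)
          (fun s x y => by simp [mul_add])
          (fun r s x => by
            rw [map_smul, Algebra.smul_def, map_mul, Algebra.smul_def]
            have : g (algebraMap R (R ⧸ m) r) = algebraMap R (S ⧸ J) r := Ideal.quotientMap_mk
            rw [this]; ring))
      have hc : ∀ j (s : S), c (s • ((1 : S) ⊗ₜ[R] e j)) = if j = i then Ideal.Quotient.mk J s else 0 := by
        intro j s
        rw [TensorProduct.smul_tmul', smul_eq_mul, mul_one]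
        have hφ : φ (e j) = if j = i then 1 else 0 := by
          simp only [φ, LinearMap.coe_comp, Function.comp_apply, LinearMap.coe_restrictScalars]
          rw [he j, Module.Basis.coord_apply, b.repr_self, Finsupp.single_apply]
        simp only [c, TensorProduct.lift.tmul, LinearMap.mk₂_apply, hφ]
        split <;> simp
      have h := congrArg c (show Φ x = 0 from hx)
      simp only [Φ, Finsupp.linearCombination_apply, Finsupp.sum, map_sum, map_zero, hc,
        Finset.sum_ite_eq', Finsupp.mem_support_iff] at h
      by_cases h0 : x i = 0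
      · rw [h0]; exact zero_mem _
      · rw [if_pos h0] at h; exact Ideal.Quotient.eq_zero_iff_mem.1 h
    rw [← Finsupp.sum_single x]
    refine Submodule.sum_mem _ fun i _ => ?_
    rw [← Finsupp.smul_single_one]
    exact Submodule.smul_mem_smul (hcoord i) Submodule.mem_top
  have hΦinj := injective_of_ker_le_smul_top Φ hΦ J hJ hker
  have hπinj : Function.Injective π := by
    intro x y hxy
    exact Finsupp.mapRange_injective _ (map_zero _) hinj (hΦinj (by rw [hΦπ, hΦπ, hxy]))
  exact Module.Flat.of_linearEquiv (LinearEquiv.ofBijective π ⟨hπinj, hπ⟩).symm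

section MinPrime

variable {B : Type u} [CommRing B] {T : Type u} [CommRing T] [Algebra B T]

/-- an injective map to a Noetherian ring with flat self base change is flat over a minimal prime -/
theorem flat_localization_tensor [IsNoetherianRing T] (hinj : Function.Injective (algebraMap B T))
    [Module.Flat T (T ⊗[B] T)] (p : Ideal B) [p.IsPrime] (hp : p ∈ minimalPrimes B) :
    Module.Flat B (Localization.AtPrime p ⊗[B] T) ∧ Nontrivial (Localization.AtPrime p ⊗[B] T) := by
  set R := Localization.AtPrime p
  let S := R ⊗[B] T
  letI : Algebra T S := Algebra.TensorProduct.rightAlgebra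
  haveI : IsScalarTower B T S := IsScalarTower.of_algebraMap_eq fun b => by
    show algebraMap B S b = (1 : R) ⊗ₜ algebraMap B T b
    rw [Algebra.TensorProduct.algebraMap_apply, Algebra.algebraMap_eq_smul_one b,
      Algebra.algebraMap_eq_smul_one b, TensorProduct.smul_tmul]
  haveI : Module.Flat B R := IsLocalization.flat R p.primeCompl
  have hi : Function.Injective (algebraMap R S) := by
    have h := Module.Flat.lTensor_preserves_injective_linearMap (M := R) (Algebra.linearMap B T) hinj
    intro x y hxy
    have e : ∀ z : R, (Algebra.linearMap B T).lTensor R (z ⊗ₜ 1) = z ⊗ₜ (1 : T) := fun z => by simp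
    have := h (show (Algebra.linearMap B T).lTensor R (x ⊗ₜ 1) = (Algebra.linearMap B T).lTensor R (y ⊗ₜ 1) by
      rw [e, e]; exact hxy)
    simpa using congrArg (TensorProduct.rid B R) this
  haveI : IsLocalization (Algebra.algebraMapSubmonoid T p.primeCompl) S := IsLocalization.tensorRight (A := R) p.primeCompl
  haveI : IsNoetherianRing S :=
    IsLocalization.isNoetherianRing (Algebra.algebraMapSubmonoid T p.primeCompl) S ‹_›
  have hnil : IsNilpotent (IsLocalRing.maximalIdeal R) := by
    have h1 : IsLocalRing.maximalIdeal R ≤ nilradical R := by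
      intro x hx
      rw [mem_nilradical]
      rw [← mem_nilradical, nilradical_eq_sInf, Submodule.mem_sInf]
      rintro (q : Ideal R) hq
      replace hq : q.IsPrime := hq
      have hle : q.comap (algebraMap B R) ≤ p := by
        refine le_trans ?_ (IsLocalization.AtPrime.under_maximalIdeal R p).le
        exact Ideal.comap_mono (IsLocalRing.le_maximalIdeal hq.ne_top)
      have he : q.comap (algebraMap B R) = p :=
        hle.antisymm (hp.2 ⟨Ideal.IsPrime.comap _, bot_le⟩ hle)
      have h2 : (q.comap (algebraMap B R)).map (algebraMap B R) = q := IsLocalization.map_under p.primeCompl R q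
      rw [← h2, he, IsLocalization.AtPrime.map_eq_maximalIdeal p R]
      exact hx
    obtain ⟨n, hn⟩ := Ideal.FG.isNilpotent_iff_le_nilradical ((isNoetherianRing_iff_ideal_fg S).1 ‹_›
      ((IsLocalRing.maximalIdeal R).map (algebraMap R S))) |>.2 (by
        rw [Ideal.map_le_iff_le_comap]
        intro x hx
        rw [Ideal.mem_comap, mem_nilradical]
        exact (mem_nilradical.1 (h1 hx)).map _)
    refine ⟨n, ?_⟩
    rw [Submodule.zero_eq_bot, eq_bot_iff]
    intro x hx
    have : algebraMap R S x ∈ (⊥ : Ideal S) := by
      rw [← Submodule.zero_eq_bot, ← hn, ← Ideal.map_pow]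
      exact Ideal.mem_map_of_mem _ hx
    exact hi (by rw [Ideal.mem_bot.1 this, map_zero])
  haveI : Module.Flat S (S ⊗[R] S) := by
    haveI : Module.Flat S (S ⊗[T] (T ⊗[B] T)) := Module.Flat.baseChange T S (T ⊗[B] T)
    haveI : Module.Flat S (S ⊗[B] T) :=
      Module.Flat.of_linearEquiv (TensorProduct.AlgebraTensorModule.cancelBaseChange B T S S T).symm
    exact Module.Flat.of_linearEquiv (TensorProduct.AlgebraTensorModule.cancelBaseChange B R S S T)
  haveI : Module.Flat R S := flat_of_injective_of_flat_tensor hi hnil S
  exact ⟨Module.Flat.trans B R S, hi.nontrivial⟩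

end MinPrime

end Groth.Agent.GrpSch.AffThmAlg
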