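import Mathlib

/-!
# Group laws on the affine line
-/

universe u

open CategoryTheory MonoidalCategory CartesianMonoidalCategory MonObj GrpObj Limits AlgebraicGeometry Polynomial

namespace Groth.Agent.GrpSch.AffineLine

variable {k : Type u} [Field k] (G : Over (Spec (CommRingCat.of k)))
  (e : G.left ≅ Spec (CommRingCat.of k[X]))

/-- the coordinate of a point -/
noncomputable def coord {S : Over (Spec (CommRingCat.of k))} (g : S ⟶ G) : Γ(S.left, ⊤) :=
  ((Scheme.ΓSpecIso (CommRingCat.of k[X])).inv ≫ (g.left ≫ e.hom).appTop).hom X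

/-- the structure map of a scheme on global functions -/
noncomputable def str (S : Over (Spec (CommRingCat.of k))) : k →+* Γ(S.left, ⊤) :=
  ((Scheme.ΓSpecIso (CommRingCat.of k)).inv ≫ S.hom.appTop).hom

lemma coord_comp {S S' : Over (Spec (CommRingCat.of k))} (σ : S' ⟶ S) (g : S ⟶ G) :
    coord G e (σ ≫ g) = σ.left.appTop.hom (coord G e g) := by
  simp [coord]

variable (he : e.hom ≫ Spec.map (CommRingCat.ofHom (algebraMap k k[X])) = G.hom)

include he in
lemma ext_coord {S : Over (Spec (CommRingCat.of k))} {g g' : S ⟶ G}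
    (h : coord G e g = coord G e g') : g = g' := by
  apply Over.OverMorphism.ext
  rw [← cancel_mono e.hom]
  apply ext_of_isAffine
  rw [← cancel_epi (Scheme.ΓSpecIso (CommRingCat.of k[X])).inv]
  refine CommRingCat.hom_ext (Polynomial.ringHom_ext' ?_ h)
  have key : ∀ p : S ⟶ G,
      ((Scheme.ΓSpecIso (CommRingCat.of k[X])).inv ≫ (p.left ≫ e.hom).appTop).hom.comp C = str S := by
    intro p
    have hw : (p.left ≫ e.hom) ≫ Spec.map (CommRingCat.ofHom (algebraMap k k[X])) = S.hom := by
      rw [Category.assoc, he, Over.w p]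
    ext r
    have hn : (Scheme.ΓSpecIso (CommRingCat.of k[X])).inv.hom (C r) =
        (Spec.map (CommRingCat.ofHom (algebraMap k k[X]))).appTop.hom ((Scheme.ΓSpecIso (CommRingCat.of k)).inv.hom r) :=
      congrArg (fun m => m.hom r) (Scheme.ΓSpecIso_inv_naturality (CommRingCat.ofHom (algebraMap k k[X])))
    rw [str, ← hw, Scheme.Hom.comp_appTop (p.left ≫ e.hom)]
    exact congrArg (fun z => (p.left ≫ e.hom).appTop.hom z) hn
  rw [key, key]

/-- the scheme of a `k`-algebra -/
noncomputable abbrev aff {A : Type u} [CommRing A] (a : k →+* A) : Over (Spec (CommRingCat.of k)) :=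
  Over.mk (Spec.map (CommRingCat.ofHom a))

/-- a map to an affine scheme -/
lemma exists_map {A : Type u} [CommRing A] (a : k →+* A) {S : Over (Spec (CommRingCat.of k))}
    (ψ : A →+* Γ(S.left, ⊤)) (hψ : ψ.comp a = str S) :
    ∃ σ : S ⟶ aff a, ∀ x, σ.left.appTop.hom ((Scheme.ΓSpecIso (CommRingCat.of A)).inv.hom x) = ψ x := by
  refine ⟨Over.homMk (S.left.toSpecΓ ≫ Spec.map (CommRingCat.ofHom ψ)) ?_, fun x => ?_⟩
  · change (S.left.toSpecΓ ≫ Spec.map (CommRingCat.ofHom ψ)) ≫ Spec.map (CommRingCat.ofHom a) = S.hom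
    rw [Category.assoc, ← Spec.map_comp, ← CommRingCat.ofHom_comp, hψ, str, CommRingCat.ofHom_hom,
      Spec.map_comp, ← Scheme.toSpecΓ_naturality_assoc]
    simp
  · have : (Scheme.ΓSpecIso (CommRingCat.of A)).inv ≫
        (S.left.toSpecΓ ≫ Spec.map (CommRingCat.ofHom ψ)).appTop = CommRingCat.ofHom ψ := by
      rw [Scheme.Hom.comp_appTop, ← Scheme.ΓSpecIso_inv_naturality_assoc, Scheme.toSpecΓ_appTop]
      simp
    exact congrArg (fun m => m.hom x) this

include he in
/-- a point with given coordinate -/
lemma exists_point {S : Over (Spec (CommRingCat.of k))} (t : Γ(S.left, ⊤)) :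
    ∃ g : S ⟶ G, coord G e g = t := by
  obtain ⟨σ, hσ⟩ := exists_map (algebraMap k k[X]) (S := S) (eval₂RingHom (str S) t)
    (by ext r; simp [Polynomial.algebraMap_eq])
  refine ⟨σ ≫ Over.homMk e.inv (by rw [← he, e.inv_hom_id_assoc]; rfl), ?_⟩
  have : coord G e (σ ≫ Over.homMk e.inv (by rw [← he, e.inv_hom_id_assoc]; rfl)) =
      σ.left.appTop.hom ((Scheme.ΓSpecIso (CommRingCat.of k[X])).inv.hom X) := by
    rw [coord_comp, coord]
    simp
  rw [this, hσ]
  simp

include he in
/-- the group law is addition -/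
theorem coord_mul [GrpObj G] (hunit : coord G e η[G] = 0) {S : Over (Spec (CommRingCat.of k))}
    (g h : S ⟶ G) : coord G e (g * h) = coord G e g + coord G e h := by
  have hone : ∀ (T : Over (Spec (CommRingCat.of k))), coord G e (1 : T ⟶ G) = 0 := fun T => by
    rw [Hom.one_def, coord_comp, hunit, map_zero]
  let T := aff (algebraMap k k[X][X])
  let inA := (Scheme.ΓSpecIso (CommRingCat.of k[X][X])).inv.hom
  let outA := (Scheme.ΓSpecIso (CommRingCat.of k[X][X])).hom.hom
  have hinA : ∀ z, outA (inA z) = z := fun z => congrArg (fun m => m.hom z) (Scheme.ΓSpecIso (CommRingCat.of k[X][X])).inv_hom_id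
  have houtA : ∀ z, inA (outA z) = z := fun z => congrArg (fun m => m.hom z) (Scheme.ΓSpecIso (CommRingCat.of k[X][X])).hom_inv_id
  have hstrT : ∀ r, str T r = inA (C (C r)) := fun r => by
    have := congrArg (fun m => m.hom r) (Scheme.ΓSpecIso_inv_naturality (CommRingCat.ofHom (algebraMap k k[X][X])))
    exact this.symm
  obtain ⟨g₀, hg₀⟩ := exists_point G e he (S := T) (inA X)
  obtain ⟨h₀, hh₀⟩ := exists_point G e he (S := T) (inA (C X))
  let m := outA (coord G e (g₀ * h₀))
  let m' := outA (coord G e (g₀ * h₀⁻¹))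
  -- specialisation
  have key : ∀ (S : Over (Spec (CommRingCat.of k))) (g h : S ⟶ G),
      coord G e (g * h) = eval₂RingHom (eval₂RingHom (str S) (coord G e h)) (coord G e g) m ∧
      coord G e (g * h⁻¹) = eval₂RingHom (eval₂RingHom (str S) (coord G e h)) (coord G e g) m' := by
    intro S g h
    obtain ⟨σ, hσ⟩ := exists_map (algebraMap k k[X][X])
      (eval₂RingHom (eval₂RingHom (str S) (coord G e h)) (coord G e g))
      (by ext r; simp [Polynomial.algebraMap_apply])
    have hg : σ ≫ g₀ = g := ext_coord G e he (by rw [coord_comp, hg₀, hσ]; simp)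
    have hh : σ ≫ h₀ = h := ext_coord G e he (by rw [coord_comp, hh₀, hσ]; simp)
    constructor
    · conv_lhs => rw [← hg, ← hh, ← MonObj.comp_mul, coord_comp, ← houtA (coord G e (g₀ * h₀)), hσ]
    · conv_lhs => rw [← hg, ← hh, ← GrpObj.comp_inv, ← MonObj.comp_mul, coord_comp,
        ← houtA (coord G e (g₀ * h₀⁻¹)), hσ]
  have hψT : eval₂RingHom (eval₂RingHom (str T) (inA (C X))) (inA m) = inA.comp (compRingHom m) := by
    refine Polynomial.ringHom_ext' (Polynomial.ringHom_ext' ?_ ?_) ?_
    · ext r; simp [hstrT]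
    · simp
    · simp
  have hcomp : m'.comp m = X := by
    have := (key T (g₀ * h₀) h₀).2
    rw [mul_inv_cancel_right, hg₀, hh₀, ← houtA (coord G e (g₀ * h₀)), hψT] at this
    have h2 := congrArg outA this
    rw [RingHom.comp_apply, hinA, hinA] at h2
    exact h2.symm
  have hdeg : m.natDegree = 1 := by
    have := congrArg natDegree hcomp
    rw [natDegree_comp, natDegree_X] at this
    exact (mul_eq_one.mp this).2
  obtain ⟨a, ha, b, hab⟩ := natDegree_eq_one.mp hdeg
  have ha1 : IsUnit a := by
    have h1 := congrArg leadingCoeff hcomp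
    rw [leadingCoeff_comp (by omega), leadingCoeff_X, hdeg] at *
    have hla : m.leadingCoeff = a := by rw [← hab, leadingCoeff_linear ha]
    have hdeg' : m'.natDegree = 1 := by
      have := congrArg natDegree hcomp
      rw [natDegree_comp, natDegree_X] at this
      exact (mul_eq_one.mp this).1
    rw [hla, hdeg', pow_one] at h1
    exact IsUnit.of_mul_eq_one_right _ h1
  obtain ⟨c, hc, rfl⟩ := Polynomial.isUnit_iff.mp ha1
  let R := aff (algebraMap k k[X])
  let δ := (Scheme.ΓSpecIso (CommRingCat.of k[X])).inv.hom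
  have hδ : Function.Injective δ :=
    ((ConcreteCategory.isIso_iff_bijective (Scheme.ΓSpecIso (CommRingCat.of k[X])).inv).mp inferInstance).1
  have hstrR : ∀ r, str R r = δ (C r) := fun r => by
    have := congrArg (fun m => m.hom r) (Scheme.ΓSpecIso_inv_naturality (CommRingCat.ofHom (algebraMap k k[X])))
    exact this.symm
  obtain ⟨p, hp⟩ := exists_point G e he (S := R) (δ X)
  have hb : b = X := by
    have := (key R 1 p).1
    rw [_root_.one_mul, hone, hp, ← hab] at this
    have h2 : eval₂RingHom (str R) (δ X) = δ := by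
      refine Polynomial.ringHom_ext' ?_ (by simp)
      ext r; simp [hstrR]
    simp [h2] at this
    exact (hδ this).symm
  have hc1 : c = 1 := by
    have := (key R p 1).1
    rw [_root_.mul_one, hone, hp, ← hab, hb] at this
    simp [hstrR] at this
    rw [← map_mul] at this
    have h3 := congrArg leadingCoeff (hδ this)
    simpa using h3.symm
  rw [(key S g h).1, ← hab, hb, hc1]
  simp

include he in
/-- two group laws on the affine line with the same unit are equal -/
theorem mul_eq (h₁ h₂ : GrpObj G) (h : h₁.one = h₂.one) : h₁.mul = h₂.mul := by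
  let c : k := (Scheme.ΓSpecIso (CommRingCat.of k)).hom.hom (coord G e h₁.one)
  let s : k[X] →+* k[X] := eval₂RingHom C (X - C c)
  let t : k[X] →+* k[X] := eval₂RingHom C (X + C c)
  have hst : s.comp t = RingHom.id _ := Polynomial.ringHom_ext' (by ext r; simp [s, t]) (by simp [s, t])
  have hts : t.comp s = RingHom.id _ := Polynomial.ringHom_ext' (by ext r; simp [s, t]) (by simp [s, t])
  let e' : G.left ≅ Spec (CommRingCat.of k[X]) :=
    { hom := e.hom ≫ Spec.map (CommRingCat.ofHom s)
      inv := Spec.map (CommRingCat.ofHom t) ≫ e.inv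
      hom_inv_id := by
        rw [Category.assoc, ← Spec.map_comp_assoc, ← CommRingCat.ofHom_comp, hst, CommRingCat.ofHom_id,
          Spec.map_id, Category.id_comp, e.hom_inv_id]
      inv_hom_id := by
        rw [Category.assoc, e.inv_hom_id_assoc, ← Spec.map_comp, ← CommRingCat.ofHom_comp, hts,
          CommRingCat.ofHom_id, Spec.map_id] }
  have he' : e'.hom ≫ Spec.map (CommRingCat.ofHom (algebraMap k k[X])) = G.hom := by
    have : s.comp (algebraMap k k[X]) = algebraMap k k[X] := RingHom.ext fun r => by simp [s]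
    change (e.hom ≫ _) ≫ _ = _
    rw [Category.assoc, ← Spec.map_comp, ← CommRingCat.ofHom_comp, this, he]
  have hcoord : ∀ {T : Over (Spec (CommRingCat.of k))} (q : T ⟶ G),
      coord G e' q = coord G e q - str T c := by
    intro T q
    have := congrArg (fun m => m.hom X) (Scheme.ΓSpecIso_inv_naturality (CommRingCat.ofHom s))
    simp only [CommRingCat.comp_apply, CommRingCat.hom_ofHom] at this
    have h2 : coord G e' q = ((Scheme.ΓSpecIso (CommRingCat.of k[X])).inv ≫ (q.left ≫ e.hom).appTop).hom (s X) := by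
      simp only [coord, e', Scheme.Hom.comp_appTop, CommRingCat.hom_comp, RingHom.comp_apply]
      exact congrArg (fun w => q.left.appTop.hom (e.hom.appTop.hom w)) this.symm
    have h3 : ((Scheme.ΓSpecIso (CommRingCat.of k[X])).inv ≫ (q.left ≫ e.hom).appTop).hom (C c) = str T c := by
      have hn : (Scheme.ΓSpecIso (CommRingCat.of k[X])).inv.hom (C c) =
          (Spec.map (CommRingCat.ofHom (algebraMap k k[X]))).appTop.hom ((Scheme.ΓSpecIso (CommRingCat.of k)).inv.hom c) :=
        congrArg (fun m => m.hom c) (Scheme.ΓSpecIso_inv_naturality (CommRingCat.ofHom (algebraMap k k[X])))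
      rw [str, ← show (q.left ≫ e.hom) ≫ Spec.map (CommRingCat.ofHom (algebraMap k k[X])) = T.hom by
        rw [Category.assoc, he, Over.w q], Scheme.Hom.comp_appTop (q.left ≫ e.hom)]
      exact congrArg (fun z => (q.left ≫ e.hom).appTop.hom z) hn
    rw [h2, ← h3]
    simp [s, coord]
  have hunit : coord G e' h₁.one = 0 := by
    rw [hcoord, sub_eq_zero, str]
    have : (𝟙_ (Over (Spec (CommRingCat.of k)))).hom.appTop = 𝟙 _ := Scheme.Hom.id_appTop
    rw [this, Category.comp_id]
    exact (congrArg (fun m => m.hom (coord G e h₁.one)) (Scheme.ΓSpecIso (CommRingCat.of k)).hom_inv_id).symm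
  have key : ∀ (inst : GrpObj G), inst.one = h₁.one →
      coord G e' inst.mul = coord G e' (fst G G) + coord G e' (snd G G) := by
    intro inst hi
    letI := inst
    have hm : μ[G] = fst G G * snd G G := by rw [Hom.mul_def, lift_fst_snd, Category.id_comp]
    change coord G e' μ[G] = _
    rw [hm]
    exact coord_mul G e' he' (by change coord G e' inst.one = 0; rw [hi, hunit]) (fst G G) (snd G G)
  exact ext_coord G e' he' ((key h₁ rfl).trans (key h₂ h.symm).symm)

end Groth.Agent.GrpSch.AffineLine
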