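import Mathlib.CategoryTheory.Monoidal.Cartesian.Grp
import Mathlib.CategoryTheory.Limits.Shapes.Pullback.IsPullback.Basic

/-!
Generalities on group objects in a cartesian monoidal category: shear isomorphisms,
diagonal as a base change of the unit, subgroup objects from monomorphisms, kernels.
-/

set_option autoImplicit false

universe v u

open CategoryTheory MonoidalCategory CartesianMonoidalCategory MonObj GrpObj Limits

namespace Groth.Agent.GrpSch

variable {C : Type u} [Category.{v} C] [CartesianMonoidalCategory C] {G : C} [GrpObj G]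

lemma mul_eq_lift (T : C) (g h : T ⟶ G) : g * h = lift g h ≫ μ[G] := rfl

lemma one_eq_toUnit (T : C) : (1 : T ⟶ G) = toUnit T ≫ η[G] := rfl

lemma whiskerRight_mul {T : C} (ψ : T ⟶ G) : ψ ▷ G ≫ μ[G] = (fst T G ≫ ψ) * snd T G := by
  rw [mul_eq_lift]
  congr 1
  ext <;> simp

/-- The shear automorphism `(t, g) ↦ (t, ψ t * g)`. -/
def shearLeft {T : C} (ψ : T ⟶ G) : T ⊗ G ≅ T ⊗ G where
  hom := lift (fst _ _) ((fst T G ≫ ψ) * snd T G)
  inv := lift (fst _ _) ((fst T G ≫ ψ)⁻¹ * snd T G)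
  hom_inv_id := by
    ext
    · simp
    · simp only [Category.assoc, lift_snd, MonObj.comp_mul, GrpObj.comp_inv, lift_fst_assoc,
        Category.id_comp]
      exact inv_mul_cancel_left _ _
  inv_hom_id := by
    ext
    · simp
    · simp only [Category.assoc, lift_snd, MonObj.comp_mul, lift_fst_assoc, Category.id_comp]
      exact mul_inv_cancel_left _ _

lemma shearLeft_hom_snd {T : C} (ψ : T ⟶ G) : (shearLeft ψ).hom ≫ snd T G = ψ ▷ G ≫ μ[G] := by
  rw [whiskerRight_mul]
  simp [shearLeft]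

lemma shearLeft_hom_fst {T : C} (ψ : T ⟶ G) : (shearLeft ψ).hom ≫ fst T G = fst T G := by
  simp [shearLeft]

lemma mul_eq_shear_snd : μ[G] = (shearLeft (𝟙 G)).hom ≫ snd G G := by
  rw [shearLeft_hom_snd, id_whiskerRight, Category.id_comp]

/-- The diagonal is the base change of the unit section along `(g, h) ↦ g⁻¹ h`. -/
lemma isPullback_diag :
    IsPullback (lift (𝟙 G) (𝟙 G)) (toUnit G) ((fst G G)⁻¹ * snd G G) η[G] := by
  have w : lift (𝟙 G) (𝟙 G) ≫ ((fst G G)⁻¹ * snd G G) = toUnit G ≫ η[G] := by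
    rw [MonObj.comp_mul, GrpObj.comp_inv, lift_fst, lift_snd, inv_mul_cancel, one_eq_toUnit]
  refine IsPullback.of_isLimit' ⟨w⟩ (PullbackCone.IsLimit.mk _
    (fun s => s.fst ≫ fst G G) (fun s => ?_) (fun s => toUnit_unique _ _) (fun s m hm₁ hm₂ => ?_))
  · have h : (s.fst ≫ fst G G)⁻¹ * (s.fst ≫ snd G G) = 1 := by
      rw [← GrpObj.comp_inv, ← MonObj.comp_mul, s.condition, one_eq_toUnit,
        toUnit_unique s.snd (toUnit _)]
    rw [inv_mul_eq_one] at h
    ext <;> simp [h]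
  · simp [← hm₁]

/-- The unit section is a base change of the diagonal. -/
lemma isPullback_one :
    IsPullback η[G] η[G] (lift (𝟙 G) (toUnit G ≫ η[G])) (lift (𝟙 G) (𝟙 G)) := by
  have w : η[G] ≫ lift (𝟙 G) (toUnit G ≫ η[G]) = η[G] ≫ lift (𝟙 G) (𝟙 G) := by
    rw [comp_lift, comp_lift, Category.comp_id]
    congr 1
    rw [← Category.assoc, toUnit_unique (η[G] ≫ toUnit G) (𝟙 _), Category.id_comp]
  refine IsPullback.of_isLimit' ⟨w⟩ (PullbackCone.IsLimit.mk _
    (fun s => toUnit _) (fun s => ?_) (fun s => ?_) (fun s m _ _ => toUnit_unique _ _))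
  · have h₁ := s.condition =≫ fst G G
    have h₂ := s.condition =≫ snd G G
    simp only [Category.assoc, lift_fst, lift_snd, Category.comp_id, comp_toUnit_assoc] at h₁ h₂
    exact h₂.trans h₁.symm
  · have h₂ := s.condition =≫ snd G G
    simpa only [Category.assoc, lift_snd, Category.comp_id, comp_toUnit_assoc] using h₂

lemma mul_diag_eq : lift (𝟙 G) (𝟙 G) ≫ μ[G] = 𝟙 G * 𝟙 G := rfl

/-- A monomorphism into a group object whose points are closed under the group operations
carries a group structure making it a homomorphism. -/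
@[reducible]
def grpObjOfMono {H : C} (i : H ⟶ G) [Mono i] (e : 𝟙_ C ⟶ H) (he : e ≫ i = η[G])
    (m : H ⊗ H ⟶ H) (hm : m ≫ i = (fst H H ≫ i) * (snd H H ≫ i))
    (n : H ⟶ H) (hn : n ≫ i = i⁻¹) : GrpObj H where
  one := e
  mul := m
  inv := n
  one_mul := by
    rw [← cancel_mono i, Category.assoc, hm, MonObj.comp_mul, whiskerRight_fst_assoc,
      whiskerRight_snd_assoc, he, toUnit_unique (fst (𝟙_ C) H) (toUnit _), ← one_eq_toUnit,
      _root_.one_mul, leftUnitor_hom]
  mul_one := by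
    rw [← cancel_mono i, Category.assoc, hm, MonObj.comp_mul, whiskerLeft_fst_assoc,
      whiskerLeft_snd_assoc, he, toUnit_unique (snd H (𝟙_ C)) (toUnit _), ← one_eq_toUnit,
      _root_.mul_one, rightUnitor_hom]
  mul_assoc := by
    rw [← cancel_mono i]
    simp only [Category.assoc, hm, MonObj.comp_mul, whiskerRight_fst_assoc, whiskerRight_snd_assoc,
      whiskerLeft_fst_assoc, whiskerLeft_snd_assoc, associator_hom_fst_assoc,
      associator_hom_snd_fst_assoc, associator_hom_snd_snd_assoc]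
    rw [_root_.mul_assoc]
  left_inv := by
    rw [← cancel_mono i]
    simp only [Category.assoc, hm, MonObj.comp_mul, lift_fst_assoc, lift_snd_assoc, hn,
      Category.id_comp, he, ← one_eq_toUnit, inv_mul_cancel]
  right_inv := by
    rw [← cancel_mono i]
    simp only [Category.assoc, hm, MonObj.comp_mul, lift_fst_assoc, lift_snd_assoc, hn,
      Category.id_comp, he, ← one_eq_toUnit, mul_inv_cancel]

/-- Existence form of `grpObjOfMono`. -/
lemma exists_grpObj_of_mono {H : C} (i : H ⟶ G) [Mono i]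
    (he : ∃ e : 𝟙_ C ⟶ H, e ≫ i = η[G])
    (hm : ∀ (T : C) (a b : T ⟶ H), ∃ c : T ⟶ H, c ≫ i = (a ≫ i) * (b ≫ i))
    (hn : ∀ (T : C) (a : T ⟶ H), ∃ c : T ⟶ H, c ≫ i = (a ≫ i)⁻¹) :
    ∃ _ : GrpObj H, IsMonHom i := by
  obtain ⟨e, he⟩ := he
  obtain ⟨m, hm⟩ := hm (H ⊗ H) (fst H H) (snd H H)
  obtain ⟨n, hn⟩ := hn H (𝟙 H)
  rw [Category.id_comp] at hn
  let _ : GrpObj H := grpObjOfMono i e he m hm n hn
  refine ⟨‹_›, ⟨he, ?_⟩⟩
  change m ≫ i = _
  rw [hm, mul_eq_lift]
  congr 1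
  ext <;> simp

lemma inv_comp_of_isMonHom {H : C} [GrpObj H] {T : C} (g : T ⟶ G) (f : G ⟶ H) [IsMonHom f] :
    g⁻¹ ≫ f = (g ≫ f)⁻¹ := GrpObj.inv_comp g f

/-- The pullback of the unit section along a homomorphism is a subgroup object. -/
lemma exists_grpObj_of_isKernel {N H : C} [GrpObj H] {i : N ⟶ G} {f : G ⟶ H} [IsMonHom f]
    [Mono i] (h : IsPullback i (toUnit N) f η[H]) :
    ∃ _ : GrpObj N, IsMonHom i := by
  have key : ∀ (T : C) (g : T ⟶ G), (∃ a : T ⟶ N, a ≫ i = g) ↔ g ≫ f = 1 := by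
    intro T g
    constructor
    · rintro ⟨a, rfl⟩
      rw [Category.assoc, h.w, ← Category.assoc, comp_toUnit, one_eq_toUnit]
    · intro hg
      exact ⟨h.lift g (toUnit T) (by rw [hg, one_eq_toUnit]), h.lift_fst _ _ _⟩
  refine exists_grpObj_of_mono i ?_ ?_ ?_
  · apply (key _ _).2
    rw [IsMonHom.one_hom, one_eq_toUnit, toUnit_unique (toUnit (𝟙_ C)) (𝟙 _), Category.id_comp]
  · intro T a b
    apply (key _ _).2
    rw [MonObj.mul_comp, (key _ _).1 ⟨a, rfl⟩, (key _ _).1 ⟨b, rfl⟩, _root_.one_mul]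
  · intro T a
    apply (key _ _).2
    rw [GrpObj.inv_comp, (key _ _).1 ⟨a, rfl⟩, inv_one]

omit [GrpObj G] in
/-- The kernel point criterion. -/
lemma isKernel_factors_iff {N H : C} [GrpObj H] {i : N ⟶ G} {f : G ⟶ H}
    (h : IsPullback i (toUnit N) f η[H]) {T : C} (g : T ⟶ G) :
    (∃ a : T ⟶ N, a ≫ i = g) ↔ g ≫ f = 1 := by
  constructor
  · rintro ⟨a, rfl⟩
    rw [Category.assoc, h.w, ← Category.assoc, comp_toUnit, one_eq_toUnit]
  · intro hg
    exact ⟨h.lift g (toUnit T) (by rw [hg, one_eq_toUnit]), h.lift_fst _ _ _⟩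

omit [GrpObj G] in
/-- A morphism from the pullback of the unit is a monomorphism. -/
lemma mono_of_isKernel {N H : C} [GrpObj H] {i : N ⟶ G} {f : G ⟶ H}
    (h : IsPullback i (toUnit N) f η[H]) : Mono i :=
  ⟨fun a b hab => h.hom_ext hab (toUnit_unique _ _)⟩

end Groth.Agent.GrpSch
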