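import Groth.Agent.GrpSch.FactorLocus
import Groth.Agent.AlgSpc.LfpCancel

/-!
# Finite presentation of the locus where a base change lands in a closed subscheme
-/

set_option autoImplicit false
set_option backward.isDefEq.respectTransparency.types false

universe u

open CategoryTheory CategoryTheory.Limits MonoidalCategory CartesianMonoidalCategory MonObj GrpObj AlgebraicGeometry

namespace Groth.Agent.GrpSch.WeilClosed

variable {E P T : Scheme.{u}} {e : E ⟶ P} {π : P ⟶ T} {A : CommRingCat.{u}} {j : Spec A ⟶ T}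

/-- on a projective chart the coefficients of the equations vanish on the agreeing points -/
lemma coeff_eq_zero_of_agree {B : CommRingCat.{u}} (φ : A ⟶ B) (k : Spec B ⟶ P) (hk : k ≫ π = Spec.map φ ≫ j)
    {J : Ideal B} (iso : pullback e k ≅ Spec (CommRingCat.of (B ⧸ J)))
    (hiso : pullback.snd e k = iso.hom ≫ Spec.map (CommRingCat.ofHom (Ideal.Quotient.mk J)))
    {C : CommRingCat.{u}} (ψ : A ⟶ C) (hψ : Agree e π (Spec.map ψ ≫ j)) {x : B} (hx : x ∈ J) :
    letI := φ.hom.toAlgebra
    ∀ ℓ : B →ₗ[A] A, ψ.hom (ℓ x) = 0 := by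
  algebraize [φ.hom, ψ.hom]
  intro ℓ
  obtain ⟨l, hl⟩ := hψ
    (Spec.map (CommRingCat.ofHom (R := B) (S := TensorProduct A C B)
      Algebra.TensorProduct.includeRight.toRingHom) ≫ k)
    (Spec.map (CommRingCat.ofHom (R := C) (S := TensorProduct A C B)
      Algebra.TensorProduct.includeLeftRingHom)) (by
      rw [Category.assoc, hk, ← Category.assoc, ← Category.assoc, ← Spec.map_comp,
        ← Spec.map_comp]
      congr 2
      ext a
      exact ((Algebra.TensorProduct.includeRight (R := A) (A := C) (B := B)).commutes a).trans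
        (Algebra.TensorProduct.algebraMap_apply a))
  let l' := pullback.lift l _ hl ≫ iso.hom
  have hl' : l' ≫ Spec.map (CommRingCat.ofHom (Ideal.Quotient.mk J)) =
      Spec.map (CommRingCat.ofHom (R := B) (S := TensorProduct A C B)
        Algebra.TensorProduct.includeRight.toRingHom) := by
    rw [Category.assoc, ← hiso, pullback.lift_snd]
  rw [← Spec.map_preimage l', ← Spec.map_comp, Spec.map_inj] at hl'
  have h2 : (1 : C) ⊗ₜ[A] x = 0 := by
    have h3 := congrArg (fun F => F.hom x) hl'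
    simp only [CommRingCat.hom_comp, CommRingCat.hom_ofHom, RingHom.comp_apply] at h3
    rw [Ideal.Quotient.eq_zero_iff_mem.mpr hx, map_zero] at h3
    exact h3.symm
  have h4 := congrArg ((TensorProduct.rid A C).toLinearMap ∘ₗ ℓ.lTensor C) h2
  simpa [Algebra.smul_def, RingHom.algebraMap_toAlgebra] using h4

/-- an ideal containing all coefficients gives an agreeing point -/
lemma agree_of_charts [Mono e] [IsOpenImmersion j] {κ : Type u} (B : κ → CommRingCat.{u}) (φ : ∀ c, A ⟶ B c)
    (k : ∀ c, Spec (B c) ⟶ P) (hko : ∀ c, IsOpenImmersion (k c)) (hk : ∀ c, k c ≫ π = Spec.map (φ c) ≫ j)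
    (hcov : ∀ p : P, π p ∈ Set.range j → ∃ c, p ∈ Set.range (k c)) (J : ∀ c, Ideal (B c))
    (iso : ∀ c, pullback e (k c) ≅ Spec (CommRingCat.of (B c ⧸ J c)))
    (hiso : ∀ c, pullback.snd e (k c) = (iso c).hom ≫ Spec.map (CommRingCat.ofHom (Ideal.Quotient.mk (J c))))
    (L : Ideal A) (hJ : ∀ c, J c ≤ L.map (φ c).hom) :
    Agree e π (Spec.map (CommRingCat.ofHom (Ideal.Quotient.mk L)) ≫ j) := by
  intro Q g h hgh
  refine factors_of_local g fun q => ?_
  have hq : π (g q) ∈ Set.range j := by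
    refine ⟨Spec.map (CommRingCat.ofHom (Ideal.Quotient.mk L)) (h q), ?_⟩
    rw [← Scheme.Hom.comp_apply g π, hgh]; rfl
  obtain ⟨c, hp⟩ := hcov (g q) hq
  have := hko c
  let V := g ⁻¹ᵁ (k c).opensRange
  refine ⟨V, hp, ?_⟩
  have hr : Set.range (V.ι ≫ g) ⊆ Set.range (k c) := by
    rintro _ ⟨z, rfl⟩; exact z.2
  let g' := IsOpenImmersion.lift (k c) (V.ι ≫ g) hr
  have hg' : g' ≫ k c = V.ι ≫ g := IsOpenImmersion.lift_fac _ _ _
  have h1 : g' ≫ Spec.map (φ c) =
      (V.ι ≫ h) ≫ Spec.map (CommRingCat.ofHom (Ideal.Quotient.mk L)) := by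
    rw [← cancel_mono j, Category.assoc, Category.assoc, Category.assoc, ← hk c,
      ← Category.assoc g', hg', Category.assoc, hgh]
  let β : B c ⟶ Γ(V.toScheme, ⊤) := (Scheme.ΓSpecIso (B c)).inv ≫ g'.appTop
  have hg'β : g' = V.toScheme.toSpecΓ ≫ Spec.map β := Spec_hom_factor g'
  have hβ : J c ≤ RingHom.ker β.hom := by
    refine (hJ c).trans (Ideal.map_le_iff_le_comap.mpr fun a ha => ?_)
    have h2 := h1
    rw [hg'β, Spec_hom_factor (V.ι ≫ h), Category.assoc, Category.assoc, ← Spec.map_comp,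
      ← Spec.map_comp] at h2
    have h3 : φ c ≫ β = CommRingCat.ofHom (Ideal.Quotient.mk L) ≫
        ((Scheme.ΓSpecIso _).inv ≫ (V.ι ≫ h).appTop) := by
      have := congrArg Scheme.Hom.appTop h2
      rw [Scheme.Hom.comp_appTop, Scheme.Hom.comp_appTop, Scheme.toSpecΓ_appTop,
        Scheme.ΓSpecIso_naturality, Scheme.ΓSpecIso_naturality] at this
      exact (cancel_epi (Scheme.ΓSpecIso A).hom).mp this
    have := congrArg (fun F => F.hom a) h3
    simp only [CommRingCat.hom_comp, CommRingCat.hom_ofHom, RingHom.comp_apply] at this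
    rw [Ideal.Quotient.eq_zero_iff_mem.mpr ha, map_zero, map_zero] at this
    exact this
  refine ⟨V.toScheme.toSpecΓ ≫ Spec.map (CommRingCat.ofHom (Ideal.Quotient.lift (J c) β.hom hβ))
    ≫ (iso c).inv ≫ pullback.fst e (k c), ?_⟩
  simp only [Category.assoc, pullback.condition]
  rw [hiso c, Category.assoc, Iso.inv_hom_id_assoc, ← hg', hg'β, Category.assoc,
    ← Spec.map_comp_assoc]
  rfl

/-- finitely many coefficients suffice -/
lemma exists_fg_coeff {A B : Type u} [CommRing A] [CommRing B] [Algebra A B] [Module.Projective A B]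
    (J : Ideal B) (hJ : J.FG) :
    ∃ L₀ : Ideal A, L₀.FG ∧ J ≤ L₀.map (algebraMap A B) ∧
      ∀ L : Ideal A, (∀ x ∈ J, ∀ ℓ : B →ₗ[A] A, ℓ x ∈ L) → L₀ ≤ L := by
  classical
  obtain ⟨s, hs⟩ := Module.Projective.out (R := A) (P := B)
  obtain ⟨G, hG⟩ := hJ
  let F : Finset A := G.biUnion fun x => (s x).support.image (s x)
  refine ⟨Ideal.span F, ⟨F, rfl⟩, ?_, fun L hL => Ideal.span_le.mpr ?_⟩
  · rw [← hG, Submodule.span_le]
    intro x hx
    rw [SetLike.mem_coe, ← hs x, Finsupp.linearCombination_apply]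
    refine Ideal.sum_mem _ fun b hb => ?_
    simp only [id, Algebra.smul_def]
    exact Ideal.mul_mem_right _ _ (Ideal.mem_map_of_mem _ (Ideal.subset_span
      (Finset.mem_coe.2 (Finset.mem_biUnion.2 ⟨x, hx, Finset.mem_image.2 ⟨b, hb, rfl⟩⟩))))
  · intro y hy
    obtain ⟨x, hx, hy⟩ := Finset.mem_biUnion.1 (Finset.mem_coe.1 hy)
    obtain ⟨b, _, rfl⟩ := Finset.mem_image.1 hy
    exact hL x (hG ▸ Submodule.subset_span hx) ((Finsupp.lapply b) ∘ₗ s)

/-- on a chart the representing ideal is finitely generated -/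
lemma fg_of_chart [IsClosedImmersion e] [LocallyOfFinitePresentation e] [QuasiCompact π] [IsOpenImmersion j]
    (hj : ∀ p : P, π p ∈ Set.range j →
      ∃ (B : CommRingCat.{u}) (φ : A ⟶ B) (k : Spec B ⟶ P) (_ : IsOpenImmersion k),
        p ∈ Set.range k ∧ k ≫ π = Spec.map φ ≫ j ∧
          letI := φ.hom.toAlgebra
          Module.Projective A B)
    (L : Ideal A) (hL : ∀ (C : CommRingCat.{u}) (ψ : A ⟶ C), Agree e π (Spec.map ψ ≫ j) ↔ L ≤ RingHom.ker ψ.hom) :
    L.FG := by
  classical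
  let W : P.Opens := π ⁻¹ᵁ j.opensRange
  choose B φ k hko hmem hk hproj using fun p : W => hj p.1 p.2
  have hWc : IsCompact (W : Set P) :=
    π.isCompact_preimage (U := j.opensRange) (isCompact_range j.continuous)
  obtain ⟨t, ht⟩ := hWc.elim_finite_subcover (fun p : W => ((k p).opensRange : Set P))
    (fun p => (k p).opensRange.2) (fun p hp => Set.mem_iUnion.2 ⟨⟨p, hp⟩, hmem ⟨p, hp⟩⟩)
  have hclo : ∀ c : {x // x ∈ t}, IsClosedImmersion (pullback.snd e (k c.1)) := fun c => inferInstance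
  choose J iso hiso using fun c => IsClosedImmersion.Spec_iff.mp (hclo c)
  have hJfg : ∀ c, (J c).FG := by
    intro c
    have : LocallyOfFinitePresentation (Spec.map (CommRingCat.ofHom (Ideal.Quotient.mk (J c)))) := by
      rw [← Iso.inv_hom_id_assoc (iso c) (Spec.map _), ← hiso c]
      infer_instance
    have h1 := (HasRingHomProperty.Spec_iff (P := @LocallyOfFinitePresentation)).1 this
    have h2 : Algebra.FinitePresentation (B c.1) (B c.1 ⧸ J c) := RingHom.finitePresentation_algebraMap.1 h1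
    have := Algebra.FinitePresentation.ker_fG_of_surjective (Ideal.Quotient.mkₐ (B c.1) (J c))
      Ideal.Quotient.mk_surjective
    simpa using this
  have hL₀ : ∀ c, ∃ L₀ : Ideal A, L₀.FG ∧ J c ≤ L₀.map (φ c.1).hom ∧ L₀ ≤ L := by
    intro c
    algebraize [(φ c.1).hom]
    have : Module.Projective A (B c.1) := hproj c.1
    obtain ⟨L₀, h1, h2, h3⟩ := exists_fg_coeff (A := A) (J c) (hJfg c)
    refine ⟨L₀, h1, h2, h3 L fun x hx ℓ => ?_⟩
    have hA : Agree e π (Spec.map (CommRingCat.ofHom (Ideal.Quotient.mk L)) ≫ j) := (hL _ _).2 (by simp)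
    exact Ideal.Quotient.eq_zero_iff_mem.1
      (coeff_eq_zero_of_agree (φ c.1) (k c.1) (hk c.1) (iso c) (hiso c) _ hA hx ℓ)
  choose L₀ hfg hJL hle using hL₀
  have hsup : (⨆ c, L₀ c) = L := by
    refine le_antisymm (iSup_le hle) ?_
    have hA := agree_of_charts (e := e) (π := π) (j := j) (fun c : {x // x ∈ t} => B c.1) (fun c => φ c.1)
      (fun c => k c.1) (fun c => hko c.1) (fun c => hk c.1) (fun p hp => by
        obtain ⟨c, hc⟩ := Set.mem_iUnion.1 (ht (show p ∈ W from hp))
        obtain ⟨hct, hpc⟩ := Set.mem_iUnion.1 hc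
        exact ⟨⟨c, hct⟩, hpc⟩) J iso hiso (⨆ c, L₀ c)
      (fun c => (hJL c).trans (Ideal.map_mono (le_iSup L₀ c)))
    simpa using (hL _ _).1 hA
  rw [← hsup]
  exact Submodule.fg_iSup _ hfg

/-- the representing closed immersion is of finite presentation -/
theorem lfp_of_agree [IsClosedImmersion e] [LocallyOfFinitePresentation e] [QuasiCompact π]
    (hπ : ProjChart π) {Z : Scheme.{u}} (i : Z ⟶ T) [IsClosedImmersion i]
    (hZ : ∀ (T' : Scheme.{u}) (f : T' ⟶ T), (∃ z, z ≫ i = f) ↔ Agree e π f) :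
    LocallyOfFinitePresentation i := by
  choose A j hjo htj hj using hπ
  let 𝒰 : T.OpenCover :=
    { I₀ := T
      X := fun t => Spec (A t)
      f := j
      mem₀ := by
        rw [Scheme.presieve₀_mem_precoverage_iff]
        exact ⟨fun t => ⟨t, htj t⟩, hjo⟩ }
  rw [IsZariskiLocalAtTarget.iff_of_openCover (P := @LocallyOfFinitePresentation) 𝒰]
  intro t
  have := hjo t
  show LocallyOfFinitePresentation (pullback.snd i (j t))
  obtain ⟨L, iso, hiso⟩ := IsClosedImmersion.Spec_iff.mp (inferInstance : IsClosedImmersion (pullback.snd i (j t)))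
  have hL : ∀ (C : CommRingCat.{u}) (ψ : A t ⟶ C), Agree e π (Spec.map ψ ≫ j t) ↔ L ≤ RingHom.ker ψ.hom := by
    intro C ψ
    rw [← hZ]
    refine ⟨?_, fun hle => ?_⟩
    · rintro ⟨z, hz⟩
      let l := pullback.lift z (Spec.map ψ) hz ≫ iso.hom
      have hl : l ≫ Spec.map (CommRingCat.ofHom (Ideal.Quotient.mk L)) = Spec.map ψ := by
        rw [Category.assoc, ← hiso, pullback.lift_snd]
      rw [← Spec.map_preimage l, ← Spec.map_comp, Spec.map_inj] at hl
      intro x hx
      rw [RingHom.mem_ker, ← hl]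
      show (Spec.preimage l).hom (Ideal.Quotient.mk L x) = 0
      rw [Ideal.Quotient.eq_zero_iff_mem.mpr hx, map_zero]
    · refine ⟨Spec.map (CommRingCat.ofHom (Ideal.Quotient.lift L ψ.hom hle)) ≫ iso.inv ≫ pullback.fst i (j t), ?_⟩
      simp only [Category.assoc, pullback.condition]
      rw [hiso, Category.assoc, Iso.inv_hom_id_assoc, ← Spec.map_comp_assoc]
      rfl
  have hfg : L.FG := fg_of_chart (hj t) L hL
  rw [hiso, MorphismProperty.cancel_left_of_respectsIso (P := @LocallyOfFinitePresentation),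
    HasRingHomProperty.Spec_iff (P := @LocallyOfFinitePresentation)]
  exact RingHom.FinitePresentation.of_surjective _ Ideal.Quotient.mk_surjective (by simpa using hfg)

variable {S : Scheme.{u}}

/-- The factor locus, with finite presentation. -/
theorem exists_factor_locus_fp (X T W Y : Over S) (hX : ProjChart X.hom) [QuasiCompact X.hom] (a : X ⊗ T ⟶ W) (y : Y ⟶ W)
    [IsClosedImmersion y.left] [LocallyOfFinitePresentation y.left] :
    ∃ (Z : Over S) (i : Z ⟶ T), IsClosedImmersion i.left ∧ LocallyOfFinitePresentation i.left ∧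
      ∀ (T' : Over S) (f : T' ⟶ T), (∃ z, z ≫ i = f) ↔
        ∀ (T'' : Over S) (t : T'' ⟶ T') (x : T'' ⟶ X), ∃ x' : T'' ⟶ Y, lift x (t ≫ f) ≫ a = x' ≫ y := by
  let e : pullback a.left y.left ⟶ (X ⊗ T).left := pullback.fst a.left y.left
  have hsq : IsPullback (snd X T).left (fst X T).left T.hom X.hom := (isPullback_fst_snd X T).flip
  haveI : QuasiCompact (snd X T).left :=
    MorphismProperty.of_isPullback (P := @QuasiCompact) hsq.flip inferInstance
  have hπ := ProjChart.of_isPullback hsq hX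
  obtain ⟨Z, i, hi, hZ⟩ := exists_closed_agree e (snd X T).left hπ
  refine ⟨Over.mk (i ≫ T.hom), Over.homMk i, hi, lfp_of_agree (e := e) hπ i hZ, fun T' f => ?_⟩
  have hfac : (∃ z, z ≫ (Over.homMk i : Over.mk (i ≫ T.hom) ⟶ T) = f) ↔ ∃ z, z ≫ i = f.left := by
    refine ⟨fun ⟨z, hz⟩ => ⟨z.left, congrArg (·.left) hz⟩, fun ⟨z, hz⟩ => ?_⟩
    exact ⟨Over.homMk z (by simp [← Category.assoc, hz]), Over.OverMorphism.ext hz⟩
  rw [hfac, hZ]
  refine ⟨fun h T'' t x => ?_, fun h Q g c hgc => ?_⟩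
  · obtain ⟨l, hl⟩ := h (lift x (t ≫ f)).left t.left (by
      rw [← Over.comp_left, lift_snd, Over.comp_left])
    have hl' : (l ≫ pullback.snd a.left y.left) ≫ y.left = (lift x (t ≫ f) ≫ a).left := by
      rw [Category.assoc, ← pullback.condition, ← Category.assoc]
      exact congrArg (· ≫ a.left) hl
    refine ⟨Over.homMk (l ≫ pullback.snd a.left y.left) ?_, Over.OverMorphism.ext hl'.symm⟩
    rw [← Over.w y, ← Category.assoc]
    exact (congrArg (· ≫ W.hom) hl').trans (Over.w (lift x (t ≫ f) ≫ a))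
  · have hw : g ≫ (fst X T).left ≫ X.hom = c ≫ T'.hom := by
      rw [← hsq.w, ← Category.assoc, hgc, Category.assoc, Over.w]
    let T'' : Over S := Over.mk (c ≫ T'.hom)
    let t : T'' ⟶ T' := Over.homMk c rfl
    let x : T'' ⟶ X := Over.homMk (g ≫ (fst X T).left) ((Category.assoc _ _ _).trans hw)
    obtain ⟨x', hx'⟩ := h T'' t x
    have hg : (lift x (t ≫ f)).left = g := by
      apply (isPullback_fst_snd X T).hom_ext
      · exact (congrArg (·.left) (lift_fst x (t ≫ f)))
      · exact (congrArg (·.left) (lift_snd x (t ≫ f))).trans hgc.symm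
    exact ⟨pullback.lift g x'.left ((congrArg (· ≫ a.left) hg.symm).trans (congrArg (·.left) hx')),
      pullback.lift_fst _ _ _⟩

end Groth.Agent.GrpSch.WeilClosed
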