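import Mathlib
import Groth.Agent.GrpSch.SepPoints

/-!
# Rigidity for morphisms out of a product with an anti-affine factor
-/

universe u

open AlgebraicGeometry CategoryTheory CategoryTheory.Limits MonoidalCategory CartesianMonoidalCategory MonObj GrpObj

namespace Groth.Agent.GrpSch.Rigidity

variable {k : Type u} [Field k]

/-- a scheme whose global functions form a field is connected -/
lemma connectedSpace_of_isField (X : Scheme.{u}) [Nonempty X] (h : IsField Γ(X, ⊤)) :
    ConnectedSpace X := by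
  suffices PreconnectedSpace X from ⟨‹_›⟩
  rw [preconnectedSpace_iff_clopen]
  intro s hs
  let U : X.Opens := ⟨s, hs.2⟩
  let V : X.Opens := ⟨sᶜ, hs.1.isOpen_compl⟩
  have hUV : U ⊓ V ≤ ⊥ := fun x hx => absurd hx.1 hx.2
  have hsub : Subsingleton Γ(X, U ⊓ V) := by
    rw [le_bot_iff.mp hUV]
    exact CommRingCat.subsingleton_of_isTerminal X.sheaf.isTerminalOfEmpty
  obtain ⟨f, hf, -⟩ := X.sheaf.existsUnique_gluing'
    (fun b : Bool => if b then U else V) ⊤ (fun b => homOfLE le_top)
    (fun x _ => by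
      by_cases hx : x ∈ s
      · exact TopologicalSpace.Opens.mem_iSup.mpr ⟨true, hx⟩
      · exact TopologicalSpace.Opens.mem_iSup.mpr ⟨false, hx⟩)
    (fun b => if b then 1 else 0)
    (fun i j => by
      match i, j with
      | true, true => rfl
      | false, false => rfl
      | true, false => exact @Subsingleton.elim _ hsub _ _
      | false, true =>
        exact @Subsingleton.elim _ (by
          change Subsingleton Γ(X, V ⊓ U)
          rw [inf_comm]; exact hsub) _ _)
  have hU : (X.presheaf.map (homOfLE (le_top : U ≤ ⊤)).op).hom f = 1 := hf true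
  have hV : (X.presheaf.map (homOfLE (le_top : V ≤ ⊤)).op).hom f = 0 := hf false
  rcases eq_or_ne f 0 with h0 | h0
  · left
    by_contra hne
    obtain ⟨x, hx⟩ := Set.nonempty_iff_ne_empty.mpr hne
    have : Nonempty U := ⟨⟨x, hx⟩⟩
    rw [h0] at hU
    exact zero_ne_one ((map_zero _).symm.trans hU)
  · right
    by_contra hne
    obtain ⟨x, hx⟩ := (Set.ne_univ_iff_exists_notMem _).mp hne
    have : Nonempty V := ⟨⟨x, hx⟩⟩
    obtain ⟨g, hg⟩ := h.mul_inv_cancel h0
    have := congrArg (X.presheaf.map (homOfLE (le_top : V ≤ ⊤)).op).hom hg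
    have h2 := ((map_mul _ f g).symm.trans this).trans (map_one _)
    exact zero_ne_one (((congrArg (· * _) hV).trans (zero_mul _)).symm.trans h2)

lemma isField_of_bijective (X : Over (Spec (CommRingCat.of k)))
    (hX : Function.Bijective ((Scheme.ΓSpecIso (CommRingCat.of k)).inv ≫ X.hom.appTop).hom) :
    IsField Γ(X.left, ⊤) :=
  MulEquiv.isField (Field.toIsField k) (RingEquiv.ofBijective _ hX).symm.toMulEquiv

lemma nonempty_of_bijective (X : Over (Spec (CommRingCat.of k)))
    (hX : Function.Bijective ((Scheme.ΓSpecIso (CommRingCat.of k)).inv ≫ X.hom.appTop).hom) :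
    Nonempty X.left := by
  by_contra h
  rw [not_nonempty_iff] at h
  have hemp : (⊤ : X.left.Opens) = ⊥ := by ext x; exact (h.false x).elim
  have : Subsingleton Γ(X.left, ⊤) := by
    rw [hemp]; exact CommRingCat.subsingleton_of_isTerminal X.left.sheaf.isTerminalOfEmpty
  obtain ⟨a, b, hab⟩ := (isField_of_bijective X hX).exists_pair_ne
  exact hab (Subsingleton.elim a b)

/-- global functions of the product with an anti-affine factor -/
lemma bijective_snd_appTop (X T : Over (Spec (CommRingCat.of k))) [QuasiCompact X.hom]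
    [QuasiSeparated X.hom]
    (hX : Function.Bijective ((Scheme.ΓSpecIso (CommRingCat.of k)).inv ≫ X.hom.appTop).hom)
    [CompactSpace T.left] [QuasiSeparatedSpace T.left] :
    IsIso (snd X T).left.appTop := by
  haveI : IsIso X.hom.appTop := by
    have : IsIso ((Scheme.ΓSpecIso (CommRingCat.of k)).inv ≫ X.hom.appTop) :=
      (ConcreteCategory.isIso_iff_bijective _).mpr hX
    exact IsIso.of_isIso_comp_left (Scheme.ΓSpecIso (CommRingCat.of k)).inv X.hom.appTop
  haveI : Flat T.hom := inferInstance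
  haveI : CompactSpace X.left := QuasiCompact.compactSpace_of_compactSpace X.hom
  haveI : QuasiSeparatedSpace X.left := quasiSeparatedSpace_of_quasiSeparated X.hom
  have H := Groth.Agent.GrpSch.isPullback_fst_snd X T
  have hflat : (X.hom.appLE ⊤ ⊤ le_top).hom.Flat := by
    have e : X.hom.appLE ⊤ ⊤ le_top = X.hom.appTop := Scheme.Hom.appLE_eq_app X.hom
    rw [e]
    exact RingHom.Flat.of_bijective ((ConcreteCategory.isIso_iff_bijective _).mp inferInstance)
  have hiso : IsIso (pushoutSection H (US := ⊤) (UT := ⊤) (UX := ⊤) le_top le_top (UY := ⊤) (by simp)) :=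
    isIso_pushoutSection_of_isCompact_of_flat_right_of_ringHomFlat H _ _ _ (isAffineOpen_top _)
      isCompact_univ isQuasiSeparated_univ
      isCompact_univ isQuasiSeparated_univ hflat
  have hpo := (isIso_pushoutSection_iff ..).mp hiso
  have e : X.hom.appLE ⊤ ⊤ le_top = X.hom.appTop := Scheme.Hom.appLE_eq_app X.hom
  have := hpo.isIso_inr_of_isIso (inst := by rw [e]; infer_instance)
  have e' : (snd X T).left.appLE ⊤ ⊤ le_top = (snd X T).left.appTop :=
    Scheme.Hom.appLE_eq_app (snd X T).left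
  rwa [e'] at this

/-- constant on the reduced fibre implies constant on an infinitesimal one -/
lemma factors_snd_of_range_subset (X T Z : Over (Spec (CommRingCat.of k))) [QuasiCompact X.hom]
    [QuasiSeparated X.hom]
    (hX : Function.Bijective ((Scheme.ΓSpecIso (CommRingCat.of k)).inv ≫ X.hom.appTop).hom)
    [IsAffine T.left] (f : X ⊗ T ⟶ Z) (W : Z.left.Opens) (hW : IsAffineOpen W)
    (hf : Set.range f.left ⊆ W) : ∃ g : T ⟶ Z, snd X T ≫ g = f := by
  haveI := bijective_snd_appTop X T hX
  haveI : IsAffine (W : Scheme.{u}) := hW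
  let f' := IsOpenImmersion.lift W.ι f.left (by rw [Scheme.Opens.range_ι]; exact hf)
  have hf' : f' ≫ W.ι = f.left := IsOpenImmersion.lift_fac _ _ _
  let g0 : T.left ⟶ (W : Scheme.{u}) :=
    T.left.toSpecΓ ≫ Spec.map (f'.appTop ≫ inv (snd X T).left.appTop) ≫ (W : Scheme.{u}).isoSpec.inv
  have hg0 : (snd X T).left ≫ g0 = f' := by
    have h1 : g0.appTop = f'.appTop ≫ inv (snd X T).left.appTop := by
      have hnat := Scheme.ΓSpecIso_naturality (f'.appTop ≫ inv (snd X T).left.appTop)
      simp only [g0, Scheme.Hom.comp_appTop, Scheme.toSpecΓ_appTop, Category.assoc]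
      rw [hnat, ← Category.assoc]
      simp [Scheme.isoSpec, ← Scheme.toSpecΓ_appTop]
      exact Category.id_comp _
    apply ext_of_isAffine
    rw [Scheme.Hom.comp_appTop, h1, Category.assoc, IsIso.inv_hom_id, Category.comp_id]
  refine ⟨Over.homMk (g0 ≫ W.ι) ?_, Over.OverMorphism.ext ?_⟩
  · have h2 : (g0 ≫ W.ι) ≫ Z.hom = T.hom := by
      apply ext_of_isAffine
      rw [← cancel_mono (snd X T).left.appTop, ← Scheme.Hom.comp_appTop, ← Scheme.Hom.comp_appTop]
      congr 1
      rw [← Category.assoc, ← Category.assoc, hg0, hf', Over.w f, Over.w (snd X T)]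
    exact h2
  · change (snd X T).left ≫ g0 ≫ W.ι = f.left
    rw [← Category.assoc, hg0, hf']

lemma isPullback_whiskerLeft_snd (X : Over (Spec (CommRingCat.of k)))
    {W Y : Over (Spec (CommRingCat.of k))} (i : W ⟶ Y) :
    IsPullback (X ◁ i) (snd X W) (snd X Y) i :=
  IsPullback.of_isLimit' ⟨whiskerLeft_snd X i⟩ (PullbackCone.IsLimit.mk _
    (fun s => lift (s.fst ≫ fst X Y) s.snd)
    (fun s => by apply CartesianMonoidalCategory.hom_ext <;> simp [s.condition])
    (fun s => lift_snd _ _)
    (fun s m h1 h2 => by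
      apply CartesianMonoidalCategory.hom_ext
      · simp [← h1]
      · simp [← h2]))

/-- Rigidity: a morphism from `X ⊗ Y` with `X` anti-affine which is constant on one slice is
constant along all slices. -/
theorem rigidity (X Y Z : Over (Spec (CommRingCat.of k))) [QuasiCompact X.hom] [QuasiSeparated X.hom]
    (hX : Function.Bijective ((Scheme.ΓSpecIso (CommRingCat.of k)).inv ≫ X.hom.appTop).hom)
    [IsLocallyNoetherian Y.left] [ConnectedSpace Y.left] [IsSeparated Z.hom]
    (x₀ : 𝟙_ (Over (Spec (CommRingCat.of k))) ⟶ X) (y₀ : 𝟙_ (Over (Spec (CommRingCat.of k))) ⟶ Y)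
    (f : X ⊗ Y ⟶ Z) (z₀ : 𝟙_ (Over (Spec (CommRingCat.of k))) ⟶ Z)
    (hf : (X ◁ y₀) ≫ f = toUnit _ ≫ z₀) :
    f = snd X Y ≫ lift (toUnit Y ≫ x₀) (𝟙 Y) ≫ f := by
  obtain ⟨W, i, hi, hW⟩ := WeilClosed.exists_agree_of_separated X Y Z
    (WeilClosed.projChart_of_field X.hom) f (snd X Y ≫ lift (toUnit Y ≫ x₀) (𝟙 Y) ≫ f)
  -- slices with small image are in the agreement locus
  have hsub : ∀ (T : Over (Spec (CommRingCat.of k))) [IsAffine T.left] (τ : T ⟶ Y)
      (U : Z.left.Opens), IsAffineOpen U → Set.range ((X ◁ τ) ≫ f).left ⊆ U →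
      ∃ z, z ≫ i = τ := by
    intro T _ τ U hU hrange
    obtain ⟨g, hg⟩ := factors_snd_of_range_subset X T Z hX _ U hU hrange
    refine (hW T τ).mpr ?_
    have hg' : g = lift (toUnit T ≫ x₀) τ ≫ f := by
      have h2 := congrArg (lift (toUnit T ≫ x₀) (𝟙 T) ≫ ·) hg
      simp only [lift_snd_assoc, Category.id_comp] at h2
      rw [h2, lift_whiskerLeft_assoc, Category.id_comp]
    rw [← hg, hg', whiskerLeft_snd_assoc]
    congr 1
    rw [comp_lift_assoc, ← Category.assoc τ, toUnit_unique (τ ≫ toUnit Y) (toUnit T), Category.comp_id]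
  -- every point of the locus has an open neighbourhood inside it
  have hopen : ∀ w : W.left, ∃ V : Y.left.Opens, i.left w ∈ V ∧ ∃ l, l ≫ i.left = V.ι := by
    intro w
    obtain ⟨_, ⟨U, hU, rfl⟩, hwU, -⟩ :=
      Y.left.isBasis_affineOpens.exists_subset_of_mem_open (Set.mem_univ (i.left w)) isOpen_univ
    haveI : IsNoetherianRing Γ(Y.left, U) := IsLocallyNoetherian.component_noetherian ⟨U, hU⟩
    obtain ⟨I, e, he⟩ := IsClosedImmersion.Spec_iff.mp
      (inferInstance : IsClosedImmersion (pullback.snd i.left hU.fromSpec))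
    let p := (hU.primeIdealOf ⟨i.left w, hwU⟩).asIdeal
    have hfac : ∀ (C : CommRingCat.{u}) (φ : Γ(Y.left, U) ⟶ C),
        (∃ z, z ≫ i.left = Spec.map φ ≫ hU.fromSpec) → I ≤ RingHom.ker φ.hom := by
      intro C φ ⟨z, hz⟩ a ha
      have hl : (pullback.lift z (Spec.map φ) hz ≫ e.hom) ≫
          Spec.map (CommRingCat.ofHom (Ideal.Quotient.mk I)) = Spec.map φ := by
        rw [Category.assoc, ← he, pullback.lift_snd]
      rw [← Spec.map_preimage (pullback.lift z (Spec.map φ) hz ≫ e.hom), ← Spec.map_comp,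
        Spec.map_inj] at hl
      rw [RingHom.mem_ker, ← hl, CommRingCat.hom_comp, RingHom.comp_apply, CommRingCat.hom_ofHom,
        Ideal.Quotient.eq_zero_iff_mem.mpr ha, map_zero]
    -- the slice over `i w` has a point as image
    obtain ⟨_, ⟨U', hU', rfl⟩, hzU', -⟩ := Z.left.isBasis_affineOpens.exists_subset_of_mem_open
      (Set.mem_univ ((lift (toUnit Y ≫ x₀) (𝟙 Y) ≫ f).left (i.left w))) isOpen_univ
    have hkill : ∀ n : ℕ, n ≠ 0 → ∀ a ∈ I, algebraMap _ (Localization.AtPrime p) a ∈
        IsLocalRing.maximalIdeal (Localization.AtPrime p) ^ n := by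
      intro n hn
      let m := IsLocalRing.maximalIdeal (Localization.AtPrime p)
      let φ : Γ(Y.left, U) ⟶ CommRingCat.of (Localization.AtPrime p ⧸ m ^ n) :=
        CommRingCat.ofHom ((Ideal.Quotient.mk (m ^ n)).comp (algebraMap _ _))
      let T : Over (Spec (CommRingCat.of k)) :=
        Over.mk (Spec.map φ ≫ hU.fromSpec ≫ Y.hom)
      let τ : T ⟶ Y := Over.homMk (Spec.map φ ≫ hU.fromSpec) (Category.assoc _ _ _)
      haveI : IsAffine T.left := inferInstanceAs (IsAffine (Spec _))
      have hτ : ∀ t : T.left, τ.left t = i.left w := by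
        intro t
        change hU.fromSpec (Spec.map φ t) = i.left w
        refine (congrArg hU.fromSpec ?_).trans (hU.fromSpec_primeIdealOf ⟨i.left w, hwU⟩)
        apply PrimeSpectrum.ext
        change (t.asIdeal).comap φ.hom = p
        have ht : t.asIdeal.comap (Ideal.Quotient.mk (m ^ n)) = m := by
          have hp : (t.asIdeal.comap (Ideal.Quotient.mk (m ^ n))).IsPrime := Ideal.IsPrime.comap _
          refine ((IsLocalRing.maximalIdeal.isMaximal _).eq_of_le hp.ne_top ?_).symm
          refine (hp.pow_le_iff hn).mp fun x hx => ?_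
          rw [Ideal.mem_comap, Ideal.Quotient.eq_zero_iff_mem.mpr hx]
          exact zero_mem _
        rw [CommRingCat.hom_ofHom, ← Ideal.comap_comap, ht]
        exact IsLocalization.AtPrime.under_maximalIdeal (Localization.AtPrime p) p
      refine fun a ha => Ideal.Quotient.eq_zero_iff_mem.mp (hfac _ φ ?_ ha)
      have hrange : Set.range ((X ◁ τ) ≫ f).left ⊆ U' := by
        rintro _ ⟨q, rfl⟩
        have h1 : (snd X Y).left ((X ◁ τ).left q) = i.left w := by
          rw [← Scheme.Hom.comp_apply, ← Over.comp_left, whiskerLeft_snd, Over.comp_left,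
            Scheme.Hom.comp_apply, hτ]
        have hsq := isPullback_left (isPullback_whiskerLeft_snd X i)
        obtain ⟨z, hz1, hz2⟩ := Scheme.Pullback.exists_preimage_pullback
          (f := (snd X Y).left) (g := i.left) _ w h1
        have hq : (X ◁ τ).left q = (X ◁ i).left (hsq.isoPullback.inv z) := by
          rw [← hz1, ← Scheme.Hom.comp_apply, hsq.isoPullback_inv_fst]
        rw [Over.comp_left, Scheme.Hom.comp_apply, hq, ← Scheme.Hom.comp_apply, ← Over.comp_left,
          (hW W i).mp ⟨𝟙 W, Category.id_comp i⟩, Over.comp_left, Scheme.Hom.comp_apply, ← hq,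
          Over.comp_left, Scheme.Hom.comp_apply, h1]
        exact hzU'
      obtain ⟨z, hz⟩ := hsub T τ U' hU' hrange
      exact ⟨z.left, congrArg (fun m => m.left) hz⟩
    -- Krull intersection: the ideal dies in the local ring
    have hzero : ∀ a ∈ I, algebraMap _ (Localization.AtPrime p) a = 0 := by
      intro a ha
      rw [← Ideal.mem_bot, ← Ideal.iInf_pow_eq_bot_of_isLocalRing
        (IsLocalRing.maximalIdeal (Localization.AtPrime p)) (Ideal.IsPrime.ne_top')]
      refine Ideal.mem_iInf.mpr fun n => ?_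
      rcases eq_or_ne n 0 with rfl | hn
      · simp
      · exact hkill n hn a ha
    obtain ⟨S, hS⟩ := IsNoetherian.noetherian I
    choose c hc using fun a : S =>
      (IsLocalization.map_eq_zero_iff p.primeCompl (Localization.AtPrime p) a.1).mp
        (hzero a.1 (hS ▸ Ideal.subset_span a.2))
    let s : Γ(Y.left, U) := ∏ a : S, (c a : Γ(Y.left, U))
    have hs : s ∉ p := fun h => by
      obtain ⟨a, -, ha⟩ := (Ideal.IsPrime.prod_mem_iff (hp := inferInstance)).mp h
      exact (c a).2 ha
    have hIs : ∀ a ∈ I, s * a = 0 := by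
      intro a ha
      rw [← hS] at ha
      refine Submodule.span_induction ?_ (mul_zero s) (fun x y _ _ hx hy => by rw [mul_add, hx, hy, add_zero])
        (fun r x _ hx => by rw [smul_eq_mul, mul_left_comm, hx, mul_zero]) ha
      intro x hx
      obtain ⟨d, hd⟩ := Finset.dvd_prod_of_mem (fun a : S => (c a : Γ(Y.left, U)))
        (Finset.mem_univ ⟨x, hx⟩)
      change s = _ at hd
      rw [hd, mul_right_comm, hc ⟨x, hx⟩, zero_mul]
    refine ⟨Y.left.basicOpen s, ?_, ?_⟩
    · have h3 : hU.primeIdealOf ⟨i.left w, hwU⟩ ∈ hU.fromSpec ⁻¹ᵁ Y.left.basicOpen s := by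
        rw [hU.fromSpec_preimage_basicOpen]; exact hs
      have h4 : hU.fromSpec (hU.primeIdealOf ⟨i.left w, hwU⟩) ∈ Y.left.basicOpen s := h3
      rw [hU.fromSpec_primeIdealOf] at h4
      exact h4
    · let V := Y.left.basicOpen s
      let θ := Y.left.presheaf.map (homOfLE (Y.left.basicOpen_le s)).op
      letI := hU.isLocalization_basicOpen s
      have hθ : ∀ a ∈ I, θ.hom a = 0 := fun a ha => by
        refine (IsLocalization.map_eq_zero_iff (.powers s) Γ(Y.left, Y.left.basicOpen s) a).mpr
          ⟨⟨s, 1, pow_one s⟩, hIs a ha⟩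
      refine ⟨(hU.basicOpen s).isoSpec.hom ≫ Spec.map (CommRingCat.ofHom
        (Ideal.Quotient.lift I θ.hom hθ)) ≫ e.inv ≫ pullback.fst i.left hU.fromSpec, ?_⟩
      simp only [Category.assoc, pullback.condition]
      rw [he, Category.assoc, Iso.inv_hom_id_assoc, ← Spec.map_comp_assoc,
        show CommRingCat.ofHom (Ideal.Quotient.mk I) ≫
          CommRingCat.ofHom (Ideal.Quotient.lift I θ.hom hθ) = θ from rfl,
        hU.map_fromSpec (hU.basicOpen s)]
      rw [IsAffineOpen.fromSpec]; exact Iso.hom_inv_id_assoc _ _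
  -- the locus is open, closed and nonempty
  choose V hwV l hl using hopen
  have hrange : Set.range i.left = Set.univ := by
    refine IsClopen.eq_univ ⟨i.left.isClosedEmbedding.isClosed_range, ?_⟩ ?_
    · rw [isOpen_iff_forall_mem_open]
      rintro _ ⟨w, rfl⟩
      refine ⟨V w, fun y hy => ?_, (V w).2, hwV w⟩
      exact ⟨l w ⟨y, hy⟩, by rw [← Scheme.Hom.comp_apply, hl]; rfl⟩
    · obtain ⟨z, hz⟩ := (hW _ y₀).mpr (by
        have h2 : lift x₀ y₀ ≫ f = z₀ := by
          have := congrArg (lift x₀ (𝟙 _) ≫ ·) hf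
          simpa [toUnit_unique (lift x₀ (𝟙 _) ≫ toUnit (X ⊗ 𝟙_ _)) (𝟙 _)] using this
        rw [hf, ← h2, whiskerLeft_snd_assoc, toUnit_unique (toUnit (X ⊗ 𝟙_ _)) (snd X (𝟙_ _))]
        congr 1
        simp [comp_lift_assoc, toUnit_unique (y₀ ≫ toUnit Y) (𝟙 _), ← Category.assoc y₀])
      exact ⟨_, ⟨z.left (Classical.arbitrary (Spec (CommRingCat.of k))), rfl⟩⟩
  obtain ⟨l0, hl0⟩ := WeilClosed.factors_of_local (e := i.left) (𝟙 Y.left) fun y => by
    obtain ⟨w, rfl⟩ : y ∈ Set.range i.left := hrange ▸ trivial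
    exact ⟨V w, hwV w, l w, by rw [hl, Category.comp_id]⟩
  have hfac : ∃ z : Y ⟶ W, z ≫ i = 𝟙 Y := by
    refine ⟨Over.homMk l0 ?_, Over.OverMorphism.ext hl0⟩
    rw [← Over.w i, ← Category.assoc, hl0, Category.id_comp]
  have := (hW Y (𝟙 Y)).mp hfac
  rwa [MonoidalCategory.whiskerLeft_id, Category.id_comp, Category.id_comp] at this

end Groth.Agent.GrpSch.Rigidity
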