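import Mathlib
import Groth.Agent.GrpSch.Rigidity
import Groth.Agent.GrpSch.Points

/-!
# Morphisms out of anti-affine group schemes
-/

universe u

open AlgebraicGeometry CategoryTheory CategoryTheory.Limits MonoidalCategory CartesianMonoidalCategory MonObj GrpObj

namespace Groth.Agent.GrpSch.Rigidity

variable {k : Type u} [Field k]

lemma connectedSpace_of_bijective (X : Over (Spec (CommRingCat.of k)))
    (hX : Function.Bijective ((Scheme.ΓSpecIso (CommRingCat.of k)).inv ≫ X.hom.appTop).hom) :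
    ConnectedSpace X.left :=
  haveI := nonempty_of_bijective X hX
  connectedSpace_of_isField X.left (isField_of_bijective X hX)

lemma isLocallyNoetherian_left (X : Over (Spec (CommRingCat.of k))) [LocallyOfFiniteType X.hom] :
    IsLocallyNoetherian X.left :=
  LocallyOfFiniteType.isLocallyNoetherian X.hom

/-- a morphism of group schemes out of an anti-affine one preserving the unit is a homomorphism -/
theorem isMonHom_of_one (H G : Over (Spec (CommRingCat.of k))) [GrpObj H] [GrpObj G]
    [LocallyOfFiniteType H.hom] [QuasiCompact H.hom]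
    (hH : Function.Bijective ((Scheme.ΓSpecIso (CommRingCat.of k)).inv ≫ H.hom.appTop).hom)
    (f : H ⟶ G) (hf : η[H] ≫ f = η[G]) : IsMonHom f := by
  haveI := SepPoints.isSeparated_grp G
  haveI := isLocallyNoetherian_left H
  haveI := connectedSpace_of_bijective H hH
  have hone : ∀ T : Over (Spec (CommRingCat.of k)), (1 : T ⟶ H) ≫ f = 1 := fun T => by
    rw [Hom.one_def, Category.assoc, hf, ← Hom.one_def]
  let F : H ⊗ H ⟶ G := ((fst H H * snd H H) ≫ f) * (snd H H ≫ f)⁻¹ * (fst H H ≫ f)⁻¹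
  have hcomp : ∀ (T : Over (Spec (CommRingCat.of k))) (a b : T ⟶ H),
      lift a b ≫ F = ((a * b) ≫ f) * (b ≫ f)⁻¹ * (a ≫ f)⁻¹ := fun T a b => by
    simp only [F, MonObj.comp_mul, GrpObj.comp_inv, ← Category.assoc, lift_fst, lift_snd]
  have hrig := rigidity H H G hH η[H] η[H] F η[G] (by
    have hl : (H ◁ η[H]) = lift (fst H (𝟙_ _)) 1 := by
      apply CartesianMonoidalCategory.hom_ext
      · simp
      · rw [whiskerLeft_snd, lift_snd, Hom.one_def, toUnit_unique (toUnit _) (snd H (𝟙_ _))]
    rw [hl, hcomp, _root_.mul_one, hone, inv_one, _root_.mul_one, mul_inv_cancel, Hom.one_def])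
  have hF : F = 1 := by
    rw [hrig, ← Hom.one_def, hcomp, _root_.one_mul, hone, inv_one, _root_.mul_one, Category.id_comp,
      mul_inv_cancel, Hom.one_def, Hom.one_def, ← Category.assoc, toUnit_unique (snd H H ≫ toUnit H) (toUnit _)]
  refine { one_hom := hf, mul_hom := ?_ }
  simp only [F] at hF
  rw [mul_inv_eq_one, mul_inv_eq_iff_eq_mul] at hF
  rw [← Category.comp_id μ[H], Category.assoc, Category.id_comp]
  calc μ[H] ≫ f = (fst H H * snd H H) ≫ f := by rw [Hom.mul_def, lift_fst_snd, Category.id_comp]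
    _ = (fst H H ≫ f) * (snd H H ≫ f) := hF
    _ = (f ⊗ₘ f) ≫ μ[G] := by
      rw [Hom.mul_def]; rfl

/-- anti-affine group schemes are commutative -/
theorem isCommMonObj_of_bijective (G : Over (Spec (CommRingCat.of k))) [GrpObj G]
    [LocallyOfFiniteType G.hom] [QuasiCompact G.hom]
    (hO : Function.Bijective ((Scheme.ΓSpecIso (CommRingCat.of k)).inv ≫ G.hom.appTop).hom) :
    IsCommMonObj G := by
  haveI := isMonHom_of_one G G hO ι[G] (by rw [← Hom.inv_def, eq_one_unit, inv_one])
  refine ⟨?_⟩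
  have h : ∀ a b : G ⊗ G ⟶ G, a * b = b * a := fun a b => by
    have h1 : (a⁻¹ * b⁻¹) ≫ ι[G] = (a⁻¹ ≫ ι[G]) * (b⁻¹ ≫ ι[G]) := MonObj.mul_comp _ _ ι[G]
    simp only [← Hom.inv_def, _root_.inv_inv, _root_.mul_inv_rev] at h1
    exact h1.symm
  have := h (snd G G) (fst G G)
  rw [Hom.mul_def, Hom.mul_def, lift_fst_snd, Category.id_comp] at this
  rw [show (β_ G G).hom = lift (snd G G) (fst G G) by apply CartesianMonoidalCategory.hom_ext <;> simp]
  exact this

/-- homomorphisms from an anti-affine group scheme to a connected one are central -/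
theorem central_of_bijective (H G : Over (Spec (CommRingCat.of k))) [GrpObj H] [GrpObj G]
    [LocallyOfFiniteType H.hom] [QuasiCompact H.hom] [LocallyOfFiniteType G.hom]
    [ConnectedSpace G.left]
    (hO : Function.Bijective ((Scheme.ΓSpecIso (CommRingCat.of k)).inv ≫ H.hom.appTop).hom)
    (φ : H ⟶ G) [IsMonHom φ] {T : Over (Spec (CommRingCat.of k))} (h : T ⟶ H) (g : T ⟶ G) :
    (h ≫ φ) * g = g * (h ≫ φ) := by
  haveI := SepPoints.isSeparated_grp G
  haveI := isLocallyNoetherian_left G
  haveI := isLocallyNoetherian_left H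
  let F : H ⊗ G ⟶ G := (fst H G ≫ φ) * snd H G * (fst H G ≫ φ)⁻¹ * (snd H G)⁻¹
  have hcomp : ∀ (T : Over (Spec (CommRingCat.of k))) (a : T ⟶ H) (b : T ⟶ G),
      lift a b ≫ F = (a ≫ φ) * b * (a ≫ φ)⁻¹ * b⁻¹ := fun T a b => by
    simp only [F, MonObj.comp_mul, GrpObj.comp_inv, ← Category.assoc, lift_fst, lift_snd]
  have hrig := rigidity H G G hO η[H] η[G] F η[G] (by
    have hl : (H ◁ η[G]) = lift (fst H (𝟙_ _)) 1 := by
      apply CartesianMonoidalCategory.hom_ext
      · simp
      · rw [whiskerLeft_snd, lift_snd, Hom.one_def, toUnit_unique (toUnit _) (snd H (𝟙_ _))]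
    rw [hl, hcomp, _root_.mul_one, inv_one, _root_.mul_one, mul_inv_cancel, Hom.one_def])
  have hF : F = 1 := by
    rw [hrig, ← Hom.one_def, hcomp, MonObj.one_comp, _root_.one_mul, inv_one, _root_.mul_one,
      mul_inv_cancel, MonObj.comp_one]
  have := hcomp T h g
  rw [hF, MonObj.comp_one, eq_comm, mul_inv_eq_one, mul_inv_eq_iff_eq_mul] at this
  exact this

end Groth.Agent.GrpSch.Rigidity
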