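import Groth.Agent.GrpSch.AffEnv
import Groth.Agent.GrpSch.Cat

/-!
# Homomorphisms from anti-affine groups to affine groups are trivial
-/

set_option autoImplicit false
set_option backward.isDefEq.respectTransparency.types false

universe u

open CategoryTheory MonoidalCategory CartesianMonoidalCategory MonObj GrpObj Limits AlgebraicGeometry

namespace Groth.Agent.GrpSch.AntiHom

variable {k : Type u} [Field k]

lemma isIso_toUnit_appTop (M : Over (Spec (CommRingCat.of k)))
    (hM : Function.Bijective ((Scheme.ΓSpecIso (CommRingCat.of k)).inv ≫ M.hom.appTop).hom) :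
    IsIso (toUnit M).left.appTop := by
  haveI : IsIso ((Scheme.ΓSpecIso (CommRingCat.of k)).inv ≫ M.hom.appTop) :=
    (ConcreteCategory.isIso_iff_bijective _).2 hM
  haveI : IsIso M.hom.appTop := IsIso.of_isIso_comp_left (Scheme.ΓSpecIso (CommRingCat.of k)).inv _
  rw [show (toUnit M).left = M.hom from (Category.comp_id _).symm.trans (Over.w (toUnit M))]
  infer_instance

/-- a morphism from an anti-affine scheme to an affine one is constant -/
theorem exists_eq_toUnit_comp (M Y : Over (Spec (CommRingCat.of k))) [IsAffine Y.left]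
    (hM : Function.Bijective ((Scheme.ΓSpecIso (CommRingCat.of k)).inv ≫ M.hom.appTop).hom) (f : M ⟶ Y) :
    ∃ y : 𝟙_ (Over (Spec (CommRingCat.of k))) ⟶ Y, toUnit M ≫ y = f := by
  haveI := isIso_toUnit_appTop M hM
  haveI : IsAffine (𝟙_ (Over (Spec (CommRingCat.of k)))).left := inferInstanceAs (IsAffine (Spec _))
  obtain ⟨g, hg, -⟩ := AffEnv.existsUnique_desc (toUnit M) f
  exact ⟨g, hg⟩

/-- a homomorphism from an anti-affine group to an affine group is trivial -/
theorem eq_one (M H : Over (Spec (CommRingCat.of k))) [GrpObj M] [GrpObj H] [IsAffine H.left]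
    (hM : Function.Bijective ((Scheme.ΓSpecIso (CommRingCat.of k)).inv ≫ M.hom.appTop).hom)
    (f : M ⟶ H) [IsMonHom f] : f = 1 := by
  obtain ⟨y, hy⟩ := exists_eq_toUnit_comp M H hM f
  have h : y = η[H] := by
    rw [← IsMonHom.one_hom (f := f), ← hy, ← Category.assoc, toUnit_unique (η[M] ≫ toUnit M) (𝟙 _), Category.id_comp]
  rw [← hy, h, Hom.one_def]

/-- a group whose affinisation morphism is trivial is anti-affine -/
theorem bijective_of_toAff_eq_one (G : Over (Spec (CommRingCat.of k))) [GrpObj G] [QuasiCompact G.hom]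
    [GrpObj (AffEnv.aff G)] (h : AffEnv.toAff G = 1) :
    Function.Bijective ((Scheme.ΓSpecIso (CommRingCat.of k)).inv ≫ G.hom.appTop).hom := by
  haveI := AffEnv.compactSpace_left G
  haveI := AffEnv.quasiSeparatedSpace_left G
  haveI := AffEnv.isIso_toAff_appTop G
  have e : (AffEnv.toAff G).left.appTop = η[AffEnv.aff G].left.appTop ≫ G.hom.appTop := by
    rw [h, Hom.one_def, Over.comp_left, Scheme.Hom.comp_appTop,
      show (toUnit G).left = G.hom from (Category.comp_id _).symm.trans (Over.w (toUnit G))]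
  haveI : Nonempty G.left := ⟨η[G].left (IsLocalRing.closedPoint k)⟩
  have hnt : Nontrivial Γ(G.left, ⊤) :=
    (G.left.presheaf.germ ⊤ (η[G].left (IsLocalRing.closedPoint k)) trivial).hom.domain_nontrivial
  refine ⟨RingHom.injective _, fun z => ?_⟩
  obtain ⟨w, hw⟩ := (ConcreteCategory.bijective_of_isIso (AffEnv.toAff G).left.appTop).2 z
  refine ⟨(Scheme.ΓSpecIso (CommRingCat.of k)).hom (η[AffEnv.aff G].left.appTop w), ?_⟩
  rw [e] at hw
  refine Eq.trans ?_ hw
  change G.hom.appTop ((Scheme.ΓSpecIso (CommRingCat.of k)).inv ((Scheme.ΓSpecIso (CommRingCat.of k)).hom _)) = _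
  rw [Iso.hom_inv_id_apply]
  rfl

end Groth.Agent.GrpSch.AntiHom
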