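import Mathlib
import Groth.Agent.GrpSch.AffEnv

/-!
# Morphisms out of a product are detected by jointly injective families on one factor
-/

set_option autoImplicit false
set_option backward.isDefEq.respectTransparency.types false

universe u v

open CategoryTheory MonoidalCategory CartesianMonoidalCategory MonObj GrpObj Limits AlgebraicGeometry TensorProduct

namespace Groth.Agent.GrpSch.JointInj

open AffEnv

variable {k : Type u} [Field k]

lemma eq_zero_of_lTensor {R A : Type u} [AddCommGroup R] [Module k R] [AddCommGroup A] [Module k A]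
    {ι' : Type v} {B : ι' → Type u} [∀ i, AddCommGroup (B i)] [∀ i, Module k (B i)]
    (f : ∀ i, A →ₗ[k] B i) (hf : ∀ a, (∀ i, f i a = 0) → a = 0) (z : R ⊗[k] A)
    (hz : ∀ i, (f i).lTensor R z = 0) : z = 0 := by
  classical
  let b := Module.Basis.ofVectorSpace k R
  have hnat : ∀ i (w : R ⊗[k] A) j, TensorProduct.equivFinsuppOfBasisLeft b ((f i).lTensor R w) j =
      f i (TensorProduct.equivFinsuppOfBasisLeft b w j) := by
    intro i w j
    induction w using TensorProduct.induction_on with
    | zero => simp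
    | tmul r a => simp
    | add x y hx hy => simp [hx, hy]
  apply (TensorProduct.equivFinsuppOfBasisLeft b).injective
  rw [map_zero]
  refine Finsupp.ext fun j => hf _ fun i => ?_
  rw [← hnat, hz i, map_zero]
  rfl

/-- the `k`-algebra of global functions -/
noncomputable abbrev algΓ (X : Over (Spec (CommRingCat.of k))) : Algebra k Γ(X.left, ⊤) :=
  ((Scheme.ΓSpecIso (CommRingCat.of k)).inv ≫ X.hom.appTop).hom.toAlgebra

attribute [local instance] algΓ

lemma exists_iso_tensor (T X : Over (Spec (CommRingCat.of k))) [IsAffine T.left] [IsAffine X.left] :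
    ∃ e : CommRingCat.of (Γ(T.left, ⊤) ⊗[k] Γ(X.left, ⊤)) ≅ Γ((T ⊗ X).left, ⊤),
      CommRingCat.ofHom Algebra.TensorProduct.includeLeftRingHom ≫ e.hom = (fst T X).left.appTop ∧
      CommRingCat.ofHom Algebra.TensorProduct.includeRight.toRingHom ≫ e.hom = (snd T X).left.appTop := by
  have h1 := CommRingCat.isPushout_tensorProduct k Γ(T.left, ⊤) Γ(X.left, ⊤)
  have h2 : IsPushout ((Scheme.ΓSpecIso (CommRingCat.of k)).inv ≫ T.hom.appTop)
      ((Scheme.ΓSpecIso (CommRingCat.of k)).inv ≫ X.hom.appTop) (fst T X).left.appTop (snd T X).left.appTop :=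
    (isPushout_appTop T X).of_iso (Scheme.ΓSpecIso (CommRingCat.of k)) (Iso.refl _) (Iso.refl _) (Iso.refl _)
      (by simp) (by simp) (by simp) (by simp)
  exact ⟨h1.isoIsPushout _ _ h2, IsPushout.inl_isoIsPushout_hom _ _ _ _,
    IsPushout.inr_isoIsPushout_hom _ _ _ _⟩

theorem ext_affine {ι' : Type v} {T X W : Over (Spec (CommRingCat.of k))} [IsAffine T.left]
    [IsAffine X.left] [IsSeparated W.hom] {B : ι' → Over (Spec (CommRingCat.of k))}
    [∀ i, IsAffine (B i).left] (j : ∀ i, B i ⟶ X)
    (hinj : ∀ a : Γ(X.left, ⊤), (∀ i, (j i).left.appTop a = 0) → a = 0)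
    (p q : T ⊗ X ⟶ W) (h : ∀ i, (T ◁ j i) ≫ p = (T ◁ j i) ≫ q) : p = q := by
  obtain ⟨E, e, _, hE⟩ := WeilClosed.exists_closed_equalizer W.hom p.left q.left
    ((Over.w p).trans (Over.w q).symm)
  have := isAffine_tensor T X
  have hker : ∀ z, e.appTop z = 0 → z = 0 := by
    intro z hz
    obtain ⟨eX, hX1, hX2⟩ := exists_iso_tensor T X
    apply (ConcreteCategory.bijective_of_isIso eX.inv).1
    rw [map_zero]
    let f : ∀ i, Γ(X.left, ⊤) →ₐ[k] Γ((B i).left, ⊤) := fun i =>
      { toRingHom := (j i).left.appTop.hom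
        commutes' := fun c => by
          have : X.hom.appTop ≫ (j i).left.appTop = (B i).hom.appTop := by
            rw [← Scheme.Hom.comp_appTop, Over.w (j i)]
          exact ConcreteCategory.congr_hom this ((Scheme.ΓSpecIso (CommRingCat.of k)).inv c) }
    refine eq_zero_of_lTensor (fun i => (f i).toLinearMap) hinj _ fun i => ?_
    obtain ⟨eB, hB1, hB2⟩ := exists_iso_tensor T (B i)
    have hnat : CommRingCat.ofHom (Algebra.TensorProduct.map (AlgHom.id k Γ(T.left, ⊤)) (f i)).toRingHom ≫ eB.hom =
        eX.hom ≫ (T ◁ j i).left.appTop := by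
      apply (CommRingCat.isPushout_tensorProduct k Γ(T.left, ⊤) Γ(X.left, ⊤)).hom_ext
      · rw [reassoc_of% hX1, ← Scheme.Hom.comp_appTop, ← Category.assoc]
        have : CommRingCat.ofHom Algebra.TensorProduct.includeLeftRingHom ≫
            CommRingCat.ofHom (Algebra.TensorProduct.map (AlgHom.id k Γ(T.left, ⊤)) (f i)).toRingHom =
            CommRingCat.ofHom Algebra.TensorProduct.includeLeftRingHom := by
          ext r; simp
        rw [this, hB1]
        exact congrArg (fun φ => φ.left.appTop) (whiskerLeft_fst T (j i)).symm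
      · rw [reassoc_of% hX2, ← Scheme.Hom.comp_appTop, ← Category.assoc]
        have : CommRingCat.ofHom Algebra.TensorProduct.includeRight.toRingHom ≫
            CommRingCat.ofHom (Algebra.TensorProduct.map (AlgHom.id k Γ(T.left, ⊤)) (f i)).toRingHom =
            (j i).left.appTop ≫ CommRingCat.ofHom Algebra.TensorProduct.includeRight.toRingHom := by
          ext r; simp [f]
        rw [this, Category.assoc, hB2, ← Scheme.Hom.comp_appTop]
        exact congrArg (fun φ => φ.left.appTop) (whiskerLeft_snd T (j i)).symm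
    obtain ⟨l, hl⟩ := (hE _ (T ◁ j i).left).2 (congrArg (fun φ => φ.left) (h i))
    have h0 : (T ◁ j i).left.appTop z = 0 := by
      rw [← hl, Scheme.Hom.comp_appTop, CommRingCat.comp_apply, hz, map_zero]
    apply (ConcreteCategory.bijective_of_isIso eB.hom).1
    rw [map_zero]
    refine (ConcreteCategory.congr_hom hnat (eX.inv z)).trans ?_
    rw [CommRingCat.comp_apply, ← CommRingCat.comp_apply eX.inv eX.hom, Iso.inv_hom_id]
    exact h0
  have : IsIso e := IsClosedImmersion.isIso_of_injective_of_isAffine (f := e)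
    ((injective_iff_map_eq_zero e.appTop.hom).2 hker)
  refine Over.OverMorphism.ext ?_
  rw [← cancel_epi e]
  exact (hE _ e).1 ⟨𝟙 _, Category.id_comp _⟩

/-- morphisms `T ⊗ X ⟶ W` are detected on a jointly injective family of affine `B i ⟶ X` -/
theorem ext {ι' : Type v} {T X W : Over (Spec (CommRingCat.of k))}
    [IsAffine X.left] [IsSeparated W.hom] {B : ι' → Over (Spec (CommRingCat.of k))}
    [∀ i, IsAffine (B i).left] (j : ∀ i, B i ⟶ X)
    (hinj : ∀ a : Γ(X.left, ⊤), (∀ i, (j i).left.appTop a = 0) → a = 0)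
    (p q : T ⊗ X ⟶ W) (h : ∀ i, (T ◁ j i) ≫ p = (T ◁ j i) ≫ q) : p = q := by
  refine Over.OverMorphism.ext ?_
  refine Scheme.Cover.hom_ext (T.left.affineCover.pullback₁ (fst T X).left) _ _ fun c => ?_
  let U : Over (Spec (CommRingCat.of k)) := Over.mk (T.left.affineCover.f c ≫ T.hom)
  let r : U ⟶ T := Over.homMk (T.left.affineCover.f c) rfl
  have : IsAffine U.left := inferInstanceAs (IsAffine (T.left.affineCover.X c))
  have hpq : (r ▷ X) ≫ p = (r ▷ X) ≫ q := ext_affine j hinj _ _ fun i => by
    rw [← Category.assoc, whisker_exchange, Category.assoc, h i, ← Category.assoc, ← whisker_exchange,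
      Category.assoc]
  let Q : Over (Spec (CommRingCat.of k)) :=
    Over.mk ((T.left.affineCover.pullback₁ (fst T X).left).f c ≫ (T ⊗ X).hom)
  let w : Q ⟶ T ⊗ X := Over.homMk ((T.left.affineCover.pullback₁ (fst T X).left).f c) rfl
  let a : Q ⟶ U := Over.homMk (pullback.snd (fst T X).left (T.left.affineCover.f c)) (by
    change pullback.snd (fst T X).left (T.left.affineCover.f c) ≫ T.left.affineCover.f c ≫ T.hom = _
    rw [← pullback.condition_assoc]
    exact congrArg ((pullback.fst (fst T X).left (T.left.affineCover.f c)) ≫ ·) (Over.w (fst T X)))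
  have hw : lift a (w ≫ snd T X) ≫ r ▷ X = w := by
    apply CartesianMonoidalCategory.hom_ext
    · rw [Category.assoc, whiskerRight_fst, lift_fst_assoc]
      exact Over.OverMorphism.ext pullback.condition.symm
    · simp
  have := congrArg (fun φ => (lift a (w ≫ snd T X) ≫ φ).left) hpq
  simp only [← Category.assoc, hw] at this
  exact this

end Groth.Agent.GrpSch.JointInj
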