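import Groth.Agent.GrpSch.AffThm
import Groth.Agent.GrpSch.JointInj
import Groth.Agent.GrpSch.AntiAffine

/-!
# The kernel of the affinisation of an algebraic group is anti-affine
-/

set_option autoImplicit false
set_option backward.isDefEq.respectTransparency.types false

universe u

open CategoryTheory MonoidalCategory CartesianMonoidalCategory MonObj GrpObj Limits AlgebraicGeometry
open TensorProduct

namespace Groth.Agent.GrpSch.AntiKer

variable {k : Type u} [Field k]

lemma bijective_algebraMap_of_includeLeft (A B : Type u) [CommRing A] [CommRing B] [Algebra k A] [Algebra k B]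
    [Nontrivial A] (h : Function.Bijective (Algebra.TensorProduct.includeLeft : A →ₐ[k] A ⊗[k] B)) :
    Function.Bijective (algebraMap k B) := by
  have hl : Function.Bijective ((Algebra.linearMap k B).lTensor A) := by
    have e : ⇑((Algebra.linearMap k B).lTensor A) =
        (Algebra.TensorProduct.includeLeft : A →ₐ[k] A ⊗[k] B) ∘ (TensorProduct.rid k A) := by
      funext z
      induction z with
      | zero => simp
      | tmul a c => simp [Algebra.algebraMap_eq_smul_one, TensorProduct.smul_tmul]
      | add x y hx hy => simp only [Function.comp_apply, map_add, hx, hy] at *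
    rw [e]
    exact h.comp (TensorProduct.rid k A).bijective
  exact ⟨(Module.FaithfullyFlat.lTensor_injective_iff_injective k A (Algebra.linearMap k B)).1 hl.1,
    (Module.FaithfullyFlat.lTensor_surjective_iff_surjective k A (Algebra.linearMap k B)).1 hl.2⟩

attribute [local instance] JointInj.algΓ

/-- the kernel of a homomorphism to an affine group, bijective on functions, has only constant functions -/
theorem bijective_kernel {G H K : Over (Spec (CommRingCat.of k))} [GrpObj G] [GrpObj H]
    [LocallyOfFiniteType G.hom] [QuasiCompact G.hom] [IsAffine H.left] (u : G ⟶ H) [IsMonHom u]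
    [IsIso u.left.appTop] (i : K ⟶ G) (hK : IsPullback i (toUnit K) u η[H]) :
    Function.Bijective ((Scheme.ΓSpecIso (CommRingCat.of k)).inv ≫ K.hom.appTop).hom := by
  haveI := AffEnv.compactSpace_left G
  haveI := AffEnv.quasiSeparatedSpace_left G
  have hinj : Function.Injective u.left.appTop.hom := (ConcreteCategory.bijective_of_isIso u.left.appTop).1
  obtain ⟨_, -⟩ := AffThm.flat_surjective u hinj
  obtain ⟨_, -⟩ := AffThm.locallyOfFiniteType u hinj
  have hKl := isPullback_left hK
  haveI : IsAffineHom η[H].left := by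
    haveI : IsAffine (𝟙_ (Over (Spec (CommRingCat.of k)))).left := inferInstanceAs (IsAffine (Spec _))
    infer_instance
  haveI : IsAffineHom i.left := MorphismProperty.of_isPullback (P := @IsAffineHom) hKl.flip inferInstance
  haveI : CompactSpace K.left := QuasiCompact.compactSpace_of_compactSpace i.left
  haveI : QuasiSeparatedSpace K.left := quasiSeparatedSpace_of_quasiSeparated i.left
  obtain ⟨kk, -, hsh⟩ := HomLocus.exists_isPullback_shear hK (IsPullback.of_hasPullback u u)
  have hl := isPullback_left (IsPullback.of_hasPullback u u)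
  have hshl : IsPullback (pullback.fst u u).left kk.left G.hom K.hom := by
    have := isPullback_left hsh
    simpa only [Over.toUnit_left] using this
  obtain ⟨_, ⟨(U : G.left.Opens), hU, rfl⟩, hxU, -⟩ := G.left.isBasis_affineOpens.exists_subset_of_mem_open
    (Set.mem_univ (η[G].left (IsLocalRing.closedPoint k))) isOpen_univ
  let UO : Over (Spec (CommRingCat.of k)) := Over.mk (U.ι ≫ G.hom)
  haveI : IsAffine UO.left := hU
  haveI : IsAffine U.toScheme := hU
  haveI : Nonempty U.toScheme := ⟨⟨_, hxU⟩⟩
  let p := (pullback.fst u u).left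
  have sq := IsPullback.of_hasPullback U.ι p
  have s1 : IsPullback (pullback.fst U.ι p) (pullback.snd U.ι p ≫ (pullback.snd u u).left) (U.ι ≫ u.left) u.left :=
    sq.paste_vert hl
  have s2 : IsPullback (pullback.fst U.ι p) (pullback.snd U.ι p ≫ kk.left) UO.hom K.hom :=
    sq.paste_vert hshl
  have e : ∀ {A B : Scheme.{u}} (g : A ⟶ B), g.appLE ⊤ ⊤ le_top = g.appTop := fun g =>
    Scheme.Hom.appLE_eq_app g
  haveI : IsIso (pullback.fst U.ι p).appTop := by
    have hflat : ((U.ι ≫ u.left).appLE ⊤ ⊤ le_top).hom.Flat :=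
      Flat.flat_appLE (U.ι ≫ u.left) (isAffineOpen_top _) (isAffineOpen_top _) _
    have hiso : IsIso (pushoutSection s1 (US := ⊤) (UT := ⊤) (UX := ⊤) le_top le_top (UY := ⊤) (by simp)) :=
      isIso_pushoutSection_of_isCompact_of_flat_right_of_ringHomFlat s1 _ _ _ (isAffineOpen_top _)
        isCompact_univ isQuasiSeparated_univ isCompact_univ isQuasiSeparated_univ hflat
    have h := (isIso_pushoutSection_iff ..).mp hiso
    simp only [e] at h
    exact h.isIso_inl_of_isIso
  have h2 : IsPushout UO.hom.appTop K.hom.appTop (pullback.fst U.ι p).appTop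
      (pullback.snd U.ι p ≫ kk.left).appTop := by
    haveI : Flat K.hom := inferInstance
    have hflat : (UO.hom.appLE ⊤ ⊤ le_top).hom.Flat :=
      Flat.flat_appLE UO.hom (isAffineOpen_top _) (isAffineOpen_top _) _
    have hiso : IsIso (pushoutSection s2 (US := ⊤) (UT := ⊤) (UX := ⊤) le_top le_top (UY := ⊤) (by simp)) :=
      isIso_pushoutSection_of_isCompact_of_flat_right_of_ringHomFlat s2 _ _ _ (isAffineOpen_top _)
        isCompact_univ isQuasiSeparated_univ isCompact_univ isQuasiSeparated_univ hflat
    have h := (isIso_pushoutSection_iff ..).mp hiso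
    simp only [e] at h
    exact h
  have h3 : IsPushout ((Scheme.ΓSpecIso (CommRingCat.of k)).inv ≫ UO.hom.appTop)
      ((Scheme.ΓSpecIso (CommRingCat.of k)).inv ≫ K.hom.appTop) (pullback.fst U.ι p).appTop
      (pullback.snd U.ι p ≫ kk.left).appTop :=
    h2.of_iso (Scheme.ΓSpecIso (CommRingCat.of k)) (Iso.refl _) (Iso.refl _) (Iso.refl _)
      (by simp) (by simp) (by simp) (by simp)
  have h4 := CommRingCat.isPushout_tensorProduct k Γ(UO.left, ⊤) Γ(K.left, ⊤)
  have h5 : IsIso (CommRingCat.ofHom (Algebra.TensorProduct.includeLeftRingHom :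
      Γ(UO.left, ⊤) →+* Γ(UO.left, ⊤) ⊗[k] Γ(K.left, ⊤))) := by
    have := IsPushout.inl_isoIsPushout_hom _ _ h4 h3
    rw [← Iso.eq_comp_inv] at this
    rw [this]
    exact inferInstanceAs (IsIso ((pullback.fst U.ι p).appTop ≫ _))
  haveI : Nontrivial Γ(UO.left, ⊤) :=
    (UO.left.presheaf.germ ⊤ (⟨_, hxU⟩ : U.toScheme) trivial).hom.domain_nontrivial
  exact bijective_algebraMap_of_includeLeft Γ(UO.left, ⊤) Γ(K.left, ⊤)
    (ConcreteCategory.bijective_of_isIso (CommRingCat.ofHom (Algebra.TensorProduct.includeLeftRingHom :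
      Γ(UO.left, ⊤) →+* Γ(UO.left, ⊤) ⊗[k] Γ(K.left, ⊤))))

end Groth.Agent.GrpSch.AntiKer
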