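import Groth.Agent.GrpSch.AntiKer
import Groth.Agent.GrpSch.AntiHom
import Groth.Agent.GrpSch.Cat

/-!
# The largest anti-affine subgroup
-/

set_option autoImplicit false
set_option backward.isDefEq.respectTransparency.types false

universe u

open CategoryTheory MonoidalCategory CartesianMonoidalCategory MonObj GrpObj Limits AlgebraicGeometry

namespace Groth.Agent.GrpSch.AntiPart

variable {k : Type u} [Field k]

/-- the kernel of the affinisation -/
theorem exists_ker (G : Over (Spec (CommRingCat.of k))) [GrpObj G] [LocallyOfFiniteType G.hom]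
    [QuasiCompact G.hom] [GrpObj (AffEnv.aff G)] [IsMonHom (AffEnv.toAff G)] :
    ∃ (K : Over (Spec (CommRingCat.of k))) (_ : GrpObj K) (n : K ⟶ G), IsMonHom n ∧
      IsClosedImmersion n.left ∧ LocallyOfFiniteType K.hom ∧ QuasiCompact K.hom ∧
      Function.Bijective ((Scheme.ΓSpecIso (CommRingCat.of k)).inv ≫ K.hom.appTop).hom ∧
      ∀ (T : Over (Spec (CommRingCat.of k))) (g : T ⟶ G),
        (∃ a, a ≫ n = g) ↔ g ≫ AffEnv.toAff G = 1 := by
  haveI := AffEnv.compactSpace_left G
  haveI := AffEnv.quasiSeparatedSpace_left G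
  haveI := AffEnv.isIso_toAff_appTop G
  haveI := SepPoints.isSeparated_grp (AffEnv.aff G)
  have h0 : IsPullback (pullback.fst (AffEnv.toAff G) η[AffEnv.aff G]) (toUnit _) (AffEnv.toAff G) η[AffEnv.aff G] := by
    have h := IsPullback.of_hasPullback (AffEnv.toAff G) η[AffEnv.aff G]
    rwa [toUnit_unique (pullback.snd (AffEnv.toAff G) η[AffEnv.aff G]) (toUnit _)] at h
  haveI hnc : IsClosedImmersion (pullback.fst (AffEnv.toAff G) η[AffEnv.aff G]).left := by
    haveI : IsClosedImmersion η[AffEnv.aff G].left := by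
      haveI : IsClosedImmersion (η[AffEnv.aff G].left ≫ (AffEnv.aff G).hom) := by
        rw [Over.w η[AffEnv.aff G]]
        exact inferInstanceAs (IsClosedImmersion (𝟙 (Spec (CommRingCat.of k))))
      exact IsClosedImmersion.of_comp η[AffEnv.aff G].left (AffEnv.aff G).hom
    exact MorphismProperty.of_isPullback (P := @IsClosedImmersion) (isPullback_left h0).flip inferInstance
  haveI : Mono (pullback.fst (AffEnv.toAff G) η[AffEnv.aff G]) :=
    (Over.forget _).mono_of_mono_map (show Mono (pullback.fst (AffEnv.toAff G) η[AffEnv.aff G]).left from inferInstance)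
  obtain ⟨hg, hn⟩ := exists_grpObj_of_isKernel h0
  refine ⟨_, hg, _, hn, hnc, ?_, ?_, AntiKer.bijective_kernel _ _ h0, fun T g => isKernel_factors_iff h0 g⟩
  · rw [← Over.w (pullback.fst (AffEnv.toAff G) η[AffEnv.aff G])]; infer_instance
  · rw [← Over.w (pullback.fst (AffEnv.toAff G) η[AffEnv.aff G])]; infer_instance

end Groth.Agent.GrpSch.AntiPart
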