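import Groth.Agent.GrpSch.OverBase
import Groth.Agent.GrpSch.Desc
import Groth.Agent.FpqcDescent.Basic
import Mathlib.AlgebraicGeometry.Morphisms.FlatDescent
import Groth.Prelude.Def_W4bk4git07Quot

/-! Associated bundles of principal bundles: the structure map pulls back to the product. -/

set_option autoImplicit false
set_option backward.isDefEq.respectTransparency.types false

universe u

open CategoryTheory MonoidalCategory CartesianMonoidalCategory MonObj GrpObj Limits AlgebraicGeometry

namespace Groth.Agent.GrpSch.BundleMap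

variable {S : Scheme.{u}}

lemma isPullback_whiskerLeft_snd (X : Over S) {W Y : Over S} (i : W ⟶ Y) :
    IsPullback (X ◁ i).left (snd X W).left (snd X Y).left i.left :=
  isPullback_left (IsPullback.of_isLimit' ⟨whiskerLeft_snd X i⟩ (PullbackCone.IsLimit.mk _
    (fun s => lift (s.fst ≫ fst X Y) s.snd)
    (fun s => by apply CartesianMonoidalCategory.hom_ext <;> simp [s.condition])
    (fun s => lift_snd _ _)
    (fun s m h1 h2 => by
      apply CartesianMonoidalCategory.hom_ext
      · simp [← h1]
      · simp [← h2])))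

/-- The product of two objects over `G` is a fibre product. -/
lemma isPullback_whiskerLeft_fst (G X Y : Over S) :
    IsPullback (G ◁ snd X Y).left (G ◁ fst X Y).left (fst G Y).left (fst G X).left :=
  isPullback_left (IsPullback.of_isLimit' ⟨by simp⟩ (PullbackCone.IsLimit.mk _
    (fun s => lift (s.snd ≫ fst G X) (lift (s.snd ≫ snd G X) (s.fst ≫ snd G Y)))
    (fun s => by apply CartesianMonoidalCategory.hom_ext <;> simp [s.condition])
    (fun s => by apply CartesianMonoidalCategory.hom_ext <;> simp)
    (fun s m h1 h2 => by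
      apply CartesianMonoidalCategory.hom_ext
      · simp [← h2]
      · apply CartesianMonoidalCategory.hom_ext <;> simp [← h1, ← h2])))

/-- The projection to the first factor of `G ⊗ X` is compatible with an action of the form
`h (g, x) = (g h⁻¹, h x)`. -/
lemma whisker_fst_act {G H X : Over S} [GrpObj G] [GrpObj H] (j : H ⟶ G) (r : AlgGrp.Action H G)
    (hr : ∀ (T : Over S) (h : T ⟶ H) (g : T ⟶ G), lift h g ≫ r.act = g * (h ≫ j)⁻¹)
    (aX : AlgGrp.Action H X) (b : AlgGrp.Action H (G ⊗ X))
    (hb : ∀ (T : Over S) (h : T ⟶ H) (g : T ⟶ G) (x : T ⟶ X),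
      lift h (lift g x) ≫ b.act = lift (g * (h ≫ j)⁻¹) (lift h x ≫ aX.act)) :
    (H ◁ fst G X) ≫ r.act = b.act ≫ fst G X := by
  have e1 := hb (H ⊗ (G ⊗ X)) (fst _ _) (snd _ _ ≫ fst G X) (snd _ _ ≫ snd G X)
  have e2 : lift (fst H (G ⊗ X)) (lift (snd H (G ⊗ X) ≫ fst G X) (snd H (G ⊗ X) ≫ snd G X)) = 𝟙 _ := by
    apply CartesianMonoidalCategory.hom_ext
    · simp
    · apply CartesianMonoidalCategory.hom_ext <;> simp
  rw [e2, Category.id_comp] at e1
  have e3 : H ◁ fst G X = lift (fst H (G ⊗ X)) (snd H (G ⊗ X) ≫ fst G X) := by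
    apply CartesianMonoidalCategory.hom_ext <;> simp
  rw [e3, hr, e1, lift_fst]

/-- A principal bundle gives a pullback square. -/
lemma isPullback_of_psiY {H Y Q : Over S} [GrpObj H] (b : AlgGrp.Action H Y) (q : Y ⟶ Q)
    (hinv : GIT.IsInvariant b q) (hiso : IsIso (GIT.PsiY b q hinv)) :
    IsPullback b.act.left (snd H Y).left q.left q.left :=
  IsPullback.of_iso_pullback ⟨hinv.left⟩ (asIso (GIT.PsiY b q hinv))
    (Limits.pullback.lift_fst _ _ _) (Limits.pullback.lift_snd _ _ _)

/-- The associated bundle pulls back along `G ⟶ G/H` to the product. -/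
theorem isPullback_bundle {G H B X QX : Over S} [GrpObj H]
    (r : AlgGrp.Action H G) (π : G ⟶ B) (hπinv : GIT.IsInvariant r π) (hπiso : IsIso (GIT.PsiY r π hπinv))
    (b : AlgGrp.Action H (G ⊗ X)) (hb : (H ◁ fst G X) ≫ r.act = b.act ≫ fst G X)
    (qX : G ⊗ X ⟶ QX) (hqinv : GIT.IsInvariant b qX) (hqiso : IsIso (GIT.PsiY b qX hqinv))
    [Flat qX.left] [Surjective qX.left] [QuasiCompact qX.left]
    (pX : QX ⟶ B) (hp : qX ≫ pX = fst G X ≫ π) :
    IsPullback (fst G X).left qX.left π.left pX.left := by
  have hq := isPullback_of_psiY b qX hqinv hqiso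
  have hr := isPullback_of_psiY r π hπinv hπiso
  have hpl : qX.left ≫ pX.left = (fst G X).left ≫ π.left := by rw [← Over.comp_left, hp, Over.comp_left]
  have hw : (fst G X).left ≫ π.left = qX.left ≫ pX.left := hpl.symm
  let c := pullback.lift (f := π.left) (g := pX.left) (fst G X).left qX.left hw
  have hbig : IsPullback ((b.act.left ≫ c) ≫ pullback.fst π.left pX.left) (snd H (G ⊗ X)).left π.left
      (qX.left ≫ pX.left) := by
    have h := (isPullback_whiskerLeft_snd H (fst G X)).paste_horiz hr
    rw [← Over.comp_left (f := H ◁ fst G X) (g := r.act), hb, Over.comp_left, ← hpl] at h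
    rw [Category.assoc, show c ≫ pullback.fst π.left pX.left = (fst G X).left from pullback.lift_fst _ _ _]
    exact h
  have hsq2 : IsPullback (b.act.left ≫ c) (snd H (G ⊗ X)).left (pullback.snd π.left pX.left) qX.left :=
    IsPullback.of_right hbig (by rw [Category.assoc, show c ≫ pullback.snd π.left pX.left = qX.left from pullback.lift_snd _ _ _]; exact hq.w) (IsPullback.of_hasPullback π.left pX.left)
  haveI : Surjective (b.act.left ≫ c) := MorphismProperty.of_isPullback hsq2.flip ‹Surjective qX.left›
  haveI : Flat (b.act.left ≫ c) := MorphismProperty.of_isPullback hsq2.flip ‹Flat qX.left›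
  haveI : QuasiCompact (b.act.left ≫ c) := MorphismProperty.of_isPullback hsq2.flip ‹QuasiCompact qX.left›
  have hc : IsPullback b.act.left (𝟙 _) c (b.act.left ≫ c) := by
    refine IsPullback.of_bot ?_ (Category.id_comp _).symm hsq2
    rw [Category.id_comp, show c ≫ pullback.snd π.left pX.left = qX.left from pullback.lift_snd _ _ _]
    exact hq
  haveI : IsIso c := MorphismProperty.of_isPullback_of_descendsAlong
    (P := MorphismProperty.isomorphisms Scheme.{u}) (Q := @Surjective ⊓ @Flat ⊓ @QuasiCompact)
    hc.flip ⟨⟨‹_›, ‹_›⟩, ‹_›⟩ (inferInstanceAs (IsIso (𝟙 _)))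
  exact IsPullback.of_iso_pullback ⟨hw⟩ (asIso c) (pullback.lift_fst _ _ _) (pullback.lift_snd _ _ _)

/-- A morphism between finite type schemes over a base is quasi-compact. -/
lemma quasiCompact_of_sep {X Y : Over S} (f : X ⟶ Y) [QuasiCompact X.hom] [IsSeparated Y.hom] :
    QuasiCompact f.left := by
  haveI : QuasiCompact (f.left ≫ Y.hom) := by rw [Over.w]; infer_instance
  exact QuasiCompact.of_comp f.left Y.hom

lemma quasiCompact_tensor (X Y : Over S) [QuasiCompact X.hom] [QuasiCompact Y.hom] :
    QuasiCompact (X ⊗ Y).hom := by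
  rw [← Over.w (fst X Y)]
  haveI : QuasiCompact (fst X Y).left := property_fst X Y inferInstance
  infer_instance

end Groth.Agent.GrpSch.BundleMap
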