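import Groth.Agent.GrpSch.Action
import Groth.Agent.GrpSch.BundleMap
import Groth.Agent.S1133
import Groth.Prelude.Def_AlgGrp

/-! The bundle associated to a principal bundle and an action of the group on a scheme affine over the base. -/

set_option autoImplicit false
set_option backward.isDefEq.respectTransparency.types false

universe u

open CategoryTheory MonoidalCategory CartesianMonoidalCategory MonObj GrpObj AlgebraicGeometry
open CategoryTheory.Limits (pullback)

namespace Groth.Agent.GrpSch.AssocBundle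

variable {S : Scheme.{u}} {G X Y Z : Over S} [GrpObj G] (a : AlgGrp.Action G X) (f : X ⟶ Y)
  (hsq : IsPullback a.act (snd G X) f f) (b : AlgGrp.Action G Z)

/-- The element of the group carrying one point of a principal bundle to another in the same fibre. -/
noncomputable def div {T : Over S} (p q : T ⟶ X) (h : p ≫ f = q ≫ f) : T ⟶ G :=
  hsq.lift q p h.symm ≫ fst G X

lemma div_act {T : Over S} (p q : T ⟶ X) (h : p ≫ f = q ≫ f) :
    lift (div a f hsq p q h) p ≫ a.act = q := by
  have e : lift (div a f hsq p q h) p = hsq.lift q p h.symm := by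
    apply CartesianMonoidalCategory.hom_ext
    · rw [lift_fst]; rfl
    · rw [lift_snd, IsPullback.lift_snd]
  rw [e, IsPullback.lift_fst]

lemma div_unique {T : Over S} (p q : T ⟶ X) (h : p ≫ f = q ≫ f) (g : T ⟶ G)
    (hg : lift g p ≫ a.act = q) : g = div a f hsq p q h := by
  have e : lift g p = hsq.lift q p h.symm := hsq.hom_ext (by rw [hg, IsPullback.lift_fst])
    (by rw [lift_snd, IsPullback.lift_snd])
  rw [div, ← e, lift_fst]

/-- The point of the product over `q` with the same class as a given point over `p`. -/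
noncomputable def move {T : Over S} (p q : T ⟶ X) (h : p ≫ f = q ≫ f) (w : T ⟶ X ⊗ Z) : T ⟶ X ⊗ Z :=
  lift q (lift (div a f hsq p q h) (w ≫ snd X Z) ≫ b.act)

lemma move_self {T : Over S} (p : T ⟶ X) (w : T ⟶ X ⊗ Z) (hw : w ≫ fst X Z = p) :
    move a f hsq b p p rfl w = w := by
  rw [move, ← div_unique a f hsq p p rfl 1 (act_one a p), act_one]
  apply CartesianMonoidalCategory.hom_ext
  · rw [lift_fst, hw]
  · rw [lift_snd]

lemma move_move {T : Over S} (p q r : T ⟶ X) (h : p ≫ f = q ≫ f) (h' : q ≫ f = r ≫ f) (w : T ⟶ X ⊗ Z) :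
    move a f hsq b q r h' (move a f hsq b p q h w) = move a f hsq b p r (h.trans h') w := by
  rw [move, move, move, lift_snd, ← act_mul,
    ← div_unique a f hsq p r (h.trans h') (div a f hsq q r h' * div a f hsq p q h)
      (by rw [act_mul, div_act, div_act])]

lemma comp_move {T T' : Over S} (t : T' ⟶ T) (p q : T ⟶ X) (h : p ≫ f = q ≫ f) (w : T ⟶ X ⊗ Z) :
    t ≫ move a f hsq b p q h w =
      move a f hsq b (t ≫ p) (t ≫ q) (by rw [Category.assoc, Category.assoc, h]) (t ≫ w) := by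
  have e := div_unique a f hsq (t ≫ p) (t ≫ q) (by rw [Category.assoc, Category.assoc, h])
    (t ≫ div a f hsq p q h) (by rw [← comp_lift_assoc, div_act])
  rw [move, move, comp_lift, comp_lift_assoc, ← e, ← Category.assoc]

include f in
lemma hom_eq_hom {T : Scheme.{u}} {x₀ x₁ : T ⟶ X.left} (h : x₀ ≫ f.left = x₁ ≫ f.left) :
    x₁ ≫ X.hom = x₀ ≫ X.hom := by
  rw [← Over.w f, ← Category.assoc, ← h, Category.assoc]

/-- `move` on the underlying schemes. -/
noncomputable def moveFun {T : Scheme.{u}} (x₀ x₁ : T ⟶ X.left) (h : x₀ ≫ f.left = x₁ ≫ f.left)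
    (v : Desc.Lifts (Over.mk (fst X Z).left) x₀) : Desc.Lifts (Over.mk (fst X Z).left) x₁ :=
  ⟨(move a f hsq b (Over.homMk x₀ rfl : Over.mk (x₀ ≫ X.hom) ⟶ X) (Over.homMk x₁ (hom_eq_hom f h))
      (Over.OverMorphism.ext h) (Over.homMk v.1 (by
        rw [← Over.w (fst X Z), ← Category.assoc]
        exact congrArg (· ≫ X.hom) v.2))).left, by
    show _ ≫ (fst X Z).left = x₁
    rw [← Over.comp_left, move, lift_fst]
    rfl⟩

lemma moveFun_val {To : Over S} (p q : To ⟶ X) (h : p ≫ f = q ≫ f) (w : To ⟶ X ⊗ Z)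
    (x₀ x₁ : To.left ⟶ X.left) (h₀ : x₀ ≫ f.left = x₁ ≫ f.left) (hp : x₀ = p.left) (hq : x₁ = q.left)
    (v : Desc.Lifts (Over.mk (fst X Z).left) x₀) (hv : v.1 = w.left) :
    (moveFun a f hsq b x₀ x₁ h₀ v).1 = (move a f hsq b p q h w).left := by
  subst hp hq
  have key : ∀ (t : To.left ⟶ S) (ht : t = To.hom) (p' q' : Over.mk t ⟶ X) (h' : p' ≫ f = q' ≫ f)
      (w' : Over.mk t ⟶ X ⊗ Z), p'.left = p.left → q'.left = q.left → w'.left = w.left →
      (move a f hsq b p' q' h' w').left = (move a f hsq b p q h w).left := by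
    rintro t rfl p' q' h' w' e1 e2 e3
    obtain rfl : p' = p := Over.OverMorphism.ext e1
    obtain rfl : q' = q := Over.OverMorphism.ext e2
    obtain rfl : w' = w := Over.OverMorphism.ext e3
    rfl
  exact key _ (Over.w p) _ _ _ _ rfl rfl hv

lemma moveFun_comp {T : Scheme.{u}} (x₀ x₁ x₂ : T ⟶ X.left) (h : x₀ ≫ f.left = x₁ ≫ f.left)
    (h' : x₁ ≫ f.left = x₂ ≫ f.left) (v : Desc.Lifts (Over.mk (fst X Z).left) x₀) :
    moveFun a f hsq b x₁ x₂ h' (moveFun a f hsq b x₀ x₁ h v) = moveFun a f hsq b x₀ x₂ (h.trans h') v := by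
  apply Subtype.ext
  let To : Over S := Over.mk (x₀ ≫ X.hom)
  let p : To ⟶ X := Over.homMk x₀ rfl
  let q : To ⟶ X := Over.homMk x₁ (hom_eq_hom f h)
  let r : To ⟶ X := Over.homMk x₂ (hom_eq_hom f (h.trans h'))
  let w : To ⟶ X ⊗ Z := Over.homMk v.1 (by
    rw [← Over.w (fst X Z), ← Category.assoc]; exact congrArg (· ≫ X.hom) v.2)
  have hpq : p ≫ f = q ≫ f := Over.OverMorphism.ext h
  have hqr : q ≫ f = r ≫ f := Over.OverMorphism.ext h'
  rw [moveFun_val a f hsq b p r (hpq.trans hqr) w x₀ x₂ _ rfl rfl v rfl,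
    moveFun_val a f hsq b q r hqr (move a f hsq b p q hpq w) x₁ x₂ _ rfl rfl _
      (moveFun_val a f hsq b p q hpq w x₀ x₁ _ rfl rfl v rfl), move_move]

lemma moveFun_self {T : Scheme.{u}} (x : T ⟶ X.left) (v : Desc.Lifts (Over.mk (fst X Z).left) x) :
    moveFun a f hsq b x x rfl v = v := by
  apply Subtype.ext
  let To : Over S := Over.mk (x ≫ X.hom)
  let p : To ⟶ X := Over.homMk x rfl
  let w : To ⟶ X ⊗ Z := Over.homMk v.1 (by
    rw [← Over.w (fst X Z), ← Category.assoc]; exact congrArg (· ≫ X.hom) v.2)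
  rw [moveFun_val a f hsq b p p rfl w x x _ rfl rfl v rfl,
    move_self a f hsq b p w (Over.OverMorphism.ext v.2)]
  rfl

/-- The descent datum of the associated bundle. -/
noncomputable def datum : Desc.SchDD f.left where
  obj := Over.mk (fst X Z).left
  φ T x₀ x₁ h :=
    { toFun := moveFun a f hsq b x₀ x₁ h
      invFun := moveFun a f hsq b x₁ x₀ h.symm
      left_inv := fun v => by rw [moveFun_comp, moveFun_self]
      right_inv := fun v => by rw [moveFun_comp, moveFun_self] }
  φ_natural T T' g x₀ x₁ h h' v v' hv' := by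
    let To : Over S := Over.mk (x₀ ≫ X.hom)
    let To' : Over S := Over.mk (g ≫ x₀ ≫ X.hom)
    let t : To' ⟶ To := Over.homMk g rfl
    let p : To ⟶ X := Over.homMk x₀ rfl
    let q : To ⟶ X := Over.homMk x₁ (hom_eq_hom f h)
    let w : To ⟶ X ⊗ Z := Over.homMk v.1 (by
      rw [← Over.w (fst X Z), ← Category.assoc]; exact congrArg (· ≫ X.hom) v.2)
    have hpq : p ≫ f = q ≫ f := Over.OverMorphism.ext h
    show (moveFun a f hsq b (g ≫ x₀) (g ≫ x₁) h' v').1 = g ≫ (moveFun a f hsq b x₀ x₁ h v).1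
    rw [moveFun_val a f hsq b p q hpq w x₀ x₁ _ rfl rfl v rfl,
      moveFun_val a f hsq b (t ≫ p) (t ≫ q) (by rw [Category.assoc, Category.assoc, hpq]) (t ≫ w)
        (g ≫ x₀) (g ≫ x₁) _ rfl rfl v' hv', ← comp_move]
    rfl
  φ_self T x v := moveFun_self a f hsq b x v
  φ_comp T x₀ x₁ x₂ h₀₁ h₁₂ v := moveFun_comp a f hsq b x₀ x₁ x₂ h₀₁ h₁₂ v

include hsq in
/-- The associated bundle exists when the fibre is affine over the base. -/
theorem exists_assocBundle [IsAffineHom Z.hom] [Flat f.left] [Surjective f.left] [QuasiCompact f.left] :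
    ∃ (W : Over S) (φ : X ⊗ Z ⟶ W) (ψ : W ⟶ Y),
      lift ((G ◁ fst X Z) ≫ a.act) ((G ◁ snd X Z) ≫ b.act) ≫ φ = snd G (X ⊗ Z) ≫ φ ∧
      IsPullback (fst X Z).left φ.left f.left ψ.left ∧ IsAffineHom ψ.left := by
  haveI haf : IsAffineHom (fst X Z).left := property_fst X Z ‹_›
  haveI : IsAffineHom (datum a f hsq b).obj.hom := haf
  obtain ⟨U, ⟨e⟩⟩ := Groth.Agent.S1133.result f.left (datum a f hsq b)
  let W : Over S := Over.mk (U.hom ≫ Y.hom)
  let ψ : W ⟶ Y := Over.homMk U.hom rfl
  let ei : (X ⊗ Z).left ⟶ pullback f.left U.hom := e.inv.hom.left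
  let eh : pullback f.left U.hom ⟶ (X ⊗ Z).left := e.hom.hom.left
  have h1 : ei ≫ eh = 𝟙 _ := congrArg (fun z => z.hom.left) e.inv_hom_id
  have h2 : eh ≫ ei = 𝟙 _ := congrArg (fun z => z.hom.left) e.hom_inv_id
  have hfst : ei ≫ Limits.pullback.fst f.left U.hom = (fst X Z).left := Over.w e.inv.hom
  have hφw : (ei ≫ Limits.pullback.snd f.left U.hom) ≫ U.hom ≫ Y.hom = (X ⊗ Z).hom := by
    rw [Category.assoc, ← Category.assoc (Limits.pullback.snd f.left U.hom), ← Limits.pullback.condition,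
      Category.assoc, ← Category.assoc ei, hfst, Over.w f]
    exact Over.w (fst X Z)
  let φ : X ⊗ Z ⟶ W := Over.homMk (ei ≫ Limits.pullback.snd f.left U.hom) hφw
  have hpb : IsPullback (fst X Z).left φ.left f.left ψ.left := by
    refine IsPullback.of_iso_pullback ⟨?_⟩ ⟨ei, eh, h1, h2⟩ hfst rfl
    show (fst X Z).left ≫ f.left = (ei ≫ Limits.pullback.snd f.left U.hom) ≫ U.hom
    rw [Category.assoc, ← Limits.pullback.condition, ← Category.assoc, hfst]
  refine ⟨W, φ, ψ, ?_, hpb, ?_⟩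
  · -- invariance
    let T : Over S := G ⊗ (X ⊗ Z)
    let w : T ⟶ X ⊗ Z := snd G (X ⊗ Z)
    let m : T ⟶ X ⊗ Z := lift ((G ◁ fst X Z) ≫ a.act) ((G ◁ snd X Z) ≫ b.act)
    let p : T ⟶ X := w ≫ fst X Z
    let q : T ⟶ X := m ≫ fst X Z
    have hgp : lift (fst G (X ⊗ Z)) p ≫ a.act = q := by
      simp only [q, m, lift_fst, p, w]
      congr 1
    have hpq : p ≫ f = q ≫ f := by
      rw [← hgp, Category.assoc (lift _ _), hsq.w, ← Category.assoc (lift _ _), lift_snd]
    have hmv : move a f hsq b p q hpq w = m := by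
      rw [move, ← div_unique a f hsq p q hpq _ hgp]
      apply CartesianMonoidalCategory.hom_ext
      · rw [lift_fst]
      · simp only [lift_snd, m, w]
        congr 1
    have hl : p.left ≫ f.left = q.left ≫ f.left := by rw [← Over.comp_left, hpq, Over.comp_left]
    let v : Desc.Lifts (datum a f hsq b).obj p.left := ⟨w.left, rfl⟩
    have hc := e.inv.comm p.left q.left hl v (e.inv.push v) rfl
    have hDv : ((datum a f hsq b).φ p.left q.left hl v).1 = m.left :=
      (moveFun_val a f hsq b p q hpq w p.left q.left hl rfl rfl v rfl).trans (congrArg (·.left) hmv)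
    apply Over.OverMorphism.ext
    show m.left ≫ ei ≫ Limits.pullback.snd f.left U.hom = w.left ≫ ei ≫ Limits.pullback.snd f.left U.hom
    rw [← hDv]
    have hc' := congrArg (· ≫ Limits.pullback.snd f.left U.hom) hc
    refine ((Category.assoc _ _ _).symm.trans (hc'.symm.trans ?_))
    refine (Limits.pullback.lift_snd _ _ _).trans ?_
    exact Category.assoc _ _ _
  · exact MorphismProperty.of_isPullback_of_descendsAlong
      (P := @IsAffineHom) (Q := @Surjective ⊓ @Flat ⊓ @QuasiCompact)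
      hpb ⟨⟨‹Surjective f.left›, ‹Flat f.left›⟩, ‹QuasiCompact f.left›⟩ haf

end Groth.Agent.GrpSch.AssocBundle
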