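import Mathlib
import Groth.Agent.SmoothReduced.Basic

/-! Smooth morphisms have geometrically reduced fibres. -/

universe u

open AlgebraicGeometry CategoryTheory CategoryTheory.Limits

namespace Groth.Agent.GrpSch

instance (priority := 50) geometricallyReduced_of_smooth {X S : Scheme.{u}} (f : X ⟶ S) [Smooth f] :
    GeometricallyReduced f := by
  refine ⟨fun K _ y Z a b h => ?_⟩
  haveI : Smooth b := MorphismProperty.of_isPullback h ‹Smooth f›
  exact SmoothReduced.isReduced_of_smooth_scheme b

end Groth.Agent.GrpSch
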