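import Groth.Agent.GrpSch.Rigidity
import Groth.Agent.GrpSch.Homogeneous
import Groth.Agent.GrpSch.Points

/-!
# Translations permute the connected components of fibres
-/

set_option autoImplicit false

universe u

open CategoryTheory MonoidalCategory CartesianMonoidalCategory MonObj GrpObj Limits AlgebraicGeometry

namespace Groth.Agent.GrpSch.TransComp

open IsLocalRing

/-- a proper reduced connected scheme over a field with a rational point has only constant
functions -/
theorem bijective_appTop_of_point {k : Type u} [Field k] {X : Scheme.{u}}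
    (f : X ⟶ Spec (CommRingCat.of k)) [IsProper f] [AlgebraicGeometry.IsReduced X] [ConnectedSpace X]
    (σ : Spec (CommRingCat.of k) ⟶ X) (hσ : σ ≫ f = 𝟙 _) :
    Function.Bijective ((Scheme.ΓSpecIso (CommRingCat.of k)).inv ≫ f.appTop).hom := by
  haveI : CompactSpace X := QuasiCompact.compactSpace_of_compactSpace f
  haveI : Nonempty (⊤ : X.Opens) := ⟨⟨Classical.arbitrary _, trivial⟩⟩
  set F := (Scheme.ΓSpecIso (CommRingCat.of k)).inv ≫ f.appTop with hF
  refine ⟨F.hom.injective, fun a => ?_⟩
  let _ : Algebra k Γ(X, ⊤) := F.hom.toAlgebra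
  haveI : Algebra.IsIntegral k Γ(X, ⊤) := by
    constructor
    exact RingHom.isIntegral_respectsIso.2 (e := (Scheme.ΓSpecIso (CommRingCat.of k)).symm.commRingCatIsoToRingEquiv)
      f.appTop.hom (isIntegral_appTop_of_universallyClosed f)
  let ev := σ.appTop ≫ (Scheme.ΓSpecIso (CommRingCat.of k)).hom
  have hev : ∀ c, ev.hom (F.hom c) = c := fun c => by
    have h1 := Scheme.Hom.comp_appTop σ f
    rw [hσ, Scheme.Hom.id_appTop] at h1
    have h2 : F ≫ ev = 𝟙 _ := by simp [F, ev, ← reassoc_of% h1]
    exact congr($h2 c)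
  refine ⟨ev.hom a, ?_⟩
  set g := a - F.hom (ev.hom a) with hg
  have hx₀ : σ (closedPoint k) ∉ X.basicOpen g := by
    intro hmem
    have h1 : closedPoint k ∈ (Spec (CommRingCat.of k)).basicOpen (σ.appTop.hom g) := by
      rw [← Scheme.preimage_basicOpen_top]; exact hmem
    have h2 : σ.appTop.hom g = 0 := by
      apply ((ConcreteCategory.isIso_iff_bijective (Scheme.ΓSpecIso (CommRingCat.of k)).hom).1 inferInstance).1
      change ev.hom g = _
      rw [hg, map_sub, hev, sub_self]
      exact (map_zero _).symm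
    rw [h2, Scheme.basicOpen_zero] at h1
    exact h1
  obtain ⟨p, hp, hpg⟩ := Algebra.IsIntegral.isIntegral (R := k) g
  obtain ⟨r, hpr, hr⟩ := Polynomial.exists_eq_pow_rootMultiplicity_mul_and_not_dvd p hp.ne_zero 0
  rw [map_zero, sub_zero, Polynomial.X_dvd_iff] at hr
  have hprod : g ^ (p.rootMultiplicity 0) * Polynomial.aeval g r = 0 := by
    have : Polynomial.aeval g p = 0 := hpg
    rw [hpr] at this
    simpa using this
  have hdisj : ∀ x, x ∈ X.basicOpen g → x ∈ X.basicOpen (Polynomial.aeval g r) → False := by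
    intro x h1 h2
    rw [X.mem_basicOpen_top] at h1 h2
    have h3 := congrArg (X.presheaf.germ ⊤ x trivial).hom hprod
    rw [map_mul, map_pow, map_zero] at h3
    exact not_isUnit_zero (h3 ▸ (h1.pow _).mul h2)
  have hcov : ∀ x, x ∈ X.basicOpen g ∨ x ∈ X.basicOpen (Polynomial.aeval g r) := by
    intro x
    by_contra! h
    rw [X.mem_basicOpen_top, X.mem_basicOpen_top] at h
    obtain ⟨q, hq⟩ : Polynomial.X ∣ r - Polynomial.C (r.coeff 0) := by simp [Polynomial.X_dvd_iff]
    have he : F.hom (r.coeff 0) = Polynomial.aeval g r - g * Polynomial.aeval g q := by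
      have h4 := congrArg (Polynomial.aeval g) hq
      simp only [map_sub, Polynomial.aeval_C, map_mul, Polynomial.aeval_X] at h4
      rw [← h4, sub_sub_cancel]; rfl
    have hu := ((Ne.isUnit hr).map F.hom).map (X.presheaf.germ ⊤ x trivial).hom
    rw [he, map_sub, map_mul] at hu
    exact (mem_maximalIdeal _).1 (Ideal.sub_mem _ ((mem_maximalIdeal _).2 (mem_nonunits_iff.2 h.2))
      (Ideal.mul_mem_right _ _ ((mem_maximalIdeal _).2 (mem_nonunits_iff.2 h.1)))) hu
  have hcl : IsClopen ((X.basicOpen g : X.Opens) : Set X) := by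
    refine ⟨⟨?_⟩, (X.basicOpen g).2⟩
    have : ((X.basicOpen g : X.Opens) : Set X)ᶜ = X.basicOpen (Polynomial.aeval g r) := by
      ext x
      exact ⟨fun h => (hcov x).resolve_left h, fun h h' => hdisj x h' h⟩
    rw [this]
    exact (X.basicOpen _).2
  have hbot : X.basicOpen g = ⊥ := by
    rcases isClopen_iff.1 hcl with h | h
    · exact SetLike.coe_injective (h.trans TopologicalSpace.Opens.coe_bot.symm)
    · exact absurd (show σ (closedPoint k) ∈ ((X.basicOpen g : X.Opens) : Set X) by rw [h]; trivial) hx₀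
  exact (sub_eq_zero.mp ((basicOpen_eq_bot_iff g).mp hbot)).symm

variable {k : Type u} [Field k] {X : Over (Spec (CommRingCat.of k))} [GrpObj X] [IsProper X.hom]
  [ConnectedSpace X.left] {Z : Over (Spec (CommRingCat.of k))} [IsSeparated Z.hom]

local notation "pt" => IsLocalRing.closedPoint k

/-- translations map components of fibres into components of fibres -/
theorem image_subset (f : X ⟶ Z) (a b : 𝟙_ (Over (Spec (CommRingCat.of k))) ⟶ X) :
    (translate (b * a⁻¹)).hom.left '' connectedComponentIn (f.left ⁻¹' {f.left (a.left pt)}) (a.left pt) ⊆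
      connectedComponentIn (f.left ⁻¹' {f.left (b.left pt)}) (b.left pt) := by
  haveI : IsLocallyNoetherian X.left := LocallyOfFiniteType.isLocallyNoetherian X.hom
  let za := a ≫ f
  haveI : IsClosedImmersion za.left := by
    haveI : IsClosedImmersion (za.left ≫ Z.hom) := by
      rw [Over.w za]; exact inferInstanceAs (IsClosedImmersion (𝟙 _))
    exact IsClosedImmersion.of_comp za.left Z.hom
  set Ka := f.left ⁻¹' {f.left (a.left pt)} with hKa
  have hrange : Set.range za.left = {f.left (a.left pt)} := Set.eq_singleton_iff_unique_mem.2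
    ⟨⟨pt, rfl⟩, by rintro _ ⟨t, rfl⟩; rw [Subsingleton.elim (α := PrimeSpectrum k) t pt]; rfl⟩
  have hKcl : IsClosed Ka := (hrange ▸ za.left.isClosedEmbedding.isClosed_range).preimage f.left.continuous
  set C := connectedComponentIn Ka (a.left pt) with hC
  have haC : a.left pt ∈ C := mem_connectedComponentIn rfl
  have hCcl : IsClosed C := by
    rw [← closure_subset_iff_isClosed]
    exact isPreconnected_connectedComponentIn.closure.subset_connectedComponentIn (subset_closure haC)
      (hKcl.closure_subset_iff.2 (connectedComponentIn_subset _ _))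
  let I := Scheme.IdealSheafData.vanishingIdeal (⟨C, hCcl⟩ : TopologicalSpace.Closeds X.left)
  haveI : AlgebraicGeometry.IsReduced I.subscheme :=
    inferInstanceAs (AlgebraicGeometry.IsReduced (Scheme.IdealSheafData.vanishingIdeal _).subscheme)
  have hr : Set.range I.subschemeι = C := by
    rw [Scheme.IdealSheafData.range_subschemeι, Scheme.IdealSheafData.coe_support_vanishingIdeal]
    rfl
  let Co : Over (Spec (CommRingCat.of k)) := Over.mk (I.subschemeι ≫ X.hom)
  let jC : Co ⟶ X := Over.homMk I.subschemeι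
  haveI : IsProper Co.hom := inferInstanceAs (IsProper (I.subschemeι ≫ X.hom))
  haveI : AlgebraicGeometry.IsReduced Co.left := inferInstanceAs (AlgebraicGeometry.IsReduced I.subscheme)
  haveI : ConnectedSpace Co.left := by
    have h := I.subschemeι.isClosedEmbedding.isEmbedding.toHomeomorph
    haveI : ConnectedSpace ↥(Set.range I.subschemeι) := by
      rw [hr]
      exact isConnected_iff_connectedSpace.mp (isConnected_connectedComponentIn_iff.mpr rfl)
    exact h.symm.surjective.connectedSpace h.symm.continuous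
  obtain ⟨sa, hsa⟩ := exists_lift_of_isImmersion (T := Spec (CommRingCat.of k)) I.subschemeι a.left (by
    rintro _ ⟨t, rfl⟩
    rw [hr, Subsingleton.elim (α := PrimeSpectrum k) t pt]
    exact haC)
  let a' : 𝟙_ (Over (Spec (CommRingCat.of k))) ⟶ Co := Over.homMk sa (by
    change sa ≫ I.subschemeι ≫ X.hom = _
    rw [← Category.assoc, hsa]; exact Over.w a)
  have ha' : a' ≫ jC = a := Over.OverMorphism.ext hsa
  have hconst : jC ≫ f = toUnit Co ≫ za := by
    obtain ⟨l, hl⟩ := exists_lift_of_isImmersion za.left (jC ≫ f).left (by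
      rw [hrange]
      rintro _ ⟨c, rfl⟩
      exact connectedComponentIn_subset Ka _ (hr ▸ ⟨c, rfl⟩ : I.subschemeι c ∈ C))
    have hl' : l = Co.hom := by
      have h1 : za.left ≫ Z.hom = 𝟙 _ := Over.w za
      have h2 := congrArg (· ≫ Z.hom) hl
      simp only [Category.assoc, Over.w (jC ≫ f)] at h2
      rw [h1] at h2
      exact (Category.comp_id l).symm.trans h2
    apply Over.OverMorphism.ext
    rw [← hl, hl']; rfl
  let φ : Co ⊗ X ⟶ Z := (snd Co X * (toUnit _ ≫ a)⁻¹ * (fst Co X ≫ jC)) ≫ f
  have hφ0 : (Co ◁ a) ≫ φ = toUnit _ ≫ za := by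
    simp only [φ, ← Category.assoc, MonObj.comp_mul, GrpObj.comp_inv, whiskerLeft_snd, whiskerLeft_fst,
      comp_toUnit]
    rw [toUnit_unique (snd Co (𝟙_ _)) (toUnit _), mul_inv_cancel, _root_.one_mul, Category.assoc, hconst,
      ← Category.assoc, comp_toUnit]
  have hrig := Rigidity.rigidity Co X Z (bijective_appTop_of_point Co.hom sa (Over.w a')) a' a φ za hφ0
  have hτ : (jC ≫ (translate (b * a⁻¹)).hom) ≫ f = toUnit Co ≫ b ≫ f := by
    have h1 := congrArg (fun m => lift (𝟙 Co) (toUnit Co ≫ b) ≫ m) hrig
    simp only [φ, ← Category.assoc, comp_lift, comp_toUnit, lift_snd, lift_fst, MonObj.comp_mul,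
      GrpObj.comp_inv, Category.comp_id, Category.id_comp] at h1
    simp only [translate, MonObj.comp_mul, GrpObj.comp_inv, comp_toUnit_assoc, Category.comp_id]
    simp only [Category.assoc, ha', inv_mul_cancel_right, inv_mul_cancel, _root_.mul_one] at h1
    exact h1
  rintro _ ⟨c, hc, rfl⟩
  have hpre : _root_.IsPreconnected (Set.range (jC ≫ (translate (b * a⁻¹)).hom).left) :=
    isPreconnected_range (jC ≫ (translate (b * a⁻¹)).hom).left.continuous
  have hb : (a' ≫ jC) ≫ (translate (b * a⁻¹)).hom = b := by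
    rw [ha', comp_translate, toUnit_unique (toUnit (𝟙_ _)) (𝟙 _), Category.id_comp, inv_mul_cancel_right]
  refine hpre.subset_connectedComponentIn ⟨a'.left pt, ?_⟩ ?_ ?_
  · exact congrArg (fun m => m.left pt) ((Category.assoc a' jC _).symm.trans hb)
  · rintro _ ⟨d, rfl⟩
    have := congrArg (fun m => m.left d) hτ
    refine this.trans ?_
    change f.left (b.left ((toUnit Co).left d)) = f.left (b.left pt)
    rw [Subsingleton.elim (α := PrimeSpectrum k) ((toUnit Co).left d) pt]
  · obtain ⟨d, rfl⟩ := hr.ge hc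
    exact ⟨d, rfl⟩

/-- translations carry components of fibres onto components of fibres -/
theorem image_eq (f : X ⟶ Z) (x : 𝟙_ (Over (Spec (CommRingCat.of k))) ⟶ X) :
    (translate x).hom.left '' connectedComponentIn (f.left ⁻¹' {f.left (η[X].left pt)}) (η[X].left pt) =
      connectedComponentIn (f.left ⁻¹' {f.left (x.left pt)}) (x.left pt) := by
  refine Set.Subset.antisymm ?_ fun y hy => ?_
  · have := image_subset f η[X] x
    rwa [eq_one_unit, inv_one, _root_.mul_one, ← eq_one_unit] at this
  · have h1 := image_subset f x η[X] ⟨y, hy, rfl⟩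
    refine ⟨_, h1, ?_⟩
    rw [← comp_left_apply]
    have : (translate (η[X] * x⁻¹)).hom ≫ (translate x).hom = 𝟙 X := by
      rw [eq_one_unit, _root_.one_mul]
      simp [translate, MonObj.comp_mul, GrpObj.comp_inv, comp_toUnit_assoc]
    rw [this]; rfl

end Groth.Agent.GrpSch.TransComp
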