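import Groth.Agent.GrpSch.AbRigid
import Groth.Agent.GrpSch.Rigidity
import Groth.Agent.GrpSch.TransComp
import Groth.Agent.GrpSch.SmoothGeomRed

/-!
# Endomorphisms of `A × S` over `S` for an abelian variety `A`
-/

set_option autoImplicit false

universe u

open CategoryTheory MonoidalCategory CartesianMonoidalCategory MonObj GrpObj Limits AlgebraicGeometry

namespace Groth.Agent.GrpSch.AutProd

variable {k : Type u} [Field k] {A S : Over (Spec (CommRingCat.of k))} [GrpObj A] [IsProper A.hom]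
  [Smooth A.hom] [ConnectedSpace A.left]

theorem exists_decomp [GeometricallyConnected A.hom] [IsLocallyNoetherian S.left] [ConnectedSpace S.left]
    (s₀ : 𝟙_ (Over (Spec (CommRingCat.of k))) ⟶ S) (F : A ⊗ S ⟶ A) :
    ∃ (g : S ⟶ A) (h : A ⟶ A), IsMonHom h ∧ F = (snd A S ≫ g) * (fst A S ≫ h) ∧
      ∀ (g' : S ⟶ A) (h' : A ⟶ A), IsMonHom h' → F = (snd A S ≫ g') * (fst A S ≫ h') → g' = g ∧ h' = h := by
  let g : S ⟶ A := lift (toUnit S ≫ η[A]) (𝟙 S) ≫ F
  let ψ : A ⊗ S ⟶ A := (snd A S ≫ g)⁻¹ * F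
  let h : A ⟶ A := lift (𝟙 A) (toUnit A ≫ s₀) ≫ ψ
  have hψ0 : ∀ (T : Over (Spec (CommRingCat.of k))) (s : T ⟶ S), lift 1 s ≫ ψ = 1 := fun T s => by
    simp only [ψ, g, MonObj.comp_mul, GrpObj.comp_inv, ← Category.assoc, lift_snd, comp_lift, comp_toUnit,
      Category.comp_id]
    rw [← Hom.one_def, inv_mul_cancel]
  haveI : AlgebraicGeometry.IsReduced A.left := SmoothReduced.isReduced_of_smooth_scheme A.hom
  haveI : Flat A.hom := inferInstance
  haveI : LocallyOfFinitePresentation A.hom := inferInstance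
  have hX := TransComp.bijective_appTop_of_point A.hom η[A].left (Over.w η[A])
  let Φ : A ⊗ S ⟶ A := ψ * (fst A S ≫ h)⁻¹
  have hΦ := Rigidity.rigidity A S A hX η[A] s₀ Φ 1 (by
    have hl : A ◁ s₀ = lift (fst A (𝟙_ _)) (toUnit _ ≫ s₀) := by
      apply CartesianMonoidalCategory.hom_ext
      · simp
      · rw [whiskerLeft_snd, lift_snd, toUnit_unique (toUnit _) (snd A (𝟙_ _))]
    rw [hl]
    simp only [Φ, h, MonObj.comp_mul, GrpObj.comp_inv, ← Category.assoc, lift_fst, comp_lift, comp_toUnit,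
      Category.comp_id]
    rw [mul_inv_cancel, MonObj.comp_one])
  have hΦ1 : lift (toUnit S ≫ η[A]) (𝟙 S) ≫ Φ = 1 := by
    simp only [Φ, h, MonObj.comp_mul, GrpObj.comp_inv, ← Category.assoc, lift_fst, comp_lift, comp_toUnit,
      Category.comp_id]
    rw [← Hom.one_def, hψ0, hψ0, inv_one, _root_.one_mul]
  rw [hΦ1, MonObj.comp_one] at hΦ
  have hψ : ψ = fst A S ≫ h := by
    rw [← mul_inv_eq_one]; exact hΦ
  have hone : η[A] ≫ h = η[A] := by
    have := hψ0 (𝟙_ _) s₀
    rw [Hom.one_def, toUnit_unique (toUnit (𝟙_ _)) (𝟙 _), Category.id_comp] at this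
    simp only [h, ← Category.assoc, comp_lift, Category.comp_id, comp_toUnit,
      toUnit_unique (toUnit (𝟙_ _)) (𝟙 _), Category.id_comp]
    exact this
  refine ⟨g, h, AbRigid.isMonHom_of_one A A h hone, ?_, fun g' h' hh' e => ?_⟩
  · rw [← hψ]; simp only [ψ, mul_inv_cancel_left]
  · haveI := hh'
    have hg : g' = g := by
      have := congrArg (lift (toUnit S ≫ η[A]) (𝟙 S) ≫ ·) e
      simp only [MonObj.comp_mul, ← Category.assoc, lift_fst, lift_snd, Category.id_comp] at this
      rw [Category.assoc (toUnit S), IsMonHom.one_hom, ← Hom.one_def, _root_.mul_one] at this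
      exact this.symm
    refine ⟨hg, ?_⟩
    have : fst A S ≫ h' = fst A S ≫ h := by
      rw [← hψ]; simp only [ψ, e, hg, inv_mul_cancel_left]
    have := congrArg (lift (𝟙 A) (toUnit A ≫ s₀) ≫ ·) this
    simpa only [← Category.assoc, lift_fst, Category.id_comp] using this

end Groth.Agent.GrpSch.AutProd
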