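import Groth.Agent.GrpSch.Component
import Mathlib.AlgebraicGeometry.Noetherian
import Mathlib.Topology.NoetherianSpace

/-!
The neutral component of a group scheme locally of finite type over a field.
-/

set_option autoImplicit false
set_option backward.isDefEq.respectTransparency.types false

universe u

open CategoryTheory MonoidalCategory CartesianMonoidalCategory MonObj GrpObj Limits AlgebraicGeometry

namespace Groth.Agent.GrpSch

variable {K : Type u} [Field K] (G : Over (Spec (CommRingCat.of K))) [GrpObj G]

/-- In a group scheme locally of finite type over a field, irreducible components are open. -/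
theorem isOpen_irreducibleComponent [LocallyOfFiniteType G.hom] (x : G.left) :
    IsOpen (irreducibleComponent x) := by
  have : IsLocallyNoetherian G.left := LocallyOfFiniteType.isLocallyNoetherian G.hom
  rw [isOpen_iff_forall_mem_open]
  intro y hy
  obtain ⟨V, hV, hyV, -⟩ := G.left.isBasis_affineOpens.exists_subset_of_mem_open
    (Set.mem_univ y) isOpen_univ
  obtain ⟨U, hU, rfl⟩ := hV
  have : TopologicalSpace.NoetherianSpace U := by
    have : IsNoetherianRing Γ(G.left, U) := IsLocallyNoetherian.component_noetherian ⟨U, hU⟩
    exact noetherianSpace_of_isAffineOpen U hU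
  have hfin := TopologicalSpace.NoetherianSpace.finite_irreducibleComponents (α := U)
  let c : G.left → Set G.left := irreducibleComponent
  let S : Set (Set G.left) := c '' (U : Set G.left)
  have hS : S.Finite := by
    have : ∀ W ∈ irreducibleComponents U, ∃ Z : Set G.left, ∀ w : U, w ∈ W → c w.1 = Z := by
      intro W hW
      obtain ⟨Z, hZ, hle⟩ := exists_mem_irreducibleComponents_subset_of_isIrreducible _
        (hW.1.image Subtype.val continuous_subtype_val.continuousOn)
      exact ⟨Z, fun w hw => eq_of_mem_irreducibleComponents G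
        (irreducibleComponent_mem_irreducibleComponents _) hZ mem_irreducibleComponent
        (hle ⟨w, hw, rfl⟩)⟩
    choose F hF using this
    have := hfin.to_subtype
    refine (Set.finite_range fun W : irreducibleComponents U => F W.1 W.2).subset ?_
    rintro - ⟨w, hw, rfl⟩
    exact ⟨⟨_, irreducibleComponent_mem_irreducibleComponents (⟨w, hw⟩ : U)⟩,
      (hF _ _ _ mem_irreducibleComponent).symm⟩
  refine ⟨(U : Set G.left) \ ⋃ Z ∈ S \ {irreducibleComponent x}, Z, ?_, ?_, ⟨hyV, ?_⟩⟩
  · rintro w ⟨hwU, hw⟩
    by_contra hne
    exact hw (Set.mem_biUnion ⟨⟨w, hwU, rfl⟩, fun h => hne (h ▸ mem_irreducibleComponent)⟩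
      mem_irreducibleComponent)
  · refine U.2.sdiff (hS.sdiff.isClosed_biUnion ?_)
    rintro Z ⟨⟨w, -, rfl⟩, -⟩
    exact isClosed_irreducibleComponent
  · simp only [Set.mem_iUnion, not_exists]
    rintro Z ⟨⟨w, -, rfl⟩, hne⟩ hyw
    exact hne (eq_of_mem_irreducibleComponents G (irreducibleComponent_mem_irreducibleComponents w)
      (irreducibleComponent_mem_irreducibleComponents x) hyw hy)

/-- In a group scheme locally of finite type over a field, connected components are irreducible. -/
theorem connectedComponent_eq [LocallyOfFiniteType G.hom] (x : G.left) :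
    connectedComponent x = irreducibleComponent x :=
  (IsClopen.connectedComponent_subset
    ⟨isClosed_irreducibleComponent, isOpen_irreducibleComponent G x⟩ mem_irreducibleComponent).antisymm
    irreducibleComponent_subset_connectedComponent

/-- A connected group scheme locally of finite type over a field is irreducible. -/
theorem irreducibleSpace_of_connectedSpace [LocallyOfFiniteType G.hom] [ConnectedSpace G.left] :
    IrreducibleSpace G.left := by
  let e := η[G].left (IsLocalRing.closedPoint K)
  have := connectedComponent_eq G e
  rw [PreconnectedSpace.connectedComponent_eq_univ] at this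
  refine (irreducibleSpace_def _).2 ?_
  change IsIrreducible Set.univ
  rw [this]
  exact isIrreducible_irreducibleComponent

/-- An irreducible group scheme over a field is geometrically irreducible. -/
theorem geometricallyIrreducible_of_irreducibleSpace [IrreducibleSpace G.left] :
    GeometricallyIrreducible G.hom := by
  have := geometricallyIrreducible_component G (𝟙 G.left)
    (by rw [irreducibleComponents_eq_singleton]; simp) (by simp)
  rwa [Category.id_comp] at this

/-- The image of an irreducible set containing the identity point lies in the neutral component. -/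
lemma subset_component {s : Set G.left} (hs : IsIrreducible s)
    (he : η[G].left (IsLocalRing.closedPoint K) ∈ s) :
    s ⊆ irreducibleComponent (η[G].left (IsLocalRing.closedPoint K)) := by
  obtain ⟨Z, hZ, hle⟩ := exists_mem_irreducibleComponents_subset_of_isIrreducible _ hs
  exact eq_of_mem_irreducibleComponents G hZ (irreducibleComponent_mem_irreducibleComponents _)
    (hle he) mem_irreducibleComponent ▸ hle

/-- The neutral component as an open and closed subgroup scheme. -/
theorem exists_neutralComponent [LocallyOfFiniteType G.hom] :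
    ∃ (G₀ : Over (Spec (CommRingCat.of K))) (_ : GrpObj G₀) (i : G₀ ⟶ G) (_ : IsMonHom i),
      IsOpenImmersion i.left ∧ IsClosedImmersion i.left ∧
      Set.range i.left = connectedComponent (η[G].left (IsLocalRing.closedPoint K)) ∧
      IrreducibleSpace G₀.left ∧ GeometricallyIrreducible G₀.hom ∧
      LocallyOfFiniteType G₀.hom := by
  set e := η[G].left (IsLocalRing.closedPoint K)
  let U : G.left.Opens := ⟨irreducibleComponent e, isOpen_irreducibleComponent G e⟩
  let G₀ : Over (Spec (CommRingCat.of K)) := Over.mk (U.ι ≫ G.hom)
  let i : G₀ ⟶ G := Over.homMk U.ι rfl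
  have : IsOpenImmersion i.left := inferInstanceAs (IsOpenImmersion U.ι)
  have hr : Set.range i.left = irreducibleComponent e := Scheme.Opens.range_ι U
  have : IsClosedImmersion i.left := IsClosedImmersion.of_isPreimmersion i.left
    (hr ▸ isClosed_irreducibleComponent)
  have : Mono i.left := inferInstance
  have : Mono i := Over.mono_of_mono_left i
  have : IrreducibleSpace G₀.left := Subtype.irreducibleSpace isIrreducible_irreducibleComponent
  have : IsClosedImmersion U.ι := (inferInstance : IsClosedImmersion i.left)
  have : GeometricallyIrreducible G₀.hom :=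
    geometricallyIrreducible_component G U.ι
      (Scheme.Opens.range_ι U ▸ irreducibleComponent_mem_irreducibleComponents e)
      (Scheme.Opens.range_ι U ▸ mem_irreducibleComponent)
  have : LocallyOfFiniteType G₀.hom := inferInstanceAs (LocallyOfFiniteType (U.ι ≫ G.hom))
  have fac : ∀ {T : Over (Spec (CommRingCat.of K))} (g : T ⟶ G),
      Set.range g.left ⊆ irreducibleComponent e → ∃ c : T ⟶ G₀, c ≫ i = g := by
    intro T g hg
    refine ⟨Over.homMk (IsOpenImmersion.lift i.left g.left (hr ▸ hg)) ?_, ?_⟩
    · have : i.left ≫ G.hom = G₀.hom := Over.w i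
      rw [← this, IsOpenImmersion.lift_fac_assoc]
      exact Over.w g
    · ext1
      exact IsOpenImmersion.lift_fac _ _ _
  obtain ⟨eta, heta⟩ := fac η[G] (by
    rintro - ⟨p, rfl⟩
    rw [Subsingleton.elim (α := PrimeSpectrum K) p (IsLocalRing.closedPoint K)]
    exact mem_irreducibleComponent)
  have hirr : IrreducibleSpace ↥(G₀ ⊗ G₀).left :=
    inferInstanceAs (IrreducibleSpace ↥(pullback G₀.hom G₀.hom))
  obtain ⟨m, hm⟩ := fac ((fst G₀ G₀ ≫ i) * (snd G₀ G₀ ≫ i)) (by
    rw [← Set.image_univ]
    refine subset_component G ((IrreducibleSpace.isIrreducible_univ _).image _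
      ((fst G₀ G₀ ≫ i) * (snd G₀ G₀ ≫ i)).left.continuous.continuousOn) ?_
    refine ⟨(lift eta eta).left (IsLocalRing.closedPoint K), trivial, ?_⟩
    have h : lift eta eta ≫ ((fst G₀ G₀ ≫ i) * (snd G₀ G₀ ≫ i)) = η[G] := by
      rw [MonObj.comp_mul, lift_fst_assoc, lift_snd_assoc, heta]
      have : η[G] = 1 := by
        rw [one_eq_toUnit, toUnit_unique (toUnit (𝟙_ _)) (𝟙 _), Category.id_comp]
      rw [this, _root_.one_mul]
    exact congrArg (fun t : 𝟙_ _ ⟶ G => t.left (IsLocalRing.closedPoint K)) h)
  obtain ⟨n, hn⟩ := fac i⁻¹ (by
    rw [← Set.image_univ]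
    refine subset_component G ((IrreducibleSpace.isIrreducible_univ _).image _
      i⁻¹.left.continuous.continuousOn) ?_
    refine ⟨eta.left (IsLocalRing.closedPoint K), trivial, ?_⟩
    have h : eta ≫ i⁻¹ = η[G] := by
      rw [GrpObj.comp_inv, heta]
      have : η[G] = 1 := by
        rw [one_eq_toUnit, toUnit_unique (toUnit (𝟙_ _)) (𝟙 _), Category.id_comp]
      rw [this, inv_one]
    exact congrArg (fun t : 𝟙_ _ ⟶ G => t.left (IsLocalRing.closedPoint K)) h)
  let _ : GrpObj G₀ := grpObjOfMono i eta heta m hm n hn
  have hi : IsMonHom i := ⟨heta, by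
    change m ≫ i = _
    rw [hm, mul_eq_lift]
    congr 1⟩
  exact ⟨G₀, inferInstance, i, hi, ‹_›, ‹_›, by rw [connectedComponent_eq, hr], ‹_›, ‹_›, ‹_›⟩

end Groth.Agent.GrpSch
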