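import Groth.Agent.GrpSch.Contraction
import Groth.Agent.GrpSch.Rigidity
import Groth.Agent.GrpSch.Action
import Groth.Agent.GrpSch.Neutral
import Groth.Prelude.Def_AlgGrp

/-!
# Blanchard's lemma: actions descend along proper morphisms with `O_Y = f_* O_X`
-/

set_option autoImplicit false
set_option backward.isDefEq.respectTransparency.types false

universe u

open CategoryTheory MonoidalCategory CartesianMonoidalCategory MonObj GrpObj Limits AlgebraicGeometry

namespace Groth.Agent.GrpSch.Blanchard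

open Contraction

variable {k : Type u} [Field k] {G X Y : Over (Spec (CommRingCat.of k))}

lemma isConn_whiskerLeft (G : Over (Spec (CommRingCat.of k))) (f : X ⟶ Y) [IsProper f.left]
    (hf : IsConn f.left) : IsConn (G ◁ f).left ∧ IsProper (G ◁ f).left := by
  have H := (GrpSch.isPullback_left (Rigidity.isPullback_whiskerLeft_snd G f)).flip
  haveI : Flat G.hom := inferInstance
  haveI : Flat (snd G Y).left := inferInstanceAs (Flat (pullback.snd G.hom Y.hom))
  exact ⟨baseChange hf H, MorphismProperty.of_isPullback (P := @IsProper) H ‹_›⟩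

lemma epi_whiskerLeft (G : Over (Spec (CommRingCat.of k))) (f : X ⟶ Y) [IsProper f.left]
    (hf : IsConn f.left) : Epi (G ◁ f) := by
  obtain ⟨h1, h2⟩ := isConn_whiskerLeft G f hf
  exact (Over.forget _).epi_of_epi_map (show Epi (G ◁ f).left from Contraction.epi h1)

variable [GrpObj G]

/-- an action making `f` equivariant exists and is unique as soon as `f ∘ act` is constant on fibres -/
theorem existsUnique_of_const (f : X ⟶ Y) [IsProper f.left] (hf : IsConn f.left) (a : AlgGrp.Action G X)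
    (hc : ∀ p q : ↥(G ⊗ X).left, (G ◁ f).left p = (G ◁ f).left q → (a.act ≫ f).left p = (a.act ≫ f).left q) :
    ∃! b : AlgGrp.Action G Y, (G ◁ f) ≫ b.act = a.act ≫ f := by
  obtain ⟨h1, h2⟩ := isConn_whiskerLeft G f hf
  obtain ⟨b0, hb0, -⟩ := Contraction.existsUnique_desc h1 (a.act ≫ f).left fun y =>
    mem_locus_of_const h1 _ y fun p q hp hq => hc p q (hp.trans hq.symm)
  haveI : Epi (G ◁ f).left := Contraction.epi h1
  let b : G ⊗ Y ⟶ Y := Over.homMk b0 (by
    rw [← cancel_epi (G ◁ f).left, ← Category.assoc, hb0, Over.w, Over.w])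
  have hb : (G ◁ f) ≫ b = a.act ≫ f := Over.OverMorphism.ext hb0
  haveI := epi_whiskerLeft (𝟙_ _) f hf
  haveI := epi_whiskerLeft (G ⊗ G) f hf
  haveI := epi_whiskerLeft G f hf
  refine ⟨⟨b, ?_, ?_⟩, hb, fun b' hb' => ?_⟩
  · rw [← cancel_epi (𝟙_ _ ◁ f), whisker_exchange_assoc, hb, ← Category.assoc, a.one_act]
    exact (leftUnitor_naturality f).symm
  · rw [← cancel_epi ((G ⊗ G) ◁ f), whisker_exchange_assoc, hb, ← Category.assoc, a.mul_act]
    rw [Category.assoc, Category.assoc, associator_naturality_right_assoc,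
      ← whiskerLeft_comp_assoc, hb, whiskerLeft_comp_assoc, hb]
  · obtain ⟨b', _, _⟩ := b'
    congr 1
    exact (cancel_epi (G ◁ f)).1 (hb'.trans hb.symm)

/-- stability of `X ×_Y X` implies constancy on the fibres -/
theorem const_of_stable (f : X ⟶ Y) (a : AlgGrp.Action G X)
    (hs : ∀ (T : Over (Spec (CommRingCat.of k))) (g : T ⟶ G) (x₁ x₂ : T ⟶ X),
        x₁ ≫ f = x₂ ≫ f → lift g x₁ ≫ a.act ≫ f = lift g x₂ ≫ a.act ≫ f)
    (p q : ↥(G ⊗ X).left) (hpq : (G ◁ f).left p = (G ◁ f).left q) :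
    (a.act ≫ f).left p = (a.act ≫ f).left q := by
  obtain ⟨z, hz1, hz2⟩ := Scheme.Pullback.exists_preimage_pullback p q (f := (G ◁ f).left) (g := (G ◁ f).left) hpq
  let T : Over (Spec (CommRingCat.of k)) :=
    Over.mk (pullback.fst (G ◁ f).left (G ◁ f).left ≫ (G ⊗ X).hom)
  let a1 : T ⟶ G ⊗ X := Over.homMk (pullback.fst _ _) rfl
  let a2 : T ⟶ G ⊗ X := Over.homMk (pullback.snd _ _) (by
    change _ = pullback.fst _ _ ≫ (G ⊗ X).hom
    rw [← Over.w (G ◁ f), pullback.condition_assoc])
  have h12 : a1 ≫ (G ◁ f) = a2 ≫ (G ◁ f) := Over.OverMorphism.ext pullback.condition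
  have hg : a1 ≫ fst G X = a2 ≫ fst G X := by
    have := congrArg (· ≫ fst G Y) h12
    simpa using this
  have hy : (a1 ≫ snd G X) ≫ f = (a2 ≫ snd G X) ≫ f := by
    have := congrArg (· ≫ snd G Y) h12
    simpa using this
  have hl : ∀ c : T ⟶ G ⊗ X, lift (c ≫ fst G X) (c ≫ snd G X) = c := fun c => by
    apply CartesianMonoidalCategory.hom_ext <;> simp
  have key := hs T (a1 ≫ fst G X) _ _ hy
  rw [hl, hg, hl] at key
  have := congrArg (fun m : T ⟶ Y => m.left z) key
  change (a.act ≫ f).left (pullback.fst (G ◁ f).left (G ◁ f).left z) =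
    (a.act ≫ f).left (pullback.snd (G ◁ f).left (G ◁ f).left z) at this
  rwa [hz1, hz2] at this

variable [LocallyOfFiniteType G.hom] [ConnectedSpace G.left]

omit [LocallyOfFiniteType G.hom] [ConnectedSpace G.left] in
/-- over the unit section the composite is the projection, so these points are in the locus -/
theorem mem_locus_one (f : X ⟶ Y) [IsProper f.left] (hf : IsConn f.left) (a : AlgGrp.Action G X)
    (q₀ : ↥(G ⊗ Y).left) (hq₀ : (fst G Y).left q₀ = η[G].left (IsLocalRing.closedPoint k)) :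
    q₀ ∈ locus (G ◁ f).left (a.act ≫ f).left := by
  obtain ⟨hF, hFp⟩ := isConn_whiskerLeft G f hf
  refine mem_locus_of_const hF _ q₀ ?_
  suffices ∀ p', (G ◁ f).left p' = q₀ → (a.act ≫ f).left p' = (snd G Y).left q₀ from
    fun p' q' hp hq => (this p' hp).trans (this q' hq).symm
  intro p' hp'
  have he : (fst G X).left p' = η[G].left (IsLocalRing.closedPoint k) := by
    rw [← hq₀, ← hp', ← Scheme.Hom.comp_apply, ← Over.comp_left, whiskerLeft_fst]
  obtain ⟨w, hw, -⟩ := Scheme.Pullback.exists_preimage_pullback p' (IsLocalRing.closedPoint k)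
    (f := (fst G X).left) (g := η[G].left) he
  let T' : Over (Spec (CommRingCat.of k)) := Over.mk (pullback.fst (fst G X).left η[G].left ≫ (G ⊗ X).hom)
  let c : T' ⟶ G ⊗ X := Over.homMk (pullback.fst _ _) rfl
  let o : T' ⟶ 𝟙_ (Over (Spec (CommRingCat.of k))) := Over.homMk (pullback.snd _ _) (by
    change _ = pullback.fst _ _ ≫ (G ⊗ X).hom
    rw [← Over.w η[G], ← pullback.condition_assoc, Over.w (fst G X)])
  have hc1 : c ≫ fst G X = 1 := by
    rw [Hom.one_def, toUnit_unique (toUnit T') o]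
    exact Over.OverMorphism.ext pullback.condition
  have hc : c ≫ a.act ≫ f = c ≫ snd G X ≫ f := by
    have : c = lift (1 : T' ⟶ G) (c ≫ snd G X) := by
      apply CartesianMonoidalCategory.hom_ext
      · rw [lift_fst]; exact hc1
      · rw [lift_snd]
    conv_lhs => rw [this]
    rw [← Category.assoc, act_one, Category.assoc]
  have := congrArg (fun m : T' ⟶ Y => m.left w) hc
  change (a.act ≫ f).left (pullback.fst (fst G X).left η[G].left w) =
    (snd G X ≫ f).left (pullback.fst (fst G X).left η[G].left w) at this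
  rw [hw] at this
  rw [this, ← hp', ← Scheme.Hom.comp_apply, ← Over.comp_left, whiskerLeft_snd]

omit [LocallyOfFiniteType G.hom] [ConnectedSpace G.left] in
/-- two points over the same point of the locus have the same image -/
theorem eq_of_mem (f : X ⟶ Y) [IsProper f.left] (hf : IsConn f.left) (a : AlgGrp.Action G X)
    {T : Over (Spec (CommRingCat.of k))} [Subsingleton ↥T.left] (t₀ : T.left)
    (v : T ⟶ G) (x x' : T ⟶ X) (hxx : x ≫ f = x' ≫ f)
    (hmem : (lift v (x ≫ f)).left t₀ ∈ locus (G ◁ f).left (a.act ≫ f).left) :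
    lift v x ≫ a.act ≫ f = lift v x' ≫ a.act ≫ f := by
  obtain ⟨hF, hFp⟩ := isConn_whiskerLeft G f hf
  refine Over.OverMorphism.ext (eq_of_mem_locus hF (a.act ≫ f).left t₀ (lift v x).left (lift v x').left ?_ ?_)
  · rw [← Over.comp_left, ← Over.comp_left, lift_whiskerLeft, lift_whiskerLeft, hxx]
  · rw [← Scheme.Hom.comp_apply, ← Over.comp_left, lift_whiskerLeft]; exact hmem

/-- points in an algebraically closed field -/
theorem eq_of_points (f : X ⟶ Y) [IsProper f.left] (hf : IsConn f.left) (a : AlgGrp.Action G X)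
    (K : Type u) [Field K] [IsAlgClosed K] (t : Spec (CommRingCat.of K) ⟶ Spec (CommRingCat.of k))
    (g : Over.mk t ⟶ G) (x1 x2 : Over.mk t ⟶ X) (hx : x1 ≫ f = x2 ≫ f) :
    lift g x1 ≫ a.act ≫ f = lift g x2 ≫ a.act ≫ f := by
  obtain ⟨hF, hFp⟩ := isConn_whiskerLeft G f hf
  haveI : Subsingleton ↥(Over.mk t).left := inferInstanceAs (Subsingleton ↥(Spec (CommRingCat.of K)))
  let t₀ : (Over.mk t).left := IsLocalRing.closedPoint K
  set L := locus (G ◁ f).left (a.act ≫ f).left with hL
  have hLo : IsOpen L := isOpen_locus _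
  let T' : Over (Spec (CommRingCat.of k)) := Over.mk (pullback.snd G.hom t ≫ t)
  let pr : T' ⟶ Over.mk t := Over.homMk (pullback.snd G.hom t) rfl
  let gam : T' ⟶ G := Over.homMk (pullback.fst G.hom t) pullback.condition
  let φ1 : T' ⟶ G ⊗ Y := lift gam (pr ≫ x1 ≫ f)
  let φ2 : T' ⟶ G ⊗ Y := lift ((pr ≫ g) * gam⁻¹) (lift gam (pr ≫ x1) ≫ a.act ≫ f)
  have hsec : ∀ v : Over.mk t ⟶ G, ∃ s : Over.mk t ⟶ T', s ≫ pr = 𝟙 _ ∧ s ≫ gam = v := fun v =>
    ⟨Over.homMk (pullback.lift v.left (𝟙 _) (by rw [Category.id_comp]; exact Over.w v)) (by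
      change _ ≫ pullback.snd _ _ ≫ _ = _
      rw [pullback.lift_snd_assoc]; exact Category.id_comp _),
    Over.OverMorphism.ext (pullback.lift_snd _ _ _), Over.OverMorphism.ext (pullback.lift_fst _ _ _)⟩
  have hone' : ∀ y : Over.mk t ⟶ Y, (lift (1 : Over.mk t ⟶ G) y).left t₀ ∈ L := fun y => mem_locus_one f hf a _ (by
    rw [← Scheme.Hom.comp_apply, ← Over.comp_left, lift_fst, Hom.one_def, Over.comp_left, Scheme.Hom.comp_apply]
    exact congrArg _ (Subsingleton.elim (α := ↥(Spec (CommRingCat.of k))) _ _))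
  haveI : IrreducibleSpace G.left := irreducibleSpace_of_connectedSpace (G := G)
  haveI : GeometricallyIrreducible G.hom := geometricallyIrreducible_of_irreducibleSpace (G := G)
  haveI : IrreducibleSpace ↥T'.left := GeometricallyIrreducible.geometrically_irreducibleSpace (f := G.hom) _ _ _
    (IsPullback.of_hasPullback G.hom t)
  haveI : LocallyOfFiniteType (pullback.snd G.hom t) := inferInstance
  haveI : JacobsonSpace ↥T'.left := LocallyOfFiniteType.jacobsonSpace (pullback.snd G.hom t)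
  obtain ⟨s0, hs0pr, hs0gam⟩ := hsec 1
  obtain ⟨s1, hs1pr, hs1gam⟩ := hsec g
  obtain ⟨w, hw⟩ := nonempty_preirreducible_inter (hLo.preimage φ1.left.continuous) (hLo.preimage φ2.left.continuous)
    ⟨s0.left t₀, by
      rw [Set.mem_preimage, ← Scheme.Hom.comp_apply, ← Over.comp_left, comp_lift, hs0gam]
      exact hone' _⟩
    ⟨s1.left t₀, by
      rw [Set.mem_preimage, ← Scheme.Hom.comp_apply, ← Over.comp_left, comp_lift, MonObj.comp_mul,
        GrpObj.comp_inv, hs1gam, ← Category.assoc, hs1pr, Category.id_comp, mul_inv_cancel]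
      exact hone' _⟩
  obtain ⟨c, hc, hccl⟩ := nonempty_inter_closedPoints (Z := φ1.left ⁻¹' L ∩ φ2.left ⁻¹' L) ⟨w, hw⟩
    ((hLo.preimage φ1.left.continuous).inter (hLo.preimage φ2.left.continuous)).isLocallyClosed
  let sc := pointOfClosedPoint (pullback.snd G.hom t) c hccl
  let s : Over.mk t ⟶ T' := Over.homMk sc (by
    change sc ≫ pullback.snd _ _ ≫ _ = _
    rw [pointOfClosedPoint_comp_assoc]; rfl)
  have hspr : s ≫ pr = 𝟙 _ := Over.OverMorphism.ext (pointOfClosedPoint_comp _ _ _)
  have hst : s.left t₀ = c := pointOfClosedPoint_apply _ _ _ _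
  obtain ⟨hc1, hc2⟩ := hc
  rw [Set.mem_preimage, ← hst, ← Scheme.Hom.comp_apply, ← Over.comp_left, comp_lift, ← Category.assoc s pr,
    hspr, Category.id_comp] at hc1
  rw [Set.mem_preimage, ← hst, ← Scheme.Hom.comp_apply, ← Over.comp_left, comp_lift, MonObj.comp_mul,
    GrpObj.comp_inv, ← Category.assoc s pr, hspr, Category.id_comp, comp_lift_assoc, ← Category.assoc s pr,
    hspr, Category.id_comp, ← Category.assoc _ a.act f] at hc2
  generalize s ≫ gam = v at hc1 hc2
  have e1 : (lift v x1 ≫ a.act) ≫ f = (lift v x2 ≫ a.act) ≫ f := by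
    rw [Category.assoc, Category.assoc]; exact eq_of_mem f hf a t₀ v x1 x2 hx hc1
  have hdec : g = (g * v⁻¹) * v := (inv_mul_cancel_right g v).symm
  rw [hdec, ← Category.assoc, act_mul a (g * v⁻¹) v x1, ← Category.assoc (lift (g * v⁻¹ * v) x2),
    act_mul a (g * v⁻¹) v x2, Category.assoc, Category.assoc]
  exact eq_of_mem f hf a t₀ _ _ _ e1 hc2

/-- for a connected group the composite with a contraction is constant on the fibres -/
theorem const_of_connected (f : X ⟶ Y) [IsProper f.left] (hf : IsConn f.left) (a : AlgGrp.Action G X)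
    (p q : ↥(G ⊗ X).left) (hpq : (G ◁ f).left p = (G ◁ f).left q) :
    (a.act ≫ f).left p = (a.act ≫ f).left q := by
  obtain ⟨z, hz1, hz2⟩ := Scheme.Pullback.exists_preimage_pullback p q (f := (G ◁ f).left) (g := (G ◁ f).left) hpq
  let P := pullback (G ◁ f).left (G ◁ f).left
  let K := AlgebraicClosure (P.residueField z)
  let j : Spec (CommRingCat.of K) ⟶ P :=
    Spec.map (CommRingCat.ofHom (algebraMap (P.residueField z) K)) ≫ P.fromSpecResidueField z
  have hj : j (IsLocalRing.closedPoint K) = z := by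
    rw [Scheme.Hom.comp_apply]; exact P.fromSpecResidueField_apply _ _
  clear_value j
  let T : Over (Spec (CommRingCat.of k)) := Over.mk (j ≫ pullback.fst _ _ ≫ (G ⊗ X).hom)
  let a1 : T ⟶ G ⊗ X := Over.homMk (j ≫ pullback.fst _ _) (Category.assoc _ _ _)
  let a2 : T ⟶ G ⊗ X := Over.homMk (j ≫ pullback.snd _ _) (by
    change _ = j ≫ pullback.fst _ _ ≫ (G ⊗ X).hom
    rw [Category.assoc, ← Over.w (G ◁ f), pullback.condition_assoc])
  have h12 : a1 ≫ (G ◁ f) = a2 ≫ (G ◁ f) := Over.OverMorphism.ext (by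
    change (j ≫ pullback.fst _ _) ≫ _ = (j ≫ pullback.snd _ _) ≫ _
    simp only [Category.assoc, pullback.condition])
  have hx : (a1 ≫ snd G X) ≫ f = (a2 ≫ snd G X) ≫ f := by
    have := congrArg (· ≫ snd G Y) h12
    simpa using this
  have hg : a1 ≫ fst G X = a2 ≫ fst G X := by
    have := congrArg (· ≫ fst G Y) h12
    simpa using this
  have hl : ∀ c : T ⟶ G ⊗ X, lift (c ≫ fst G X) (c ≫ snd G X) = c := fun c => by
    apply CartesianMonoidalCategory.hom_ext <;> simp
  have key := eq_of_points f hf a K _ (a1 ≫ fst G X) (a1 ≫ snd G X) (a2 ≫ snd G X) hx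
  rw [hl] at key
  rw [hg, hl] at key
  have := congrArg (fun m : T ⟶ Y => m.left (IsLocalRing.closedPoint K)) key
  change (a.act ≫ f).left (pullback.fst (G ◁ f).left (G ◁ f).left (j (IsLocalRing.closedPoint K))) =
    (a.act ≫ f).left (pullback.snd (G ◁ f).left (G ◁ f).left (j (IsLocalRing.closedPoint K))) at this
  rwa [hj, hz1, hz2] at this

end Groth.Agent.GrpSch.Blanchard
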