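import Groth.Agent.DimTheory.Scheme
import Groth.Agent.FpqcDescent.ReducedSub
import Mathlib.AlgebraicGeometry.Noetherian
import Mathlib.AlgebraicGeometry.Morphisms.FiniteType

/-! The boundary of a locally closed set has smaller dimension. -/

set_option autoImplicit false
set_option backward.isDefEq.respectTransparency.types false

universe u

open CategoryTheory AlgebraicGeometry Order TopologicalSpace

namespace Groth.Agent.GrpSch

lemma height_le_dim_of_mem {k : Type u} [Field k] {X : Scheme.{u}}
    (f : X ⟶ Spec (CommRingCat.of k)) [LocallyOfFiniteType f] {R : Set X} (hR : IsLocallyClosed R)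
    {ξ : X} (hξ : ξ ∈ R) :
    (height ξ : WithBot ℕ∞) ≤ topologicalKrullDim R := by
  obtain ⟨O, Z, hO, hZ, hOZ⟩ := hR
  let I := Scheme.IdealSheafData.vanishingIdeal (⟨closure {ξ}, isClosed_closure⟩ : Closeds X)
  have hr : Set.range I.subschemeι = closure {ξ} := by
    rw [Scheme.IdealSheafData.range_subschemeι, Scheme.IdealSheafData.coe_support_vanishingIdeal]
    rfl
  let e := I.subschemeι.isClosedEmbedding.isEmbedding.toHomeomorph.trans (Homeomorph.setCongr hr)
  have : IrreducibleSpace ↥(closure ({ξ} : Set X)) :=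
    Subtype.irreducibleSpace isIrreducible_singleton.closure
  have : IrreducibleSpace I.subscheme := e.irreducibleSpace_iff.2 this
  let W : I.subscheme.Opens := I.subschemeι ⁻¹ᵁ ⟨O, hO⟩
  have hW : (W : Set I.subscheme).Nonempty := by
    obtain ⟨z, hz⟩ := hr.ge (subset_closure rfl : ξ ∈ closure {ξ})
    exact ⟨z, by change I.subschemeι z ∈ O; rw [hz]; exact (hOZ.le hξ).1⟩
  have h1 := DimTheory.topologicalKrullDim_opens (I.subschemeι ≫ f) W hW
  rw [← DimTheory.topologicalKrullDim_closure, ← IsHomeomorph.topologicalKrullDim_eq e e.isHomeomorph,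
    ← h1]
  have hmem : ∀ w : W, I.subschemeι w.1 ∈ R := fun w => hOZ.ge ⟨w.2,
    closure_minimal (Set.singleton_subset_iff.2 (hOZ.le hξ).2) hZ (hr.le ⟨w.1, rfl⟩)⟩
  refine Topology.IsInducing.topologicalKrullDim_le
    (f := fun w : W => (⟨I.subschemeι w.1, hmem w⟩ : R)) ?_
  refine Topology.IsInducing.of_comp (g := Subtype.val)
    ((I.subschemeι.continuous.comp continuous_subtype_val).subtype_mk _) continuous_subtype_val ?_
  exact I.subschemeι.isClosedEmbedding.isInducing.comp Topology.IsInducing.subtypeVal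

lemma dim_le_iSup_height_of_isClosed {X : Scheme.{u}} {S : Set X} (hS : IsClosed S) :
    topologicalKrullDim S ≤ ⨆ y : S, (height y.1 : WithBot ℕ∞) := by
  have : QuasiSober S := hS.isClosedEmbedding_subtypeVal.quasiSober
  change krullDim (IrreducibleCloseds S) ≤ _
  rw [krullDim_eq_iSup_height]
  refine iSup_le fun c => le_trans (WithBot.coe_le_coe.2 ?_)
    (le_iSup (fun y : S => (height y.1 : WithBot ℕ∞)) c.isIrreducible.genericPoint)
  refine height_le_height_apply_of_strictMono
    (fun c : IrreducibleCloseds S => c.isIrreducible.genericPoint.1) ?_ c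
  intro a b hab
  have ha := a.isIrreducible.isGenericPoint_genericPoint a.isClosed
  have hb := b.isIrreducible.isGenericPoint_genericPoint b.isClosed
  have hba : b.isIrreducible.genericPoint ⤳ a.isIrreducible.genericPoint :=
    hb.specializes (hab.le ha.mem)
  refine lt_of_le_not_ge (hba.map continuous_subtype_val) fun h => hab.not_ge fun z hz => ?_
  exact ((Topology.IsInducing.subtypeVal.specializes_iff.1 h).trans (hb.specializes hz)).mem_closed
    a.isClosed ha.mem

theorem dim_boundary_lt {k : Type u} [Field k] {X : Scheme.{u}}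
    (f : X ⟶ Spec (CommRingCat.of k)) [LocallyOfFiniteType f] [CompactSpace X] {R : Set X}
    (hR : IsLocallyClosed R) (hne : R.Nonempty) :
    topologicalKrullDim ↥(closure R \ R) < topologicalKrullDim R := by
  have : IsLocallyNoetherian X := LocallyOfFiniteType.isLocallyNoetherian f
  have : AlgebraicGeometry.IsNoetherian X := {}
  obtain ⟨O, Z, hO, hZ, hOZ⟩ := hR
  have hlc : IsLocallyClosed R := ⟨O, Z, hO, hZ, hOZ⟩
  have hclZ : closure R ⊆ Z := closure_minimal (hOZ.le.trans Set.inter_subset_right) hZ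
  have hcl : IsClosed (closure R \ R) := by
    have : closure R \ R = closure R \ O := by
      ext z
      exact ⟨fun ⟨hz, hz'⟩ => ⟨hz, fun h => hz' (hOZ.ge ⟨h, hclZ hz⟩)⟩,
        fun ⟨hz, hz'⟩ => ⟨hz, fun h => hz' (hOZ.le h).1⟩⟩
    rw [this]
    exact isClosed_closure.sdiff hO
  obtain ⟨x₀, hx₀⟩ := hne
  have hfin : Module.Finite ℕ ℕ := inferInstance
  refine lt_of_le_of_lt (dim_le_iSup_height_of_isClosed hcl) ?_
  rcases (closure R \ R).eq_empty_or_nonempty with he | hne'
  · have : IsEmpty ↥(closure R \ R) := Set.isEmpty_coe_sort.2 he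
    rw [ciSup_of_empty]
    exact (WithBot.bot_lt_coe _).trans_le (height_le_dim_of_mem f hlc hx₀)
  -- every boundary point is dominated by a point of `R`
  have hdom : ∀ y ∈ closure R \ R, ∃ ξ ∈ R, y < ξ := by
    rintro y ⟨hy, hyR⟩
    have hS : TopologicalSpace.NoetherianSpace (closure R) := inferInstance
    let y' : closure R := ⟨y, hy⟩
    obtain ⟨Ω, hΩ, hyΩ⟩ : ∃ Ω ∈ irreducibleComponents (closure R), y' ∈ Ω :=
      ⟨_, irreducibleComponent_mem_irreducibleComponents _, mem_irreducibleComponent⟩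
    obtain ⟨W, hWo, ⟨w, hw⟩, hWΩ⟩ :=
      TopologicalSpace.NoetherianSpace.exists_isOpen_nonempty_subset_irreducibleComponent Ω hΩ
    obtain ⟨W', hW'o, hW'⟩ := isOpen_induced_iff.1 hWo
    obtain ⟨r, hrW, hrR⟩ := mem_closure_iff.1 w.2 W' hW'o (by rw [← hW'] at hw; exact hw)
    have : QuasiSober (closure R) := isClosed_closure.isClosedEmbedding_subtypeVal.quasiSober
    have hξ := hΩ.1.isGenericPoint_genericPoint (isClosed_of_mem_irreducibleComponents Ω hΩ)
    set ξ := hΩ.1.genericPoint
    have hξy : ξ.1 ⤳ y := (hξ.specializes hyΩ).map continuous_subtype_val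
    have hr : (⟨r, subset_closure hrR⟩ : closure R) ∈ Ω := hWΩ (by rw [← hW']; exact hrW)
    have hξr : ξ.1 ⤳ r := (hξ.specializes hr).map continuous_subtype_val
    have hξR : ξ.1 ∈ R := hOZ.ge ⟨hξr.mem_open hO (hOZ.le hrR).1, hclZ ξ.2⟩
    refine ⟨ξ.1, hξR, lt_of_le_not_ge hξy fun h => ?_⟩
    have e : ξ.1 = y := (Specializes.antisymm hξy h).eq
    exact hyR (e ▸ hξR)
  by_contra hle
  rw [not_lt] at hle
  -- pick a boundary point of maximal height
  have : Nonempty ↥(closure R \ R) := hne'.to_subtype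
  obtain ⟨d, hd⟩ : ∃ d : ℕ, topologicalKrullDim R = d ∨ topologicalKrullDim R = ⊤ ∧ d = 0 := by
    cases h : topologicalKrullDim R with
    | bot => exact absurd ((WithBot.bot_lt_coe _).trans_le
        (h ▸ height_le_dim_of_mem f hlc hx₀)) (lt_irrefl _)
    | coe a =>
      cases a with
      | top => exact ⟨0, Or.inr ⟨rfl, rfl⟩⟩
      | coe a => exact ⟨a, Or.inl rfl⟩
  rcases hd with hd | ⟨htop, -⟩
  · rw [hd] at hle
    have hlt : ∀ y : ↥(closure R \ R), height y.1 < (d : ℕ∞) := fun y => by
      obtain ⟨ξ, hξR, hlt⟩ := hdom y.1 y.2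
      have h2 := height_le_dim_of_mem f hlc hξR
      rw [hd] at h2
      refine lt_of_lt_of_le ?_ (WithBot.coe_le_coe.1 h2)
      exact height_strictMono hlt (DimTheory.height_lt_top f y.1)
    cases d with
    | zero =>
      obtain ⟨y⟩ := this
      simpa using hlt y
    | succ e =>
      have hle' : (⨆ y : ↥(closure R \ R), (height y.1 : WithBot ℕ∞)) ≤ ((e : ℕ∞) : WithBot ℕ∞) :=
        iSup_le fun y => WithBot.coe_le_coe.2 (by
          have := hlt y
          rw [Nat.cast_add, Nat.cast_one] at this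
          exact (ENat.lt_add_one_iff (ENat.natCast_ne_top e)).1 this)
      have := hle.trans hle'
      have h' : ((e + 1 : ℕ) : ℕ∞) ≤ (e : ℕ∞) := WithBot.coe_le_coe.1 this
      exact absurd (Nat.cast_le.1 h') (by omega)
  · -- the dimension of a quasi-compact scheme of finite type is finite
    obtain ⟨n, hn⟩ : ∃ n : ℕ, ∀ y : X, height y ≤ (n : ℕ∞) := by
      obtain ⟨s, hs, hspan⟩ : ∃ s : Set X, s.Finite ∧ ∀ y : X, ∃ ξ ∈ s, y ≤ ξ := by
        have hfin := TopologicalSpace.NoetherianSpace.finite_irreducibleComponents (α := X)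
        have := hfin.to_subtype
        refine ⟨Set.range fun c : irreducibleComponents X => c.2.1.genericPoint,
          Set.finite_range _, fun y => ?_⟩
        exact ⟨_, ⟨⟨_, irreducibleComponent_mem_irreducibleComponents y⟩, rfl⟩,
          ((irreducibleComponent_mem_irreducibleComponents y).1.isGenericPoint_genericPoint
            isClosed_irreducibleComponent).specializes mem_irreducibleComponent⟩
      choose g hg using fun ξ : X => (DimTheory.exists_height_eq f ξ)
      refine ⟨hs.toFinset.sup g, fun y => ?_⟩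
      obtain ⟨ξ, hξ, hyξ⟩ := hspan y
      refine (height_mono hyξ).trans ?_
      rw [(hg ξ).2]
      exact Nat.cast_le.2 (Finset.le_sup (hs.mem_toFinset.2 hξ))
    rw [htop] at hle
    have h' := hle.trans (iSup_le (fun y : ↥(closure R \ R) =>
      (WithBot.coe_le_coe.2 (hn y.1) : (height y.1 : WithBot ℕ∞) ≤ ((n : ℕ∞) : WithBot ℕ∞))))
    have h'' : (⊤ : ℕ∞) ≤ (n : ℕ∞) := WithBot.coe_le_coe.1 h'
    simp at h''

end Groth.Agent.GrpSch
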