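import Groth.Agent.Comod.GL
import Groth.Agent.Comod.Comatrix
import Groth.Prelude.Def_ComodSub
import Mathlib.RingTheory.Bialgebra.MonoidAlgebra
import Mathlib.RingTheory.Bialgebra.GroupLike

/-!
# Characters extending a power of a central character group
-/

set_option autoImplicit false

universe u w

open TensorProduct Groth.Agent.Comod

namespace Groth.Agent.GrpSch.CentralChar

variable {k A : Type u} [Field k] [CommRing A] [HopfAlgebra k A] {M : Type u} [CommGroup M]

/-- the coefficient functional of a basis element -/
noncomputable def coefFun (m : M) : MonoidAlgebra k M →ₗ[k] k where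
  toFun x := x.coeff m
  map_add' _ _ := rfl
  map_smul' _ _ := rfl

omit [CommGroup M] in
lemma coefFun_single [DecidableEq M] (m n : M) (c : k) :
    coefFun (k := k) m (MonoidAlgebra.single n c) = if n = m then c else 0 := by
  simp [coefFun, Finsupp.single_apply]

variable (π : A →ₐc[k] MonoidAlgebra k M)

/-- the projection to the part of weight `m` -/
noncomputable def wtFun (m : M) : A →ₗ[k] k := coefFun m ∘ₗ (π : A →ₗ[k] MonoidAlgebra k M)

lemma rid_map_coefFun (m : M) (b : MonoidAlgebra k M) :
    (TensorProduct.rid k (MonoidAlgebra k M)) ((coefFun m).lTensor (MonoidAlgebra k M) (Coalgebra.comul b)) =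
      coefFun m b • MonoidAlgebra.single m 1 := by
  classical
  induction b using MonoidAlgebra.induction_on with
  | of n =>
    simp only [MonoidAlgebra.of_apply]
    rw [(MonoidAlgebra.isGroupLikeElem_single_one n).comul_eq_tmul_self]
    simp only [LinearMap.lTensor_tmul, TensorProduct.rid_tmul, coefFun_single]
    split_ifs with h <;> simp [h]
  | add x y hx hy => simp only [map_add, add_smul, hx, hy]
  | smul c x hx => simp only [map_smul, smul_assoc, hx]

/-- on the part of weight `m` the coaction restricted to the central subgroup is `v ↦ v ⊗ m` -/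
lemma lTensor_comul_slR (m : M) (x : A) :
    (π : A →ₗ[k] MonoidAlgebra k M).lTensor A (Coalgebra.comul (slR (wtFun π m) (Coalgebra.comul (R := k) x))) =
      slR (wtFun π m) (Coalgebra.comul (R := k) x) ⊗ₜ MonoidAlgebra.single m 1 := by
  let Ψ : A ⊗[k] (A ⊗[k] A) →ₗ[k] A ⊗[k] MonoidAlgebra k M :=
    ((TensorProduct.rid k (MonoidAlgebra k M)).toLinearMap ∘ₗ
      TensorProduct.map (π : A →ₗ[k] MonoidAlgebra k M) (wtFun π m)).lTensor A
  have h1 : ∀ y : A ⊗[k] A, (π : A →ₗ[k] MonoidAlgebra k M).lTensor A (Coalgebra.comul (slR (wtFun π m) y)) =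
      Ψ (TensorProduct.assoc k A A A ((Coalgebra.comul (R := k)).rTensor A y)) := by
    intro y
    induction y with
    | zero => simp
    | tmul a b =>
      rw [slR_tmul, map_smul, map_smul, LinearMap.rTensor_tmul]
      generalize Coalgebra.comul (R := k) a = z
      induction z with
      | zero => simp
      | tmul p q => simp [Ψ, TensorProduct.tmul_smul]
      | add p q hp hq => simp only [map_add, smul_add, add_tmul, hp, hq]
    | add p q hp hq => simp only [map_add, hp, hq]
  have h2 : ∀ y : A ⊗[k] A, Ψ ((Coalgebra.comul (R := k)).lTensor A y) =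
      slR (wtFun π m) y ⊗ₜ MonoidAlgebra.single m 1 := by
    intro y
    induction y with
    | zero => simp
    | tmul a b =>
      rw [LinearMap.lTensor_tmul, slR_tmul, TensorProduct.smul_tmul]
      simp only [Ψ, LinearMap.lTensor_tmul, LinearMap.comp_apply, LinearEquiv.coe_coe]
      congr 1
      rw [show wtFun π m b = coefFun m (π b) from rfl, ← rid_map_coefFun]
      congr 1
      rw [show Coalgebra.comul (π b) = TensorProduct.map (π : A →ₗ[k] MonoidAlgebra k M) (π : A →ₗ[k] MonoidAlgebra k M) (Coalgebra.comul b) from (CoalgHomClass.map_comp_comul_apply π b).symm]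
      generalize Coalgebra.comul (R := k) b = z
      induction z with
      | zero => simp
      | tmul p q => simp [wtFun]
      | add p q hp hq => simp only [map_add, hp, hq]
    | add p q hp hq => simp only [map_add, add_tmul, hp, hq]
  rw [h1, Coalgebra.coassoc_apply, h2]

/-- the weight projection commutes with the regular coaction -/
lemma conv_wtFun_comm
    (hc : ∀ x : A, (π : A →ₗ[k] MonoidAlgebra k M).lTensor A (Coalgebra.comul x) =
      (π : A →ₗ[k] MonoidAlgebra k M).lTensor A (TensorProduct.comm k A A (Coalgebra.comul x)))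
    (m : M) (φ : A →ₗ[k] k) : conv φ (wtFun π m) = conv (wtFun π m) φ := by
  refine LinearMap.ext fun x => ?_
  let Φ : A ⊗[k] MonoidAlgebra k M →ₗ[k] k :=
    (TensorProduct.lid k k).toLinearMap ∘ₗ TensorProduct.map φ (coefFun m)
  have e1 : ∀ y : A ⊗[k] A, (TensorProduct.lid k k) (TensorProduct.map φ (wtFun π m) y) =
      Φ ((π : A →ₗ[k] MonoidAlgebra k M).lTensor A y) := by
    intro y
    induction y with
    | zero => simp
    | tmul a b => simp [Φ, wtFun]
    | add p q hp hq => simp only [map_add, hp, hq]
  have e2 : ∀ y : A ⊗[k] A, (TensorProduct.lid k k) (TensorProduct.map (wtFun π m) φ y) =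
      (TensorProduct.lid k k) (TensorProduct.map φ (wtFun π m) (TensorProduct.comm k A A y)) := by
    intro y
    induction y with
    | zero => simp
    | tmul a b => simp [mul_comm]
    | add p q hp hq => simp only [map_add, hp, hq]
  simp only [conv, LinearMap.comp_apply, LinearEquiv.coe_coe]
  rw [e2, e1, e1, hc]

/-- a central diagonalisable subgroup: some positive power of each of its characters extends -/
theorem exists_groupLike (hπ : Function.Surjective π)
    (hc : ∀ x : A, (π : A →ₗ[k] MonoidAlgebra k M).lTensor A (Coalgebra.comul x) =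
      (π : A →ₗ[k] MonoidAlgebra k M).lTensor A (TensorProduct.comm k A A (Coalgebra.comul x)))
    (m : M) : ∃ (g : GroupLike k A) (d : ℕ), 1 ≤ d ∧ π g.1 = MonoidAlgebra.single (m ^ d) 1 := by
  classical
  letI creg : HopfRep.Comod k A A := HopfRep.Comod.regular k A
  obtain ⟨a, ha⟩ := hπ (MonoidAlgebra.single m 1)
  let V := orbitSub k A (V := A) a
  haveI : Module.Finite k V := finite_orbitSub (k := k) (A := A) (V := A) a
  let P : A →ₗ[k] A := actL (A := A) (V := A) (wtFun π m)
  let W : Submodule k A := V.map P
  haveI : Module.Finite k W := Module.Finite.map V P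
  have hW : HopfRep.IsSubcomod (k := k) (A := A) W := isSubcomod_iff.2 fun φ x hx => by
    obtain ⟨v, hv, rfl⟩ := hx
    refine ⟨actL φ v, IsSubcomod.actL_mem (isSubcomod_orbitSub a) φ hv, ?_⟩
    rw [show P (actL φ v) = actL (wtFun π m) (actL φ v) from rfl, show P v = actL (wtFun π m) v from rfl,
      actL_actL, actL_actL, conv_wtFun_comm π hc]
  have hPa : π (P a) = MonoidAlgebra.single m 1 := by
    have key : ∀ y : A ⊗[k] A, π (slR (wtFun π m) y) = (TensorProduct.rid k (MonoidAlgebra k M))
        ((coefFun m).lTensor (MonoidAlgebra k M)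
          (TensorProduct.map (π : A →ₗ[k] MonoidAlgebra k M) (π : A →ₗ[k] MonoidAlgebra k M) y)) := by
      intro y
      induction y with
      | zero => simp
      | tmul p q => simp [wtFun]
      | add p q hp hq => simp only [map_add, hp, hq]
    change π (slR (wtFun π m) (Coalgebra.comul (R := k) a)) = _
    rw [key, show TensorProduct.map (π : A →ₗ[k] MonoidAlgebra k M) (π : A →ₗ[k] MonoidAlgebra k M)
      (Coalgebra.comul a) = Coalgebra.comul (π a) from CoalgHomClass.map_comp_comul_apply π a, ha,
      rid_map_coefFun, coefFun_single, if_pos rfl, one_smul]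
  have hne : 1 ≤ Module.finrank k W := by
    refine Nat.one_le_iff_ne_zero.2 fun h0 => ?_
    have hbot := Submodule.finrank_eq_zero.1 h0
    have : P a ∈ W := ⟨a, self_mem_orbitSub a, rfl⟩
    rw [hbot, Submodule.mem_bot] at this
    rw [this, map_zero] at hPa
    exact MonoidAlgebra.single_ne_zero.2 one_ne_zero hPa.symm
  let d := Module.finrank k W
  let b : Module.Basis (Fin d) k W := Module.finBasis k W
  letI cW : HopfRep.Comod k A W := ComodSub.Comod.restr creg W hW
  let C : Matrix (Fin d) (Fin d) A := matrixOf (A := A) b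
  have hC := isComatrix_matrixOf (A := A) b
  have hπC : ∀ w : W, (π : A →ₗ[k] MonoidAlgebra k M).lTensor W (cW.coact w) =
      w ⊗ₜ MonoidAlgebra.single m 1 := by
    intro w
    apply Module.Flat.rTensor_preserves_injective_linearMap (M := MonoidAlgebra k M) W.subtype W.injective_subtype
    rw [LinearMap.rTensor_tmul, ← LinearMap.comp_apply, LinearMap.rTensor_comp_lTensor,
      ← LinearMap.lTensor_comp_rTensor, LinearMap.comp_apply,
      show W.subtype.rTensor A (cW.coact w) = Coalgebra.comul (R := k) (w : A) from
        ComodSub.rTensor_subtype_restrCoact creg W hW w]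
    obtain ⟨v, -, hv⟩ := w.2
    rw [Submodule.subtype_apply, ← hv]
    exact lTensor_comul_slR π m v
  have hπC' : ∀ i j, π (C i j) = if i = j then MonoidAlgebra.single m 1 else 0 := by
    intro i j
    have key : ∀ z : W ⊗[k] A, π (slL (b.coord i) z) =
        slL (b.coord i) ((π : A →ₗ[k] MonoidAlgebra k M).lTensor W z) := by
      intro z
      induction z with
      | zero => simp
      | tmul p q => simp
      | add p q hp hq => simp only [map_add, hp, hq]
    change π (slL (b.coord i) (cW.coact (b j))) = _
    rw [key, hπC, slL_tmul, Module.Basis.coord_apply, b.repr_self, Finsupp.single_apply]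
    by_cases h : i = j
    · subst h; rw [if_pos rfl, if_pos rfl, one_smul]
    · rw [if_neg (Ne.symm h), if_neg h, zero_smul]
  let Θ := glHom C hC.comul_eq hC.counit_eq
  refine ⟨⟨Θ CoordGrp.GLn.det, IsGroupLikeElem.map Θ ⟨CoordGrp.GLn.counit_det, CoordGrp.GLn.comul_det⟩⟩, d, hne, ?_⟩
  change π (Θ CoordGrp.GLn.det) = _
  have hdet : Θ CoordGrp.GLn.det = C.det := by
    rw [CoordGrp.GLn.det_eq]
    refine ((Θ : CoordGrp.GLn d k →ₐ[k] A).map_det _).trans (congrArg Matrix.det (Matrix.ext fun i j => ?_))
    exact glHom_X C hC.comul_eq hC.counit_eq i j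
  rw [hdet]
  refine ((π : A →ₐ[k] MonoidAlgebra k M).map_det C).trans ?_
  have : (π : A →ₐ[k] MonoidAlgebra k M).mapMatrix C =
      Matrix.diagonal fun _ : Fin d => MonoidAlgebra.single m (1 : k) := by
    refine Matrix.ext fun i j => ?_
    simp only [AlgHom.mapMatrix_apply, Matrix.map_apply, Matrix.diagonal_apply]
    exact hπC' i j
  rw [this, Matrix.det_diagonal, Finset.prod_const, Finset.card_univ, Fintype.card_fin,
    MonoidAlgebra.single_pow, one_pow]

end Groth.Agent.GrpSch.CentralChar
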