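import Groth.Agent.CAlgReg.Basic
import Mathlib.RingTheory.Ideal.GoingDown
import Mathlib.RingTheory.Ideal.Height
import Mathlib.RingTheory.Ideal.KrullsHeightTheorem
import Mathlib.LinearAlgebra.TensorProduct.RightExactness
import Mathlib.RingTheory.RegularLocalRing.Defs
import Mathlib.RingTheory.TensorProduct.Free
import Mathlib.RingTheory.FiniteType

/-! Regularity at a rational point is stable under extension of the ground field. -/

set_option autoImplicit false

universe u

open TensorProduct IsLocalRing

namespace Groth.Agent.GrpSch

lemma height_le_height_of_hasGoingDown {R S : Type u} [CommRing R] [CommRing S] [Algebra R S]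
    [Algebra.HasGoingDown R S] (p : Ideal R) (P : Ideal S) [p.IsPrime] [P.IsPrime]
    [P.LiesOver p] : p.height ≤ P.height := by
  rw [(⟨p, ‹_›⟩ : PrimeSpectrum R).height_eq_orderHeight,
    (⟨P, ‹_›⟩ : PrimeSpectrum S).height_eq_orderHeight]
  refine Order.height_le fun l hl => ?_
  have : P.LiesOver l.last.asIdeal := by rw [hl]; exact ‹P.LiesOver p›
  obtain ⟨L, hlen, hlast, -⟩ := Ideal.exists_ltSeries_of_hasGoingDown l P
  rw [← hlen]
  exact Order.length_le_height hlast.le

theorem isDomain_baseChange_of_isRegular {k : Type u} [Field k] (R : Type u) [CommRing R]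
    [Algebra k R] [Algebra.FiniteType k R] (L : Type u) [Field L] [Algebra k L] (σ : R →ₐ[k] k)
    (M : Ideal (R ⊗[k] L)) [M.IsPrime]
    (hM : M = RingHom.ker (Algebra.TensorProduct.map σ (AlgHom.id k L)))
    [(RingHom.ker σ).IsPrime]
    [IsRegularLocalRing (Localization.AtPrime (RingHom.ker σ))] :
    IsDomain (Localization.AtPrime M) := by
  have hσ : Function.Surjective σ := fun c => ⟨algebraMap k R c, σ.commutes c⟩
  set m := RingHom.ker σ
  have hMm : M = m.map (Algebra.TensorProduct.includeLeft : R →ₐ[k] R ⊗[k] L) := by
    rw [hM, Algebra.TensorProduct.rTensor_ker σ hσ]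
  have hlo : M.LiesOver m := ⟨by
    apply le_antisymm
    · exact Ideal.map_le_iff_le_comap.1 (hMm.ge)
    · intro x hx
      have h : (x ⊗ₜ[k] (1 : L)) ∈ M := hx
      rw [hM, RingHom.mem_ker, Algebra.TensorProduct.map_tmul] at h
      have h' := congrArg (Algebra.TensorProduct.lid k L) h
      simp only [map_zero, Algebra.TensorProduct.lid_tmul, AlgHom.coe_id, id_eq,
        Algebra.smul_def, mul_one] at h'
      exact (algebraMap k L).injective (by rw [h', map_zero])⟩
  have : Algebra.FiniteType L (L ⊗[k] R) := inferInstance
  have : IsNoetherianRing (L ⊗[k] R) := Algebra.FiniteType.isNoetherianRing L _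
  have : IsNoetherianRing (R ⊗[k] L) :=
    isNoetherianRing_of_ringEquiv (L ⊗[k] R) (Algebra.TensorProduct.comm k L R).toRingEquiv
  have : Module.Flat R (R ⊗[k] L) := inferInstance
  have hdim : ringKrullDim (Localization.AtPrime m) ≤ ringKrullDim (Localization.AtPrime M) := by
    rw [IsLocalization.AtPrime.ringKrullDim_eq_height m,
      IsLocalization.AtPrime.ringKrullDim_eq_height M]
    exact WithBot.coe_le_coe.2 (height_le_height_of_hasGoingDown m M)
  let φ : Localization.AtPrime m →+* Localization.AtPrime M :=
    Localization.localRingHom m M (algebraMap R (R ⊗[k] L)) hlo.over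
  have hφ : maximalIdeal (Localization.AtPrime M) =
      (maximalIdeal (Localization.AtPrime m)).map φ := by
    rw [← Localization.AtPrime.map_eq_maximalIdeal, ← Localization.AtPrime.map_eq_maximalIdeal,
      Ideal.map_map]
    conv_lhs => arg 2; rw [hMm]
    refine Ideal.map_map _ _ |>.trans ?_
    congr 1
    ext x
    simp [φ, Localization.localRingHom_to_map]
  have hsr : (maximalIdeal (Localization.AtPrime M)).spanFinrank ≤
      (maximalIdeal (Localization.AtPrime m)).spanFinrank := by
    obtain hs := Submodule.FG.generators_ncard
      (p := maximalIdeal (Localization.AtPrime m)) (IsNoetherian.noetherian _)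
    set s := (maximalIdeal (Localization.AtPrime m)).generators
    have hspan : maximalIdeal (Localization.AtPrime M) = Ideal.span (φ '' s) := by
      rw [← Ideal.map_span, hφ]
      congr 1
      exact ((maximalIdeal (Localization.AtPrime m)).span_generators).symm
    rw [hspan, ← hs]
    have hfin : s.Finite := Submodule.FG.finite_generators (IsNoetherian.noetherian _)
    exact (Submodule.spanFinrank_span_le_ncard_of_finite (hfin.image φ)).trans
      (Set.ncard_image_le hfin)
  have : IsRegularLocalRing (Localization.AtPrime M) := by
    refine IsRegularLocalRing.of_spanFinrank_maximalIdeal_le _ ?_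
    refine le_trans ?_ hdim
    rw [← (isRegularLocalRing_iff (Localization.AtPrime m)).1 inferInstance]
    exact_mod_cast hsr
  exact CAlgReg.isDomain

end Groth.Agent.GrpSch
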