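import Groth.Agent.GrpSch.SmoothOne
import Groth.Agent.GrpSch.RegularBC
import Mathlib.AlgebraicGeometry.Pullbacks

/-! A group scheme which is regular at the identity is smooth. -/

set_option autoImplicit false
set_option backward.isDefEq.respectTransparency.types false

universe u

open CategoryTheory MonoidalCategory CartesianMonoidalCategory MonObj GrpObj Limits AlgebraicGeometry
open scoped TensorProduct

namespace Groth.Agent.GrpSch

variable {K : Type u} [Field K]

lemma isReduced_of_isReduced_stalk_ratPoint [IsAlgClosed K] (G : Over (Spec (CommRingCat.of K)))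
    [GrpObj G] [LocallyOfFiniteType G.hom] (g : 𝟙_ (Over (Spec (CommRingCat.of K))) ⟶ G)
    (h : _root_.IsReduced (G.left.presheaf.stalk (g.left (IsLocalRing.closedPoint K)))) :
    AlgebraicGeometry.IsReduced G.left := by
  refine isReduced_of_isReduced_stalk_one G ?_
  have : IsIso (translate g).hom.left :=
    inferInstanceAs (IsIso ((Over.forget _).map (translate g).hom))
  rw [← translate_one_apply g] at h
  exact isReduced_of_injective _
    (asIso ((translate g).hom.left.stalkMap
      (η[G].left (IsLocalRing.closedPoint K)))).symm.commRingCatIsoToRingEquiv.injective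

/-- A group scheme locally of finite type over a field whose local ring at the identity point is
regular is smooth. -/
theorem smooth_of_isRegular_one (G : Over (Spec (CommRingCat.of K))) [GrpObj G]
    [LocallyOfFiniteType G.hom]
    (hreg : IsRegularLocalRing (G.left.presheaf.stalk (η[G].left (IsLocalRing.closedPoint K)))) :
    Smooth G.hom := by
  refine smooth_of_smooth_geomFibre G ?_
  set e₀ := η[G].left (IsLocalRing.closedPoint K)
  obtain ⟨V, hV, heV, -⟩ := G.left.isBasis_affineOpens.exists_subset_of_mem_open
    (Set.mem_univ e₀) isOpen_univ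
  obtain ⟨U, hU, rfl⟩ := hV
  let R := Γ(G.left, U)
  let L := AlgebraicClosure K
  obtain ⟨φ, hφ⟩ := Spec.map_surjective (hU.fromSpec ≫ G.hom)
  let _ : Algebra K R := φ.hom.toAlgebra
  have hφ' : Spec.map (CommRingCat.ofHom (algebraMap K R)) = hU.fromSpec ≫ G.hom := hφ
  have hlft : LocallyOfFiniteType (Spec.map φ) := by rw [hφ]; infer_instance
  have : Algebra.FiniteType K R :=
    (HasRingHomProperty.Spec_iff (P := @LocallyOfFiniteType)).1 hlft
  obtain ⟨ψ, hψ⟩ := Spec.map_surjective (IsOpenImmersion.lift hU.fromSpec η[G].left (by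
    rw [hU.range_fromSpec]
    rintro - ⟨p, rfl⟩
    rw [Subsingleton.elim (α := PrimeSpectrum K) p (IsLocalRing.closedPoint K)]
    exact heV))
  have hψη : Spec.map ψ ≫ hU.fromSpec = η[G].left := by rw [hψ]; exact IsOpenImmersion.lift_fac _ _ _
  have hcomp : φ ≫ ψ = 𝟙 _ := Spec.map_injective (by
    rw [Spec.map_comp, hφ, ← Category.assoc, hψη, Spec.map_id]
    exact Over.w η[G])
  let σ : R →ₐ[K] K := { ψ.hom with
    commutes' := fun c => congrArg (fun t : CommRingCat.of K ⟶ CommRingCat.of K => t.hom c) hcomp }
  have : (RingHom.ker σ).IsPrime := RingHom.ker_isPrime _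
  -- the local ring at the identity
  let x₀ : Spec R := (Spec.map ψ) (IsLocalRing.closedPoint K)
  have hx₀ : x₀.asIdeal = RingHom.ker σ := by
    change (IsLocalRing.maximalIdeal K).comap ψ.hom = _
    rw [IsLocalRing.maximalIdeal_eq_bot]
    rfl
  have hx₀e : hU.fromSpec x₀ = e₀ := by
    rw [← Scheme.Hom.comp_apply, hψη]
  have hreg' : IsRegularLocalRing (Localization.AtPrime (RingHom.ker σ)) := by
    rw [← hx₀e] at hreg
    have h1 := IsRegularLocalRing.of_ringEquiv
      (asIso (hU.fromSpec.stalkMap x₀)).commRingCatIsoToRingEquiv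
    let _ : Algebra R ((Spec R).presheaf.stalk x₀) := StructureSheaf.stalkAlgebra R x₀
    have : IsLocalization.AtPrime ((Spec R).presheaf.stalk x₀) x₀.asIdeal :=
      StructureSheaf.IsLocalization.to_stalk R x₀
    have : IsLocalization.AtPrime ((Spec R).presheaf.stalk x₀) (RingHom.ker σ) := by
      simpa only [hx₀] using this
    exact IsRegularLocalRing.of_ringEquiv
      (IsLocalization.algEquiv (RingHom.ker σ).primeCompl ((Spec R).presheaf.stalk x₀)
        (Localization.AtPrime (RingHom.ker σ))).toRingEquiv
  -- the point above it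
  let τ : R ⊗[K] L →ₐ[K] L :=
    (Algebra.TensorProduct.lid K L).toAlgHom.comp (Algebra.TensorProduct.map σ (AlgHom.id K L))
  have hker : RingHom.ker τ = RingHom.ker (Algebra.TensorProduct.map σ (AlgHom.id K L)) := by
    ext z
    simp [τ, RingHom.mem_ker]
  let M : Ideal (R ⊗[K] L) := RingHom.ker τ
  have : M.IsPrime := RingHom.ker_isPrime _
  have hdom := isDomain_baseChange_of_isRegular R L σ M hker
  set f := Spec.map (CommRingCat.ofHom (algebraMap K L))
  let j : pullback (Spec.map (CommRingCat.ofHom (algebraMap K R))) f ⟶ (geomFibre G).left :=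
    pullback.map _ _ _ _ hU.fromSpec (𝟙 _) (𝟙 _)
      (by rw [Category.comp_id]; exact hφ') (by simp [f, L])
  have : IsOpenImmersion j :=
    MorphismProperty.pullbackMap (P := @IsOpenImmersion) (by infer_instance) (by infer_instance)
      hφ' (Category.id_comp f).symm
  let q : Spec (CommRingCat.of L) ⟶ (geomFibre G).left :=
    Spec.map (CommRingCat.ofHom τ.toRingHom) ≫ (pullbackSpecIso K R L).inv ≫ j
  have hq : q ≫ (geomFibre G).hom = 𝟙 _ := by
    simp only [q, Category.assoc, geomFibre, Over.mk_hom, j]
    rw [pullback.lift_snd, Category.comp_id, pullbackSpecIso_inv_snd, ← Spec.map_comp, ← Spec.map_id]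
    congr 1
    ext c
    simp [τ]
  let g : 𝟙_ (Over (Spec (CommRingCat.of L))) ⟶ geomFibre G := Over.homMk q hq
  let w : Spec (CommRingCat.of (R ⊗[K] L)) :=
    (Spec.map (CommRingCat.ofHom τ.toRingHom)) (IsLocalRing.closedPoint L)
  have hw : w.asIdeal = M := by
    change (IsLocalRing.maximalIdeal L).comap τ.toRingHom = _
    rw [IsLocalRing.maximalIdeal_eq_bot]
    rfl
  let c := (pullbackSpecIso K R L).inv ≫ j
  have hred : _root_.IsReduced ((geomFibre G).left.presheaf.stalk (c w)) := by
    let _ : Algebra (R ⊗[K] L) ((Spec (CommRingCat.of (R ⊗[K] L))).presheaf.stalk w) :=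
      StructureSheaf.stalkAlgebra _ w
    have : IsLocalization.AtPrime ((Spec (CommRingCat.of (R ⊗[K] L))).presheaf.stalk w) w.asIdeal :=
      StructureSheaf.IsLocalization.to_stalk _ w
    have : IsLocalization.AtPrime ((Spec (CommRingCat.of (R ⊗[K] L))).presheaf.stalk w) M := by
      simpa only [hw] using this
    have h2 : _root_.IsReduced ((Spec (CommRingCat.of (R ⊗[K] L))).presheaf.stalk w) :=
      isReduced_of_injective _ (IsLocalization.algEquiv M.primeCompl
        ((Spec (CommRingCat.of (R ⊗[K] L))).presheaf.stalk w)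
        (Localization.AtPrime M)).toRingEquiv.injective
    exact isReduced_of_injective _ (asIso (c.stalkMap w)).commRingCatIsoToRingEquiv.injective
  have := isReduced_of_isReduced_stalk_ratPoint (geomFibre G) g hred
  exact smooth_of_perfectField (geomFibre G)

end Groth.Agent.GrpSch
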