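import Groth.Agent.GrpSch.SmoothPt
import Groth.Agent.GrpSch.SmoothRegular
import Groth.Agent.GrpSch.OrbitRat
import Groth.Agent.GrpSch.FlatHom
import Groth.Agent.FpqcDescent.Flat
import Mathlib.AlgebraicGeometry.Morphisms.FlatDescent
import Mathlib.AlgebraicGeometry.Morphisms.LocalFlatDescent

/-! Smooth group schemes are reduced; bijective monomorphisms onto them are isomorphisms. -/

set_option autoImplicit false
set_option backward.isDefEq.respectTransparency.types false

universe u

open CategoryTheory MonoidalCategory CartesianMonoidalCategory MonObj GrpObj Limits AlgebraicGeometry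

namespace Groth.Agent.GrpSch

variable {K : Type u} [Field K]

lemma isReduced_geomFibre_of_smooth (G : Over (Spec (CommRingCat.of K))) [GrpObj G]
    [Smooth G.hom] : AlgebraicGeometry.IsReduced (geomFibre G).left := by
  have : Smooth (geomFibre G).hom := MorphismProperty.pullback_snd _ _ ‹Smooth G.hom›
  refine isReduced_of_isReduced_stalk_one (geomFibre G) ?_
  have := isRegularLocalRing_of_smooth_ratPoint (geomFibre G).hom η[geomFibre G].left
    (Over.w η[geomFibre G])
  have : IsDomain ((geomFibre G).left.presheaf.stalk
      (η[geomFibre G].left (IsLocalRing.closedPoint (AlgebraicClosure K)))) := CAlgReg.isDomain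
  infer_instance

lemma flat_surjective_geomFibre_fst (G : Over (Spec (CommRingCat.of K))) :
    Flat (pullback.fst G.hom (Spec.map (CommRingCat.ofHom (algebraMap K (AlgebraicClosure K))))) ∧
    Surjective
      (pullback.fst G.hom (Spec.map (CommRingCat.ofHom (algebraMap K (AlgebraicClosure K))))) := by
  have : Surjective (Spec.map (CommRingCat.ofHom (algebraMap K (AlgebraicClosure K)))) :=
    ⟨Function.surjective_to_subsingleton (α := PrimeSpectrum (AlgebraicClosure K))
      (β := PrimeSpectrum K) _⟩
  exact ⟨inferInstance, inferInstance⟩

/-- A smooth group scheme over a field is reduced. -/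
theorem isReduced_of_smooth (G : Over (Spec (CommRingCat.of K))) [GrpObj G] [Smooth G.hom] :
    AlgebraicGeometry.IsReduced G.left := by
  have := isReduced_geomFibre_of_smooth G
  obtain ⟨h₁, h₂⟩ := flat_surjective_geomFibre_fst G
  exact @FpqcDescent.isReduced_of_flat_surjective _ _ _ h₁ h₂ this

/-- A flat surjective quasi-compact monomorphism is an isomorphism. -/
theorem isIso_of_mono_flat_surjective {X Y : Scheme.{u}} (f : X ⟶ Y) [Mono f] [Flat f]
    [Surjective f] [QuasiCompact f] : IsIso f :=
  MorphismProperty.of_isPullback_of_descendsAlong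
    (P := MorphismProperty.isomorphisms Scheme.{u}) (Q := @Surjective ⊓ @Flat ⊓ @QuasiCompact)
    (IsKernelPair.id_of_mono f) ⟨⟨inferInstance, inferInstance⟩, inferInstance⟩
    (inferInstanceAs (IsIso (𝟙 X)))

/-- A surjective monomorphic homomorphism of smooth group schemes of finite type is an
isomorphism. -/
theorem isIso_of_mono_surjective {G H : Over (Spec (CommRingCat.of K))} [GrpObj G] [GrpObj H]
    [QuasiCompact G.hom] [LocallyOfFiniteType H.hom] [AlgebraicGeometry.IsReduced H.left]
    (f : G ⟶ H) [IsMonHom f] [Mono f] [Surjective f.left] : IsIso f := by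
  have := flat_hom_of_isReduced f
  have := quasiCompact_left f
  have : Mono f.left := inferInstanceAs (Mono ((Over.forget _).map f))
  have : IsIso ((Over.forget _).map f) := isIso_of_mono_flat_surjective f.left
  exact isIso_of_reflects_iso f (Over.forget _)

end Groth.Agent.GrpSch
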