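import Groth.Agent.GrpSch.FlatHom
import Groth.Agent.GrpSch.OverBase
import Groth.Agent.GrpSch.SmoothRed
import Groth.Prelude.Def_AlgGrp

/-!
# Surjectivity from points; quotients by open kernels are étale
-/

set_option autoImplicit false

universe u

open CategoryTheory MonoidalCategory CartesianMonoidalCategory MonObj GrpObj Limits AlgebraicGeometry Topology

namespace Groth.Agent.GrpSch.CompGroup

/-- around every point of the closure of a point, a constructible set is all or nothing -/
lemma exists_open_of_isConstructible {X : Type u} [TopologicalSpace X] {s : Set X}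
    (hs : IsConstructible s) (c : X) :
    ∃ O : Set X, IsOpen O ∧ c ∈ O ∧ (O ∩ closure {c} ⊆ s ∨ O ∩ closure {c} ⊆ sᶜ) := by
  induction hs using IsConstructible.empty_union_induction with
  | open_retrocompact U hU _ =>
    by_cases hc : c ∈ U
    · exact ⟨U, hU, hc, Or.inl Set.inter_subset_left⟩
    · exact ⟨Set.univ, isOpen_univ, Set.mem_univ c, Or.inr (Set.inter_subset_right.trans
        (hU.isClosed_compl.closure_subset_iff.mpr (Set.singleton_subset_iff.mpr hc)))⟩
  | union s _ t _ ihs iht =>
    obtain ⟨O, hO, hcO, hs⟩ := ihs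
    obtain ⟨O', hO', hcO', ht⟩ := iht
    refine ⟨O ∩ O', hO.inter hO', ⟨hcO, hcO'⟩, ?_⟩
    rcases hs with hs | hs
    · exact Or.inl fun z hz => Or.inl (hs ⟨hz.1.1, hz.2⟩)
    rcases ht with ht | ht
    · exact Or.inl fun z hz => Or.inr (ht ⟨hz.1.2, hz.2⟩)
    · exact Or.inr fun z hz h => h.elim (hs ⟨hz.1.1, hz.2⟩) (ht ⟨hz.1.2, hz.2⟩)
  | compl s _ ih =>
    obtain ⟨O, hO, hcO, hs⟩ := ih
    exact ⟨O, hO, hcO, hs.symm.imp id (by rw [compl_compl]; exact id)⟩

/-- a morphism whose image contains the images of all points in an algebraically closed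
extension is surjective -/
theorem surjective_of_points (k K : Type u) [Field k] [Field K] [Algebra k K] [IsAlgClosed K]
    {X Y : Over (Spec (CommRingCat.of k))} [LocallyOfFiniteType X.hom] [QuasiCompact X.hom]
    [LocallyOfFiniteType Y.hom] [QuasiCompact Y.hom] (f : X ⟶ Y)
    (h : ∀ y : Over.mk (Spec.map (CommRingCat.ofHom (algebraMap k K))) ⟶ Y,
      y.left (IsLocalRing.closedPoint K) ∈ Set.range f.left) : Surjective f.left := by
  haveI : LocallyOfFiniteType f.left := by
    haveI : LocallyOfFiniteType (f.left ≫ Y.hom) := by rw [Over.w f]; infer_instance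
    exact locallyOfFiniteType_of_comp f.left Y.hom
  haveI : CompactSpace X.left := QuasiCompact.compactSpace_of_compactSpace X.hom
  haveI : CompactSpace Y.left := QuasiCompact.compactSpace_of_compactSpace Y.hom
  haveI : IsLocallyNoetherian Y.left := LocallyOfFiniteType.isLocallyNoetherian Y.hom
  haveI : IsNoetherian Y.left := ⟨⟩
  haveI : IsLocallyNoetherian X.left := LocallyOfFiniteType.isLocallyNoetherian X.hom
  haveI : IsNoetherian X.left := ⟨⟩
  haveI : LocallyOfFinitePresentation f.left := inferInstance
  haveI : QuasiCompact f.left := inferInstance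
  have hC : IsConstructible (Set.range f.left)ᶜ := by
    rw [← Set.image_univ]
    exact (Scheme.Hom.isConstructible_image f.left
      (IsRetrocompact.univ.isConstructible isOpen_univ)).compl
  refine ⟨fun c => ?_⟩
  by_contra hc
  obtain ⟨O, hO, hcO, hOC | hOC⟩ := exists_open_of_isConstructible hC c
  swap
  · exact hOC ⟨hcO, subset_closure rfl⟩ hc
  let sK := Spec.map (CommRingCat.ofHom (algebraMap k K))
  haveI : Surjective sK := ⟨fun x => ⟨Classical.arbitrary _, Subsingleton.elim _ _⟩⟩
  haveI : Surjective (pullback.fst Y.hom sK) := MorphismProperty.pullback_fst _ _ ‹_›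
  haveI : LocallyOfFiniteType (pullback.snd Y.hom sK) := MorphismProperty.pullback_snd _ _ ‹_›
  haveI : JacobsonSpace (pullback Y.hom sK :) :=
    LocallyOfFiniteType.jacobsonSpace (pullback.snd Y.hom sK)
  obtain ⟨w, hw⟩ := (pullback.fst Y.hom sK).surjective c
  obtain ⟨q, hqU, hq⟩ := nonempty_inter_closedPoints (X := (pullback Y.hom sK :))
    (Z := (pullback.fst Y.hom sK) ⁻¹' (O ∩ closure {c}))
    ⟨w, by rw [Set.mem_preimage, hw]; exact ⟨hcO, subset_closure rfl⟩⟩
    ((hO.isLocallyClosed.inter isClosed_closure.isLocallyClosed).preimage (pullback.fst Y.hom sK).continuous)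
  let p := pointOfClosedPoint (pullback.snd Y.hom sK) q hq
  have := h (Over.homMk (p ≫ pullback.fst Y.hom sK) (by
      rw [Category.assoc, pullback.condition, ← Category.assoc, pointOfClosedPoint_comp]
      exact Category.id_comp _))
  refine hOC hqU ?_
  change (p ≫ pullback.fst Y.hom sK) (IsLocalRing.closedPoint K) ∈ _ at this
  rwa [Scheme.Hom.comp_apply, pointOfClosedPoint_apply] at this

/-- points in an algebraically closed extension lift along surjections -/
theorem exists_lift_point (k K : Type u) [Field k] [Field K] [Algebra k K] [IsAlgClosed K]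
    {X Y : Over (Spec (CommRingCat.of k))} [LocallyOfFiniteType X.hom] (f : X ⟶ Y) [Surjective f.left]
    (y : Over.mk (Spec.map (CommRingCat.ofHom (algebraMap k K))) ⟶ Y) :
    ∃ x : Over.mk (Spec.map (CommRingCat.ofHom (algebraMap k K))) ⟶ X, x ≫ f = y := by
  haveI : LocallyOfFiniteType f.left := by
    haveI : LocallyOfFiniteType (f.left ≫ Y.hom) := by rw [Over.w f]; infer_instance
    exact locallyOfFiniteType_of_comp f.left Y.hom
  let g : Spec (CommRingCat.of K) ⟶ Y.left := y.left
  haveI : LocallyOfFiniteType (pullback.snd f.left g) := MorphismProperty.pullback_snd _ _ ‹_›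
  haveI : Surjective (pullback.snd f.left g) := MorphismProperty.pullback_snd _ _ ‹_›
  haveI : JacobsonSpace (pullback f.left g :) :=
    LocallyOfFiniteType.jacobsonSpace (pullback.snd f.left g)
  obtain ⟨w, -⟩ := (pullback.snd f.left g).surjective (IsLocalRing.closedPoint K)
  obtain ⟨q, -, hq⟩ := nonempty_inter_closedPoints (X := (pullback f.left g :)) (Z := Set.univ)
    ⟨w, trivial⟩ isOpen_univ.isLocallyClosed
  let p := pointOfClosedPoint (pullback.snd f.left g) q hq
  have hp : (p ≫ pullback.fst f.left g) ≫ f.left = g := by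
    rw [Category.assoc, pullback.condition, ← Category.assoc, pointOfClosedPoint_comp]
    exact Category.id_comp _
  refine ⟨Over.homMk (p ≫ pullback.fst f.left g) ?_, Over.OverMorphism.ext hp⟩
  rw [← Over.w f, ← Category.assoc, hp]
  exact Over.w y

/-- the quotient by an open kernel is étale -/
theorem etale_of_open_kernel {k : Type u} [Field k] {G N P : Over (Spec (CommRingCat.of k))}
    [GrpObj N] [GrpObj P] [LocallyOfFiniteType P.hom] (i : N ⟶ G) [IsOpenImmersion i.left]
    (q : G ⟶ P) [Flat q.left] (hq : AlgGrp.IsKernel i q) : Etale P.hom := by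
  have hfac : i.left ≫ q.left = (toUnit N).left ≫ η[P].left :=
    congrArg (fun m => m.left) hq.w
  haveI : Flat ((toUnit N).left ≫ η[P].left) := by rw [← hfac]; infer_instance
  haveI : Flat (toUnit N).left := by
    haveI : Subsingleton ↥(𝟙_ (Over (Spec (CommRingCat.of k)))).left := inferInstanceAs (Subsingleton ↥(Spec (CommRingCat.of k)))
    haveI : AlgebraicGeometry.IsIntegral (𝟙_ (Over (Spec (CommRingCat.of k)))).left := inferInstanceAs (AlgebraicGeometry.IsIntegral (Spec (CommRingCat.of k)))
    infer_instance
  haveI : Flat η[P].left := (Flat.iff_flat_stalkMap _).mpr fun x => by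
    let pt : N.left := η[N].left x
    have hx : (toUnit N).left pt = x :=
      Subsingleton.elim (α := ↥(Spec (CommRingCat.of k))) _ _
    rw [← hx]
    exact flat_stalkMap_of_comp _ _ pt (Flat.stalkMap _ _) (Flat.stalkMap _ _)
  haveI : Mono (𝟙_ (Over (Spec (CommRingCat.of k)))).hom := inferInstanceAs (Mono (𝟙 _))
  haveI : Mono η[P].left := mono_of_mono_fac (show η[P].left ≫ P.hom = (𝟙_ (Over (Spec (CommRingCat.of k)))).hom from Over.w _)
  haveI : LocallyOfFinitePresentation η[P].left := by
    haveI : IsLocallyNoetherian P.left := LocallyOfFiniteType.isLocallyNoetherian P.hom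
    haveI : LocallyOfFiniteType (η[P].left ≫ P.hom) := by rw [Over.w]; exact inferInstanceAs (LocallyOfFiniteType (𝟙 _))
    haveI : LocallyOfFiniteType η[P].left := locallyOfFiniteType_of_comp η[P].left P.hom
    infer_instance
  have h1 : IsOpenImmersion η[P].left := IsOpenImmersion.of_flat_of_mono η[P].left
  have h2 : IsOpenImmersion (pullback.diagonal P.hom) :=
    property_diagonal_of_one (P := @IsOpenImmersion) P h1
  haveI : FormallyUnramified P.hom := inferInstance
  haveI : LocallyOfFinitePresentation P.hom := inferInstance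
  exact Etale.of_formallyUnramified_of_flat P.hom

end Groth.Agent.GrpSch.CompGroup
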