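import Groth.Agent.GrpSch.OrbitRat
import Groth.Agent.GrpSch.Neutral
import Groth.Agent.ConstrSets.Basic
import Groth.Agent.FlatMorLib.MaxPoints

/-!
# A group with connected stabilizer acting transitively on a connected scheme is connected
-/

set_option autoImplicit false
set_option backward.isDefEq.respectTransparency.types false

universe u

open CategoryTheory MonoidalCategory CartesianMonoidalCategory MonObj GrpObj Limits AlgebraicGeometry Topology

namespace Groth.Agent.GrpSch.ConnStab

variable {K : Type u} [Field K] [IsAlgClosed K] {G X H : Over (Spec (CommRingCat.of K))} [GrpObj G]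

local notation "pt" => IsLocalRing.closedPoint K

omit [IsAlgClosed K] in
theorem isIso_act_point (a : AlgGrp.Action G X) (g : 𝟙_ (Over (Spec (CommRingCat.of K))) ⟶ G) :
    IsIso (lift (toUnit X ≫ g) (𝟙 X) ≫ a.act).left := by
  have key : ∀ b c : 𝟙_ (Over (Spec (CommRingCat.of K))) ⟶ G, c * b = 1 →
      (lift (toUnit X ≫ b) (𝟙 X) ≫ a.act) ≫ (lift (toUnit X ≫ c) (𝟙 X) ≫ a.act) = 𝟙 X := by
    intro b c h
    simp only [Category.assoc, comp_lift_assoc, comp_toUnit_assoc, Category.comp_id]
    rw [← act_mul, ← MonObj.comp_mul, h, MonObj.comp_one, act_one]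
  let e : X ≅ X := ⟨_, _, key g g⁻¹ (inv_mul_cancel g), key g⁻¹ g (mul_inv_cancel g)⟩
  exact ((Over.forget _).mapIso e).isIso_hom

theorem connectedSpace [LocallyOfFiniteType G.hom] [QuasiCompact G.hom] [LocallyOfFiniteType X.hom]
    [ConnectedSpace X.left] (a : AlgGrp.Action G X) (x₀ : 𝟙_ (Over (Spec (CommRingCat.of K))) ⟶ X)
    (hsurj : Surjective (a.orbitMap x₀).left) [GrpObj H] (i : H ⟶ G) [IsMonHom i]
    (hH : ∀ g : 𝟙_ (Over (Spec (CommRingCat.of K))) ⟶ G,
      g ≫ a.orbitMap x₀ = x₀ → ∃ h : 𝟙_ (Over (Spec (CommRingCat.of K))) ⟶ H, h ≫ i = g)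
    [ConnectedSpace H.left] : ConnectedSpace G.left := by
  classical
  haveI : IsLocallyNoetherian G.left := LocallyOfFiniteType.isLocallyNoetherian G.hom
  haveI : IsLocallyNoetherian X.left := LocallyOfFiniteType.isLocallyNoetherian X.hom
  haveI : CompactSpace G.left := QuasiCompact.compactSpace_of_compactSpace G.hom
  haveI : JacobsonSpace X.left := LocallyOfFiniteType.jacobsonSpace X.hom
  haveI : JacobsonSpace G.left := LocallyOfFiniteType.jacobsonSpace G.hom
  haveI : QuasiCompact (a.orbitMap x₀).left := quasiCompact_left _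
  haveI : CompactSpace X.left := hsurj.surj.compactSpace (a.orbitMap x₀).left.continuous
  haveI : IsNoetherian X.left := {}
  haveI : IsNoetherian G.left := {}
  haveI : LocallyOfFiniteType (a.orbitMap x₀).left := by
    haveI : LocallyOfFiniteType ((a.orbitMap x₀).left ≫ X.hom) := by rw [Over.w]; infer_instance
    exact locallyOfFiniteType_of_comp (a.orbitMap x₀).left X.hom
  let φ := (a.orbitMap x₀).left
  let C := connectedComponent (η[G].left pt)
  have hCo : ∀ z : G.left, IsOpen (connectedComponent z) := fun z => by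
    rw [connectedComponent_eq G z]; exact isOpen_irreducibleComponent G z
  -- left translations
  let L : (𝟙_ (Over (Spec (CommRingCat.of K))) ⟶ G) → (G ⟶ G) := fun g => (toUnit G ≫ g) * 𝟙 G
  have hLC : ∀ g, (L g).left '' C = connectedComponent (g.left pt) := by
    intro g
    haveI : IsIso (translate g).hom.left := inferInstanceAs (IsIso ((Over.forget _).map (translate g).hom))
    rw [← translate_one_apply g]
    refine Set.Subset.antisymm ((translate g).hom.left.continuous.image_connectedComponent_subset _) fun y hy => ?_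
    have h1 := (translate g).hom.left.homeomorph.symm.continuous.image_connectedComponent_subset _ (Set.mem_image_of_mem _ hy)
    rw [show (translate g).hom.left (η[G].left pt) = (translate g).hom.left.homeomorph (η[G].left pt) from rfl,
      Homeomorph.symm_apply_apply] at h1
    exact ⟨_, h1, (translate g).hom.left.homeomorph.apply_symm_apply y⟩
  have hu : toUnit (𝟙_ (Over (Spec (CommRingCat.of K)))) = 𝟙 _ := toUnit_unique _ _
  have hLapp : ∀ g h : 𝟙_ (Over (Spec (CommRingCat.of K))) ⟶ G, (L g).left (h.left pt) = (g * h).left pt := fun g h => by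
    rw [← comp_left_apply]
    simp only [L, MonObj.comp_mul, ← Category.assoc, comp_toUnit, Category.comp_id, hu, Category.id_comp]
  have hC1 : η[G].left pt ∈ C := mem_connectedComponent
  have hCmul : ∀ g h : 𝟙_ (Over (Spec (CommRingCat.of K))) ⟶ G, g.left pt ∈ C → h.left pt ∈ C → (g * h).left pt ∈ C := fun g h hg hh => by
    rw [← hLapp]
    have := Set.mem_image_of_mem (L g).left hh
    rw [hLC, connectedComponent_eq_iff_mem.2 hg] at this
    exact this
  have hCinv : ∀ g : 𝟙_ (Over (Spec (CommRingCat.of K))) ⟶ G, g.left pt ∈ C → (g⁻¹).left pt ∈ C := fun g hg => by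
    obtain ⟨z, hz, he⟩ : η[G].left pt ∈ (L g).left '' C := by
      rw [hLC, connectedComponent_eq_iff_mem.2 hg]; exact hC1
    haveI : IsIso (translate g).hom.left := inferInstanceAs (IsIso ((Over.forget _).map (translate g).hom))
    have : z = (g⁻¹).left pt := (translate g).hom.left.homeomorph.injective (by
      change (L g).left z = (L g).left ((g⁻¹).left pt)
      rw [hLapp, mul_inv_cancel, ← eq_one_unit]; exact he)
    exact this ▸ hz
  -- translations of `X`
  let T : (𝟙_ (Over (Spec (CommRingCat.of K))) ⟶ G) → (X ⟶ X) := fun g => lift (toUnit X ≫ g) (𝟙 X) ≫ a.act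
  have hTφ : ∀ g z, φ ((L g).left z) = (T g).left (φ z) := fun g z => by
    change (L g ≫ a.orbitMap x₀).left z = (a.orbitMap x₀ ≫ T g).left z
    congr 2
    rw [mul_orbitMap, Category.id_comp]
    simp only [T, comp_lift_assoc, comp_toUnit_assoc, Category.comp_id]
  -- rational points of components and their images
  have hpt : ∀ (Z : Set G.left), IsLocallyClosed Z → Z.Nonempty →
      ∃ g : 𝟙_ (Over (Spec (CommRingCat.of K))) ⟶ G, g.left pt ∈ Z := fun Z hZ hne => by
    obtain ⟨z, hz, hzc⟩ := nonempty_inter_closedPoints (X := G.left) hne hZ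
    obtain ⟨g, rfl⟩ := exists_ratPoint G hzc
    exact ⟨g, hz⟩
  have hφeq : ∀ g g' : 𝟙_ (Over (Spec (CommRingCat.of K))) ⟶ G, φ (g.left pt) = φ (g'.left pt) →
      g ≫ a.orbitMap x₀ = g' ≫ a.orbitMap x₀ := fun g g' e =>
    Over.OverMorphism.ext (ext_of_apply_closedPoint_eq X.hom (Over.w _) (Over.w _) e)
  have hstab : ∀ g g' : 𝟙_ (Over (Spec (CommRingCat.of K))) ⟶ G, g'.left pt ∈ C →
      φ (g.left pt) = φ (g'.left pt) → g.left pt ∈ C := by
    intro g g' hg' e
    obtain ⟨h, hh⟩ := hH (g'⁻¹ * g) (by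
      rw [mul_orbitMap, hφeq g g' e, ← mul_orbitMap, inv_mul_cancel, comp_orbitMap, act_one, hu,
        Category.id_comp])
    have h1 : (g'⁻¹ * g).left pt ∈ C := by
      rw [← hh]
      refine (isPreconnected_range i.left.continuous).subset_connectedComponent ⟨η[H].left pt, ?_⟩ ⟨h.left pt, rfl⟩
      rw [← comp_left_apply, IsMonHom.one_hom]
    have := hCmul _ _ hg' h1
    rwa [mul_inv_cancel_left] at this
  let R := φ '' C
  have hRTg : ∀ g, (T g).left '' R = φ '' connectedComponent (g.left pt) := fun g => by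
    rw [← hLC, Set.image_image, Set.image_image]
    exact Set.image_congr fun z _ => (hTφ g z).symm
  -- the interior of `R` is nonempty
  haveI : Nonempty X.left := inferInstance
  obtain ⟨ξ, -, hξ⟩ := FlatMorLib.exists_maximal_generization (Classical.arbitrary X.left)
  obtain ⟨z₀, hz₀⟩ := φ.surjective ξ
  obtain ⟨g₁, hg₁⟩ := hpt _ (hCo z₀).isLocallyClosed ⟨z₀, mem_connectedComponent⟩
  haveI : IsIso (T g₁).left := isIso_act_point a g₁
  have hint : (interior R).Nonempty := by
    have hc : ξ ∈ interior (φ '' connectedComponent (g₁.left pt)) := by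
      rw [connectedComponent_eq_iff_mem.2 hg₁]
      refine mem_interior_iff_mem_nhds.2 (ConstrSets.mem_nhds_of_forall fun Y hY hYi hxY => ?_)
      have hgen := hYi.isGenericPoint_genericPoint hY
      refine ConstrSets.exists_open_of_dense' (φ.isConstructible_image (ConstrSets.isConstructible_of_isOpen (hCo z₀)))
        hYi (hgen.symm.le.trans (closure_mono (Set.singleton_subset_iff.2 ⟨?_, hgen.mem⟩)))
      rw [hξ _ (hgen.specializes hxY), ← hz₀]
      exact ⟨z₀, mem_connectedComponent, rfl⟩
    rw [← hRTg g₁] at hc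
    have h3 := (T g₁).left.homeomorph.image_interior R
    rw [show ⇑(T g₁).left.homeomorph = ⇑(T g₁).left from rfl] at h3
    rw [← h3] at hc
    obtain ⟨w, hw, -⟩ := hc
    exact ⟨w, hw⟩
  -- `R` is open
  have hRopen : IsOpen R := by
    rw [← subset_interior_iff_isOpen]
    obtain ⟨h₁, hh₁⟩ := hpt (C ∩ φ ⁻¹' interior R)
      ((hCo _).inter (isOpen_interior.preimage φ.continuous)).isLocallyClosed (by
        obtain ⟨w, hw⟩ := hint
        obtain ⟨z, hz, rfl⟩ := interior_subset hw
        exact ⟨z, hz, hw⟩)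
    rintro _ ⟨z, hz, rfl⟩
    by_contra hni
    obtain ⟨h₂, hh₂⟩ := hpt (C ∩ φ ⁻¹' (interior R)ᶜ)
      (isClosed_connectedComponent.inter (isOpen_interior.isClosed_compl.preimage φ.continuous)).isLocallyClosed
      ⟨z, hz, hni⟩
    apply hh₂.2
    set g := h₂ * h₁⁻¹
    have hgC : g.left pt ∈ C := hCmul _ _ hh₂.1 (hCinv _ hh₁.1)
    have e1 : φ (h₂.left pt) = (T g).left (φ (h₁.left pt)) := by
      rw [← hTφ, hLapp]; simp [g]
    rw [e1]
    haveI : IsIso (T g).left := isIso_act_point a g
    have hgR : (T g).left '' R = R := by rw [hRTg, connectedComponent_eq_iff_mem.2 hgC]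
    have h3 := (T g).left.homeomorph.image_interior R
    rw [show ⇑(T g).left.homeomorph = ⇑(T g).left from rfl, hgR] at h3
    rw [← h3]
    exact ⟨_, hh₁.2, rfl⟩
  -- `R` is closed
  have hRclosed : IsClosed R := by
    refine ⟨isOpen_iff_forall_mem_open.2 fun x hx => ?_⟩
    obtain ⟨z, rfl⟩ := φ.surjective x
    obtain ⟨g, hg⟩ := hpt _ (hCo z).isLocallyClosed ⟨z, mem_connectedComponent⟩
    haveI : IsIso (T g).left := isIso_act_point a g
    refine ⟨(T g).left '' R, fun w hw hwR => ?_, (T g).left.homeomorph.isOpenMap _ hRopen, ?_⟩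
    · obtain ⟨z', hz', hw'⟩ := (hRTg g).le hw
      obtain ⟨u, hu'⟩ := hpt (connectedComponent (g.left pt) ∩ φ ⁻¹' R)
        ((hCo _).inter (hRopen.preimage φ.continuous)).isLocallyClosed
        ⟨z', hz', show φ z' ∈ R from hw' ▸ hwR⟩
      obtain ⟨c, hc, hce⟩ := hu'.2
      obtain ⟨h', hh'⟩ := hpt (C ∩ φ ⁻¹' {φ (u.left pt)})
        (isClosed_connectedComponent.inter (((pointEquivClosedPoint X.hom
          ⟨(u ≫ a.orbitMap x₀).left, Over.w _⟩).2).preimage φ.continuous)).isLocallyClosed
        ⟨c, hc, hce⟩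
      have huC : u.left pt ∈ C := hstab u h' hh'.1 hh'.2.symm
      apply hx
      refine ⟨z, ?_, rfl⟩
      have e1 := (connectedComponent_eq_iff_mem.2 huC).symm.trans (connectedComponent_eq_iff_mem.2 hu'.1)
      have e2 : connectedComponent (g.left pt) = connectedComponent z := connectedComponent_eq_iff_mem.2 hg
      change z ∈ connectedComponent _
      rw [e1, e2]
      exact mem_connectedComponent
    · rw [hRTg, connectedComponent_eq_iff_mem.2 hg]
      exact ⟨z, mem_connectedComponent, rfl⟩
  have hR : R = Set.univ := IsClopen.eq_univ ⟨hRclosed, hRopen⟩ ⟨_, η[G].left pt, hC1, rfl⟩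
  -- every rational point lies in `C`
  rw [connectedSpace_iff_connectedComponent]
  refine ⟨η[G].left pt, Set.eq_univ_of_forall fun z => ?_⟩
  by_contra hz
  obtain ⟨g, hg⟩ := hpt Cᶜ isClosed_connectedComponent.isOpen_compl.isLocallyClosed ⟨z, hz⟩
  obtain ⟨c, hc, hce⟩ : φ (g.left pt) ∈ R := hR ▸ Set.mem_univ _
  obtain ⟨h', hh'⟩ := hpt (C ∩ φ ⁻¹' {φ (g.left pt)})
    (isClosed_connectedComponent.inter (((pointEquivClosedPoint X.hom
      ⟨(g ≫ a.orbitMap x₀).left, Over.w _⟩).2).preimage φ.continuous)).isLocallyClosed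
    ⟨c, hc, hce⟩
  exact hg (hstab g h' hh'.1 hh'.2.symm)

end Groth.Agent.GrpSch.ConnStab
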