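import Mathlib
import Groth.Agent.GrpSch.AbLocus
import Groth.Agent.GrpSch.Rigidity

/-!
# Fibres with constant functions only
-/

universe u

open AlgebraicGeometry CategoryTheory CategoryTheory.Limits MonoidalCategory CartesianMonoidalCategory

namespace Groth.Agent.GrpSch.RigidityBase

instance (priority := 50) {X T : Scheme.{u}} (π : X ⟶ T) [GeometricallyIrreducible π] :
    GeometricallyConnected π := by
  refine ⟨fun K _ y Z a b h => ?_⟩
  haveI := GeometricallyIrreducible.geometrically_irreducibleSpace y a b h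
  infer_instance

lemma constFibres_of_bijective_fiber {X T : Scheme.{u}} (f : X ⟶ T) [QuasiCompact f]
    [QuasiSeparated f]
    (hfib : ∀ s : T, Function.Bijective ((Scheme.ΓSpecIso (T.residueField s)).inv ≫
      (f.fiberToSpecResidueField s).appTop).hom) :
    ConstFibres f ∧ Surjective f := by
  refine ⟨⟨fun K _ τ => ?_⟩, ⟨fun t => ?_⟩⟩
  · obtain ⟨⟨t, φ⟩, rfl⟩ : ∃ p, (Scheme.SpecToEquivOfField K T).symm p = τ :=
      ⟨_, (Scheme.SpecToEquivOfField K T).symm_apply_apply τ⟩
    let κ := T.residueField t
    change Function.Bijective ((Scheme.ΓSpecIso (CommRingCat.of K)).inv ≫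
      (pullback.snd f (Spec.map φ ≫ T.fromSpecResidueField t)).appTop).hom
    let A : Over (Spec (CommRingCat.of (T.residueField t : Type u))) :=
      Over.mk (f.fiberToSpecResidueField t)
    let B : Over (Spec (CommRingCat.of (T.residueField t : Type u))) := Over.mk (Spec.map φ)
    haveI : QuasiCompact A.hom := inferInstanceAs (QuasiCompact (pullback.snd _ _))
    haveI : QuasiSeparated A.hom := inferInstanceAs (QuasiSeparated (pullback.snd _ _))
    haveI : CompactSpace B.left := inferInstanceAs (CompactSpace (Spec (CommRingCat.of K)))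
    haveI : QuasiSeparatedSpace B.left :=
      inferInstanceAs (QuasiSeparatedSpace (Spec (CommRingCat.of K)))
    haveI := Rigidity.bijective_snd_appTop A B (hfib t)
    let e := pullbackLeftPullbackSndIso f (T.fromSpecResidueField t) (Spec.map φ)
    have h : pullback.snd f (Spec.map φ ≫ T.fromSpecResidueField t) = e.inv ≫ (snd A B).left :=
      (Iso.eq_inv_comp e).mpr
      (pullbackLeftPullbackSndIso_hom_snd f (T.fromSpecResidueField t) (Spec.map φ))
    have : IsIso (pullback.snd f (Spec.map φ ≫ T.fromSpecResidueField t)).appTop := by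
      rw [h, Scheme.Hom.comp_appTop]
      haveI : IsIso e.inv.appTop := inferInstanceAs (IsIso (e.inv.app ⊤))
      exact IsIso.comp_isIso' ‹IsIso (snd A B).left.appTop› ‹_›
    rw [CommRingCat.hom_comp]
    exact ((ConcreteCategory.isIso_iff_bijective _).mp this).comp
      ((ConcreteCategory.isIso_iff_bijective (Scheme.ΓSpecIso (CommRingCat.of K)).inv).mp inferInstance)
  · haveI : Nontrivial Γ(f.fiber t, ⊤) := (hfib t).injective.nontrivial
    obtain ⟨x⟩ : Nonempty (f.fiber t) := by
      by_contra hne
      rw [not_nonempty_iff] at hne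
      exact not_subsingleton Γ(f.fiber t, ⊤) inferInstance
    exact ⟨f.fiberι t x, (f.range_fiberι t).le ⟨x, rfl⟩⟩

end Groth.Agent.GrpSch.RigidityBase

namespace Groth.Agent.GrpSch.AbRigid

open MonObj GrpObj

/-- homomorphisms into an etale separated group scheme from one with connected fibres are trivial -/
theorem eq_one_of_etale {S : Scheme.{u}} (P X : Over S) [GrpObj P] [GrpObj X] [Etale X.hom]
    [IsSeparated X.hom] (hP : ∀ s : S, ConnectedSpace ↥(P.hom.fiber s))
    (f : P ⟶ X) [IsMonHom f] : f = 1 := by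
  have hclosed : IsClosedImmersion η[X].left := (isSeparated_iff_one X).mp ‹_›
  haveI : IsClosedImmersion η[X].left := hclosed
  haveI : Etale (η[X].left ≫ X.hom) := by
    have : η[X].left ≫ X.hom = 𝟙 S := Over.w η[X]
    rw [this]; exact inferInstanceAs (Etale (𝟙 S))
  haveI : Etale η[X].left := Etale.of_comp η[X].left X.hom
  haveI : IsOpenImmersion η[X].left := IsOpenImmersion.of_flat_of_mono η[X].left
  let C : Set P.left := f.left ⁻¹' Set.range η[X].left
  have hC : IsClopen C :=
    ⟨η[X].left.isClosedEmbedding.isClosed_range.preimage f.left.continuous,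
      η[X].left.isOpenEmbedding.isOpen_range.preimage f.left.continuous⟩
  have hall : ∀ p, p ∈ C := by
    intro p
    haveI := hP (P.hom p)
    have hconn : _root_.IsPreconnected (P.hom ⁻¹' {P.hom p}) := by
      rw [← P.hom.range_fiberι]; exact isPreconnected_range (P.hom.fiberι _).continuous
    refine hconn.subset_isClopen hC ⟨η[P].left (P.hom p), ?_, ⟨P.hom p, ?_⟩⟩ rfl
    · change P.hom (η[P].left (P.hom p)) = P.hom p
      rw [← Scheme.Hom.comp_apply, Over.w η[P]]; rfl
    · have h1 := congrArg (·.left) (IsMonHom.one_hom (f := f))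
      simp only [Over.comp_left] at h1
      rw [← h1, Scheme.Hom.comp_apply]
  let k := IsOpenImmersion.lift η[X].left f.left (by rintro _ ⟨p, rfl⟩; exact hall p)
  have hk : k ≫ η[X].left = f.left := IsOpenImmersion.lift_fac _ _ _
  apply Over.OverMorphism.ext
  have hkP : k = P.hom := by
    have h1 := congrArg (· ≫ X.hom) hk
    simp only [Category.assoc, Over.w f] at h1
    have h2 : η[X].left ≫ X.hom = 𝟙 S := Over.w η[X]
    rw [h2] at h1
    exact (Category.comp_id k).symm.trans h1
  rw [← hk, hkP, Hom.one_def, Over.comp_left, Over.toUnit_left]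

theorem mono_of_isFinite {S : Scheme.{u}} (X Y Z : Over S) [GrpObj X] [GrpObj Y] [GrpObj Z]
    [IsSeparated X.hom]
    [IsProper Z.hom] [Flat Z.hom] [LocallyOfFinitePresentation Z.hom]
    [GeometricallyReduced Z.hom] [GeometricallyConnected Z.hom]
    (f : X ⟶ Y) [IsMonHom f] [IsFinite f.left]
    (h₁ h₂ : Z ⟶ X) [IsMonHom h₁] [IsMonHom h₂] (h : h₁ ≫ f = h₂ ≫ f) : h₁ = h₂ := by
  let d := h₁ * h₂⁻¹
  have hone : η[Z] ≫ d = η[X] := by
    simp only [d, MonObj.comp_mul, GrpObj.comp_inv, IsMonHom.one_hom, mul_inv_cancel]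
    rw [Hom.one_def, toUnit_unit, Category.id_comp]
  have hd : d ≫ f = 1 := by
    simp only [d, MonObj.mul_comp, GrpObj.inv_comp, h, mul_inv_cancel]
  have hσ : η[Z].left ≫ Z.hom = 𝟙 S := Over.w η[Z]
  have hd1 : d = 1 := by
    apply Over.OverMorphism.ext
    have := RigidityBase.eq_of_forall_constant (π := Z.hom) η[Z].left hσ d.left fun s => ?_
    · rw [this, Hom.one_def, ← hone]
      simp [Over.toUnit_left]
    intro z hz
    have hdisc : _root_.IsDiscrete (f.left ⁻¹' {η[Y].left s}) := f.left.isDiscrete_preimage_singleton _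
    have himg : d.left '' (Z.hom ⁻¹' {s}) ⊆ f.left ⁻¹' {η[Y].left s} := by
      rintro _ ⟨w, hw, rfl⟩
      have h1 := congrArg (·.left) hd
      rw [Hom.one_def] at h1
      simp only [Over.comp_left, Over.toUnit_left] at h1
      change f.left (d.left w) = η[Y].left s
      rw [← Scheme.Hom.comp_apply, h1, Scheme.Hom.comp_apply]
      exact congrArg _ hw
    haveI : DiscreteTopology (f.left ⁻¹' {η[Y].left s}) := hdisc.to_subtype
    have hpre : _root_.IsPreconnected (d.left '' (Z.hom ⁻¹' {s})) :=
      (Z.hom.isConnected_preimage_singleton s).isPreconnected.image _ d.left.continuous.continuousOn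
    refine (hpre.isDiscrete_iff_subsingleton.mp (hdisc.mono himg)) ⟨z, hz, rfl⟩
      ⟨η[Z].left s, ?_, rfl⟩
    change Z.hom (η[Z].left s) = s
    rw [← Scheme.Hom.comp_apply, hσ]
    rfl
  rwa [mul_inv_eq_one] at hd1

end Groth.Agent.GrpSch.AbRigid
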