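import Mathlib

/-!
# Proper morphisms `f` with `O_Y = f_* O_X`

They are stable under flat base change, epimorphisms, and every morphism which maps each fibre into
an affine open (for instance every morphism which is set theoretically constant on the fibres)
factors uniquely through them.
-/

set_option autoImplicit false

universe u

open AlgebraicGeometry CategoryTheory CategoryTheory.Limits TopologicalSpace Opposite

namespace Groth.Agent.GrpSch.Contraction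

variable {X Y Z : Scheme.{u}}

/-- `O_Y = f_* O_X` -/
def IsConn (f : X ⟶ Y) : Prop := ∀ U : Y.Opens, IsIso (f.app U)

variable {f : X ⟶ Y}

lemma surjective (hf : IsConn f) [UniversallyClosed f] : Surjective f := by
  refine ⟨fun y => ?_⟩
  by_contra! hy
  let V : Y.Opens := ⟨(Set.range f)ᶜ, f.isClosedMap.isClosed_range.isOpen_compl⟩
  have hV : y ∈ V := fun ⟨x, hx⟩ => hy x hx
  have hbot : f ⁻¹ᵁ V = ⊥ :=
    Opens.ext (Set.eq_empty_of_forall_notMem fun x hx => hx ⟨x, rfl⟩)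
  have hsub : Subsingleton Γ(X, f ⁻¹ᵁ V) := by
    exact CommRingCat.subsingleton_of_isTerminal (X.sheaf.isTerminalOfEqEmpty hbot)
  haveI := hf V
  have : Subsingleton Γ(Y, V) :=
    (ConcreteCategory.bijective_of_isIso (f.app V)).1.subsingleton
  have hnt : Nontrivial Γ(Y, V) := (Y.presheaf.germ V y hV).hom.domain_nontrivial
  exact false_of_nontrivial_of_subsingleton Γ(Y, V)

lemma morphismRestrict (hf : IsConn f) (O : Y.Opens) : IsConn (f ∣_ O) := fun V => by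
  haveI := hf (O.ι ''ᵁ V)
  rw [morphismRestrict_app]
  exact IsIso.comp_isIso' (hf _) (Functor.map_isIso X.presheaf _)

lemma baseChange (hf : IsConn f) {X' Y' : Scheme.{u}} {g : Y' ⟶ Y} {g' : X' ⟶ X} {f' : X' ⟶ Y'}
    (H : IsPullback g' f' f g) [Flat g] [QuasiCompact f] [QuasiSeparated f] : IsConn f' := by
  let B : {p : Y'.affineOpens × Y.affineOpens // p.1.1 ≤ g ⁻¹ᵁ p.2.1} → Y'.Opens := fun p => p.1.1.1
  have hB : Opens.IsBasis (Set.range B) := by
    rw [Opens.isBasis_iff_nbhd]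
    intro V y hy
    obtain ⟨_, ⟨W, hW, rfl⟩, hyW, -⟩ :=
      Y.isBasis_affineOpens.exists_subset_of_mem_open (Set.mem_univ (g y)) isOpen_univ
    obtain ⟨V', hV', hyV', hle⟩ :=
      Opens.isBasis_iff_nbhd.1 Y'.isBasis_affineOpens (show y ∈ V ⊓ g ⁻¹ᵁ W from ⟨hy, hyW⟩)
    exact ⟨V', ⟨⟨(⟨V', hV'⟩, ⟨W, hW⟩), hle.trans inf_le_right⟩, rfl⟩, hyV', hle.trans inf_le_left⟩
  let φ : Y'.sheaf ⟶ ((TopCat.Sheaf.pushforward CommRingCat f'.base).obj X'.sheaf) := ⟨f'.c⟩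
  suffices IsIso φ from fun U => by
    have : IsIso φ.hom := inferInstanceAs (IsIso ((TopCat.Sheaf.forget _ _).map φ))
    exact inferInstanceAs (IsIso (φ.hom.app (op U)))
  refine TopCat.Sheaf.isIso_iff_isIso_basis hB fun p => ?_
  obtain ⟨⟨V, U⟩, hle⟩ := p
  change IsIso (f'.app V.1)
  have hUY : f' ⁻¹ᵁ V.1 = g' ⁻¹ᵁ (f ⁻¹ᵁ U.1) ⊓ f' ⁻¹ᵁ V.1 := by
    rw [← Scheme.Hom.comp_preimage, H.w, Scheme.Hom.comp_preimage]
    exact (inf_eq_right.2 (f'.preimage_mono hle)).symm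
  have h := isIso_pushoutSection_of_isQuasiSeparated_of_flat_right H hle le_rfl hUY
    U.2 V.2 (f.isCompact_preimage U.2.isCompact)
    (f.isQuasiSeparated_preimage U.2.isQuasiSeparated)
  have hp := (isIso_pushoutSection_iff H _ _ hUY).1 h
  haveI : IsIso (f.appLE U.1 (f ⁻¹ᵁ U.1) le_rfl) := by
    rw [Scheme.Hom.appLE_eq_app]; exact hf U.1
  rw [← Scheme.Hom.appLE_eq_app]
  exact MorphismProperty.of_isPushout (P := MorphismProperty.isomorphisms _) hp.flip ‹_›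

lemma epi (hf : IsConn f) [UniversallyClosed f] : Epi f := by
  refine ⟨fun {Z} a b hab => ?_⟩
  haveI := surjective hf
  have hpt : ∀ y : Y, a y = b y := fun y => by
    obtain ⟨x, rfl⟩ := f.surjective y
    rw [← Scheme.Hom.comp_apply, hab, Scheme.Hom.comp_apply]
  refine Scheme.hom_ext_of_forall a b fun y => ?_
  obtain ⟨_, ⟨W, hW, rfl⟩, hyW, -⟩ :=
    Z.isBasis_affineOpens.exists_subset_of_mem_open (Set.mem_univ (a y)) isOpen_univ
  obtain ⟨W, rfl⟩ : ∃ W' : Z.Opens, W' = W := ⟨W, rfl⟩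
  haveI : IsAffine (W : Scheme.{u}) := hW
  refine ⟨a ⁻¹ᵁ W, hyW, ?_⟩
  have ha : Set.range ((a ⁻¹ᵁ W).ι ≫ a) ⊆ Set.range (W : Z.Opens).ι := by
    rintro _ ⟨v, rfl⟩; rw [Scheme.Opens.range_ι]; exact v.2
  have hb : Set.range ((a ⁻¹ᵁ W).ι ≫ b) ⊆ Set.range (W : Z.Opens).ι := by
    rintro _ ⟨v, rfl⟩
    rw [Scheme.Opens.range_ι]
    change b ((a ⁻¹ᵁ W).ι v) ∈ W
    rw [← hpt]; exact v.2
  suffices IsOpenImmersion.lift _ _ ha = IsOpenImmersion.lift _ _ hb by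
    have := congrArg (· ≫ (W : Z.Opens).ι) this
    simpa using this
  apply ext_of_isAffine
  haveI := morphismRestrict hf (a ⁻¹ᵁ W) ⊤
  haveI : Mono (f ∣_ (a ⁻¹ᵁ W)).appTop := IsIso.mono_of_iso ((f ∣_ (a ⁻¹ᵁ W)).app ⊤)
  rw [← cancel_mono (f ∣_ (a ⁻¹ᵁ W)).appTop, ← Scheme.Hom.comp_appTop, ← Scheme.Hom.comp_appTop]
  congr 1
  rw [← cancel_mono (W : Z.Opens).ι, Category.assoc, Category.assoc, IsOpenImmersion.lift_fac,
    IsOpenImmersion.lift_fac, morphismRestrict_ι_assoc, morphismRestrict_ι_assoc, hab]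

variable (f) in
/-- the points whose fibre is mapped into an affine open -/
def locus (h : X ⟶ Z) : Set Y :=
  {y | ∃ W : Z.Opens, IsAffineOpen W ∧ ∀ x, f x = y → h x ∈ W}

lemma exists_tube [UniversallyClosed f] (h : X ⟶ Z) {y : Y} (hy : y ∈ locus f h) :
    ∃ (O : Y.Opens) (W : Z.Opens), IsAffineOpen W ∧ y ∈ O ∧ ∀ x, f x ∈ O → h x ∈ W := by
  obtain ⟨W, hW, hyW⟩ := hy
  refine ⟨⟨(f '' (h ⁻¹' (W : Set Z))ᶜ)ᶜ,
    (f.isClosedMap _ ((W.2.preimage h.continuous).isClosed_compl)).isOpen_compl⟩, W, hW, ?_, ?_⟩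
  · rintro ⟨x, hx, hxy⟩
    exact hx (hyW x hxy)
  · intro x hx
    by_contra hn
    exact hx ⟨x, hn, rfl⟩

theorem isOpen_locus [UniversallyClosed f] (h : X ⟶ Z) : IsOpen (locus f h) := by
  refine isOpen_iff_forall_mem_open.2 fun y hy => ?_
  obtain ⟨O, W, hW, hyO, hO⟩ := exists_tube h hy
  exact ⟨O, fun y' hy' => ⟨W, hW, fun x hx => hO x (hx ▸ hy')⟩, O.2, hyO⟩

lemma mem_locus_of_const (hf : IsConn f) [UniversallyClosed f] (h : X ⟶ Z) (y : Y)
    (hc : ∀ x x', f x = y → f x' = y → h x = h x') : y ∈ locus f h := by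
  haveI := surjective hf
  obtain ⟨x₀, hx₀⟩ := f.surjective y
  obtain ⟨_, ⟨W, hW, rfl⟩, hxW, -⟩ :=
    Z.isBasis_affineOpens.exists_subset_of_mem_open (Set.mem_univ (h x₀)) isOpen_univ
  exact ⟨W, hW, fun x hx => by rw [hc x x₀ hx hx₀]; exact hxW⟩

lemma exists_desc_tube (hf : IsConn f) (h : X ⟶ Z) (O : Y.Opens) (W : Z.Opens) (hW : IsAffineOpen W)
    (hO : ∀ x, f x ∈ O → h x ∈ W) :
    ∃ g : (O : Scheme.{u}) ⟶ Z, (f ∣_ O) ≫ g = (f ⁻¹ᵁ O).ι ≫ h := by
  haveI : IsAffine (W : Scheme.{u}) := hW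
  have hr : Set.range ((f ⁻¹ᵁ O).ι ≫ h) ⊆ Set.range W.ι := by
    rintro _ ⟨v, rfl⟩; rw [Scheme.Opens.range_ι]; exact hO _ v.2
  let h' := IsOpenImmersion.lift W.ι _ hr
  haveI : IsIso (f ∣_ O).appTop := morphismRestrict hf O ⊤
  let g' : (O : Scheme.{u}) ⟶ (W : Scheme.{u}) :=
    (O : Scheme.{u}).toSpecΓ ≫ Spec.map (h'.appTop ≫ inv (f ∣_ O).appTop) ≫ (W : Scheme.{u}).isoSpec.inv
  refine ⟨g' ≫ W.ι, ?_⟩
  have : (f ∣_ O) ≫ g' = h' := by
    simp only [g']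
    rw [Scheme.toSpecΓ_naturality_assoc, ← Spec.map_comp_assoc, Category.assoc, IsIso.inv_hom_id,
      Category.comp_id, ← Scheme.toSpecΓ_naturality_assoc]
    simp [Scheme.isoSpec]
  rw [← Category.assoc, this]
  exact IsOpenImmersion.lift_fac _ _ _

/-- Two points over the same point of the locus have the same image. -/
theorem eq_of_mem_locus (hf : IsConn f) [UniversallyClosed f] (h : X ⟶ Z) {T : Scheme.{u}} [Subsingleton T]
    (t : T) (a b : T ⟶ X) (hab : a ≫ f = b ≫ f) (ht : f (a t) ∈ locus f h) : a ≫ h = b ≫ h := by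
  obtain ⟨O, W, hW, hyO, hO⟩ := exists_tube h ht
  obtain ⟨g, hg⟩ := exists_desc_tube hf h O W hW hO
  have key : ∀ c : T ⟶ X, c ≫ f = a ≫ f →
      ∃ c' : T ⟶ (f ⁻¹ᵁ O : X.Opens), c' ≫ (f ⁻¹ᵁ O).ι = c := fun c hc => by
    refine ⟨IsOpenImmersion.lift (f ⁻¹ᵁ O).ι c ?_, IsOpenImmersion.lift_fac _ _ _⟩
    rintro _ ⟨s, rfl⟩
    rw [Scheme.Opens.range_ι]
    change f (c s) ∈ O
    rw [← Scheme.Hom.comp_apply, hc, Subsingleton.elim s t, Scheme.Hom.comp_apply]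
    exact hyO
  obtain ⟨a', ha⟩ := key a rfl
  obtain ⟨b', hb⟩ := key b hab.symm
  have e : a' ≫ f ∣_ O = b' ≫ f ∣_ O := by
    rw [← cancel_mono O.ι, Category.assoc, Category.assoc, morphismRestrict_ι, ← Category.assoc, ha,
      ← Category.assoc, hb, hab]
  rw [← ha, ← hb, Category.assoc, Category.assoc, ← hg, ← Category.assoc, e, Category.assoc]

/-- A morphism mapping every fibre into an affine open factors uniquely. -/
theorem existsUnique_desc (hf : IsConn f) [IsProper f] (h : X ⟶ Z)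
    (hl : ∀ y, y ∈ locus f h) : ∃! g : Y ⟶ Z, f ≫ g = h := by
  choose O W hW hyO hO using fun y => exists_tube h (hl y)
  choose g hg using fun y => exists_desc_tube hf h (O y) (W y) (hW y) (hO y)
  let 𝒰 : Y.OpenCover := Y.openCoverOfIsOpenCover O
    (IsOpenCover.mk (Opens.ext (Set.eq_univ_of_forall fun y => Opens.mem_iSup.2 ⟨y, hyO y⟩)))
  haveI := epi hf
  have hcompat : ∀ i j : Y, pullback.fst (O i).ι (O j).ι ≫ g i = pullback.snd _ _ ≫ g j := by
    intro i j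
    let q : pullback (O i).ι (O j).ι ⟶ Y := pullback.fst _ _ ≫ (O i).ι
    haveI : Epi (pullback.snd f q) := epi (baseChange hf (IsPullback.of_hasPullback f q))
    rw [← cancel_epi (pullback.snd f q)]
    have key : ∀ (y : Y) (s : pullback f q ⟶ O y), s ≫ (O y).ι = pullback.snd f q ≫ q →
        s ≫ g y = pullback.fst f q ≫ h := fun y s hs => by
      obtain ⟨l, hl1, hl2⟩ : ∃ l, l ≫ f ∣_ O y = s ∧ l ≫ (f ⁻¹ᵁ O y).ι = pullback.fst f q :=
        ⟨(isPullback_morphismRestrict f (O y)).lift s (pullback.fst f q) (by rw [hs, pullback.condition]),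
          IsPullback.lift_fst _ _ _ _, IsPullback.lift_snd _ _ _ _⟩
      rw [← hl1, Category.assoc, hg, ← Category.assoc, hl2]
    rw [← Category.assoc, ← Category.assoc, key i _ (Category.assoc _ _ _),
      key j _ (by rw [Category.assoc, ← pullback.condition])]
  refine ⟨𝒰.glueMorphisms g hcompat, ?_, fun g' hg' => ?_⟩
  · refine Scheme.Cover.hom_ext (Scheme.openCoverOfIsOpenCover X (fun y => f ⁻¹ᵁ O y)
      (IsOpenCover.mk (Opens.ext (Set.eq_univ_of_forall fun x => Opens.mem_iSup.2 ⟨f x, hyO (f x)⟩)))) _ _ fun y => ?_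
    change (f ⁻¹ᵁ O y).ι ≫ f ≫ _ = (f ⁻¹ᵁ O y).ι ≫ h
    rw [← morphismRestrict_ι_assoc, show (O y).ι ≫ 𝒰.glueMorphisms g hcompat = g y from 𝒰.ι_glueMorphisms g hcompat y, hg]
  · refine Scheme.Cover.hom_ext 𝒰 _ _ fun (y : Y) => ?_
    rw [show 𝒰.f y ≫ 𝒰.glueMorphisms g hcompat = g y from 𝒰.ι_glueMorphisms g hcompat y]
    haveI := epi (morphismRestrict hf (O y))
    change (O y).ι ≫ g' = g y
    rw [← cancel_epi (f ∣_ O y), hg, morphismRestrict_ι_assoc, hg']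

end Groth.Agent.GrpSch.Contraction
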