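import Mathlib
import Groth.Agent.GrpSch.Action
import Groth.Agent.GrpSch.Desc

/-!
# The kernel of the action on a homogeneous space
-/

universe u

open CategoryTheory MonoidalCategory CartesianMonoidalCategory MonObj GrpObj Limits AlgebraicGeometry

namespace Groth.Agent.GrpSch.Core

variable {S : Scheme.{u}} {G H Q N : Over S} [GrpObj G] [GrpObj H] [GrpObj N]

/-- lifting points of `Q` to `G` after an effective epimorphism -/
lemma exists_orbit_lift (o : G ⟶ Q) [Flat o.left] [Surjective o.left]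
    [LocallyOfFinitePresentation o.left] {T : Over S} (x : T ⟶ Q) :
    ∃ (A : Over S) (π : A ⟶ T) (b : A ⟶ G), Epi π ∧ π ≫ x = b ≫ o := by
  let A : Over S := Over.mk (pullback.fst x.left o.left ≫ T.hom)
  let π : A ⟶ T := Over.homMk (pullback.fst x.left o.left) rfl
  let b : A ⟶ G := Over.homMk (pullback.snd x.left o.left) (by
    change pullback.snd x.left o.left ≫ G.hom = pullback.fst x.left o.left ≫ T.hom
    rw [← Over.w o, ← pullback.condition_assoc, Over.w x])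
  haveI : Flat π.left := inferInstanceAs (Flat (pullback.fst x.left o.left))
  haveI : Surjective π.left := MorphismProperty.pullback_fst _ _ ‹Surjective o.left›
  haveI : LocallyOfFinitePresentation π.left :=
    MorphismProperty.pullback_fst _ _ ‹LocallyOfFinitePresentation o.left›
  exact ⟨A, π, b, Desc.epi_of_effectiveEpi_left π, Over.OverMorphism.ext pullback.condition⟩

variable (i : H ⟶ G) [IsMonHom i] (a : AlgGrp.Action G Q) (o : 𝟙_ (Over S) ⟶ Q)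

lemma orbit_comp {T : Over S} (g : T ⟶ G) :
    g ≫ a.orbitMap o = lift g (toUnit T ≫ o) ≫ a.act := by
  rw [AlgGrp.Action.orbitMap, comp_lift_assoc, Category.comp_id, ← Category.assoc g,
    toUnit_unique (g ≫ toUnit G) (toUnit T)]

lemma fixes_iff (hQ : IsPullback (fst G H) ((G ◁ i) ≫ μ[G]) (a.orbitMap o) (a.orbitMap o))
    {T : Over S} (g : T ⟶ G) :
    lift g (toUnit T ≫ o) ≫ a.act = toUnit T ≫ o ↔ ∃ h : T ⟶ H, h ≫ i = g := by
  have hm : (G ◁ i) ≫ μ[G] = fst G H * (snd G H ≫ i) := by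
    rw [Hom.mul_def]; congr 1
  have h1 : (1 : T ⟶ G) ≫ a.orbitMap o = toUnit T ≫ o := by rw [orbit_comp, act_one]
  rw [← orbit_comp, ← h1]
  constructor
  · intro h
    obtain ⟨l, hl1, hl2⟩ := hQ.exists_lift (1 : T ⟶ G) g h.symm
    refine ⟨l ≫ snd G H, ?_⟩
    rw [hm, MonObj.comp_mul, hl1, _root_.one_mul] at hl2
    rw [Category.assoc, hl2]
  · rintro ⟨h, rfl⟩
    have := congrArg (fun z => lift (1 : T ⟶ G) h ≫ z) hQ.w
    simp only [hm, ← Category.assoc, MonObj.comp_mul, lift_fst, lift_snd, _root_.one_mul] at this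
    exact this.symm

theorem core_of_lifts (hQ : IsPullback (fst G H) ((G ◁ i) ≫ μ[G]) (a.orbitMap o) (a.orbitMap o))
    (hlift : ∀ {T : Over S} (x u v : T ⟶ Q), (∀ (A : Over S) (π : A ⟶ T) (b : A ⟶ G),
      π ≫ x = b ≫ a.orbitMap o → π ≫ u = π ≫ v) → u = v)
    (n : N ⟶ G)
    (hN : ∀ (T : Over S) (g : T ⟶ G), (∃ m : T ⟶ N, m ≫ n = g) ↔
        ∀ (T' : Over S) (s : T' ⟶ T) (x : T' ⟶ Q), lift (s ≫ g) x ≫ a.act = x) :
    AlgGrp.IsNormalHom n ∧ (∃ f : N ⟶ H, f ≫ i = n) ∧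
      ∀ (N' : Over S) [GrpObj N'] (n' : N' ⟶ G),
        AlgGrp.IsNormalHom n' → (∃ f : N' ⟶ H, f ≫ i = n') → ∃ f' : N' ⟶ N, f' ≫ n = n' := by
  refine ⟨fun T g m => ?_, ?_, fun N' _ n' hn' hf => ?_⟩
  · obtain ⟨m', hm'⟩ := (hN T (g * (m ≫ n) * g⁻¹)).mpr fun T' s x => by
      have hfix := (hN T (m ≫ n)).mp ⟨m, rfl⟩ T' s (lift ((s ≫ g)⁻¹) x ≫ a.act)
      rw [MonObj.comp_mul, MonObj.comp_mul, GrpObj.comp_inv, act_mul, act_mul, hfix, ← act_mul,
        mul_inv_cancel, act_one]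
    exact ⟨m', hm'.symm⟩
  · obtain ⟨f, hf⟩ := (fixes_iff i a o hQ n).mp (by
      have := (hN N n).mp ⟨𝟙 N, Category.id_comp n⟩ N (𝟙 N) (toUnit N ≫ o)
      rwa [Category.id_comp] at this)
    exact ⟨f, hf⟩
  · obtain ⟨f, hf⟩ := hf
    refine (hN N' n').mpr fun T' s x => ?_
    refine hlift x _ _ fun A π b hπ => ?_
    rw [← Category.assoc, comp_lift, hπ, orbit_comp, ← act_mul]
    obtain ⟨c, hc⟩ := hn' A b⁻¹ (π ≫ s)
    have hfix : lift (b⁻¹ * ((π ≫ s) ≫ n') * b⁻¹⁻¹) (toUnit A ≫ o) ≫ a.act = toUnit A ≫ o := by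
      refine (fixes_iff i a o hQ _).mpr ⟨c ≫ f, ?_⟩
      rw [hc, Category.assoc, hf]
    rw [_root_.inv_inv] at hfix
    rw [← Category.assoc π s n']
    conv_rhs => rw [← hfix, ← act_mul]
    rw [← _root_.mul_assoc, ← _root_.mul_assoc, mul_inv_cancel, _root_.one_mul]

theorem core (hQ : IsPullback (fst G H) ((G ◁ i) ≫ μ[G]) (a.orbitMap o) (a.orbitMap o))
    [Flat (a.orbitMap o).left] [Surjective (a.orbitMap o).left]
    [LocallyOfFinitePresentation (a.orbitMap o).left]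
    (n : N ⟶ G)
    (hN : ∀ (T : Over S) (g : T ⟶ G), (∃ m : T ⟶ N, m ≫ n = g) ↔
        ∀ (T' : Over S) (s : T' ⟶ T) (x : T' ⟶ Q), lift (s ≫ g) x ≫ a.act = x) :
    AlgGrp.IsNormalHom n ∧ (∃ f : N ⟶ H, f ≫ i = n) ∧
      ∀ (N' : Over S) [GrpObj N'] (n' : N' ⟶ G),
        AlgGrp.IsNormalHom n' → (∃ f : N' ⟶ H, f ≫ i = n') → ∃ f' : N' ⟶ N, f' ≫ n = n' := by
  refine core_of_lifts i a o hQ (fun {T} x u v h => ?_) n hN
  obtain ⟨A, π, b, _, hπ⟩ := exists_orbit_lift (a.orbitMap o) x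
  exact (cancel_epi π).mp (h A π b hπ)

end Groth.Agent.GrpSch.Core
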