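import Groth.Agent.GrpSch.Cat
import Groth.Agent.AlgSpc.UnivOpenField
import Mathlib.AlgebraicGeometry.PullbackCarrier
import Mathlib.CategoryTheory.Monoidal.Cartesian.Over

/-!
# A clopen, countable union of affine opens through the identity of a group scheme over a field
-/

set_option autoImplicit false
set_option backward.isDefEq.respectTransparency.types false

universe u

open CategoryTheory MonoidalCategory CartesianMonoidalCategory MonObj GrpObj AlgebraicGeometry

namespace Groth.Agent.GrpSch.CountableClopen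

variable {K : Type u} [Field K] (G : Over (Spec (CommRingCat.of K))) [GrpObj G]

instance instUOSnd (X Y : Over (Spec (CommRingCat.of K))) : UniversallyOpen (snd X Y).left := by
  haveI : UniversallyOpen X.hom := AlgSpc.universallyOpen_to_field _
  exact inferInstanceAs (UniversallyOpen (Limits.pullback.snd X.hom Y.hom))

lemma isOpenMap_mul : IsOpenMap μ[G].left := by
  have h : μ[G] = lift (fst G G) μ[G] ≫ snd G G := (lift_snd _ _).symm
  haveI hi : IsIso (lift (fst G G) μ[G]) := by
    refine ⟨lift (fst G G) (lift (fst G G ≫ ι[G]) (snd G G) ≫ μ[G]), ?_, ?_⟩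
    · refine hom_ext _ _ (by simp) ?_
      simp only [← Hom.mul_def, ← Hom.inv_def, Category.assoc, lift_snd, MonObj.comp_mul, GrpObj.comp_inv,
        lift_fst, Category.id_comp]
      rw [show μ[G] = fst G G * snd G G from mul_eq_mul _ |>.trans rfl]
      simp
    · refine hom_ext _ _ (by simp) ?_
      simp only [← Hom.mul_def, ← Hom.inv_def, Category.assoc, lift_snd, MonObj.comp_mul, GrpObj.comp_inv,
        lift_fst, Category.id_comp]
      exact mul_inv_cancel_left _ _
  rw [h]
  haveI : IsIso (lift (fst G G) μ[G]).left :=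
    inferInstanceAs (IsIso ((Over.forget (Spec (CommRingCat.of K))).map (lift (fst G G) μ[G])))
  exact (snd G G).left.isOpenMap.comp (lift (fst G G) μ[G]).left.homeomorph.isOpenMap

/-- the product of two sets of points -/
def prodSet (A B : Set G.left) : Set G.left :=
  μ[G].left '' ((fst G G).left ⁻¹' A ∩ (snd G G).left ⁻¹' B)

lemma isOpen_prodSet {A B : Set G.left} (hA : IsOpen A) (hB : IsOpen B) : IsOpen (prodSet G A B) :=
  isOpenMap_mul G _ ((hA.preimage (fst G G).left.continuous).inter (hB.preimage (snd G G).left.continuous))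

lemma isCompact_prodSet {A B : Set G.left} (hA : IsOpen A) (hB : IsOpen B) (hA' : IsCompact A)
    (hB' : IsCompact B) : IsCompact (prodSet G A B) := by
  refine IsCompact.image ?_ μ[G].left.continuous
  let a : G.left.Opens := ⟨A, hA⟩
  let b : G.left.Opens := ⟨B, hB⟩
  haveI : CompactSpace ↥(a : Scheme.{u}) := isCompact_iff_compactSpace.1 hA'
  haveI : CompactSpace ↥(b : Scheme.{u}) := isCompact_iff_compactSpace.1 hB'
  let m := Limits.pullback.map (a.ι ≫ G.hom) (b.ι ≫ G.hom) G.hom G.hom a.ι b.ι (𝟙 _) (by simp) (by simp)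
  have hr : Set.range m = (fst G G).left ⁻¹' A ∩ (snd G G).left ⁻¹' B := by
    refine (Scheme.Pullback.range_map _ _ _ _ _ _ _ _ _).trans ?_
    simp only [Scheme.Opens.range_ι]
    rfl
  haveI : QuasiCompact (b.ι ≫ G.hom) := (quasiCompact_iff_compactSpace _).2 inferInstance
  haveI : CompactSpace ↥(Limits.pullback (a.ι ≫ G.hom) (b.ι ≫ G.hom)) :=
    QuasiCompact.compactSpace_of_compactSpace (Limits.pullback.fst (a.ι ≫ G.hom) (b.ι ≫ G.hom))
  rw [← hr]
  exact isCompact_range m.continuous

theorem exists_clopen :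
    ∃ U : G.left.Opens, IsClosed (U : Set G.left) ∧ η[G].left (IsLocalRing.closedPoint K) ∈ U ∧
      ∃ V : ℕ → G.left.Opens, (∀ n, IsAffineOpen (V n)) ∧ (U : Set G.left) = ⋃ n, (V n : Set G.left) := by
  set e := η[G].left (IsLocalRing.closedPoint K)
  obtain ⟨_, ⟨U₀, hU₀, rfl⟩, heU, -⟩ := G.left.isBasis_affineOpens.exists_subset_of_mem_open (Set.mem_univ e) isOpen_univ
  let s : ℕ → Set G.left := fun n => Nat.rec (U₀ : Set G.left) (fun _ A => prodSet G A U₀) n
  have hs : ∀ n, IsOpen (s n) ∧ IsCompact (s n) := by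
    intro n
    induction n with
    | zero => exact ⟨U₀.isOpen, hU₀.isCompact⟩
    | succ n ih => exact ⟨isOpen_prodSet G ih.1 U₀.isOpen, isCompact_prodSet G ih.1 U₀.isOpen ih.2 hU₀.isCompact⟩
  let W : G.left.Opens := ⟨⋃ n, s n, isOpen_iUnion fun n => (hs n).1⟩
  refine ⟨W, ?_, Set.mem_iUnion.2 ⟨0, heU⟩, ?_⟩
  · refine isClosed_of_closure_subset fun x hx => ?_
    let Qo : Over (Spec (CommRingCat.of K)) := Over.mk (G.left.fromSpecResidueField x ≫ G.hom)
    let a : Qo ⟶ G := Over.homMk (G.left.fromSpecResidueField x) rfl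
    let φ : Qo ⊗ G ⟶ G := (snd Qo G)⁻¹ * (fst Qo G ≫ a)
    have hψ : lift (snd Qo G) φ ≫ μ[G] = fst Qo G ≫ a := mul_inv_cancel_left (snd Qo G) (fst Qo G ≫ a)
    let p₀ : Qo ⟶ Qo ⊗ G := lift (𝟙 Qo) a
    have hφ₀ : p₀ ≫ φ = toUnit Qo ≫ η[G] := by
      simp only [φ, p₀, MonObj.comp_mul, GrpObj.comp_inv, lift_snd, lift_fst_assoc, Category.id_comp, inv_mul_cancel]
      exact Hom.one_def
    let c : Qo.left := (IsLocalRing.closedPoint (G.left.residueField x) : Spec (G.left.residueField x))
    have hO : p₀.left c ∈ φ.left ⁻¹' (U₀ : Set G.left) := by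
      have : φ.left (p₀.left c) = e := by
        rw [← Scheme.Hom.comp_apply, ← Over.comp_left, hφ₀, Over.comp_left, Scheme.Hom.comp_apply]
        exact congrArg η[G].left (Subsingleton.elim (α := PrimeSpectrum K) _ _)
      rw [Set.mem_preimage, this]; exact heU
    have hx0 : (snd Qo G).left (p₀.left c) = x := by
      rw [← Scheme.Hom.comp_apply, ← Over.comp_left, lift_snd]
      exact Scheme.fromSpecResidueField_apply x c
    obtain ⟨z, ⟨q, hq, rfl⟩, hzW⟩ := mem_closure_iff.1 hx _
      ((snd Qo G).left.isOpenMap _ (U₀.isOpen.preimage φ.left.continuous)) ⟨_, hO, hx0⟩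
    obtain ⟨n, hn⟩ := Set.mem_iUnion.1 hzW
    refine Set.mem_iUnion.2 ⟨n + 1, (lift (snd Qo G) φ).left q, ⟨?_, ?_⟩, ?_⟩
    · rw [Set.mem_preimage, ← Scheme.Hom.comp_apply, ← Over.comp_left, lift_fst]; exact hn
    · rw [Set.mem_preimage, ← Scheme.Hom.comp_apply, ← Over.comp_left, lift_snd]; exact hq
    · rw [← Scheme.Hom.comp_apply, ← Over.comp_left, hψ, Over.comp_left, Scheme.Hom.comp_apply]
      exact Scheme.fromSpecResidueField_apply x _
  · have h := fun n => (isCompact_iff_finite_and_eq_biUnion_affineOpens (U := ⟨s n, (hs n).1⟩)).1 (hs n).2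
    choose F hF hFe using h
    let A : Set G.left.affineOpens := insert ⟨⊥, isAffineOpen_bot _⟩ (⋃ n, F n)
    have hA : A.Countable := (Set.countable_iUnion fun n => (hF n).countable).insert _
    obtain ⟨g, hg⟩ := hA.exists_eq_range (Set.insert_nonempty _ _)
    refine ⟨fun n => (g n).1, fun n => (g n).2, Set.ext fun z => ⟨fun hz => ?_, fun hz => ?_⟩⟩
    · obtain ⟨n, hn⟩ := Set.mem_iUnion.1 hz
      have hz' : z ∈ (⟨s n, (hs n).1⟩ : G.left.Opens) := hn
      rw [hFe n] at hz'
      simp only [TopologicalSpace.Opens.mem_iSup] at hz'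
      obtain ⟨i, hi, hzi⟩ := hz'
      have : i ∈ Set.range g := hg ▸ Set.mem_insert_of_mem _ (Set.mem_iUnion.2 ⟨n, hi⟩)
      obtain ⟨m, rfl⟩ := this
      exact Set.mem_iUnion.2 ⟨m, hzi⟩
    · obtain ⟨m, hm⟩ := Set.mem_iUnion.1 hz
      have hm' : g m ∈ A := hg ▸ Set.mem_range_self m
      rcases hm' with h | h
      · change z ∈ ((g m).1 : Set G.left) at hm
        rw [h] at hm; exact hm.elim
      · obtain ⟨n, hn⟩ := Set.mem_iUnion.1 h
        refine Set.mem_iUnion.2 ⟨n, show z ∈ (⟨s n, (hs n).1⟩ : G.left.Opens) from ?_⟩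
        rw [hFe n]
        simp only [TopologicalSpace.Opens.mem_iSup]
        exact ⟨_, hn, hm⟩

end Groth.Agent.GrpSch.CountableClopen
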