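import Groth.Agent.GrpSch.FieldTop

/-! Products of dense open subsets of a group scheme over a field. -/

set_option autoImplicit false
set_option backward.isDefEq.respectTransparency.types false

universe u

open CategoryTheory MonoidalCategory CartesianMonoidalCategory MonObj GrpObj Limits AlgebraicGeometry

namespace Groth.Agent.GrpSch

variable {K : Type u} [Field K] (G : Over (Spec (CommRingCat.of K))) [GrpObj G]

/-- For dense opens `U`, `V` of a group scheme over a field, `U ⬝ V = G`. -/
theorem mul_image_dense_eq_univ {U V : Set G.left} (hUo : IsOpen U) (hU : Dense U)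
    (hV : Dense V) :
    μ[G].left '' ((fst G G).left ⁻¹' U ∩ (snd G G).left ⁻¹' V) = Set.univ := by
  refine Set.eq_univ_iff_forall.2 fun x => ?_
  set T := ptOver G x
  set t : T ⟶ G := ptHom G x
  let m : T ⊗ G ⟶ G := (fst T G ≫ t) * (snd T G)⁻¹
  have hm : m = (T ◁ ι[G]) ≫ (t ▷ G ≫ μ[G]) := by
    rw [whiskerRight_mul, MonObj.comp_mul, whiskerLeft_fst_assoc, whiskerLeft_snd]
    rfl
  have hmo : IsOpenMap m.left := by
    have : IsIso ι[G] := ⟨ι[G], GrpObj.inv_comp_inv G, GrpObj.inv_comp_inv G⟩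
    have : IsIso (T ◁ ι[G]).left := inferInstanceAs (IsIso ((Over.forget _).map (T ◁ ι[G])))
    have h := (isOpenMap_whisker_mul t).comp ((T ◁ ι[G]).left.homeomorph.isOpenMap)
    rw [hm]
    exact h
  have hmd : Dense (m.left ⁻¹' U) := hU.preimage hmo
  have hsd : Dense ((snd T G).left ⁻¹' V) := hV.preimage (isOpenMap_snd T G)
  obtain ⟨p₀⟩ : Nonempty T.left := inferInstanceAs (Nonempty (PrimeSpectrum _))
  have hne : (m.left ⁻¹' U).Nonempty := by
    have : Nonempty ↥(T ⊗ G).left := ⟨(lift (𝟙 T) 1).left p₀⟩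
    exact hmd.nonempty
  obtain ⟨z, hzU, hzV⟩ := hsd.inter_open_nonempty _ (hUo.preimage m.left.continuous) hne
  refine ⟨(lift m (snd T G)).left z, ⟨?_, ?_⟩, ?_⟩
  · rw [Set.mem_preimage, ← comp_left_apply, lift_fst]; exact hzU
  · rw [Set.mem_preimage, ← comp_left_apply, lift_snd]; exact hzV
  · rw [← comp_left_apply, ← mul_eq_lift, inv_mul_cancel_right, comp_left_apply]
    exact ptHom_apply G x _

/-- An irreducible group scheme over a field is quasi-compact. -/
theorem compactSpace_of_irreducibleSpace [IrreducibleSpace G.left] : CompactSpace G.left := by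
  obtain ⟨V, hU, hxU, -⟩ := G.left.isBasis_affineOpens.exists_subset_of_mem_open
    (Set.mem_univ (Nonempty.some (inferInstance : Nonempty G.left))) isOpen_univ
  obtain ⟨U', hU', rfl⟩ := hU
  let U : G.left.Opens := U'
  have hd : Dense (U : Set G.left) := U.2.dense ⟨_, hxU⟩
  have : IsAffine U.toScheme := hU'
  let q : pullback (U.ι ≫ G.hom) (U.ι ≫ G.hom) ⟶ (G ⊗ G).left :=
    pullback.map _ _ G.hom G.hom U.ι U.ι (𝟙 _) (by simp) (by simp)
  have hq : Set.range q = (fst G G).left ⁻¹' U ∩ (snd G G).left ⁻¹' U := by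
    have := Scheme.Pullback.range_map (U.ι ≫ G.hom) (U.ι ≫ G.hom) G.hom G.hom U.ι U.ι (𝟙 _)
      (by simp) (by simp)
    rw [this, Scheme.Opens.range_ι]
    rfl
  refine ⟨?_⟩
  rw [← mul_image_dense_eq_univ G (U := (U : Set G.left)) U.2 hd hd, ← hq]
  exact (isCompact_range q.continuous).image μ[G].left.continuous

end Groth.Agent.GrpSch
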