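import Mathlib
import Groth.Agent.GrpSch.SepPoints
import Groth.Agent.SmoothPt.Basic

/-!
# Points of geometrically reduced schemes in separably closed fields are schematically dense
-/

universe u

open AlgebraicGeometry CategoryTheory CategoryTheory.Limits MonoidalCategory CartesianMonoidalCategory

namespace Groth.Agent.GrpSch.DensePoints

lemma isReduced_of_geometricallyReduced {k : Type u} [Field k] {X : Scheme.{u}}
    (f : X ⟶ Spec (CommRingCat.of k)) [GeometricallyReduced f] : IsReduced X :=
  GeometricallyReduced.isReduced_of_flat_of_finite_irreducibleComponents f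

theorem dense_smoothLocus {k : Type u} [Field k] {X : Scheme.{u}}
    (f : X ⟶ Spec (CommRingCat.of k)) [GeometricallyReduced f] [LocallyOfFinitePresentation f] :
    Dense (f.smoothLocus : Set X) := by
  let L := AlgebraicClosure k
  let τ : Spec (CommRingCat.of L) ⟶ Spec (CommRingCat.of k) :=
    Spec.map (CommRingCat.ofHom (algebraMap k L))
  haveI : LocallyOfFinitePresentation (pullback.snd f τ) :=
    MorphismProperty.pullback_snd _ _ inferInstance
  haveI : GeometricallyReduced (pullback.snd f τ) := MorphismProperty.pullback_snd _ _ ‹_›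
  haveI := isReduced_of_geometricallyReduced (pullback.snd f τ)
  haveI : Surjective τ := ⟨fun x => ⟨Classical.arbitrary _, Subsingleton.elim _ _⟩⟩
  haveI : Surjective (pullback.fst f τ) := MorphismProperty.pullback_fst _ _ ‹_›
  haveI : Flat τ := inferInstance
  have hd := (pullback.snd f τ).dense_smoothLocus_of_perfectField
  rw [SmoothPt.smoothLocus_baseChange f (IsPullback.of_hasPullback f τ) (Or.inr ‹Flat τ›)] at hd
  have := (pullback.fst f τ).surjective.denseRange.dense_image (pullback.fst f τ).continuous hd
  exact this.mono (Set.image_preimage_subset _ _)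

/-- a closed subscheme of a geometrically reduced scheme containing all points in a separably
closed extension is everything -/
theorem isIso_of_points (k K : Type u) [Field k] [Field K] [Algebra k K] [IsSepClosed K]
    {X Z : Over (Spec (CommRingCat.of k))} [GeometricallyReduced X.hom]
    [LocallyOfFiniteType X.hom] (c : Z ⟶ X) [IsClosedImmersion c.left]
    (h : ∀ x : Over.mk (Spec.map (CommRingCat.ofHom (algebraMap k K))) ⟶ X,
      ∃ z, z ≫ c = x) : IsIso c := by
  haveI : LocallyOfFinitePresentation X.hom := inferInstance
  haveI := isReduced_of_geometricallyReduced X.hom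
  let U := X.hom.smoothLocus
  let XU : Over (Spec (CommRingCat.of k)) := Over.mk (U.ι ≫ X.hom)
  haveI : Smooth XU.hom := by
    haveI : LocallyOfFinitePresentation (U.ι ≫ X.hom) := inferInstance
    change Smooth (U.ι ≫ X.hom)
    refine Scheme.Hom.smoothLocus_eq_top_iff.mp ?_
    rw [← Scheme.Hom.preimage_smoothLocus_eq]
    exact U.ι_preimage_self
  let ZU : Over (Spec (CommRingCat.of k)) := Over.mk (pullback.snd c.left U.ι ≫ XU.hom)
  let cU : ZU ⟶ XU := Over.homMk (pullback.snd c.left U.ι)
  haveI : IsClosedImmersion cU.left :=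
    inferInstanceAs (IsClosedImmersion (pullback.snd c.left U.ι))
  haveI := SepPoints.isIso_of_points k K cU fun x => by
    obtain ⟨z, hz⟩ := h (Over.homMk (x.left ≫ U.ι) ((Category.assoc _ _ _).trans (Over.w x)))
    refine ⟨Over.homMk (pullback.lift z.left x.left (congrArg (fun m => m.left) hz)) ?_, ?_⟩
    · change pullback.lift _ _ _ ≫ pullback.snd _ _ ≫ XU.hom = _
      rw [pullback.lift_snd_assoc]; exact Over.w x
    · apply Over.OverMorphism.ext
      exact pullback.lift_snd _ _ _
  haveI : IsIso cU.left := inferInstanceAs (IsIso ((Over.forget _).map cU))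
  have hsub : (U : Set X.left) ⊆ Set.range c.left := by
    intro x hx
    obtain ⟨w, hw⟩ := cU.left.homeomorph.surjective ⟨x, hx⟩
    refine ⟨pullback.fst c.left U.ι w, ?_⟩
    rw [← Scheme.Hom.comp_apply, pullback.condition]
    exact congrArg U.ι hw
  haveI : Surjective c.left := ⟨fun x => by
    have := (c.left.isClosedEmbedding.isClosed_range.closure_subset_iff.mpr hsub)
    exact this ((dense_smoothLocus X.hom).closure_eq ▸ Set.mem_univ x)⟩
  haveI : IsIso c.left := isIso_of_isClosedImmersion_of_surjective c.left
  haveI : IsIso ((Over.forget _).map c) := ‹IsIso c.left›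
  exact isIso_of_reflects_iso c (Over.forget _)

/-- a geometrically reduced closed subscheme with all its points in another closed subscheme is
contained in it -/
theorem exists_factor (k K : Type u) [Field k] [Field K] [Algebra k K] [IsSepClosed K]
    {X Z Z' : Over (Spec (CommRingCat.of k))} [GeometricallyReduced Z.hom]
    [LocallyOfFiniteType Z.hom] (c : Z ⟶ X) (c' : Z' ⟶ X) [IsClosedImmersion c'.left]
    (h : ∀ z : Over.mk (Spec.map (CommRingCat.ofHom (algebraMap k K))) ⟶ Z,
      ∃ z', z' ≫ c' = z ≫ c) : ∃ g : Z ⟶ Z', g ≫ c' = c := by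
  let W : Over (Spec (CommRingCat.of k)) := Over.mk (pullback.fst c.left c'.left ≫ Z.hom)
  let d : W ⟶ Z := Over.homMk (pullback.fst c.left c'.left)
  haveI : IsClosedImmersion d.left :=
    inferInstanceAs (IsClosedImmersion (pullback.fst c.left c'.left))
  haveI := isIso_of_points k K d fun z => by
    obtain ⟨z', hz'⟩ := h z
    refine ⟨Over.homMk (pullback.lift z.left z'.left (congrArg (fun m => m.left) hz').symm) ?_, ?_⟩
    · change pullback.lift _ _ _ ≫ pullback.fst _ _ ≫ Z.hom = _
      rw [pullback.lift_fst_assoc]; exact Over.w z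
    · apply Over.OverMorphism.ext
      exact pullback.lift_fst _ _ _
  let e : W ⟶ Z' := Over.homMk (pullback.snd c.left c'.left) (by
    change pullback.snd c.left c'.left ≫ Z'.hom = pullback.fst c.left c'.left ≫ Z.hom
    rw [← Over.w c', ← pullback.condition_assoc, Over.w c])
  refine ⟨inv d ≫ e, ?_⟩
  rw [Category.assoc, IsIso.inv_comp_eq]
  apply Over.OverMorphism.ext
  exact pullback.condition.symm

end Groth.Agent.GrpSch.DensePoints

namespace Groth.Agent.GrpSch.DensePoints

/-- a closed subscheme of a reduced scheme containing all points in an algebraically closed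
extension is everything -/
theorem isIso_of_points_algClosed (k K : Type u) [Field k] [Field K] [Algebra k K] [IsAlgClosed K]
    {X Z : Over (Spec (CommRingCat.of k))} [IsReduced X.left]
    [LocallyOfFiniteType X.hom] (c : Z ⟶ X) [IsClosedImmersion c.left]
    (h : ∀ x : Over.mk (Spec.map (CommRingCat.ofHom (algebraMap k K))) ⟶ X,
      ∃ z, z ≫ c = x) : IsIso c := by
  let sK := Spec.map (CommRingCat.ofHom (algebraMap k K))
  haveI : Surjective sK := ⟨fun x => ⟨Classical.arbitrary _, Subsingleton.elim _ _⟩⟩
  haveI : Surjective (pullback.fst X.hom sK) := MorphismProperty.pullback_fst _ _ ‹_›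
  haveI : LocallyOfFiniteType (pullback.snd X.hom sK) := MorphismProperty.pullback_snd _ _ ‹_›
  haveI : JacobsonSpace (pullback X.hom sK :) :=
    LocallyOfFiniteType.jacobsonSpace (pullback.snd X.hom sK)
  haveI : Surjective c.left := ⟨fun x => by
    obtain ⟨y, rfl⟩ := (pullback.fst X.hom sK).surjective x
    by_contra hy
    obtain ⟨q, hqU, hq⟩ := nonempty_inter_closedPoints (X := (pullback X.hom sK :))
      (Z := (pullback.fst X.hom sK) ⁻¹' (Set.range c.left)ᶜ) ⟨y, hy⟩
      ((c.left.isClosedEmbedding.isClosed_range.isOpen_compl.preimage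
        (pullback.fst X.hom sK).continuous).isLocallyClosed)
    let p := pointOfClosedPoint (pullback.snd X.hom sK) q hq
    obtain ⟨z, hz⟩ := h (Over.homMk (p ≫ pullback.fst X.hom sK) (by
      rw [Category.assoc, pullback.condition, ← Category.assoc, pointOfClosedPoint_comp]
      exact Category.id_comp _))
    obtain ⟨pt⟩ : Nonempty (Spec (CommRingCat.of K)) := inferInstance
    apply hqU
    refine ⟨z.left pt, ?_⟩
    have := congrArg (fun m => m.left pt) hz
    refine this.trans ?_
    change pullback.fst X.hom sK (p pt) = _
    rw [pointOfClosedPoint_apply]⟩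
  haveI : IsIso c.left := isIso_of_isClosedImmersion_of_surjective c.left
  haveI : IsIso ((Over.forget _).map c) := ‹IsIso c.left›
  exact isIso_of_reflects_iso c (Over.forget _)

end Groth.Agent.GrpSch.DensePoints
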