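import Groth.Agent.S8026
import Groth.Agent.RegLocus.GeomRedTrans
import Groth.Agent.RedSepLib.Reduced
import Mathlib.AlgebraicGeometry.Geometrically.Reduced

/-!
# A reduced scheme with dense rational points is geometrically reduced
-/

set_option autoImplicit false

universe u

open CategoryTheory Limits AlgebraicGeometry
open scoped TensorProduct

namespace Groth.Agent.GrpSch.DenseRational

lemma chart {k : Type u} [Field k] {K : Type u} [Field K] {X : Scheme.{u}} (f : X ⟶ Spec (CommRingCat.of k))
    [LocallyOfFiniteType f] [AlgebraicGeometry.IsReduced X]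
    (hd : Dense {x : X | ∃ s : Spec (CommRingCat.of k) ⟶ X, s ≫ f = 𝟙 _ ∧ s (IsLocalRing.closedPoint k) = x})
    (φ : CommRingCat.of k ⟶ CommRingCat.of K) {A : CommRingCat.{u}} (ι : Spec A ⟶ X) [IsOpenImmersion ι] :
    AlgebraicGeometry.IsReduced (pullback (ι ≫ f) (Spec.map φ)) := by
  obtain ⟨ψ, hψ⟩ := Spec.map_surjective (ι ≫ f)
  have hft : LocallyOfFiniteType (Spec.map ψ) := by rw [hψ]; infer_instance
  haveI : AlgebraicGeometry.IsReduced (Spec A) := isReduced_of_isOpenImmersion ι
  haveI : _root_.IsReduced A := (affine_isReduced_iff A).1 ‹_›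
  rw [← hψ]
  algebraize [φ.hom, ψ.hom]
  haveI : Algebra.FiniteType k A :=
    (RingHom.finiteType_algebraMap).1 ((HasRingHomProperty.Spec_iff (P := @LocallyOfFiniteType)).1 hft)
  have hgr : Algebra.IsGeometricallyReduced k A := by
    refine Groth.Agent.S8026.result k A Set.univ fun a ha => ?_
    by_contra hne
    have hnil : ¬ IsNilpotent a := fun h => hne h.eq_zero
    obtain ⟨q, hq, haq⟩ : ∃ q : Ideal A, q.IsPrime ∧ a ∉ q := by
      by_contra hc
      push Not at hc
      refine hnil ?_
      rw [← mem_nilradical, nilradical_eq_sInf]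
      exact Submodule.mem_sInf.2 fun q hq => hc q hq
    have hopen : IsOpen (ι '' (PrimeSpectrum.basicOpen a : Set (PrimeSpectrum A))) :=
      ι.isOpenEmbedding.isOpenMap _ (PrimeSpectrum.isOpen_basicOpen)
    obtain ⟨x, ⟨z, hz, hzx⟩, s, hs, hsx⟩ := hd.inter_open_nonempty _ hopen ⟨_, ⟨⟨q, hq⟩, haq, rfl⟩⟩
    have hrange : Set.range s ⊆ Set.range ι := by
      rintro _ ⟨w, rfl⟩
      rw [Subsingleton.elim w (IsLocalRing.closedPoint k), hsx, ← hzx]
      exact Set.mem_range_self z
    let l := IsOpenImmersion.lift ι s hrange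
    have hl : l ≫ ι = s := IsOpenImmersion.lift_fac ι s hrange
    obtain ⟨g, hg⟩ := Spec.map_surjective l
    have hgψ : ψ ≫ g = 𝟙 _ := Spec.map_injective (by
      rw [Spec.map_comp, hψ, hg, reassoc_of% hl, hs, Spec.map_id])
    let sa : A →ₐ[k] k := { g.hom with commutes' := fun r => congrArg (fun h => h.hom r) hgψ }
    have hz' : l (IsLocalRing.closedPoint k) = z :=
      ι.isOpenEmbedding.injective (by rw [← Scheme.Hom.comp_apply, hl, hsx]; exact hzx.symm)
    refine hz ?_
    rw [← hz', ← hg]
    change g.hom a ∈ (IsLocalRing.closedPoint k).asIdeal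
    rw [show g.hom a = sa a from rfl, ha sa (Set.mem_univ _)]
    exact Ideal.zero_mem _
  haveI : _root_.IsReduced (K ⊗[k] A) := Groth.Agent.RegLocus.isReduced_tensor_field k A K
  haveI : _root_.IsReduced (A ⊗[k] K) :=
    isReduced_of_injective (Algebra.TensorProduct.comm k A K).toAlgHom
      (Algebra.TensorProduct.comm k A K).injective
  exact isReduced_of_isOpenImmersion (pullbackSpecIso k A K).hom

theorem geometricallyReduced {k : Type u} [Field k] {X : Scheme.{u}} (f : X ⟶ Spec (CommRingCat.of k))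
    [LocallyOfFiniteType f] [AlgebraicGeometry.IsReduced X]
    (hd : Dense {x : X | ∃ s : Spec (CommRingCat.of k) ⟶ X, s ≫ f = 𝟙 _ ∧ s (IsLocalRing.closedPoint k) = x}) :
    GeometricallyReduced f := by
  refine ⟨fun K _ y Y fst snd h => ?_⟩
  obtain ⟨φ, rfl⟩ := Spec.map_surjective y
  suffices hred : AlgebraicGeometry.IsReduced (pullback f (Spec.map φ)) from
    isReduced_of_isOpenImmersion h.isoPullback.hom
  apply +allowSynthFailures @IsReduced.of_openCover
    (𝒰 := Scheme.Pullback.openCoverOfLeft X.affineCover f (Spec.map φ))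
  intro j
  exact @chart _ _ _ _ _ f _ _ hd φ _ (X.affineCover.f j) (inferInstanceAs (IsOpenImmersion (X.affineCover.f j)))

end Groth.Agent.GrpSch.DenseRational
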