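import Groth.Agent.Comod.GL
import Groth.Agent.MultHopf.Bridge
import Groth.Prelude.Def_AGF
import Groth.Prelude.Def_CoactBr
import Mathlib.Algebra.DirectSum.Module
import Mathlib.RingTheory.Bialgebra.MonoidAlgebra

/-!
# Diagonalisable subgroups of `GL_m` and their points as matrices
-/

set_option autoImplicit false
set_option backward.isDefEq.respectTransparency.types false

universe u v

open CategoryTheory MonoidalCategory CartesianMonoidalCategory MonObj AlgebraicGeometry
open scoped TensorProduct

namespace Groth.Agent.GrpSch.DiagGL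

open Groth.Agent.MultHopf (hspec)

section comatrix

variable {F : Type u} [Field F] {Γ : Type v} [CommGroup Γ] [Fintype Γ] [DecidableEq Γ] {m : ℕ}

/-- the coefficient matrix of a basis element -/
noncomputable def coefMat (a : Matrix (Fin m) (Fin m) (MonoidAlgebra F Γ)) (q : Γ) : Matrix (Fin m) (Fin m) F :=
  fun i j => (a i j).coeff q

omit [CommGroup Γ] in
lemma eq_sum_single (x : MonoidAlgebra F Γ) : x = ∑ q, MonoidAlgebra.single q (x.coeff q) := by
  refine MonoidAlgebra.ext (Finsupp.ext fun r => ?_)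
  simp [MonoidAlgebra.coeff_single, Finsupp.single_apply]

lemma counit_eq_sum (x : MonoidAlgebra F Γ) : Coalgebra.counit (R := F) x = ∑ q, x.coeff q := by
  conv_lhs => rw [eq_sum_single x]
  simp

lemma coefMat_mul (a : Matrix (Fin m) (Fin m) (MonoidAlgebra F Γ))
    (hΔ : ∀ i j, Coalgebra.comul (R := F) (a i j) = ∑ l, a i l ⊗ₜ[F] a l j) (q r : Γ) :
    coefMat a q * coefMat a r = if q = r then coefMat a q else 0 := by
  ext i j
  let c : Γ → MonoidAlgebra F Γ →ₗ[F] F := fun w =>
    { toFun := fun x => x.coeff w, map_add' := fun _ _ => rfl, map_smul' := fun _ _ => rfl }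
  let Φ : MonoidAlgebra F Γ ⊗[F] MonoidAlgebra F Γ →ₗ[F] F :=
    (TensorProduct.lid F F).toLinearMap ∘ₗ TensorProduct.map (c q) (c r)
  have h1 : Φ (∑ l, a i l ⊗ₜ[F] a l j) = (coefMat a q * coefMat a r) i j := by
    simp [Φ, c, coefMat, Matrix.mul_apply]
  rw [← h1, ← hΔ]
  conv_lhs => rw [eq_sum_single (a i j)]
  simp only [map_sum]
  have h2 : ∀ w, Φ (Coalgebra.comul (MonoidAlgebra.single w ((a i j).coeff w))) =
      if w = q ∧ w = r then (a i j).coeff w else 0 := by
    intro w
    by_cases h1 : w = q <;> by_cases h2 : w = r <;>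
      simp [Φ, c, MonoidAlgebra.coeff_single, Finsupp.single_apply, h1, h2]
  rw [Finset.sum_congr rfl fun w _ => h2 w]
  by_cases hgd : q = r
  · subst hgd; simp [coefMat]
  · rw [if_neg hgd]
    simp only [Matrix.zero_apply]
    exact Finset.sum_eq_zero fun w _ => if_neg fun h => hgd (h.1.symm.trans h.2)

lemma sum_coefMat (a : Matrix (Fin m) (Fin m) (MonoidAlgebra F Γ))
    (hε : ∀ i j, Coalgebra.counit (R := F) (a i j) = if i = j then 1 else 0) :
    ∑ q, coefMat a q = 1 := by
  ext i j
  rw [Matrix.sum_apply, Matrix.one_apply, ← hε, counit_eq_sum]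
  rfl

/-- a comatrix with values in a group algebra is diagonalisable -/
theorem exists_diag (a : Matrix (Fin m) (Fin m) (MonoidAlgebra F Γ))
    (hΔ : ∀ i j, Coalgebra.comul (R := F) (a i j) = ∑ l, a i l ⊗ₜ[F] a l j)
    (hε : ∀ i j, Coalgebra.counit (R := F) (a i j) = if i = j then 1 else 0) :
    ∃ (g : Matrix (Fin m) (Fin m) F) (c : Fin m → Γ), IsUnit g.det ∧
      g.map (algebraMap F (MonoidAlgebra F Γ)) * a =
        Matrix.diagonal (fun i => MonoidAlgebra.single (c i) 1) * g.map (algebraMap F (MonoidAlgebra F Γ)) := by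
  classical
  let P : Γ → Module.End F (Fin m → F) := fun q => Matrix.toLin' (coefMat a q)
  have hPP : ∀ q r v, P q (P r v) = if q = r then P q v else 0 := by
    intro q r v
    simp only [P, Matrix.toLin'_apply, Matrix.mulVec_mulVec, coefMat_mul a hΔ]
    split_ifs with h <;> simp
  have hsum : ∀ v, ∑ q, P q v = v := by
    intro v
    simp only [P, Matrix.toLin'_apply, ← Matrix.sum_mulVec, sum_coefMat a hε, Matrix.one_mulVec]
  let V : Γ → Submodule F (Fin m → F) := fun q => LinearMap.range (P q)
  have hfix : ∀ q v, v ∈ V q → ∀ r, P r v = if r = q then v else 0 := by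
    rintro q _ ⟨w, rfl⟩ r
    rw [hPP]
    split_ifs with h <;> simp [h]
  have hind : iSupIndep V := by
    rw [iSupIndep_def]
    intro q
    rw [Submodule.disjoint_def]
    intro v hv hv'
    have h0 : ∀ w ∈ ⨆ j, ⨆ (_ : j ≠ q), V j, P q w = 0 := by
      intro w hw
      induction hw using Submodule.iSup_induction' with
      | mem j x hx =>
        induction hx using Submodule.iSup_induction' with
        | mem hj y hy => rw [hfix j y hy q, if_neg (Ne.symm hj)]
        | zero => simp
        | add x y _ _ hx hy => rw [map_add, hx, hy, add_zero]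
      | zero => simp
      | add x y _ _ hx hy => rw [map_add, hx, hy, add_zero]
    have := hfix q v hv q
    rw [if_pos rfl] at this
    rw [← this, h0 v hv']
  have htop : iSup V = ⊤ := eq_top_iff.2 fun v _ => by
    rw [← hsum v]
    exact Submodule.sum_mem _ fun q _ => Submodule.mem_iSup_of_mem q ⟨v, rfl⟩
  have hint := DirectSum.isInternal_submodule_of_iSupIndep_of_iSup_eq_top hind htop
  let bq : ∀ q, Module.Basis (Fin (Module.finrank F (V q))) F (V q) := fun q => Module.finBasis F (V q)
  let b0 := hint.collectedBasis bq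
  let e : (Σ q, Fin (Module.finrank F (V q))) ≃ Fin m := b0.indexEquiv (Pi.basisFun F (Fin m))
  let b := b0.reindex e
  let c : Fin m → Γ := fun i => (e.symm i).1
  have hb : ∀ i, b i ∈ V (c i) := fun i => by
    simp only [b, Module.Basis.reindex_apply, b0, DirectSum.IsInternal.collectedBasis_coe]
    exact (bq _ _).2
  let B : Matrix (Fin m) (Fin m) F := (Pi.basisFun F (Fin m)).toMatrix b
  have hB : ∀ l i, B l i = b i l := fun l i => by simp [B, Module.Basis.toMatrix_apply]
  have hdetB : IsUnit B.det := by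
    have := (Pi.basisFun F (Fin m)).invertibleToMatrix b
    exact Matrix.isUnit_det_of_invertible _
  have haB : a * B.map (algebraMap F _) =
      B.map (algebraMap F _) * Matrix.diagonal (fun i => MonoidAlgebra.single (c i) 1) := by
    refine Matrix.ext fun l i => MonoidAlgebra.ext (Finsupp.ext fun q => ?_)
    rw [Matrix.mul_apply, Matrix.mul_diagonal]
    have h := congrFun (hfix (c i) (b i) (hb i) q) l
    simp only [P, Matrix.toLin'_apply, Matrix.mulVec, dotProduct, coefMat] at h
    simp only [Matrix.map_apply, hB, ← Algebra.commutes, ← Algebra.smul_def, MonoidAlgebra.coeff_sum,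
      Finset.sum_apply', MonoidAlgebra.coeff_smul, Finsupp.smul_apply, smul_eq_mul, MonoidAlgebra.coeff_single,
      Finsupp.single_apply, mul_ite, mul_one, mul_zero]
    rw [Finset.sum_congr rfl fun x _ => mul_comm (b i x) ((a l x).coeff q), h]
    by_cases hg : q = c i <;> simp [hg, eq_comm]
  refine ⟨B⁻¹, c, Matrix.isUnit_nonsing_inv_det B hdetB, ?_⟩
  have h1 : (B⁻¹).map (algebraMap F (MonoidAlgebra F Γ)) * B.map (algebraMap F _) = 1 := by
    rw [← Matrix.map_mul, Matrix.nonsing_inv_mul B hdetB, Matrix.map_one _ (map_zero _) (map_one _)]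
  have h2 : B.map (algebraMap F (MonoidAlgebra F Γ)) * (B⁻¹).map (algebraMap F _) = 1 := by
    rw [← Matrix.map_mul, Matrix.mul_nonsing_inv B hdetB, Matrix.map_one _ (map_zero _) (map_one _)]
  calc (B⁻¹).map (algebraMap F (MonoidAlgebra F Γ)) * a
      = (B⁻¹).map (algebraMap F _) * (a * B.map (algebraMap F _)) * (B⁻¹).map (algebraMap F _) := by
        rw [Matrix.mul_assoc, Matrix.mul_assoc a, h2, Matrix.mul_one]
    _ = _ := by rw [haB, ← Matrix.mul_assoc, h1, Matrix.one_mul]

omit [Fintype Γ] in
/-- conjugate diagonal matrices of characters differ by a permutation -/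
theorem exists_perm (g : Matrix (Fin m) (Fin m) F) (hg : IsUnit g.det) (c c' : Fin m → Γ)
    (h : g.map (algebraMap F (MonoidAlgebra F Γ)) * Matrix.diagonal (fun i => MonoidAlgebra.single (c i) 1) =
      Matrix.diagonal (fun i => MonoidAlgebra.single (c' i) 1) * g.map (algebraMap F (MonoidAlgebra F Γ))) :
    ∃ e : Equiv.Perm (Fin m), ∀ j, c' (e j) = c j := by
  have hne : g.det ≠ 0 := hg.ne_zero
  rw [Matrix.det_apply] at hne
  obtain ⟨e, -, he⟩ := Finset.exists_ne_zero_of_sum_ne_zero hne
  refine ⟨e, fun j => ?_⟩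
  have hj : g (e j) j ≠ 0 := fun h0 => he (by simp [Finset.prod_eq_zero (f := fun i => g (e i) i) (Finset.mem_univ j) h0])
  have := congrArg (fun x : MonoidAlgebra F Γ => x.coeff (c j)) (congrFun (congrFun h (e j)) j)
  simp only [Matrix.mul_diagonal, Matrix.diagonal_mul, Matrix.map_apply, ← Algebra.smul_def, ← Algebra.commutes,
    MonoidAlgebra.coeff_smul, Finsupp.smul_apply, smul_eq_mul, MonoidAlgebra.coeff_single, Finsupp.single_apply,
    if_pos, _root_.mul_one, mul_ite, mul_zero] at this
  by_contra hne'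
  rw [if_neg hne'] at this
  exact hj this

end comatrix

section points

variable (k K : Type u) [Field k] [Field K] [Algebra k K] (m : ℕ)

/-- the structure map `Spec K ⟶ Spec k` -/
noncomputable abbrev str : Spec (CommRingCat.of K) ⟶ Spec (CommRingCat.of k) :=
  Spec.map (CommRingCat.ofHom (algebraMap k K))

/-- the base change of `GL_m` as an affine group -/
noncomputable abbrev GK : Over (Spec (CommRingCat.of K)) := hspec K (K ⊗[k] CoordGrp.GLn m k)

/-- the comparison of the two forms of the base changed group -/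
noncomputable def toGK : Grp.mk (Red.bc (str k K) (CoactBr.sp k (CoordGrp.GLn m k))) ≅ Grp.mk (GK k K m) :=
  MultHopf.bcSpec k K (CoordGrp.GLn m k)

variable {k K m}

/-- the matrix of a point -/
noncomputable def matPt {C : Type u} [CommRing C] [Algebra K C]
    (x : (Spec (CommRingCat.of C)).asOver (Spec (CommRingCat.of K)) ⟶ GK k K m) :
    Matrix (Fin m) (Fin m) C :=
  fun i j => ((Spec.mapMulEquiv (R := K)).symm x).ofConv ((1 : K) ⊗ₜ[k] CoordGrp.GLn.X i j)

variable {C : Type u} [CommRing C] [Algebra K C]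

lemma matPt_mul (x y : (Spec (CommRingCat.of C)).asOver (Spec (CommRingCat.of K)) ⟶ GK k K m) :
    matPt (x * y) = matPt x * matPt y := by
  refine Matrix.ext fun i j => ?_
  change ((Spec.mapMulEquiv (R := K)).symm (x * y)).ofConv _ = _
  rw [map_mul, AlgHom.convMul_apply, TensorProduct.comul_tmul, CommSemiring.comul_apply, CoordGrp.GLn.comul_X,
    TensorProduct.tmul_sum, map_sum, map_sum, Matrix.mul_apply]
  simp [matPt]

lemma matPt_one : matPt (1 : (Spec (CommRingCat.of C)).asOver (Spec (CommRingCat.of K)) ⟶ GK k K m) = 1 := by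
  refine Matrix.ext fun i j => ?_
  change ((Spec.mapMulEquiv (R := K)).symm 1).ofConv _ = _
  rw [map_one, AlgHom.convOne_apply, TensorProduct.counit_tmul, CommSemiring.counit_apply, CoordGrp.GLn.counit_X,
    Matrix.one_apply]
  split_ifs <;> simp

lemma isUnit_det_matPt (x : (Spec (CommRingCat.of C)).asOver (Spec (CommRingCat.of K)) ⟶ GK k K m) :
    IsUnit (matPt x).det := by
  have : matPt x * matPt x⁻¹ = 1 := by rw [← matPt_mul, mul_inv_cancel, matPt_one]
  exact (Matrix.isUnit_iff_isUnit_det _).1 ⟨⟨_, _, this, by rw [← matPt_mul, inv_mul_cancel, matPt_one]⟩, rfl⟩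

lemma matPt_injective : Function.Injective
    (matPt : ((Spec (CommRingCat.of C)).asOver (Spec (CommRingCat.of K)) ⟶ GK k K m) → _) := by
  letI : Algebra k C := ((algebraMap K C).comp (algebraMap k K)).toAlgebra
  haveI : IsScalarTower k K C := IsScalarTower.of_algebraMap_eq fun _ => rfl
  intro x y h
  apply (Spec.mapMulEquiv (R := K)).symm.injective
  apply WithConv.ofConv_injective
  refine Algebra.TensorProduct.ext (Subsingleton.elim _ _) ?_
  exact Comod.glAlgHom_ext fun i j => congrFun (congrFun h i) j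

lemma matPt_mapMulEquiv (f : WithConv (K ⊗[k] CoordGrp.GLn m k →ₐ[K] C)) (i j : Fin m) :
    matPt (Spec.mapMulEquiv (R := K) f) i j = f.ofConv ((1 : K) ⊗ₜ[k] CoordGrp.GLn.X i j) := by
  rw [matPt, MulEquiv.symm_apply_apply]

lemma matPt_comp {C' : Type u} [CommRing C'] [Algebra K C'] (φ : C →ₐ[K] C')
    (x : (Spec (CommRingCat.of C)).asOver (Spec (CommRingCat.of K)) ⟶ GK k K m) :
    matPt ((Spec.map (CommRingCat.ofHom φ.toRingHom)).asOver (Spec (CommRingCat.of K)) ≫ x) = (matPt x).map φ := by
  obtain ⟨f, rfl⟩ := (Spec.mapMulEquiv (R := K)).surjective x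
  have h : (Spec.map (CommRingCat.ofHom φ.toRingHom)).asOver (Spec (CommRingCat.of K)) ≫ Spec.mapMulEquiv (R := K) f =
      Spec.mapMulEquiv (R := K) (WithConv.toConv (φ.comp f.ofConv)) := by
    refine Over.OverMorphism.ext ?_
    change Spec.map _ ≫ Spec.map _ = Spec.map _
    rw [← Spec.map_comp]
    rfl
  rw [h]
  refine Matrix.ext fun i j => ?_
  rw [Matrix.map_apply, matPt_mapMulEquiv, matPt_mapMulEquiv]
  rfl

lemma toGK_left : (toGK k K m).hom.hom.hom.left ≫
    Spec.map (CommRingCat.ofHom (Algebra.TensorProduct.includeRight :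
      CoordGrp.GLn m k →ₐ[k] K ⊗[k] CoordGrp.GLn m k).toRingHom) =
    Limits.pullback.fst (CoactBr.sp k (CoordGrp.GLn m k)).hom (str k K) := by
  change ((Limits.pullbackSymmetry _ _).hom ≫ (pullbackSpecIso' k K (CoordGrp.GLn m k)).hom) ≫ _ = _
  simp only [pullbackSpecIso', Category.assoc]
  erw [pullbackSpecIso_hom_snd, Limits.pullbackSymmetry_hom_comp_snd]
  rfl

end points

end Groth.Agent.GrpSch.DiagGL
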