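import Groth.Agent.GrpSch.DiagGL
import Groth.Agent.DefAff.Spec

/-!
# Finite diagonalisable subgroups of `GL_m` under extension of the base field
-/

set_option autoImplicit false
set_option backward.isDefEq.respectTransparency.types false

universe u

open CategoryTheory MonoidalCategory CartesianMonoidalCategory MonObj AlgebraicGeometry
open scoped TensorProduct

namespace Groth.Agent.GrpSch.DiagGL

open Groth.Agent.MultHopf (hspec)

variable {k : Type u} [Field k]

theorem exists_bialgHom {A B : Type u} [CommRing A] [HopfAlgebra k A] [CommRing B] [HopfAlgebra k B]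
    (x : hspec k B ⟶ hspec k A) [IsMonHom x] :
    ∃ π : A →ₐc[k] B, x = Spec.mapMulEquiv (R := k) (WithConv.toConv (π : A →ₐ[k] B)) := by
  let J : Grp.mk (hspec k B) ⟶ Grp.mk (hspec k A) := Grp.ofHom x
  refine ⟨((hopfSpec.fullyFaithful (R := CommRingCat.of k)).preimage
    (X := Opposite.op (CommHopfAlgCat.of k B)) (Y := Opposite.op (CommHopfAlgCat.of k A)) J).unop.hom, ?_⟩
  refine (congrArg (fun z => z.hom.hom) ((hopfSpec.fullyFaithful (R := CommRingCat.of k)).map_preimage
    (X := Opposite.op (CommHopfAlgCat.of k B)) (Y := Opposite.op (CommHopfAlgCat.of k A)) J)).symm.trans ?_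
  rfl

theorem surjective_of_isClosedImmersion {A B : Type u} [CommRing A] [Algebra k A] [CommRing B] [Algebra k B]
    (π : A →ₐ[k] B) (h : IsClosedImmersion (Spec.map (CommRingCat.ofHom π.toRingHom))) :
    Function.Surjective π :=
  DefAff.surjective_of_isClosedImmersion (CommRingCat.ofHom π.toRingHom)

/-- a group scheme with split character group `Γ`, as an affine group -/
noncomputable def dsIso (k : Type u) [Field k] (M : Type) [AddCommGroup M] :
    Grp.mk (Red.DS (Spec (CommRingCat.of k)) M) ≅ Grp.mk (hspec k (MonoidAlgebra k (Multiplicative M))) :=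
  MultHopf.bcDiag (ULift.{u} ℤ) k (Limits.IsTerminal.from specULiftZIsTerminal (Spec (CommRingCat.of k))) M ≪≫
    MultHopf.hspecIso (MonoidAlgebra.domCongrBialgEquiv k k MulEquiv.ulift)

variable (K : Type u) [Field K] [Algebra k K]

theorem bcSpec_left (A : Type u) [CommRing A] [HopfAlgebra k A] :
    (MultHopf.bcSpec k K A).hom.hom.hom.left ≫
      Spec.map (CommRingCat.ofHom (Algebra.TensorProduct.includeRight : A →ₐ[k] K ⊗[k] A).toRingHom) =
    Limits.pullback.fst (hspec k A).hom (str k K) := by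
  change ((Limits.pullbackSymmetry _ _).hom ≫ (pullbackSpecIso' k K A).hom) ≫ _ = _
  simp only [pullbackSpecIso', Category.assoc]
  erw [pullbackSpecIso_hom_snd, Limits.pullbackSymmetry_hom_comp_snd]
  rfl

variable (Γ : Type) [CommGroup Γ]

/-- the coefficient extension of group algebras -/
noncomputable def extHom : MonoidAlgebra k Γ →+* MonoidAlgebra K Γ :=
  MonoidAlgebra.mapRingHom Γ (algebraMap k K)

/-- the base change of a group algebra, as a bialgebra -/
noncomputable def scal : K ⊗[k] MonoidAlgebra k Γ ≃ₐc[K] MonoidAlgebra K Γ :=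
  BialgEquiv.ofAlgEquiv (MonoidAlgebra.scalarTensorEquiv k K (M := Γ))
    (by ext q; simp [MonoidAlgebra.scalarTensorEquiv_tmul])
    (by ext q; simp [MonoidAlgebra.scalarTensorEquiv_tmul, TensorProduct.comul_tmul])

/-- the base change of a diagonalisable group -/
noncomputable def bcGamma : Grp.mk (Red.bc (str k K) (hspec k (MonoidAlgebra k Γ))) ≅
    Grp.mk (hspec K (MonoidAlgebra K Γ)) :=
  MultHopf.bcSpec k K (MonoidAlgebra k Γ) ≪≫ MultHopf.hspecIso (scal K Γ)

theorem bcGamma_inv_left : (bcGamma (k := k) K Γ).inv.hom.hom.left ≫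
    Limits.pullback.fst (hspec k (MonoidAlgebra k Γ)).hom (str k K) =
      Spec.map (CommRingCat.ofHom (extHom (k := k) K Γ)) := by
  have h1 : (bcGamma (k := k) K Γ).hom.hom.hom.left ≫ Spec.map (CommRingCat.ofHom (extHom (k := k) K Γ)) =
      Limits.pullback.fst (hspec k (MonoidAlgebra k Γ)).hom (str k K) := by
    refine Eq.trans ?_ (bcSpec_left (k := k) K (MonoidAlgebra k Γ))
    refine (Category.assoc (MultHopf.bcSpec k K (MonoidAlgebra k Γ)).hom.hom.hom.left
      (Spec.map (CommRingCat.ofHom ((scal (k := k) K Γ).symm : MonoidAlgebra K Γ →ₐ[K] K ⊗[k] MonoidAlgebra k Γ).toRingHom))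
      (Spec.map (CommRingCat.ofHom (extHom (k := k) K Γ)))).trans ?_
    refine congrArg (fun z => (MultHopf.bcSpec k K (MonoidAlgebra k Γ)).hom.hom.hom.left ≫ z) ?_
    refine (Spec.map_comp _ _).symm.trans (congrArg Spec.map ?_)
    refine CommRingCat.hom_ext (MonoidAlgebra.ringHom_ext (fun r => ?_) (fun q => ?_))
    · change (scal (k := k) K Γ).symm (extHom (k := k) K Γ (MonoidAlgebra.single 1 r)) = (1 : K) ⊗ₜ[k] MonoidAlgebra.single 1 r
      rw [extHom, MonoidAlgebra.mapRingHom_single]
      refine (MonoidAlgebra.scalarTensorEquiv_symm_single (R := k) (A := K) (1 : Γ) _).trans ?_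
      rw [Algebra.algebraMap_eq_smul_one, TensorProduct.smul_tmul, MonoidAlgebra.smul_single', _root_.mul_one]
    · change (scal (k := k) K Γ).symm (extHom (k := k) K Γ (MonoidAlgebra.single q 1)) = (1 : K) ⊗ₜ[k] MonoidAlgebra.single q 1
      rw [extHom, MonoidAlgebra.mapRingHom_single, map_one]
      exact MonoidAlgebra.scalarTensorEquiv_symm_single (R := k) (A := K) q _
  have h2 : (bcGamma (k := k) K Γ).inv.hom.hom.left ≫ (bcGamma (k := k) K Γ).hom.hom.hom.left = 𝟙 _ :=
    congrArg (fun z => z.hom.hom.left) (bcGamma (k := k) K Γ).inv_hom_id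
  refine (congrArg (fun z => (bcGamma (k := k) K Γ).inv.hom.hom.left ≫ z) h1).symm.trans ?_
  refine (Category.assoc _ _ _).symm.trans ?_
  refine (congrArg (fun z => z ≫ Spec.map (CommRingCat.ofHom (extHom (k := k) K Γ))) h2).trans ?_
  exact Category.id_comp _

variable {m : ℕ}

/-- the matrix of the base change of a subgroup -/
theorem matPt_bc (π : CoordGrp.GLn m k →ₐc[k] MonoidAlgebra k Γ) :
    matPt ((bcGamma (k := k) K Γ).inv.hom.hom ≫
      (Over.pullback (str k K)).map (Spec.mapMulEquiv (R := k) (WithConv.toConv (π : CoordGrp.GLn m k →ₐ[k] MonoidAlgebra k Γ))) ≫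
        (toGK k K m).hom.hom.hom) =
      Matrix.of fun i j => extHom (k := k) K Γ (π (CoordGrp.GLn.X i j)) := by
  set i₀ := Spec.mapMulEquiv (R := k) (WithConv.toConv (π : CoordGrp.GLn m k →ₐ[k] MonoidAlgebra k Γ))
  set x : hspec K (MonoidAlgebra K Γ) ⟶ GK k K m :=
    (bcGamma (k := k) K Γ).inv.hom.hom ≫ (Over.pullback (str k K)).map i₀ ≫ (toGK k K m).hom.hom.hom
  obtain ⟨f, hf⟩ := (Spec.mapMulEquiv (R := K)).surjective x
  have h : Spec.map (CommRingCat.ofHom f.ofConv.toRingHom) ≫
      Spec.map (CommRingCat.ofHom (Algebra.TensorProduct.includeRight :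
        CoordGrp.GLn m k →ₐ[k] K ⊗[k] CoordGrp.GLn m k).toRingHom) =
      Spec.map (CommRingCat.ofHom (extHom (k := k) K Γ)) ≫
        Spec.map (CommRingCat.ofHom (π : CoordGrp.GLn m k →ₐ[k] MonoidAlgebra k Γ).toRingHom) := by
    have hl : Spec.map (CommRingCat.ofHom f.ofConv.toRingHom) = x.left := congrArg CommaMorphism.left hf
    rw [hl, ← bcGamma_inv_left]
    change ((bcGamma (k := k) K Γ).inv.hom.hom.left ≫ ((Over.pullback (str k K)).map i₀).left ≫
      (toGK k K m).hom.hom.hom.left) ≫ _ = _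
    simp only [Category.assoc]
    rw [toGK_left]
    refine Eq.trans ?_ (Category.assoc _ _ _).symm
    refine congrArg (fun z => (bcGamma (k := k) K Γ).inv.hom.hom.left ≫ z) ?_
    exact Limits.pullback.lift_fst (f := (CoactBr.sp k (CoordGrp.GLn m k)).hom) (g := str k K)
      (Limits.pullback.fst (hspec k (MonoidAlgebra k Γ)).hom (str k K) ≫ i₀.left)
      (Limits.pullback.snd (hspec k (MonoidAlgebra k Γ)).hom (str k K)) _
  rw [← Spec.map_comp, ← Spec.map_comp] at h
  have h' := Spec.map_injective h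
  refine Matrix.ext fun a b => ?_
  rw [← hf, matPt_mapMulEquiv]
  exact congrArg (fun e => e.hom (CoordGrp.GLn.X a b)) h'

/-- the matrix of a homomorphism is a comatrix -/
theorem comatrix_matPt {B : Type u} [CommRing B] [HopfAlgebra K B] (x : hspec K B ⟶ GK k K m) [IsMonHom x] :
    (∀ i j, Coalgebra.comul (R := K) (matPt x i j) = ∑ l, matPt x i l ⊗ₜ[K] matPt x l j) ∧
      (∀ i j, Coalgebra.counit (R := K) (matPt x i j) = if i = j then 1 else 0) := by
  obtain ⟨π, hπ⟩ := exists_bialgHom x
  have hm : ∀ i j, matPt x i j = π ((1 : K) ⊗ₜ[k] CoordGrp.GLn.X i j) := fun i j => by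
    rw [hπ, matPt_mapMulEquiv]; rfl
  constructor <;> intro i j
  · rw [hm, ← CoalgHomClass.map_comp_comul_apply, TensorProduct.comul_tmul, CommSemiring.comul_apply,
      CoordGrp.GLn.comul_X, TensorProduct.tmul_sum, map_sum, map_sum]
    refine Finset.sum_congr rfl fun l _ => ?_
    rw [hm, hm, TensorProduct.AlgebraTensorModule.tensorTensorTensorComm_tmul, TensorProduct.map_tmul]
    rfl
  · rw [hm, CoalgHomClass.counit_comp_apply, TensorProduct.counit_tmul, CommSemiring.counit_apply,
      CoordGrp.GLn.counit_X]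
    split_ifs <;> simp

/-- a rational point, seen over an algebra -/
noncomputable def unitPt : 𝟙_ (Over (Spec (CommRingCat.of K))) ⟶ (Spec (CommRingCat.of K)).asOver (Spec (CommRingCat.of K)) :=
  Over.homMk (𝟙 (Spec (CommRingCat.of K))) ((Category.id_comp _).trans (Spec.map_id (CommRingCat.of K)))

theorem toUnit_unitPt (C : Type u) [CommRing C] [Algebra K C] :
    toUnit ((Spec (CommRingCat.of C)).asOver (Spec (CommRingCat.of K))) ≫ unitPt K =
      (Spec.map (CommRingCat.ofHom (Algebra.ofId K C).toRingHom)).asOver (Spec (CommRingCat.of K)) := by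
  ext : 1
  rw [Over.comp_left, Over.toUnit_left]
  refine (Category.comp_id _).trans ?_
  rfl

theorem matPt_toUnit (y : 𝟙_ (Over (Spec (CommRingCat.of K))) ⟶ GK k K m) (C : Type u) [CommRing C] [Algebra K C] :
    matPt (toUnit ((Spec (CommRingCat.of C)).asOver (Spec (CommRingCat.of K))) ≫ y) =
      (matPt (toUnit ((Spec (CommRingCat.of K)).asOver (Spec (CommRingCat.of K))) ≫ y)).map (algebraMap K C) := by
  have h : unitPt K ≫ toUnit ((Spec (CommRingCat.of K)).asOver (Spec (CommRingCat.of K))) = 𝟙 _ :=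
    toUnit_unique _ _
  calc matPt (toUnit ((Spec (CommRingCat.of C)).asOver (Spec (CommRingCat.of K))) ≫ y)
      = matPt ((Spec.map (CommRingCat.ofHom (Algebra.ofId K C).toRingHom)).asOver (Spec (CommRingCat.of K)) ≫
          toUnit ((Spec (CommRingCat.of K)).asOver (Spec (CommRingCat.of K))) ≫ y) := by
        rw [← toUnit_unitPt, Category.assoc, reassoc_of% h]
    _ = _ := matPt_comp (Algebra.ofId K C) _

/-- every invertible matrix over the field is a rational point -/
theorem exists_point (g : Matrix (Fin m) (Fin m) K) (hg : IsUnit g.det) :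
    ∃ y : 𝟙_ (Over (Spec (CommRingCat.of K))) ⟶ GK k K m,
      matPt (toUnit ((Spec (CommRingCat.of K)).asOver (Spec (CommRingCat.of K))) ≫ y) = g := by
  obtain ⟨d, hd⟩ := hg.exists_right_inv
  let f : K ⊗[k] CoordGrp.GLn m k →ₐ[K] K := Algebra.TensorProduct.lift (Algebra.ofId K K)
    (CoordGrp.GLn.pt m k g d hd) (fun _ _ => Commute.all _ _)
  refine ⟨unitPt K ≫ Spec.mapMulEquiv (R := K) (WithConv.toConv f), ?_⟩
  have h : toUnit ((Spec (CommRingCat.of K)).asOver (Spec (CommRingCat.of K))) ≫ unitPt K = 𝟙 _ := by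
    rw [toUnit_unitPt]
    exact Over.OverMorphism.ext (Spec.map_id _)
  rw [reassoc_of% h]
  refine Matrix.ext fun i j => ?_
  rw [matPt_mapMulEquiv]
  simp [f]

/-- conjugation of a point by a rational point, on matrices -/
theorem matPt_conjBy {C : Type u} [CommRing C] [Algebra K C] (y : 𝟙_ (Over (Spec (CommRingCat.of K))) ⟶ GK k K m)
    (x : (Spec (CommRingCat.of C)).asOver (Spec (CommRingCat.of K)) ⟶ GK k K m) :
    matPt (AGF.conjBy y x) * matPt (toUnit ((Spec (CommRingCat.of C)).asOver (Spec (CommRingCat.of K))) ≫ y) =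
      matPt (toUnit ((Spec (CommRingCat.of C)).asOver (Spec (CommRingCat.of K))) ≫ y) * matPt x := by
  rw [← matPt_mul, ← matPt_mul, AGF.conjBy, inv_mul_cancel_right]

/-- transport of conjugation along a homomorphism -/
theorem conjBy_comp {S : Scheme.{u}} {H H' G G' : Over S} [GrpObj G] [GrpObj G'] (y : 𝟙_ (Over S) ⟶ G)
    (x : H ⟶ G) (a : H' ⟶ H) (b : G ⟶ G') [IsMonHom b] :
    a ≫ AGF.conjBy y x ≫ b = AGF.conjBy (y ≫ b) (a ≫ x ≫ b) := by
  simp only [AGF.conjBy, MonObj.mul_comp, GrpObj.inv_comp, MonObj.comp_mul, GrpObj.comp_inv, Category.assoc,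
    comp_toUnit_assoc]

end Groth.Agent.GrpSch.DiagGL
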