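import Groth.Agent.GrpSch.DiagGLBase

/-!
# Descent of diagonalisable finite subgroups of `GL_m` from an extension field
-/

set_option autoImplicit false
set_option backward.isDefEq.respectTransparency.types false

universe u

open CategoryTheory MonoidalCategory CartesianMonoidalCategory MonObj AlgebraicGeometry
open scoped TensorProduct

namespace Groth.Agent.GrpSch.DiagGL

open Groth.Agent.MultHopf (hspec)

variable {k : Type u} [Field k] {Γ : Type} [CommGroup Γ] [DecidableEq Γ] {m : ℕ}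

/-- the diagonal matrix of characters -/
noncomputable def diagMat (k : Type u) [Field k] (c : Fin m → Γ) : Matrix (Fin m) (Fin m) (MonoidAlgebra k Γ) :=
  Matrix.diagonal fun i => MonoidAlgebra.single (c i) 1

/-- the homomorphism of coordinate rings of a diagonal embedding -/
noncomputable def diagHom (k : Type u) [Field k] (c : Fin m → Γ) : CoordGrp.GLn m k →ₐc[k] MonoidAlgebra k Γ :=
  Comod.glHom (diagMat k c)
    (fun i j => by
      rw [Finset.sum_eq_single i (fun l _ hl => by simp [diagMat, Matrix.diagonal_apply_ne _ (Ne.symm hl)])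
        (fun h => absurd (Finset.mem_univ i) h)]
      by_cases h : i = j
      · subst h; simp [diagMat]
      · simp [diagMat, Matrix.diagonal_apply_ne _ h])
    (fun i j => by
      by_cases h : i = j
      · subst h; simp [diagMat]
      · simp [diagMat, Matrix.diagonal_apply_ne _ h, h])

lemma diagHom_X (c : Fin m → Γ) (i j : Fin m) : diagHom k c (CoordGrp.GLn.X i j) = diagMat k c i j :=
  Comod.glHom_X _ _ _ i j

variable {K : Type u} [Field K] [Algebra k K]

lemma extHom_diag (c : Fin m → Γ) :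
    (Matrix.of fun i j => extHom (k := k) K Γ (diagHom k c (CoordGrp.GLn.X i j))) = diagMat K c := by
  refine Matrix.ext fun i j => ?_
  simp only [Matrix.of_apply, diagHom_X]
  by_cases h : i = j
  · subst h; simp [diagMat, extHom]
  · simp [diagMat, Matrix.diagonal_apply_ne _ h]

/-- if a conjugate of a diagonal point has surjective coordinate map, then so does the diagonal point -/
theorem diagHom_surjective [Fintype Γ] (π' : K ⊗[k] CoordGrp.GLn m k →ₐ[K] MonoidAlgebra K Γ)
    (hπ' : Function.Surjective π') (g : Matrix (Fin m) (Fin m) K) (hg : IsUnit g.det) (c : Fin m → Γ)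
    (h : g.map (algebraMap K (MonoidAlgebra K Γ)) * Matrix.of (fun i j => π' ((1 : K) ⊗ₜ[k] CoordGrp.GLn.X i j)) =
      diagMat K c * g.map (algebraMap K (MonoidAlgebra K Γ))) :
    Function.Surjective (diagHom k c) := by
  let S : Submonoid Γ :=
    { carrier := {q | MonoidAlgebra.single q (1 : k) ∈ (diagHom k c : CoordGrp.GLn m k →ₐ[k] MonoidAlgebra k Γ).range}
      one_mem' := ⟨1, map_one _⟩
      mul_mem' := by
        rintro q r ⟨x, hx⟩ ⟨y, hy⟩
        exact ⟨x * y, (map_mul _ x y).trans ((congrArg₂ (· * ·) hx hy).trans (by simp))⟩ }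
  have hc : ∀ i, c i ∈ S := fun i => ⟨CoordGrp.GLn.X i i, (diagHom_X c i i).trans (by simp [diagMat])⟩
  suffices hS : ∀ q, q ∈ S by
    have key : ∀ z, z ∈ (diagHom k c : CoordGrp.GLn m k →ₐ[k] MonoidAlgebra k Γ).range := by
      intro z
      rw [eq_sum_single z]
      refine Subalgebra.sum_mem _ fun q _ => ?_
      have : MonoidAlgebra.single q (z.coeff q) = z.coeff q • MonoidAlgebra.single q (1 : k) := by simp
      rw [this]
      exact Subalgebra.smul_mem _ (hS q) _
    exact fun z => key z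
  let T : Subalgebra K (MonoidAlgebra K Γ) := (MonoidAlgebra.mapDomainAlgHom K K S.subtype).range
  have hT : ∀ q ∈ S, MonoidAlgebra.single q (1 : K) ∈ T := fun q hq =>
    ⟨MonoidAlgebra.single ⟨q, hq⟩ 1, by simp⟩
  set a := Matrix.of (fun i j => π' ((1 : K) ⊗ₜ[k] CoordGrp.GLn.X i j))
  set G := g.map (algebraMap K (MonoidAlgebra K Γ))
  have hG : (g⁻¹).map (algebraMap K (MonoidAlgebra K Γ)) * G = 1 := by
    rw [← Matrix.map_mul, Matrix.nonsing_inv_mul g hg, Matrix.map_one _ (map_zero _) (map_one _)]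
  have ha : a = (g⁻¹).map (algebraMap K (MonoidAlgebra K Γ)) * (diagMat K c * G) := by
    rw [← h, ← Matrix.mul_assoc, hG, Matrix.one_mul]
  have haT : ∀ i j, a i j ∈ T := fun i j => by
    rw [ha, Matrix.mul_apply]
    refine Subalgebra.sum_mem _ fun l _ => Subalgebra.mul_mem _ (Subalgebra.algebraMap_mem _ _) ?_
    rw [diagMat, Matrix.diagonal_mul]
    exact Subalgebra.mul_mem _ (hT _ (hc l)) (Subalgebra.algebraMap_mem _ _)
  let w : Γ := ∏ i, c i
  have hw : w⁻¹ ∈ S := by
    have hmem : w ∈ S := prod_mem fun i _ => hc i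
    have : w⁻¹ = w ^ (orderOf w - 1) := by
      refine inv_eq_of_mul_eq_one_right ?_
      rw [← pow_succ', Nat.sub_add_cancel (orderOf_pos w), pow_orderOf_eq_one]
    rw [this]
    exact pow_mem hmem _
  have hdet : a.det = MonoidAlgebra.single w 1 := by
    rw [ha, Matrix.det_mul, Matrix.det_mul, mul_left_comm, ← Matrix.det_mul, hG, Matrix.det_one, _root_.mul_one,
      diagMat, Matrix.det_diagonal, MonoidAlgebra.prod_single]
    simp [w]
  let a' : Matrix (Fin m) (Fin m) T := fun i j => ⟨a i j, haT i j⟩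
  have hd : a'.det * ⟨_, hT _ hw⟩ = 1 := by
    refine Subtype.ext ?_
    have h1 : ((a'.det : T) : MonoidAlgebra K Γ) = a.det := AlgHom.map_det T.val a'
    change ((a'.det : T) : MonoidAlgebra K Γ) * MonoidAlgebra.single w⁻¹ 1 = 1
    rw [h1, hdet]
    simp [MonoidAlgebra.one_def]
  let ρ : CoordGrp.GLn m k →ₐ[k] T := CoordGrp.GLn.pt m k a' _ hd
  have hρ : ((T.val).restrictScalars k).comp ρ =
      (π'.restrictScalars k).comp Algebra.TensorProduct.includeRight := by
    refine Comod.glAlgHom_ext fun i j => ?_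
    simp [ρ, a', a]
  have hmem : ∀ z, π' z ∈ T := by
    intro z
    induction z with
    | zero => simp
    | tmul s x =>
      have : π' ((1 : K) ⊗ₜ[k] x) ∈ T := by
        have := DFunLike.congr_fun hρ x
        simp only [AlgHom.comp_apply, AlgHom.restrictScalars_apply, Algebra.TensorProduct.includeRight_apply,
          Subalgebra.coe_val] at this
        rw [← this]
        exact (ρ x).2
      rw [← _root_.mul_one s, ← smul_eq_mul, ← TensorProduct.smul_tmul', map_smul]
      exact Subalgebra.smul_mem _ this _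
    | add x y hx hy => rw [map_add]; exact Subalgebra.add_mem _ hx hy
  intro q
  obtain ⟨z, hz⟩ := hπ' (MonoidAlgebra.single q 1)
  obtain ⟨y, hy⟩ := hz ▸ hmem z
  by_contra hq
  have h0 : (MonoidAlgebra.mapDomainAlgHom K K S.subtype y).coeff q = 0 :=
    Finsupp.mapDomain_of_notMem_range y.coeff q (fun ⟨r, hr⟩ => hq (hr ▸ r.2))
  rw [show MonoidAlgebra.mapDomainAlgHom K K S.subtype y = _ from hy] at h0
  simp at h0

theorem descend [Fintype Γ] {σ' : Over (Spec (CommRingCat.of K))} [GrpObj σ']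
    (e : Grp.mk σ' ≅ Grp.mk (hspec K (MonoidAlgebra K Γ)))
    (i' : σ' ⟶ Red.bc (str k K) (CoactBr.sp k (CoordGrp.GLn m k))) [IsMonHom i'] (hi' : IsClosedImmersion i'.left) :
    ∃ (c : Fin m → Γ), Function.Surjective (diagHom k c) ∧
      ∃ (y : 𝟙_ (Over (Spec (CommRingCat.of K))) ⟶ Red.bc (str k K) (CoactBr.sp k (CoordGrp.GLn m k))),
        AGF.conjBy y i' = (e ≪≫ (bcGamma (k := k) K Γ).symm).hom.hom.hom ≫
          (Over.pullback (str k K)).map (Spec.mapMulEquiv (R := k)
            (WithConv.toConv (diagHom k c : CoordGrp.GLn m k →ₐ[k] MonoidAlgebra k Γ))) := by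
  let e₁ : hspec K (MonoidAlgebra K Γ) ⟶ σ' := e.inv.hom.hom
  let b : Red.bc (str k K) (CoactBr.sp k (CoordGrp.GLn m k)) ⟶ GK k K m := (toGK k K m).hom.hom.hom
  let b' : GK k K m ⟶ Red.bc (str k K) (CoactBr.sp k (CoordGrp.GLn m k)) := (toGK k K m).inv.hom.hom
  haveI : IsMonHom b := (toGK k K m).hom.hom.isMonHom_hom
  haveI : IsMonHom e₁ := e.inv.hom.isMonHom_hom
  let x : hspec K (MonoidAlgebra K Γ) ⟶ GK k K m := e₁ ≫ i' ≫ b
  haveI : IsMonHom x := inferInstance
  obtain ⟨hΔ, hε⟩ := comatrix_matPt K x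
  obtain ⟨g, c, hg, hga⟩ := exists_diag (matPt x) hΔ hε
  obtain ⟨y₀, hy₀⟩ := exists_point (k := k) K g hg
  obtain ⟨π', hπ'⟩ := exists_bialgHom x
  have hsurj : Function.Surjective (π' : K ⊗[k] CoordGrp.GLn m k →ₐ[K] MonoidAlgebra K Γ) := by
    refine surjective_of_isClosedImmersion _ ?_
    have : Spec.map (CommRingCat.ofHom (π' : K ⊗[k] CoordGrp.GLn m k →ₐ[K] MonoidAlgebra K Γ).toRingHom) = x.left :=
      (congrArg CommaMorphism.left hπ').symm
    rw [this]
    haveI : IsIso e₁.left := ⟨e.hom.hom.hom.left, congrArg (fun z => z.hom.hom.left) e.inv_hom_id,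
      congrArg (fun z => z.hom.hom.left) e.hom_inv_id⟩
    haveI : IsIso b.left := ⟨b'.left, congrArg (fun z => z.hom.hom.left) (toGK k K m).hom_inv_id,
      congrArg (fun z => z.hom.hom.left) (toGK k K m).inv_hom_id⟩
    change IsClosedImmersion (e₁.left ≫ i'.left ≫ b.left)
    haveI := hi'
    infer_instance
  refine ⟨c, diagHom_surjective _ hsurj g hg c ?_, y₀ ≫ b', ?_⟩
  · have : matPt x = Matrix.of fun i j => π' ((1 : K) ⊗ₜ[k] CoordGrp.GLn.X i j) := by
      refine Matrix.ext fun i j => ?_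
      rw [hπ', matPt_mapMulEquiv]; rfl
    exact (congrArg (fun z => g.map (algebraMap K (MonoidAlgebra K Γ)) * z) this.symm).trans hga
  have hb : b' ≫ b = 𝟙 _ := congrArg (fun z => z.hom.hom) (toGK k K m).inv_hom_id
  have hb' : b ≫ b' = 𝟙 _ := congrArg (fun z => z.hom.hom) (toGK k K m).hom_inv_id
  let e₀ : σ' ⟶ hspec K (MonoidAlgebra K Γ) := e.hom.hom.hom
  have he : e₀ ≫ e₁ = 𝟙 _ := congrArg (fun z => z.hom.hom) e.hom_inv_id
  set R := (Over.pullback (str k K)).map (Spec.mapMulEquiv (R := k)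
    (WithConv.toConv (diagHom k c : CoordGrp.GLn m k →ₐ[k] MonoidAlgebra k Γ)))
  let s : hspec K (MonoidAlgebra K Γ) ⟶ Red.bc (str k K) (hspec k (MonoidAlgebra k Γ)) :=
    (bcGamma (k := k) K Γ).inv.hom.hom
  have key : AGF.conjBy y₀ x = s ≫ R ≫ b := by
    refine matPt_injective ?_
    refine (?_ : _ = diagMat K c).trans ((matPt_bc K Γ (diagHom k c)).trans (extHom_diag c)).symm
    have hG : (g.map (algebraMap K (MonoidAlgebra K Γ))) * (g⁻¹).map (algebraMap K (MonoidAlgebra K Γ)) = 1 := by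
      rw [← Matrix.map_mul, Matrix.mul_nonsing_inv g hg, Matrix.map_one _ (map_zero _) (map_one _)]
    have h1 := matPt_conjBy K y₀ x
    rw [matPt_toUnit K y₀ (MonoidAlgebra K Γ), hy₀] at h1
    refine (Matrix.mul_one _).symm.trans ?_
    rw [← hG, ← Matrix.mul_assoc, h1, hga, Matrix.mul_assoc, hG, Matrix.mul_one]
    rfl
  have h2 : e₁ ≫ AGF.conjBy (y₀ ≫ b') i' ≫ b = AGF.conjBy y₀ x := by
    rw [conjBy_comp, Category.assoc, hb, Category.comp_id]
  change AGF.conjBy (y₀ ≫ b') i' = (e₀ ≫ s) ≫ R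
  calc AGF.conjBy (y₀ ≫ b') i'
      = (e₀ ≫ e₁) ≫ AGF.conjBy (y₀ ≫ b') i' ≫ (b ≫ b') := by rw [he, hb', Category.id_comp, Category.comp_id]
    _ = e₀ ≫ (e₁ ≫ AGF.conjBy (y₀ ≫ b') i' ≫ b) ≫ b' := by simp only [Category.assoc]
    _ = e₀ ≫ (s ≫ R ≫ b) ≫ b' := by rw [h2, key]
    _ = (e₀ ≫ s) ≫ R := by simp only [Category.assoc, hb', Category.comp_id]

end Groth.Agent.GrpSch.DiagGL
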