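import Groth.Agent.GrpSch.DiagGLDescend

/-!
# Conjugacy of finite diagonalisable subgroups of `GL_m` does not depend on the base field
-/

set_option autoImplicit false
set_option backward.isDefEq.respectTransparency.types false

universe u

open CategoryTheory MonoidalCategory CartesianMonoidalCategory MonObj AlgebraicGeometry
open scoped TensorProduct

namespace Groth.Agent.GrpSch.DiagGL

open Groth.Agent.MultHopf (hspec)

section matrices

variable {F : Type u} [Field F] {Γ : Type} [CommGroup Γ] [DecidableEq Γ] {m : ℕ}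

/-- a conjugate of a diagonal matrix of characters which is diagonal has characters on the diagonal -/
theorem exists_perm' (g : Matrix (Fin m) (Fin m) F) (hg : IsUnit g.det) (c : Fin m → Γ)
    (d : Fin m → MonoidAlgebra F Γ)
    (h : g.map (algebraMap F (MonoidAlgebra F Γ)) * diagMat F c =
      Matrix.diagonal d * g.map (algebraMap F (MonoidAlgebra F Γ))) :
    ∃ e : Equiv.Perm (Fin m), ∀ j, d (e j) = MonoidAlgebra.single (c j) 1 := by
  have hne : g.det ≠ 0 := hg.ne_zero
  rw [Matrix.det_apply] at hne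
  obtain ⟨e, -, he⟩ := Finset.exists_ne_zero_of_sum_ne_zero hne
  refine ⟨e, fun j => ?_⟩
  have hj : g (e j) j ≠ 0 := fun h0 => he (by simp [Finset.prod_eq_zero (f := fun i => g (e i) i) (Finset.mem_univ j) h0])
  have hu : IsUnit (algebraMap F (MonoidAlgebra F Γ) (g (e j) j)) := (Ne.isUnit hj).map _
  have := congrFun (congrFun h (e j)) j
  simp only [diagMat, Matrix.mul_diagonal, Matrix.diagonal_mul, Matrix.map_apply] at this
  exact hu.mul_left_cancel ((mul_comm _ _).trans this.symm)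

/-- characters whose diagonal coordinate map is surjective generate -/
theorem mem_of_diagHom_surjective [Fintype Γ] (c : Fin m → Γ) (hc : Function.Surjective (diagHom F c))
    (S : Submonoid Γ) (hS : ∀ i, c i ∈ S) (q : Γ) : q ∈ S := by
  let H : Subgroup Γ :=
    { S with
      inv_mem' := fun {x} hx => by
        have : x⁻¹ = x ^ (orderOf x - 1) := by
          refine inv_eq_of_mul_eq_one_right ?_
          rw [← pow_succ', Nat.sub_add_cancel (orderOf_pos x), pow_orderOf_eq_one]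
        rw [this]; exact S.pow_mem hx _ }
  classical
  let c' : Fin m → H := fun i => ⟨c i, hS i⟩
  have hcomp : (diagHom F c : CoordGrp.GLn m F →ₐ[F] MonoidAlgebra F Γ) =
      (MonoidAlgebra.mapDomainAlgHom F F H.subtype).comp
        (diagHom F c' : CoordGrp.GLn m F →ₐ[F] MonoidAlgebra F H) := by
    refine Comod.glAlgHom_ext fun i j => ?_
    change diagHom F c (CoordGrp.GLn.X i j) = MonoidAlgebra.mapDomainAlgHom F F H.subtype (diagHom F c' (CoordGrp.GLn.X i j))
    rw [diagHom_X, diagHom_X]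
    by_cases h : i = j
    · subst h; simp [diagMat, c']
    · simp [diagMat, Matrix.diagonal_apply_ne _ h]
  obtain ⟨z, hz⟩ := hc (MonoidAlgebra.single q 1)
  by_contra hq
  have hz' : MonoidAlgebra.mapDomainAlgHom F F H.subtype (diagHom F c' z) = MonoidAlgebra.single q 1 :=
    (DFunLike.congr_fun hcomp z).symm.trans hz
  have h0 : (MonoidAlgebra.mapDomainAlgHom F F H.subtype (diagHom F c' z)).coeff q = 0 :=
    Finsupp.mapDomain_of_notMem_range _ q (fun ⟨r, hr⟩ => hq (hr ▸ r.2))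
  rw [hz'] at h0
  simp at h0

/-- the matrix of a permutation -/
def permMat (F : Type u) [Field F] (e : Equiv.Perm (Fin m)) : Matrix (Fin m) (Fin m) F :=
  (1 : Matrix (Fin m) (Fin m) F).submatrix e.symm id

theorem isUnit_det_permMat (e : Equiv.Perm (Fin m)) : IsUnit (permMat F e).det := by
  rw [permMat, Matrix.det_permute, Matrix.det_one, _root_.mul_one]
  exact ((Int.units_eq_one_or (Equiv.Perm.sign e.symm)).elim (fun h => by simp [h]) (fun h => by simp [h]))

omit [DecidableEq Γ] in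
theorem permMat_diag (e : Equiv.Perm (Fin m)) (c d : Fin m → Γ) (h : ∀ b, d (e b) = c b) :
    (permMat F e).map (algebraMap F (MonoidAlgebra F Γ)) * diagMat F c =
      diagMat F d * (permMat F e).map (algebraMap F (MonoidAlgebra F Γ)) := by
  refine Matrix.ext fun a b => ?_
  simp only [diagMat, Matrix.mul_diagonal, Matrix.diagonal_mul, Matrix.map_apply, permMat, Matrix.submatrix_apply,
    id_eq]
  by_cases hab : e.symm a = b
  · have : a = e b := (e.symm_apply_eq).1 hab
    subst this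
    rw [h]
    exact mul_comm _ _
  · rw [show (1 : Matrix (Fin m) (Fin m) F) (e.symm a) (id b) = 0 from Matrix.one_apply_ne hab]
    simp

omit [DecidableEq Γ] [CommGroup Γ] in
lemma map_mul_inv {R : Type u} [CommRing R] [Algebra F R] (g : Matrix (Fin m) (Fin m) F) (hg : IsUnit g.det) :
    g.map (algebraMap F R) * (g⁻¹).map (algebraMap F R) = 1 := by
  rw [← Matrix.map_mul, Matrix.mul_nonsing_inv g hg, Matrix.map_one _ (map_zero _) (map_one _)]

omit [DecidableEq Γ] [CommGroup Γ] in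
lemma map_inv_mul {R : Type u} [CommRing R] [Algebra F R] (g : Matrix (Fin m) (Fin m) F) (hg : IsUnit g.det) :
    (g⁻¹).map (algebraMap F R) * g.map (algebraMap F R) = 1 := by
  rw [← Matrix.map_mul, Matrix.nonsing_inv_mul g hg, Matrix.map_one _ (map_zero _) (map_one _)]

end matrices

variable {k : Type u} [Field k] {Γ : Type} [CommGroup Γ] [DecidableEq Γ] [Fintype Γ] {m : ℕ}

/-- `GL_m` as the group `GK` over its own field -/
noncomputable def lidIso : Grp.mk (hspec k (CoordGrp.GLn m k)) ≅ Grp.mk (GK k k m) :=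
  MultHopf.hspecIso (Bialgebra.TensorProduct.lid k (CoordGrp.GLn m k)).symm

theorem matPt_lid (π : CoordGrp.GLn m k →ₐ[k] MonoidAlgebra k Γ) :
    matPt (Spec.mapMulEquiv (R := k) (WithConv.toConv π) ≫ (lidIso (k := k) (m := m)).hom.hom.hom) =
      Matrix.of fun i j => π (CoordGrp.GLn.X i j) := by
  let f : k ⊗[k] CoordGrp.GLn m k →ₐ[k] MonoidAlgebra k Γ :=
    π.comp (Algebra.TensorProduct.lid k (CoordGrp.GLn m k)).toAlgHom
  have : Spec.mapMulEquiv (R := k) (WithConv.toConv π) ≫ (lidIso (k := k) (m := m)).hom.hom.hom =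
      Spec.mapMulEquiv (R := k) (WithConv.toConv f) := by
    refine Over.OverMorphism.ext ?_
    change Spec.map (CommRingCat.ofHom π.toRingHom) ≫
      Spec.map (CommRingCat.ofHom (Algebra.TensorProduct.lid k (CoordGrp.GLn m k)).toAlgHom.toRingHom) =
        Spec.map (CommRingCat.ofHom f.toRingHom)
    rw [← Spec.map_comp]
    rfl
  rw [this]
  refine Matrix.ext fun i j => ?_
  rw [matPt_mapMulEquiv]
  simp [f]

/-- the normal form of a closed diagonalisable subgroup -/
theorem normalForm (x : hspec k (MonoidAlgebra k Γ) ⟶ hspec k (CoordGrp.GLn m k)) [IsMonHom x]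
    (hx : IsClosedImmersion x.left) :
    ∃ (π : CoordGrp.GLn m k →ₐc[k] MonoidAlgebra k Γ) (g : Matrix (Fin m) (Fin m) k) (c : Fin m → Γ),
      x = Spec.mapMulEquiv (R := k) (WithConv.toConv (π : CoordGrp.GLn m k →ₐ[k] MonoidAlgebra k Γ)) ∧
      IsUnit g.det ∧ Function.Surjective (diagHom k c) ∧
      g.map (algebraMap k (MonoidAlgebra k Γ)) * Matrix.of (fun i j => π (CoordGrp.GLn.X i j)) =
        diagMat k c * g.map (algebraMap k (MonoidAlgebra k Γ)) := by
  let l : hspec k (CoordGrp.GLn m k) ⟶ GK k k m := (lidIso (k := k) (m := m)).hom.hom.hom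
  haveI : IsMonHom l := (lidIso (k := k) (m := m)).hom.hom.isMonHom_hom
  obtain ⟨π, hπ⟩ := exists_bialgHom x
  obtain ⟨hΔ, hε⟩ := comatrix_matPt k (x ≫ l)
  obtain ⟨g, c, hg, hga⟩ := exists_diag (matPt (x ≫ l)) hΔ hε
  have hm : matPt (x ≫ l) = Matrix.of fun i j => π (CoordGrp.GLn.X i j) := by rw [hπ]; exact matPt_lid _
  refine ⟨π, g, c, hπ, hg, ?_, (congrArg (fun z => g.map (algebraMap k (MonoidAlgebra k Γ)) * z) hm.symm).trans hga⟩
  have hsurj : Function.Surjective (π : CoordGrp.GLn m k →ₐ[k] MonoidAlgebra k Γ) := by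
    refine surjective_of_isClosedImmersion _ ?_
    have : Spec.map (CommRingCat.ofHom (π : CoordGrp.GLn m k →ₐ[k] MonoidAlgebra k Γ).toRingHom) = x.left :=
      (congrArg CommaMorphism.left hπ).symm
    rw [this]; exact hx
  refine diagHom_surjective ((π : CoordGrp.GLn m k →ₐ[k] MonoidAlgebra k Γ).comp
    (Algebra.TensorProduct.lid k (CoordGrp.GLn m k)).toAlgHom)
    (hsurj.comp (Algebra.TensorProduct.lid k (CoordGrp.GLn m k)).surjective) g hg c ?_
  refine Eq.trans ?_ hga
  rw [hm]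
  congr 1
  refine Matrix.ext fun i j => ?_
  simp

variable (K : Type u) [Field K] [Algebra k K]

omit [DecidableEq Γ] [Fintype Γ] in
theorem extHom_comp_algebraMap :
    (extHom (k := k) K Γ).comp (algebraMap k (MonoidAlgebra k Γ)) =
      (algebraMap K (MonoidAlgebra K Γ)).comp (algebraMap k K) := by
  ext r
  simp [extHom]

omit [Fintype Γ] in
theorem map_extHom (g : Matrix (Fin m) (Fin m) k) (a : Matrix (Fin m) (Fin m) (MonoidAlgebra k Γ)) (c : Fin m → Γ)
    (h : g.map (algebraMap k (MonoidAlgebra k Γ)) * a = diagMat k c * g.map (algebraMap k (MonoidAlgebra k Γ))) :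
    (g.map (algebraMap k K)).map (algebraMap K (MonoidAlgebra K Γ)) * a.map (extHom (k := k) K Γ) =
      diagMat K c * (g.map (algebraMap k K)).map (algebraMap K (MonoidAlgebra K Γ)) := by
  have hd : (diagMat k c).map (extHom (k := k) K Γ) = diagMat K c := by
    rw [diagMat, Matrix.diagonal_map (map_zero _)]
    simp [diagMat, extHom, Function.comp_def]
  have hg : (g.map (algebraMap k (MonoidAlgebra k Γ))).map (extHom (k := k) K Γ) =
      (g.map (algebraMap k K)).map (algebraMap K (MonoidAlgebra K Γ)) := by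
    refine Matrix.ext fun i j => ?_
    exact RingHom.congr_fun (extHom_comp_algebraMap (k := k) K) (g i j)
  have := congrArg (fun M : Matrix (Fin m) (Fin m) (MonoidAlgebra k Γ) => M.map (extHom (k := k) K Γ)) h
  simpa only [Matrix.map_mul, hd, hg] using this

variable {σ τ : Over (Spec (CommRingCat.of k))} [GrpObj σ] [GrpObj τ]

/-- conjugate over an extension field implies conjugate -/
theorem rigid (eσ : Grp.mk σ ≅ Grp.mk (hspec k (MonoidAlgebra k Γ))) (eτ : Grp.mk τ ≅ Grp.mk (hspec k (MonoidAlgebra k Γ)))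
    (i : σ ⟶ CoactBr.sp k (CoordGrp.GLn m k)) (j : τ ⟶ CoactBr.sp k (CoordGrp.GLn m k)) [IsMonHom i] [IsMonHom j]
    (hi : IsClosedImmersion i.left) (hj : IsClosedImmersion j.left)
    (y₁ : 𝟙_ (Over (Spec (CommRingCat.of K))) ⟶ Red.bc (str k K) (CoactBr.sp k (CoordGrp.GLn m k)))
    (φ : Red.bc (str k K) σ ≅ Red.bc (str k K) τ)
    (h : AGF.conjBy y₁ ((Over.pullback (str k K)).map i) = φ.hom ≫ (Over.pullback (str k K)).map j) :
    ∃ (y : 𝟙_ (Over (Spec (CommRingCat.of k))) ⟶ CoactBr.sp k (CoordGrp.GLn m k)) (φ' : σ ≅ τ),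
      AGF.conjBy y i = φ'.hom ≫ j := by
  let e₁ : hspec k (MonoidAlgebra k Γ) ⟶ σ := eσ.inv.hom.hom
  let e₀ : σ ⟶ hspec k (MonoidAlgebra k Γ) := eσ.hom.hom.hom
  let f₁ : hspec k (MonoidAlgebra k Γ) ⟶ τ := eτ.inv.hom.hom
  let f₀ : τ ⟶ hspec k (MonoidAlgebra k Γ) := eτ.hom.hom.hom
  haveI : IsMonHom e₁ := eσ.inv.hom.isMonHom_hom
  haveI : IsMonHom f₁ := eτ.inv.hom.isMonHom_hom
  have he : e₀ ≫ e₁ = 𝟙 _ := congrArg (fun z => z.hom.hom) eσ.hom_inv_id
  have hf : f₀ ≫ f₁ = 𝟙 _ := congrArg (fun z => z.hom.hom) eτ.hom_inv_id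
  have hci : ∀ {ρ : Over (Spec (CommRingCat.of k))} (p : hspec k (MonoidAlgebra k Γ) ⟶ ρ)
      (q : ρ ⟶ hspec k (MonoidAlgebra k Γ)), p ≫ q = 𝟙 _ → q ≫ p = 𝟙 _ →
      ∀ (r : ρ ⟶ CoactBr.sp k (CoordGrp.GLn m k)), IsClosedImmersion r.left → IsClosedImmersion (p ≫ r).left := by
    intro ρ p q h1 h2 r hr
    haveI : IsIso p.left := ⟨q.left, congrArg CommaMorphism.left h1, congrArg CommaMorphism.left h2⟩
    change IsClosedImmersion (p.left ≫ r.left)
    infer_instance
  obtain ⟨π, g, c, hπ, hg, hc, hga⟩ := normalForm (m := m) (e₁ ≫ i)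
    (hci e₁ e₀ (congrArg (fun z => z.hom.hom) eσ.inv_hom_id) he i hi)
  obtain ⟨π', g', c', hπ', hg', hc', hga'⟩ := normalForm (m := m) (f₁ ≫ j)
    (hci f₁ f₀ (congrArg (fun z => z.hom.hom) eτ.inv_hom_id) hf j hj)
  set a := Matrix.of fun i j => π (CoordGrp.GLn.X i j) with ha
  set a' := Matrix.of fun i j => π' (CoordGrp.GLn.X i j) with ha'
  -- over the extension field
  let P := Over.pullback (str k K)
  let b : Red.bc (str k K) (CoactBr.sp k (CoordGrp.GLn m k)) ⟶ GK k K m := (toGK k K m).hom.hom.hom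
  haveI : IsMonHom b := (toGK k K m).hom.hom.isMonHom_hom
  let s : hspec K (MonoidAlgebra K Γ) ⟶ Red.bc (str k K) (hspec k (MonoidAlgebra k Γ)) :=
    (bcGamma (k := k) K Γ).inv.hom.hom
  let s₀ : Red.bc (str k K) (hspec k (MonoidAlgebra k Γ)) ⟶ hspec K (MonoidAlgebra K Γ) :=
    (bcGamma (k := k) K Γ).hom.hom.hom
  have hs : s₀ ≫ s = 𝟙 _ := congrArg (fun z => z.hom.hom) (bcGamma (k := k) K Γ).hom_inv_id
  let w : hspec K (MonoidAlgebra K Γ) ⟶ hspec K (MonoidAlgebra K Γ) := s ≫ P.map e₁ ≫ φ.hom ≫ P.map f₀ ≫ s₀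
  obtain ⟨ψ₀, hψ⟩ := (Spec.mapMulEquiv (R := K)).surjective w
  let ψ : MonoidAlgebra K Γ →ₐ[K] MonoidAlgebra K Γ := ψ₀.ofConv
  have hxσ : matPt (s ≫ P.map (e₁ ≫ i) ≫ b) = a.map (extHom (k := k) K Γ) := by
    rw [hπ]; exact matPt_bc K Γ π
  have hxτ : matPt (s ≫ P.map (f₁ ≫ j) ≫ b) = a'.map (extHom (k := k) K Γ) := by
    rw [hπ']; exact matPt_bc K Γ π'
  have hconj : AGF.conjBy (y₁ ≫ b) (s ≫ P.map (e₁ ≫ i) ≫ b) = w ≫ s ≫ P.map (f₁ ≫ j) ≫ b := by
    have h1 : P.map f₀ ≫ P.map (f₁ ≫ j) = P.map j := by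
      rw [← P.map_comp, ← Category.assoc, hf, Category.id_comp]
    calc AGF.conjBy (y₁ ≫ b) (s ≫ P.map (e₁ ≫ i) ≫ b)
        = (s ≫ P.map e₁) ≫ AGF.conjBy y₁ (P.map i) ≫ b := by
          rw [conjBy_comp, P.map_comp]; simp only [Category.assoc]
      _ = s ≫ P.map e₁ ≫ φ.hom ≫ P.map j ≫ b := by rw [h]; simp only [Category.assoc, P]
      _ = _ := by
          rw [← h1]
          simp only [w, Category.assoc]
          rw [reassoc_of% hs]
  obtain ⟨Y, hY, hYa⟩ : ∃ Y : Matrix (Fin m) (Fin m) K, IsUnit Y.det ∧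
      ((a'.map (extHom (k := k) K Γ)).map ψ) * Y.map (algebraMap K (MonoidAlgebra K Γ)) =
        Y.map (algebraMap K (MonoidAlgebra K Γ)) * a.map (extHom (k := k) K Γ) := by
    refine ⟨matPt (toUnit ((Spec (CommRingCat.of K)).asOver (Spec (CommRingCat.of K))) ≫ y₁ ≫ b), ?_, ?_⟩
    · refine Matrix.isUnit_det_of_right_inverse (B := matPt
        (toUnit ((Spec (CommRingCat.of K)).asOver (Spec (CommRingCat.of K))) ≫ y₁ ≫ b)⁻¹) ?_
      rw [← matPt_mul, mul_inv_cancel, matPt_one]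
    · have := matPt_conjBy K (y₁ ≫ b) (s ≫ P.map (e₁ ≫ i) ≫ b)
      rw [hconj, matPt_toUnit K (y₁ ≫ b) (MonoidAlgebra K Γ), hxσ] at this
      refine Eq.trans ?_ this
      congr 1
      rw [← hψ, ← hxτ]
      exact (matPt_comp ψ _).symm
  have hgK := map_extHom K g a c hga
  have hgK' := map_extHom K g' a' c' hga'
  set G := (g.map (algebraMap k K)).map (algebraMap K (MonoidAlgebra K Γ))
  set G' := (g'.map (algebraMap k K)).map (algebraMap K (MonoidAlgebra K Γ)) with hG'
  have hgu : IsUnit (g.map (algebraMap k K)).det := by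
    have := hg.map (algebraMap k K)
    rwa [RingHom.map_det] at this
  have hgu' : IsUnit (g'.map (algebraMap k K)).det := by
    have := hg'.map (algebraMap k K)
    rwa [RingHom.map_det] at this
  have hψG : G' * ((a'.map (extHom (k := k) K Γ)).map ψ) =
      Matrix.diagonal (fun i => ψ (MonoidAlgebra.single (c' i) 1)) * G' := by
    have h1 := congrArg (fun M : Matrix (Fin m) (Fin m) (MonoidAlgebra K Γ) => M.map ψ) hgK'
    have h2 : G'.map ψ = G' := Matrix.ext fun i j => ψ.commutes _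
    simp only [Matrix.map_mul, h2, diagMat, Matrix.diagonal_map (map_zero ψ)] at h1
    exact h1
  set M := g'.map (algebraMap k K) * Y * (g.map (algebraMap k K))⁻¹ with hM
  have hMu : IsUnit M.det := by
    rw [hM, Matrix.det_mul, Matrix.det_mul]
    exact (hgu'.mul hY).mul (Matrix.isUnit_nonsing_inv_det _ hgu)
  obtain ⟨e, he'⟩ := exists_perm' M hMu c (fun i => ψ (MonoidAlgebra.single (c' i) 1)) (by
    set Gi := ((g.map (algebraMap k K))⁻¹).map (algebraMap K (MonoidAlgebra K Γ))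
    set Y' := Y.map (algebraMap K (MonoidAlgebra K Γ))
    have hmap : M.map (algebraMap K (MonoidAlgebra K Γ)) = G' * Y' * Gi := by
      rw [hM, Matrix.map_mul, Matrix.map_mul]
    rw [hmap]
    symm
    calc _ = (Matrix.diagonal (fun i => ψ (MonoidAlgebra.single (c' i) 1)) * G') * Y' * Gi := by
          simp only [Matrix.mul_assoc]
      _ = G' * (((a'.map (extHom (k := k) K Γ)).map ψ) * Y') * Gi := by rw [← hψG]; simp only [Matrix.mul_assoc]
      _ = G' * Y' * (Gi * (G * a.map (extHom (k := k) K Γ))) * Gi := by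
          rw [hYa, ← Matrix.mul_assoc Gi, map_inv_mul _ hgu, Matrix.one_mul]
          simp only [Matrix.mul_assoc]
      _ = G' * Y' * Gi * diagMat K c * (G * Gi) := by rw [hgK]; simp only [Matrix.mul_assoc]
      _ = _ := by rw [map_mul_inv _ hgu, Matrix.mul_one])
  -- the automorphism of the character group
  let S : Submonoid Γ :=
    { carrier := {q | ∃ r, ψ (MonoidAlgebra.single q 1) = MonoidAlgebra.single r 1}
      one_mem' := ⟨1, map_one ψ⟩
      mul_mem' := by
        rintro q q' ⟨r, hr⟩ ⟨r', hr'⟩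
        refine ⟨r * r', ?_⟩
        have := map_mul ψ (MonoidAlgebra.single q 1) (MonoidAlgebra.single q' 1)
        rw [hr, hr'] at this
        simpa using this }
  have hS : ∀ q, q ∈ S := mem_of_diagHom_surjective c' hc' S (fun i => ⟨c (e.symm i), by
    simpa using he' (e.symm i)⟩)
  choose α hα using hS
  have hαmul : ∀ q r, α (q * r) = α q * α r := fun q r =>
    MonoidAlgebra.single_left_injective (one_ne_zero (α := K)) (by
      refine (hα (q * r)).symm.trans ?_
      have := map_mul ψ (MonoidAlgebra.single q 1) (MonoidAlgebra.single r 1)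
      rw [hα, hα] at this
      simpa using this)
  have hαe : ∀ b, α (c' (e b)) = c b := fun b =>
    MonoidAlgebra.single_left_injective (one_ne_zero (α := K)) ((hα _).symm.trans (he' b))
  let αh : Γ →* Γ := MonoidHom.mk' α hαmul
  have hsurj : Function.Surjective αh := fun q => by
    have := mem_of_diagHom_surjective c hc (MonoidHom.mrange αh) (fun b => ⟨c' (e b), hαe b⟩) q
    exact this
  let αe : Γ ≃* Γ := MulEquiv.ofBijective αh (Finite.surjective_iff_bijective.1 hsurj)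
  let A : MonoidAlgebra k Γ ≃ₐc[k] MonoidAlgebra k Γ := MonoidAlgebra.domCongrBialgEquiv k k αe
  let Aa : MonoidAlgebra k Γ →ₐ[k] MonoidAlgebra k Γ := (A : MonoidAlgebra k Γ →ₐ[k] MonoidAlgebra k Γ)
  -- over the ground field
  set H := g'⁻¹ * permMat k e * g with hH
  have hHu : IsUnit H.det := by
    rw [hH, Matrix.det_mul, Matrix.det_mul]
    exact ((Matrix.isUnit_nonsing_inv_det _ hg').mul (isUnit_det_permMat e)).mul hg
  have hga'' : g'.map (algebraMap k (MonoidAlgebra k Γ)) * a'.map Aa =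
      diagMat k (fun i => α (c' i)) * g'.map (algebraMap k (MonoidAlgebra k Γ)) := by
    have h1 := congrArg (fun M : Matrix (Fin m) (Fin m) (MonoidAlgebra k Γ) => M.map Aa) hga'
    have h2 : (g'.map (algebraMap k (MonoidAlgebra k Γ))).map Aa = g'.map (algebraMap k (MonoidAlgebra k Γ)) :=
      Matrix.ext fun i j => Aa.commutes _
    have h3 : (diagMat k c').map Aa = diagMat k (fun i => α (c' i)) := by
      rw [diagMat, Matrix.diagonal_map (map_zero Aa)]
      refine congrArg Matrix.diagonal (funext fun i => ?_)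
      exact MonoidAlgebra.domCongr_single αe (c' i) 1
    simpa only [Matrix.map_mul, h2, h3] using h1
  set amap := algebraMap k (MonoidAlgebra k Γ) with hamap
  have hHa : a'.map Aa * H.map amap = H.map amap * a := by
    set G₁ := g.map amap
    set G₁' := g'.map amap
    set G₁i := (g'⁻¹).map amap
    set Q := (permMat k e).map amap
    have hHm : H.map amap = G₁i * Q * G₁ := by rw [hH, Matrix.map_mul, Matrix.map_mul]
    rw [hHm]
    calc a'.map Aa * (G₁i * Q * G₁) = G₁i * (G₁' * a'.map Aa) * (G₁i * Q * G₁) := by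
          rw [← Matrix.mul_assoc G₁i, map_inv_mul _ hg', Matrix.one_mul]
      _ = G₁i * diagMat k (fun i => α (c' i)) * (G₁' * G₁i) * (Q * G₁) := by
          rw [hga'']; simp only [Matrix.mul_assoc]
      _ = G₁i * (diagMat k (fun i => α (c' i)) * Q) * G₁ := by
          rw [map_mul_inv _ hg', Matrix.mul_one]; simp only [Matrix.mul_assoc]
      _ = G₁i * (Q * diagMat k c) * G₁ := by rw [permMat_diag e c (fun i => α (c' i)) hαe]
      _ = G₁i * Q * G₁ * a := by simp only [Matrix.mul_assoc]; rw [hga]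
  let l : hspec k (CoordGrp.GLn m k) ⟶ GK k k m := (lidIso (k := k) (m := m)).hom.hom.hom
  let l' : GK k k m ⟶ hspec k (CoordGrp.GLn m k) := (lidIso (k := k) (m := m)).inv.hom.hom
  haveI : IsMonHom l := (lidIso (k := k) (m := m)).hom.hom.isMonHom_hom
  have hl : l' ≫ l = 𝟙 _ := congrArg (fun z => z.hom.hom) (lidIso (k := k) (m := m)).inv_hom_id
  have hl' : l ≫ l' = 𝟙 _ := congrArg (fun z => z.hom.hom) (lidIso (k := k) (m := m)).hom_inv_id
  obtain ⟨y₀, hy₀⟩ := exists_point (k := k) k H hHu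
  let iA : Grp.mk (hspec k (MonoidAlgebra k Γ)) ≅ Grp.mk (hspec k (MonoidAlgebra k Γ)) := MultHopf.hspecIso A.symm
  let v : hspec k (MonoidAlgebra k Γ) ⟶ hspec k (MonoidAlgebra k Γ) := iA.hom.hom.hom
  refine ⟨y₀ ≫ l', (Grp.forget _).mapIso ((eσ ≪≫ iA) ≪≫ eτ.symm), ?_⟩
  have key : AGF.conjBy y₀ ((e₁ ≫ i) ≫ l) = v ≫ (f₁ ≫ j) ≫ l := by
    refine matPt_injective ?_
    have h1 := matPt_conjBy k y₀ ((e₁ ≫ i) ≫ l)
    have hmσ : matPt ((e₁ ≫ i) ≫ l) = a := by rw [hπ]; exact matPt_lid _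
    have hmτ : matPt ((f₁ ≫ j) ≫ l) = a' := by rw [hπ']; exact matPt_lid _
    rw [matPt_toUnit k y₀ (MonoidAlgebra k Γ), hy₀, hmσ, ← hamap, ← hHa] at h1
    have h2 : matPt (v ≫ (f₁ ≫ j) ≫ l) = a'.map Aa := by
      rw [← hmτ]
      exact matPt_comp Aa ((f₁ ≫ j) ≫ l)
    rw [h2]
    have hHH : H.map amap * (H⁻¹).map amap = 1 := map_mul_inv _ hHu
    rw [← Matrix.mul_one (matPt _), ← hHH, ← Matrix.mul_assoc, h1, Matrix.mul_assoc, hHH, Matrix.mul_one]
  change AGF.conjBy (y₀ ≫ l') i = ((e₀ ≫ v) ≫ f₁) ≫ j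
  have h2 : e₁ ≫ AGF.conjBy (y₀ ≫ l') i ≫ l = AGF.conjBy y₀ ((e₁ ≫ i) ≫ l) := by
    rw [conjBy_comp, Category.assoc, hl, Category.comp_id, Category.assoc]
  calc AGF.conjBy (y₀ ≫ l') i
      = (e₀ ≫ e₁) ≫ AGF.conjBy (y₀ ≫ l') i ≫ (l ≫ l') := by rw [he, hl', Category.id_comp, Category.comp_id]
    _ = e₀ ≫ (e₁ ≫ AGF.conjBy (y₀ ≫ l') i ≫ l) ≫ l' := by simp only [Category.assoc]
    _ = e₀ ≫ (v ≫ (f₁ ≫ j) ≫ l) ≫ l' := by rw [h2, key]
    _ = ((e₀ ≫ v) ≫ f₁) ≫ j := by simp only [Category.assoc, hl', Category.comp_id]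

end Groth.Agent.GrpSch.DiagGL
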