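import Groth.Agent.GrpSch.Points
import Mathlib.AlgebraicGeometry.Properties
import Mathlib.AlgebraicGeometry.Morphisms.Integral
import Mathlib.AlgebraicGeometry.Morphisms.UniversallyClosed
import Mathlib.AlgebraicGeometry.Morphisms.Flat
import Mathlib.AlgebraicGeometry.Morphisms.Affine
import Mathlib.RingTheory.Ideal.GoingUp
import Mathlib.FieldTheory.IsAlgClosed.AlgebraicClosure
import Mathlib.CategoryTheory.Monoidal.Cartesian.Over

/-! Dimension theory of group schemes locally of finite type over a field. -/

set_option autoImplicit false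
set_option backward.isDefEq.respectTransparency.types false

universe u

open CategoryTheory MonoidalCategory CartesianMonoidalCategory MonObj GrpObj Limits AlgebraicGeometry Order

namespace Groth.Agent.GrpSch

lemma topologicalKrullDim_eq_iSup_coheight (X : Scheme.{u}) :
    topologicalKrullDim X = ⨆ x : X, (coheight x : WithBot ℕ∞) := by
  rw [← krullDim_eq_iSup_coheight]
  exact krullDim_eq_of_orderIso irreducibleSetEquivPoints

/-- An integral morphism has no specializations in its fibres. -/
lemma eq_of_specializes_of_isIntegralHom {X Y : Scheme.{u}} (p : X ⟶ Y) [IsIntegralHom p]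
    {a b : X} (h : a ⤳ b) (e : p a = p b) : a = b := by
  obtain ⟨U, hU, hbU, -⟩ := Y.isBasis_affineOpens.exists_subset_of_mem_open
    (Set.mem_univ (p b)) isOpen_univ
  obtain ⟨U, hU, rfl⟩ := hU
  have hV : IsAffineOpen (p ⁻¹ᵁ U) := hU.preimage p
  have hb : b ∈ p ⁻¹ᵁ U := hbU
  have ha : a ∈ p ⁻¹ᵁ U := h.mem_open (p ⁻¹ᵁ U).2 hb
  have hint : (p.app U).hom.IsIntegral := p.isIntegral_app U hU
  let _ : Algebra Γ(Y, U) Γ(X, p ⁻¹ᵁ U) := (p.app U).hom.toAlgebra
  have : Algebra.IsIntegral Γ(Y, U) Γ(X, p ⁻¹ᵁ U) := ⟨hint⟩
  set P := hV.primeIdealOf ⟨a, ha⟩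
  set Q := hV.primeIdealOf ⟨b, hb⟩
  have hsp : P ⤳ Q := (Topology.IsInducing.specializes_iff hV.fromSpec.isOpenEmbedding.isInducing).1
    (by rw [hV.fromSpec_primeIdealOf, hV.fromSpec_primeIdealOf]; exact h)
  have hle : P.asIdeal ≤ Q.asIdeal := (PrimeSpectrum.le_iff_specializes P Q).2 hsp
  have hcomap : ∀ (c : X) (hc : c ∈ p ⁻¹ᵁ U),
      (hV.primeIdealOf ⟨c, hc⟩).asIdeal.comap (p.app U).hom = (hU.primeIdealOf ⟨p c, hc⟩).asIdeal := by
    intro c hc
    have := IsAffineOpen.comap_primeIdealOf_appLE (f := p) U hU (p ⁻¹ᵁ U) hV le_rfl hc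
    rw [← Scheme.Hom.app_eq_appLE] at this
    exact congrArg PrimeSpectrum.asIdeal this
  have hc : P.asIdeal.comap (algebraMap Γ(Y, U) Γ(X, p ⁻¹ᵁ U)) =
      Q.asIdeal.comap (algebraMap Γ(Y, U) Γ(X, p ⁻¹ᵁ U)) := by
    refine (hcomap a ha).trans (Eq.trans ?_ (hcomap b hb).symm)
    congr 1
    congr 1
    exact Subtype.ext e
  have hPQ : P = Q := by
    by_contra hne
    have hlt : P.asIdeal < Q.asIdeal := lt_of_le_of_ne hle fun h' => hne (PrimeSpectrum.ext h')
    exact (Ideal.IsIntegral.comap_lt_comap hlt).ne hc
  have := congrArg (fun P => hV.fromSpec P) hPQ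
  simpa only [P, Q, hV.fromSpec_primeIdealOf] using this

/-- An integral flat morphism preserves the codimension of points. -/
lemma coheight_eq_of_flat_integral {X Y : Scheme.{u}} (p : X ⟶ Y) [IsIntegralHom p] [Flat p]
    (x : X) : coheight (p x) = coheight x := by
  have hmono : StrictMono (fun z : X => p z) := by
    intro a b hab
    have hba : b ⤳ a := hab.le
    refine lt_of_le_not_ge (hba.map p.continuous) fun h => ?_
    have e : p b = p a := (Specializes.antisymm (hba.map p.continuous) h).eq
    exact hab.ne (eq_of_specializes_of_isIntegralHom p hba e).symm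
  refine le_antisymm (coheight_le fun s hs => ?_)
    (coheight_le_coheight_apply_of_strictMono _ hmono x)
  induction n : s.length generalizing s x with
  | zero => exact bot_le
  | succ m ih =>
    have hs0 : s.length ≠ 0 := by omega
    have h01 : s.head < s 1 := by
      refine s.strictMono ?_
      rw [Fin.lt_def]
      simp [Fin.val_one', Nat.mod_eq_of_lt (show 1 < s.length + 1 by omega)]
    have h01' : s 1 ⤳ p x := hs ▸ h01.le
    obtain ⟨z, hz, hpz⟩ := Flat.generalizingMap p h01'
    have hzx : z ⤳ x := hz
    have hlt : x < z := lt_of_le_not_ge hzx fun h => by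
      have e : z = x := (Specializes.antisymm hzx h).eq
      exact h01.ne (by rw [hs, ← hpz, e])
    have := ih z (s.tail hs0) (by rw [RelSeries.head_tail, hpz]) (by simp [RelSeries.tail]; omega)
    calc ((m + 1 : ℕ) : ℕ∞) = (m : ℕ∞) + 1 := by push_cast; rfl
      _ ≤ coheight z + 1 := by gcongr
      _ ≤ coheight x := coheight_add_one_le hlt

variable {K : Type u} [Field K]

/-- In a group scheme locally of finite type over an algebraically closed field, all closed points
have the same codimension. -/
lemma coheight_closed_eq [IsAlgClosed K] (G : Over (Spec (CommRingCat.of K))) [GrpObj G]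
    [LocallyOfFiniteType G.hom] {c : G.left} (hc : IsClosed {c}) :
    coheight c = coheight (η[G].left (IsLocalRing.closedPoint K)) := by
  obtain ⟨g, rfl⟩ := exists_ratPoint G hc
  rw [← translate_one_apply g]
  have : IsIso (translate g).hom.left :=
    inferInstanceAs (IsIso ((Over.forget _).map (translate g).hom))
  exact coheight_eq_of_isOpenImmersion (translate g).hom.left

/-- The codimension of any closed point of a group scheme locally of finite type over a field is
the dimension of the scheme. -/
theorem coheight_eq_topologicalKrullDim (G : Over (Spec (CommRingCat.of K))) [GrpObj G]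
    [LocallyOfFiniteType G.hom] {c : G.left} (hc : IsClosed {c}) :
    (coheight c : WithBot ℕ∞) = topologicalKrullDim G.left := by
  let L := AlgebraicClosure K
  let f : Spec (CommRingCat.of L) ⟶ Spec (CommRingCat.of K) :=
    Spec.map (CommRingCat.ofHom (algebraMap K L))
  have : IsIntegralHom f := IsIntegralHom.SpecMap_iff.2 (algebraMap_isIntegral_iff.2 inferInstance)
  have : Surjective f := ⟨Function.surjective_to_subsingleton (α := PrimeSpectrum L) (β := PrimeSpectrum K) _⟩
  let G' : Over (Spec (CommRingCat.of L)) := (Over.pullback f).obj G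
  let _ : GrpObj G' := Functor.grpObjObj (F := Over.pullback f)
  have : LocallyOfFiniteType G'.hom := inferInstanceAs (LocallyOfFiniteType (pullback.snd G.hom f))
  let p : G'.left ⟶ G.left := pullback.fst G.hom f
  have : Flat p := inferInstanceAs (Flat (pullback.fst G.hom f))
  have : IsIntegralHom p := inferInstanceAs (IsIntegralHom (pullback.fst G.hom f))
  have : Surjective p := inferInstanceAs (Surjective (pullback.fst G.hom f))
  have : JacobsonSpace G'.left := LocallyOfFiniteType.jacobsonSpace G'.hom
  have : JacobsonSpace G.left := LocallyOfFiniteType.jacobsonSpace G.hom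
  set d := coheight (η[G'].left (IsLocalRing.closedPoint L))
  have hclosed : ∀ x : G.left, IsClosed {x} → coheight x = d := by
    intro x hx
    obtain ⟨z, hz⟩ := p.surjective x
    obtain ⟨z', hz', hz'c⟩ := nonempty_inter_closedPoints (X := G'.left) (Z := p ⁻¹' {x}) ⟨z, hz⟩
      (hx.preimage p.continuous).isLocallyClosed
    obtain rfl : p z' = x := hz'
    rw [coheight_eq_of_flat_integral p z', coheight_closed_eq G' hz'c]
  rw [hclosed c hc, topologicalKrullDim_eq_iSup_coheight]
  refine le_antisymm (hclosed c hc ▸ le_iSup (fun x : G.left => (coheight x : WithBot ℕ∞)) c)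
    (iSup_le fun x => ?_)
  obtain ⟨y, hy, hyc⟩ := nonempty_inter_closedPoints (X := G.left) (Z := closure {x})
    ⟨x, subset_closure rfl⟩ isClosed_closure.isLocallyClosed
  rw [← hclosed y hyc]
  exact WithBot.coe_le_coe.2 (coheight_anti (specializes_iff_mem_closure.2 hy))

end Groth.Agent.GrpSch
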