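import Groth.Agent.GrpSch.TransComp
import Groth.Agent.DimTheory.IrrFibres
import Mathlib.AlgebraicGeometry.Morphisms.Integral
import Mathlib.AlgebraicGeometry.Geometrically.Integral
import Mathlib.CategoryTheory.Monoidal.Cartesian.Over

/-!
# Fibres of morphisms from abelian varieties are equidimensional
-/

set_option autoImplicit false

universe u

open CategoryTheory Limits AlgebraicGeometry Order TopologicalSpace MonoidalCategory CartesianMonoidalCategory MonObj

namespace Groth.Agent.GrpSch.EquiDim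

section order

variable {A B : Type*} [Preorder A] [Preorder B]

theorem height_eq_of_lift (e : A → B) (hs : StrictMono e)
    (hl : ∀ a b, b < e a → ∃ a', a' < a ∧ e a' = b) (a : A) :
    Order.height (e a) = Order.height a := by
  refine le_antisymm ?_ (Order.height_le_height_apply_of_strictMono e hs a)
  suffices ∀ (n : ℕ) (a : A), (n : ℕ∞) ≤ Order.height (e a) → (n : ℕ∞) ≤ Order.height a by
    exact ENat.forall_natCast_le_iff_le.1 fun n hn => this n a hn
  intro n
  induction n with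
  | zero => intro a _; simp
  | succ n ih =>
    intro a h
    obtain ⟨l, hlast, hlen⟩ := Order.exists_series_of_le_height (e a) h
    have hl' : l.length ≠ 0 := by omega
    have hlt : l.eraseLast.last < e a := by
      rw [← hlast]; exact l.eraseLast_last_rel_last hl'
    obtain ⟨a', ha', he⟩ := hl a _ hlt
    have : (n : ℕ∞) ≤ Order.height (e a') := by
      rw [he]
      have h1 := Order.length_le_height_last (p := l.eraseLast)
      rw [RelSeries.eraseLast_length, hlen] at h1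
      simpa using h1
    push_cast
    exact le_trans (add_le_add (ih a' this) le_rfl) (Order.height_add_one_le ha')

theorem height_eq_of_surj (e : A → B) (hle : ∀ a a', e a ≤ e a' ↔ a ≤ a')
    (hsurj : Function.Surjective e) (a : A) : Order.height (e a) = Order.height a :=
  height_eq_of_lift e (fun a a' h => by
    rw [lt_iff_le_not_ge] at h ⊢
    exact ⟨(hle a a').2 h.1, fun h' => h.2 ((hle a' a).1 h')⟩) (fun a b hb => by
    obtain ⟨a', rfl⟩ := hsurj b
    rw [lt_iff_le_not_ge, hle, hle] at hb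
    exact ⟨a', lt_iff_le_not_ge.2 hb, rfl⟩) a

end order

variable {X Y : Scheme.{u}}

/-- the height of a point in its fibre -/
noncomputable def hf (f : X ⟶ Y) (x : X) : ℕ∞ :=
  Order.height (⟨x, rfl⟩ : {a : X // f a = f x})

theorem height_fiber (f : X ⟶ Y) (y : Y) (z : f.fiber y) :
    Order.height z = hf f (f.fiberι y z) := by
  have hy : ∀ w : f.fiber y, f (f.fiberι y w) = y := fun w => by
    have : f.fiberι y w ∈ f ⁻¹' {y} := f.range_fiberι y ▸ ⟨w, rfl⟩
    exact this
  refine (height_eq_of_surj (A := f.fiber y) (B := {a : X // f a = f (f.fiberι y z)})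
    (fun w => ⟨f.fiberι y w, (hy w).trans (hy z).symm⟩) (fun a b => ?_) (fun a => ?_) z).symm
  · exact (f.fiberι y).isEmbedding.isInducing.specializes_iff
  · obtain ⟨w, hw⟩ : a.1 ∈ Set.range (f.fiberι y) := by
      rw [f.range_fiberι]; exact a.2.trans (hy z)
    exact ⟨w, Subtype.ext hw⟩

theorem hf_congr {Y' : Scheme.{u}} (f : X ⟶ Y) (U : X.Opens) (g : (U : Scheme.{u}) ⟶ Y') (x : U.toScheme)
    (h : ∀ a : X, f a = f (U.ι x) → a ∈ U)
    (hiff : ∀ a b : U.toScheme, g a = g b ↔ f (U.ι a) = f (U.ι b)) :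
    hf g x = hf f (U.ι x) := by
  refine (height_eq_of_surj (A := {a : U.toScheme // g a = g x})
    (B := {a : X // f a = f (U.ι x)}) (fun w => ⟨U.ι w.1, (hiff _ _).1 w.2⟩) (fun a b => ?_)
    (fun a => ?_) ⟨x, rfl⟩).symm
  · exact U.ι.isOpenEmbedding.isInducing.specializes_iff
  · obtain ⟨w, hw⟩ : a.1 ∈ Set.range U.ι := by rw [U.range_ι]; exact h _ a.2
    exact ⟨⟨w, (hiff _ _).2 (by rw [hw]; exact a.2)⟩, Subtype.ext hw⟩

/-- in a closed fibre the height is the height in the ambient scheme -/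
theorem hf_of_isClosed (f : X ⟶ Y) {x : X} (hx : IsClosed ({f x} : Set Y)) :
    Order.height x = hf f x := by
  refine height_eq_of_lift (fun w : {a : X // f a = f x} => w.1) (fun a b h => h) (fun a b hb => ?_) ⟨x, rfl⟩
  have h1 : f a.1 ⤳ f b := (show a.1 ⤳ b from hb.le).map f.continuous
  rw [a.2] at h1
  exact ⟨⟨b, hx.closure_subset (specializes_iff_mem_closure.1 h1)⟩, hb, rfl⟩

theorem eq_of_specializes_of_isIntegralHom (p : X ⟶ Y) [IsIntegralHom p] {a b : X} (h : a ⤳ b)
    (e : p a = p b) : a = b := by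
  obtain ⟨V, hV, hbV, -⟩ := Y.isBasis_affineOpens.exists_subset_of_mem_open (Set.mem_univ (p b)) isOpen_univ
  obtain ⟨V, hV, rfl⟩ := hV
  have hU : IsAffineOpen (p ⁻¹ᵁ V) := hV.preimage p
  have hb : b ∈ p ⁻¹ᵁ V := hbV
  have ha : a ∈ p ⁻¹ᵁ V := h.mem_open (p ⁻¹ᵁ V).isOpen hb
  algebraize [(p.appLE V (p ⁻¹ᵁ V) le_rfl).hom]
  have : Algebra.IsIntegral Γ(Y, V) Γ(X, p ⁻¹ᵁ V) := ⟨fun z => by
    have := IsIntegralHom.isIntegral_app p V hV
    rw [Scheme.Hom.app_eq_appLE] at this
    exact this z⟩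
  set P := hU.primeIdealOf ⟨a, ha⟩
  set Q := hU.primeIdealOf ⟨b, hb⟩
  have hle : P.asIdeal ≤ Q.asIdeal := (PrimeSpectrum.le_iff_specializes _ _).2
    (hU.fromSpec.isOpenEmbedding.isInducing.specializes_iff.1 (by
      rw [hU.fromSpec_primeIdealOf, hU.fromSpec_primeIdealOf]; exact h))
  have e1 := IsAffineOpen.comap_primeIdealOf_appLE V hV _ hU le_rfl ha
  have e2 := IsAffineOpen.comap_primeIdealOf_appLE V hV _ hU le_rfl hb
  have e3 : P.asIdeal.comap (algebraMap Γ(Y, V) Γ(X, p ⁻¹ᵁ V)) =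
      Q.asIdeal.comap (algebraMap Γ(Y, V) Γ(X, p ⁻¹ᵁ V)) := by
    change (PrimeSpectrum.comap _ P).asIdeal = (PrimeSpectrum.comap _ Q).asIdeal
    rw [show (algebraMap Γ(Y, V) Γ(X, p ⁻¹ᵁ V)) = (p.appLE V (p ⁻¹ᵁ V) le_rfl).hom from rfl]
    refine congrArg PrimeSpectrum.asIdeal ?_
    rw [e1, e2]
    congr 1
    exact Subtype.ext e
  have : P = Q := by
    refine PrimeSpectrum.ext (hle.eq_or_lt.resolve_right fun hlt => ?_)
    exact (Ideal.IsIntegral.comap_lt_comap hlt).ne e3
  have := congrArg hU.fromSpec this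
  rwa [hU.fromSpec_primeIdealOf, hU.fromSpec_primeIdealOf] at this

theorem hf_integral {X' Y' : Scheme.{u}} (f : X ⟶ Y) (f' : X' ⟶ Y') (q : X' ⟶ X) (p : Y' ⟶ Y)
    [IsIntegralHom q] [IsIntegralHom p] (w : f' ≫ p = q ≫ f) (z : X') :
    hf f' z = hf f (q z) := by
  have w' : ∀ a, p (f' a) = f (q a) := fun a => by
    rw [← Scheme.Hom.comp_apply, w, Scheme.Hom.comp_apply]
  refine (height_eq_of_lift (A := {a : X' // f' a = f' z}) (B := {a : X // f a = f (q z)})
    (fun a => ⟨q a.1, by rw [← w', ← w', a.2]⟩) (fun a b h => ?_) (fun a b hb => ?_) ⟨z, rfl⟩).symm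
  · have h1 : b.1 ⤳ a.1 := h.le
    refine lt_of_le_not_ge (show q b.1 ⤳ q a.1 from h1.map q.continuous) fun h2 => ?_
    have h3 : q a.1 ⤳ q b.1 := h2
    have : b.1 = a.1 := eq_of_specializes_of_isIntegralHom q h1
      ((h1.map q.continuous).antisymm h3).eq
    exact h.ne (Subtype.ext this.symm)
  · have h1 : q a.1 ⤳ b.1 := hb.le
    obtain ⟨a', ha', he⟩ := q.isClosedMap.specializingMap h1
    have hfa : f' a' = f' z := by
      refine ((eq_of_specializes_of_isIntegralHom p (ha'.map f'.continuous) ?_).symm).trans a.2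
      rw [w', w', he, b.2, ← w', ← w', a.2]
    refine ⟨⟨a', hfa⟩, lt_of_le_not_ge (show a.1 ⤳ a' from ha') fun h2 => hb.not_ge ?_, Subtype.ext he⟩
    show b.1 ⤳ q a.1
    rw [← he]
    exact (show a' ⤳ a.1 from h2).map q.continuous

section model

variable {k : Type u} [Field k]

/-- a model of finite type with the same fibres -/
theorem exists_model {U T : Scheme.{u}} [IsAffine T] (qT : T ⟶ Spec (CommRingCat.of k)) (h : U ⟶ T)
    [LocallyOfFiniteType (h ≫ qT)] [QuasiCompact (h ≫ qT)] :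
    ∃ (T' : Scheme.{u}) (q' : T' ⟶ Spec (CommRingCat.of k)) (ψ : T ⟶ T'),
      LocallyOfFiniteType q' ∧ ψ ≫ q' = qT ∧ ∀ a b : U, ψ (h a) = ψ (h b) → h a = h b := by
  classical
  let qU := h ≫ qT
  let P := pullback qU qU
  let u : Γ(T, ⊤) → Γ(P, ⊤) := fun s =>
    (pullback.fst qU qU ≫ h).appTop.hom s - (pullback.snd qU qU ≫ h).appTop.hom s
  let Z : Finset Γ(T, ⊤) → Closeds P := fun S =>
    ⟨⋂ s ∈ S, ((P.basicOpen (u s) : P.Opens) : Set P)ᶜ,
      isClosed_biInter fun s _ => (P.basicOpen (u s)).isOpen.isClosed_compl⟩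
  obtain ⟨-, hP⟩ : NoetherianSpace P ∧ NoetherianSpace P := by
    have : LocallyOfFiniteType (pullback.fst qU qU) := MorphismProperty.pullback_fst _ _ ‹_›
    have : QuasiCompact (pullback.fst qU qU) := MorphismProperty.pullback_fst _ _ ‹_›
    exact DimTheory.noetherian (pullback.fst qU qU ≫ qU) (𝟙 P)
  obtain ⟨Z₀, ⟨S, rfl⟩, hmin⟩ := (wellFounded_lt (α := Closeds P)).has_min (Set.range Z) ⟨_, ∅, rfl⟩
  have hall : ∀ w ∈ Z S, ∀ s, w ∉ P.basicOpen (u s) := by
    intro w hw s hs
    have hle : Z (insert s S) ≤ Z S := fun x hx => by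
      simp only [Z, SetLike.mem_coe, Closeds.coe_mk] at hx ⊢
      exact Set.biInter_subset_biInter_left (fun _ => Finset.mem_insert_of_mem) hx
    have h1 : w ∈ Z (insert s S) := (eq_of_le_of_not_lt hle fun hlt => hmin _ ⟨_, rfl⟩ hlt).ge hw
    exact (Set.mem_iInter₂.1 h1 s (Finset.mem_insert_self _ _)) hs
  let F : CommRingCat.of k ⟶ Γ(T, ⊤) := (Scheme.ΓSpecIso _).inv ≫ qT.appTop
  let _ : Algebra k Γ(T, ⊤) := F.hom.toAlgebra
  let A₀ : Subalgebra k Γ(T, ⊤) := Algebra.adjoin k (S : Set Γ(T, ⊤))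
  have hA : Algebra.FiniteType k A₀ := (Subalgebra.fg_iff_finiteType A₀).1 ⟨S, rfl⟩
  let ι₀ : CommRingCat.of A₀ ⟶ Γ(T, ⊤) := CommRingCat.ofHom A₀.val.toRingHom
  let c : CommRingCat.of k ⟶ CommRingCat.of A₀ := CommRingCat.ofHom (algebraMap k A₀)
  refine ⟨Spec (CommRingCat.of A₀), Spec.map c, T.toSpecΓ ≫ Spec.map ι₀, ?_, ?_, ?_⟩
  · rw [HasRingHomProperty.Spec_iff (P := @LocallyOfFiniteType)]
    exact RingHom.finiteType_algebraMap.2 hA
  · rw [Category.assoc, ← Spec.map_comp, show c ≫ ι₀ = F from rfl, Spec.map_comp,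
      ← Category.assoc, ← Scheme.toSpecΓ_naturality, Category.assoc, toSpecΓ_SpecMap_ΓSpecIso_inv,
      Category.comp_id]
  · intro a b hab
    set g := h ≫ T.toSpecΓ ≫ Spec.map ι₀ with hg
    obtain ⟨z, hz1, hz2⟩ := Scheme.Pullback.exists_preimage_pullback (f := g) (g := g) a b (by
      simpa [g] using hab)
    have hgq : g ≫ Spec.map c = qU := by
      rw [hg, Category.assoc, Category.assoc, ← Spec.map_comp, show c ≫ ι₀ = F from rfl, Spec.map_comp,
        ← Scheme.toSpecΓ_naturality_assoc, toSpecΓ_SpecMap_ΓSpecIso_inv, Category.comp_id]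
    let l : pullback g g ⟶ P := pullback.lift (pullback.fst g g) (pullback.snd g g) (by
      rw [← hgq, pullback.condition_assoc])
    have hlz : ∀ s ∈ S, l z ∉ P.basicOpen (u s) := by
      intro s hs hmem
      have h0 : l.appTop.hom (u s) = 0 := by
        simp only [u, map_sub]
        rw [sub_eq_zero, ← CommRingCat.comp_apply, ← Scheme.Hom.comp_appTop, ← CommRingCat.comp_apply,
          ← Scheme.Hom.comp_appTop, pullback.lift_fst_assoc, pullback.lift_snd_assoc]
        have hs' : s = (T.toSpecΓ ≫ Spec.map ι₀).appTop.hom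
            ((Scheme.ΓSpecIso (CommRingCat.of A₀)).inv.hom ⟨s, Algebra.subset_adjoin hs⟩) := by
          have h1 : (Scheme.ΓSpecIso (CommRingCat.of A₀)).inv ≫ (T.toSpecΓ ≫ Spec.map ι₀).appTop = ι₀ := by
            rw [Scheme.Hom.comp_appTop, ← Scheme.ΓSpecIso_inv_naturality_assoc, Scheme.toSpecΓ_appTop,
              Iso.inv_hom_id, Category.comp_id]
          exact (congr($h1 ⟨s, Algebra.subset_adjoin hs⟩)).symm
        have h3 := congr(($(pullback.condition (f := g) (g := g))).appTop.hom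
          ((Scheme.ΓSpecIso (CommRingCat.of A₀)).inv.hom ⟨s, Algebra.subset_adjoin hs⟩))
        rw [hs']
        simp only [hg, Scheme.Hom.comp_appTop, CommRingCat.hom_comp, RingHom.comp_apply] at h3 ⊢
        exact h3
      have h1 : z ∈ l ⁻¹ᵁ P.basicOpen (u s) := hmem
      rw [Scheme.preimage_basicOpen_top, h0, Scheme.basicOpen_zero] at h1
      exact h1
    set w := l z with hw'
    have hw : w ∈ Z S := Set.mem_iInter₂.2 fun s hs => hlz s hs
    let σ := P.fromSpecResidueField w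
    have hσ : σ ≫ pullback.fst qU qU ≫ h = σ ≫ pullback.snd qU qU ≫ h := by
      refine ext_of_isAffine (CommRingCat.hom_ext (RingHom.ext fun s => ?_))
      rw [Scheme.Hom.comp_appTop, Scheme.Hom.comp_appTop σ, CommRingCat.comp_apply, CommRingCat.comp_apply,
        ← sub_eq_zero, ← map_sub]
      refine (basicOpen_eq_bot_iff _).1 ?_
      rw [← Scheme.preimage_basicOpen_top]
      refine le_bot_iff.1 fun t ht => hall w hw s ?_
      have : σ t = w := P.fromSpecResidueField_apply w t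
      rw [← this]
      exact ht
    have := congr($hσ (IsLocalRing.closedPoint _))
    simp only [Scheme.Hom.comp_apply] at this
    rw [P.fromSpecResidueField_apply w] at this
    have e1 : pullback.fst qU qU (l z) = a := by
      rw [← Scheme.Hom.comp_apply, pullback.lift_fst, hz1]
    have e2 : pullback.snd qU qU (l z) = b := by
      rw [← Scheme.Hom.comp_apply, pullback.lift_snd, hz2]
    rwa [hw', e1, e2] at this

variable (fX : X ⟶ Spec (CommRingCat.of k)) [IsProper fX] (qY : Y ⟶ Spec (CommRingCat.of k))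
  [IsSeparated qY] (f : X ⟶ Y) (w : f ≫ qY = fX)

include w in
theorem isProper_of_comp : IsProper f := by
  have : IsProper (f ≫ qY) := by rw [w]; infer_instance
  exact IsProper.of_comp f qY

include w in
/-- a chart: over an affine open the fibres are those of a morphism to a scheme of finite type -/
theorem exists_chart {V : Y.Opens} (hV : IsAffineOpen V) :
    ∃ (T' : Scheme.{u}) (q' : T' ⟶ Spec (CommRingCat.of k))
      (g : (f ⁻¹ᵁ V : X.Opens).toScheme ⟶ T'),
      LocallyOfFiniteType q' ∧ LocallyOfFiniteType g ∧ NoetherianSpace (f ⁻¹ᵁ V : X.Opens).toScheme ∧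
      g ≫ q' = (f ⁻¹ᵁ V).ι ≫ fX ∧
      (∀ a b, g a = g b ↔ f ((f ⁻¹ᵁ V).ι a) = f ((f ⁻¹ᵁ V).ι b)) ∧
      ∀ x, Order.height ((f ⁻¹ᵁ V).ι x) = Order.height (g x) + hf f ((f ⁻¹ᵁ V).ι x) := by
  have := isProper_of_comp fX qY f w
  have : IsAffine V.toScheme := hV
  set U := f ⁻¹ᵁ V with hU
  let h : U.toScheme ⟶ V.toScheme := f ∣_ V
  have hh : h ≫ V.ι ≫ qY = U.ι ≫ fX := by
    rw [← w, ← Category.assoc, morphismRestrict_ι, Category.assoc]
  have : LocallyOfFiniteType (h ≫ V.ι ≫ qY) := by rw [hh]; infer_instance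
  have : QuasiCompact (h ≫ V.ι ≫ qY) := by
    have : CompactSpace U.toScheme := isCompact_iff_compactSpace.mp
      (f.isCompact_preimage (hV.isCompact))
    exact quasiCompact_of_compactSpace _
  obtain ⟨T', q', ψ, hq', hψ, hiff⟩ := exists_model (V.ι ≫ qY) h
  have hg : (h ≫ ψ) ≫ q' = U.ι ≫ fX := by rw [Category.assoc, hψ, hh]
  have hgl : LocallyOfFiniteType (h ≫ ψ) := by
    have : LocallyOfFiniteType ((h ≫ ψ) ≫ q') := by rw [hg]; infer_instance
    exact locallyOfFiniteType_of_comp _ q'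
  have hfa : ∀ a : U.toScheme, f (U.ι a) = V.ι (h a) := fun a => by
    rw [← Scheme.Hom.comp_apply, ← morphismRestrict_ι, Scheme.Hom.comp_apply]
  have hiff' : ∀ a b, (h ≫ ψ) a = (h ≫ ψ) b ↔ f (U.ι a) = f (U.ι b) := fun a b => by
    rw [Scheme.Hom.comp_apply, Scheme.Hom.comp_apply, hfa, hfa]
    exact ⟨fun e => by rw [hiff a b e], fun e => by rw [V.ι.isOpenEmbedding.injective e]⟩
  refine ⟨T', q', h ≫ ψ, hq', hgl, (DimTheory.noetherian (h ≫ V.ι ≫ qY) (𝟙 U.toScheme)).1, hg, hiff',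
    fun x => ?_⟩
  rw [← DimTheory.height_opens fX U x, ← hf_congr f U (h ≫ ψ) x (fun a ha => ?_) hiff']
  · have h1 := DimTheory.height_fiberι (h ≫ ψ) q' ((h ≫ ψ) x) ((h ≫ ψ).asFiber x)
    rw [height_fiber, Scheme.Hom.fiberι_asFiber] at h1
    exact h1
  · show f a ∈ V
    rw [ha, hfa]
    exact (h x).2

end model

/-- a maximal point of a fibre -/
def IsFibMax (f : X ⟶ Y) (a : X) : Prop := ∀ b : X, f b = f a → b ⤳ a → b = a

section closed

variable {k : Type u} [Field k] [IsAlgClosed k] {G : Over (Spec (CommRingCat.of k))} [GrpObj G]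
  [IsProper G.hom] [IsIntegral G.left] {Z : Over (Spec (CommRingCat.of k))} [IsSeparated Z.hom]

theorem exists_dim_of_isAlgClosed (f : G ⟶ Z) :
    ∃ d : ℕ, ∀ a : G.left, IsFibMax f.left a → hf f.left a = d := by
  have := isProper_of_comp G.hom Z.hom f.left (Over.w f)
  haveI : ConnectedSpace G.left := inferInstance
  have hclosed : ∀ c : G.left, IsClosed ({c} : Set G.left) → IsClosed ({f.left c} : Set Z.left) :=
    fun c hc => by simpa using f.left.isClosedMap _ hc
  set ξ := genericPoint G.left with hξdef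
  obtain ⟨_, ⟨V₀, hV₀, rfl⟩, hξV, -⟩ := Z.left.isBasis_affineOpens.exists_subset_of_mem_open
    (Set.mem_univ (f.left ξ)) isOpen_univ
  obtain ⟨T₀, q₀, g₀, hlq, hlg, hN, hg₀, hiff₀, hd₀⟩ := exists_chart G.hom Z.hom f.left (Over.w f) hV₀
  let U₀ := f.left ⁻¹ᵁ V₀
  let ξ₀ : U₀.toScheme := ⟨ξ, hξV⟩
  have hξ₀ : U₀.ι ξ₀ = ξ := rfl
  obtain ⟨nξ, -, hnξ⟩ := DimTheory.exists_height_eq G.hom ξ
  obtain ⟨d, hd⟩ := ENat.ne_top_iff_exists.1 (show hf f.left ξ ≠ ⊤ from fun e => by
    have := hd₀ ξ₀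
    rw [hξ₀, e, add_top, hnξ] at this
    exact ENat.natCast_ne_top _ this)
  -- a closed point all of whose fibre has height at most `d`
  obtain ⟨W, hWξ, hle⟩ := @DimTheory.exists_opens_height_le k _ U₀.toScheme T₀ q₀ hlq g₀ hlg hN ξ₀
  obtain ⟨_, ⟨c₀, hc₀W, rfl⟩, hc₀⟩ := DimTheory.exists_closedPoint_mem G.hom
    (U := U₀.ι '' (g₀ ⁻¹ᵁ W : U₀.toScheme.Opens))
    (U₀.ι.isOpenEmbedding.isOpenMap _ (g₀ ⁻¹ᵁ W).isOpen) ⟨_, ξ₀, hWξ, rfl⟩
  have hB0 : ∀ b : G.left, f.left b = f.left (U₀.ι c₀) → Order.height b ≤ d := by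
    intro b hb
    have hc₀V : U₀.ι c₀ ∈ U₀ := c₀.2
    have hbV : b ∈ U₀ := show f.left b ∈ V₀ by rw [hb]; exact hc₀V
    obtain ⟨b', rfl⟩ : ∃ b', U₀.ι b' = b := ⟨⟨b, hbV⟩, rfl⟩
    have hgb : g₀ b' = g₀ c₀ := (hiff₀ _ _).2 hb
    have h1 := hle b' (show ξ₀ ⤳ b' from
      U₀.ι.isOpenEmbedding.isInducing.specializes_iff.1 (genericPoint_specializes _)) (hgb.symm ▸ hc₀W)
    rw [DimTheory.height_opens G.hom U₀ b', DimTheory.height_opens G.hom U₀ ξ₀, hd₀ ξ₀, hgb, hξ₀, ← hd] at h1
    have h2 := hd₀ c₀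
    rw [DimTheory.height_eq_zero_of_isClosed hc₀, eq_comm, add_eq_zero] at h2
    obtain ⟨i, -, hi⟩ := DimTheory.exists_height_eq q₀ (g₀ ξ₀)
    obtain ⟨j, -, hj⟩ := DimTheory.exists_height_eq G.hom (U₀.ι b')
    rw [hi, hj, h2.1] at h1
    rw [hj]
    norm_cast at h1 ⊢
    omega
  obtain ⟨p₀, hp₀⟩ := exists_ratPoint G hc₀
  -- hence the same for every closed point
  have hB : ∀ c : G.left, IsClosed ({c} : Set G.left) → ∀ w : G.left, f.left w = f.left c → w ⤳ c →
      Order.height w ≤ d := by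
    intro c hc w hw hwc
    obtain ⟨p, hp⟩ := exists_ratPoint G hc
    have hmem : w ∈ connectedComponentIn (f.left ⁻¹' {f.left (p.left (IsLocalRing.closedPoint k))})
        (p.left (IsLocalRing.closedPoint k)) := by
      rw [hp]
      refine isPreconnected_singleton.closure.subset_connectedComponentIn (specializes_iff_mem_closure.1 hwc)
        ?_ (subset_closure rfl)
      exact ((hclosed c hc).preimage f.left.continuous).closure_subset_iff.2 (Set.singleton_subset_iff.2 hw)
    rw [← TransComp.image_eq f p] at hmem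
    obtain ⟨w₁, hw₁, rfl⟩ := hmem
    have hmem₀ : (translate p₀).hom.left w₁ ∈ connectedComponentIn
        (f.left ⁻¹' {f.left (p₀.left (IsLocalRing.closedPoint k))}) (p₀.left (IsLocalRing.closedPoint k)) := by
      rw [← TransComp.image_eq f p₀]; exact ⟨w₁, hw₁, rfl⟩
    have h0 := hB0 _ ((connectedComponentIn_subset _ _ hmem₀).trans (congrArg f.left hp₀))
    have key : ∀ x : 𝟙_ (Over (Spec (CommRingCat.of k))) ⟶ G, ∀ y,
        Order.height ((translate x).hom.left y) = Order.height y := fun x y => by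
      have : IsIso (translate x).hom.left := inferInstanceAs (IsIso ((Over.forget _).map (translate x).hom))
      exact height_eq_of_surj _ (fun a b => (translate x).hom.left.homeomorph.isInducing.specializes_iff)
        (translate x).hom.left.surjective y
    rw [key] at h0
    rw [key]; exact h0
  refine ⟨d, fun a ha => ?_⟩
  obtain ⟨na, -, hna⟩ := DimTheory.exists_height_eq G.hom a
  apply le_antisymm
  · -- upper bound
    haveI : CompactSpace G.left := QuasiCompact.compactSpace_of_compactSpace G.hom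
    obtain ⟨c, hca, hc⟩ := IsClosed.exists_closed_singleton (isClosed_closure (s := ({a} : Set G.left)))
      ⟨a, subset_closure rfl⟩
    have hac : a ⤳ c := specializes_iff_mem_closure.2 hca
    obtain ⟨_, ⟨V, hV, rfl⟩, hcV, -⟩ := Z.left.isBasis_affineOpens.exists_subset_of_mem_open
      (Set.mem_univ (f.left c)) isOpen_univ
    obtain ⟨T, q, g, _, _, _, -, hiff, hdV⟩ := exists_chart G.hom Z.hom f.left (Over.w f) hV
    let c' : (f.left ⁻¹ᵁ V).toScheme := ⟨c, hcV⟩
    let a' : (f.left ⁻¹ᵁ V).toScheme := ⟨a, hac.mem_open (f.left ⁻¹ᵁ V).isOpen hcV⟩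
    obtain ⟨x', -, hx'c, hgx', hx'⟩ := DimTheory.exists_generization_height_ge q g (ξ := a') (x := c')
      ((f.left ⁻¹ᵁ V).ι.isOpenEmbedding.isInducing.specializes_iff.1 hac)
    have h2 := hdV c'
    rw [show (f.left ⁻¹ᵁ V).ι c' = c from rfl, DimTheory.height_eq_zero_of_isClosed hc, eq_comm, add_eq_zero] at h2
    have h3 := hB c hc ((f.left ⁻¹ᵁ V).ι x') ((hiff x' c').1 hgx') (hx'c.map (f.left ⁻¹ᵁ V).ι.continuous)
    rw [DimTheory.height_opens G.hom _ a', DimTheory.height_opens G.hom _ x', h2.1, add_zero, hdV a'] at hx'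
    obtain ⟨i, -, hi⟩ := DimTheory.exists_height_eq q (g a')
    rw [hi] at hx'
    have h4 : (f.left ⁻¹ᵁ V).ι a' = a := rfl
    rw [h4, add_comm (i : ℕ∞)] at hx'
    exact ((ENat.add_le_add_iff_right (ENat.natCast_ne_top i)).1 hx').trans h3
  · -- lower bound
    obtain ⟨_, ⟨V, hV, rfl⟩, haV, -⟩ := Z.left.isBasis_affineOpens.exists_subset_of_mem_open
      (Set.mem_univ (f.left a)) isOpen_univ
    obtain ⟨T, q, g, _, _, _, -, hiff, hdV⟩ := exists_chart G.hom Z.hom f.left (Over.w f) hV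
    let a' : (f.left ⁻¹ᵁ V).toScheme := ⟨a, haV⟩
    let ξ' : (f.left ⁻¹ᵁ V).toScheme :=
      ⟨ξ, (genericPoint_specializes a).mem_open (f.left ⁻¹ᵁ V).isOpen haV⟩
    obtain ⟨x', -, hx'a, hgx', hx'⟩ := DimTheory.exists_generization_height_ge q g (ξ := ξ') (x := a')
      ((f.left ⁻¹ᵁ V).ι.isOpenEmbedding.isInducing.specializes_iff.1 (genericPoint_specializes a))
    have hxa : (f.left ⁻¹ᵁ V).ι x' = a :=
      ha _ ((hiff x' a').1 hgx') (hx'a.map (f.left ⁻¹ᵁ V).ι.continuous)
    rw [DimTheory.height_opens G.hom _ ξ', DimTheory.height_opens G.hom _ x', hdV ξ', hdV x', hgx', hxa,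
      show (f.left ⁻¹ᵁ V).ι ξ' = ξ from rfl, ← hd] at hx'
    obtain ⟨i, -, hi⟩ := DimTheory.exists_height_eq q (g ξ')
    obtain ⟨j, -, hj⟩ := DimTheory.exists_height_eq q (g a')
    rw [hi, hj, show (i : ℕ∞) + d + j = d + ((j : ℕ∞) + i) by abel,
      show (j : ℕ∞) + hf f.left a + i = hf f.left a + ((j : ℕ∞) + i) by abel] at hx'
    refine (ENat.add_le_add_iff_right ?_).1 hx'
    exact_mod_cast ENat.natCast_ne_top (j + i)

end closed

section descent

theorem exists_dim {k : Type u} [Field k] (G : Over (Spec (CommRingCat.of k))) [GrpObj G] [IsProper G.hom]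
    [GeometricallyIntegral G.hom] {Y : Scheme.{u}} (qY : Y ⟶ Spec (CommRingCat.of k)) [IsSeparated qY]
    (f : G.left ⟶ Y) (w : f ≫ qY = G.hom) :
    ∃ d : ℕ, ∀ a : G.left, IsFibMax f a → hf f a = d := by
  let s : Spec (CommRingCat.of (AlgebraicClosure k)) ⟶ Spec (CommRingCat.of k) :=
    Spec.map (CommRingCat.ofHom (algebraMap k (AlgebraicClosure k)))
  haveI : IsIntegralHom s := IsIntegralHom.SpecMap_iff.mpr
    (algebraMap_isIntegral_iff.2 (Algebra.IsAlgebraic.isIntegral (K := k)))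
  haveI : Surjective s := ⟨fun x => ⟨IsLocalRing.closedPoint _, Subsingleton.elim (α := PrimeSpectrum k) _ _⟩⟩
  let G' : Over (Spec (CommRingCat.of (AlgebraicClosure k))) := (Over.pullback s).obj G
  let _ : GrpObj G' := Functor.grpObjObj (F := Over.pullback s)
  let Z' : Over (Spec (CommRingCat.of (AlgebraicClosure k))) := (Over.pullback s).obj (Over.mk qY)
  let F : G' ⟶ Z' := (Over.pullback s).map (Over.homMk f w : G ⟶ Over.mk qY)
  haveI : IsProper G'.hom := MorphismProperty.pullback_snd _ _ ‹_›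
  haveI : IsSeparated Z'.hom := MorphismProperty.pullback_snd _ _ ‹_›
  haveI : IsIntegral G'.left :=
    GeometricallyIntegral.geometrically_isIntegral s _ _ (IsPullback.of_hasPullback G.hom s)
  obtain ⟨d, hd⟩ := exists_dim_of_isAlgClosed F
  refine ⟨d, fun a ha => ?_⟩
  let q : G'.left ⟶ G.left := pullback.fst G.hom s
  let p : Z'.left ⟶ Y := pullback.fst qY s
  haveI : IsIntegralHom q := MorphismProperty.pullback_fst _ _ ‹_›
  haveI : IsIntegralHom p := MorphismProperty.pullback_fst _ _ ‹_›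
  haveI : Surjective q := MorphismProperty.pullback_fst _ _ ‹Surjective s›
  have hw : F.left ≫ p = q ≫ f := pullback.lift_fst _ _ _
  obtain ⟨z, hz⟩ := q.surjective a
  obtain ⟨m, hmz, hm⟩ := FlatMorLib.exists_maximal_generization (F.left.asFiber z)
  let z' := F.left.fiberι (F.left z) m
  have hmax : IsFibMax F.left z' := by
    intro b hb hbz
    have hFz : F.left z' = F.left z := by
      have : z' ∈ F.left ⁻¹' {F.left z} := F.left.range_fiberι _ ▸ ⟨m, rfl⟩
      exact this
    obtain ⟨n, rfl⟩ : b ∈ Set.range (F.left.fiberι (F.left z)) := by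
      rw [F.left.range_fiberι]; exact hb.trans hFz
    rw [hm n ((F.left.fiberι _).isEmbedding.isInducing.specializes_iff.1 hbz)]
  have hFz : F.left z' = F.left z := by
    have : z' ∈ F.left ⁻¹' {F.left z} := F.left.range_fiberι _ ▸ ⟨m, rfl⟩
    exact this
  have hqz : q z' = a := by
    refine ha _ ?_ ?_
    · have h1 : ∀ t, f (q t) = p (F.left t) := fun t => by
        rw [← Scheme.Hom.comp_apply, ← hw, Scheme.Hom.comp_apply]
      rw [← hz, h1, h1, hFz]
    · have := (hmz.map (F.left.fiberι _).continuous).map q.continuous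
      rwa [Scheme.Hom.fiberι_asFiber, hz] at this
  rw [← hqz, ← hf_integral f F.left q p hw z']
  exact hd z' hmax

end descent

end Groth.Agent.GrpSch.EquiDim
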