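import Groth.Agent.GrpSch.AgreeLocus

/-! # The locus of `T` over which a family of morphisms lands in a closed subscheme; transporters -/

set_option autoImplicit false
set_option backward.isDefEq.respectTransparency.types false

universe u

open CategoryTheory CategoryTheory.Limits MonoidalCategory CartesianMonoidalCategory MonObj GrpObj AlgebraicGeometry

namespace Groth.Agent.GrpSch.WeilClosed

variable {S : Scheme.{u}}

/-- The points of `T` over which `a : X ⊗ T ⟶ W` factors through a closed subscheme `y` form a closed subscheme. -/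
theorem exists_factor_locus (X T W Y : Over S) (hX : ProjChart X.hom) (a : X ⊗ T ⟶ W) (y : Y ⟶ W)
    [IsClosedImmersion y.left] :
    ∃ (Z : Over S) (i : Z ⟶ T), IsClosedImmersion i.left ∧
      ∀ (T' : Over S) (f : T' ⟶ T), (∃ z, z ≫ i = f) ↔
        ∀ (T'' : Over S) (t : T'' ⟶ T') (x : T'' ⟶ X), ∃ x' : T'' ⟶ Y, lift x (t ≫ f) ≫ a = x' ≫ y := by
  let e : pullback a.left y.left ⟶ (X ⊗ T).left := pullback.fst a.left y.left
  have hsq : IsPullback (snd X T).left (fst X T).left T.hom X.hom := (isPullback_fst_snd X T).flip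
  obtain ⟨Z, i, hi, hZ⟩ := exists_closed_agree e (snd X T).left (ProjChart.of_isPullback hsq hX)
  refine ⟨Over.mk (i ≫ T.hom), Over.homMk i, hi, fun T' f => ?_⟩
  have hfac : (∃ z, z ≫ (Over.homMk i : Over.mk (i ≫ T.hom) ⟶ T) = f) ↔ ∃ z, z ≫ i = f.left := by
    refine ⟨fun ⟨z, hz⟩ => ⟨z.left, congrArg (·.left) hz⟩, fun ⟨z, hz⟩ => ?_⟩
    exact ⟨Over.homMk z (by simp [← Category.assoc, hz]), Over.OverMorphism.ext hz⟩
  rw [hfac, hZ]
  refine ⟨fun h T'' t x => ?_, fun h Q g c hgc => ?_⟩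
  · obtain ⟨l, hl⟩ := h (lift x (t ≫ f)).left t.left (by
      rw [← Over.comp_left, lift_snd, Over.comp_left])
    have hl' : (l ≫ pullback.snd a.left y.left) ≫ y.left = (lift x (t ≫ f) ≫ a).left := by
      rw [Category.assoc, ← pullback.condition, ← Category.assoc]
      exact congrArg (· ≫ a.left) hl
    refine ⟨Over.homMk (l ≫ pullback.snd a.left y.left) ?_, Over.OverMorphism.ext hl'.symm⟩
    rw [← Over.w y, ← Category.assoc]
    exact (congrArg (· ≫ W.hom) hl').trans (Over.w (lift x (t ≫ f) ≫ a))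
  · have hw : g ≫ (fst X T).left ≫ X.hom = c ≫ T'.hom := by
      rw [← hsq.w, ← Category.assoc, hgc, Category.assoc, Over.w]
    let T'' : Over S := Over.mk (c ≫ T'.hom)
    let t : T'' ⟶ T' := Over.homMk c rfl
    let x : T'' ⟶ X := Over.homMk (g ≫ (fst X T).left) ((Category.assoc _ _ _).trans hw)
    obtain ⟨x', hx'⟩ := h T'' t x
    have hg : (lift x (t ≫ f)).left = g := by
      apply (isPullback_fst_snd X T).hom_ext
      · exact (congrArg (·.left) (lift_fst x (t ≫ f)))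
      · exact (congrArg (·.left) (lift_snd x (t ≫ f))).trans hgc.symm
    exact ⟨pullback.lift g x'.left ((congrArg (· ≫ a.left) hg.symm).trans (congrArg (·.left) hx')),
      pullback.lift_fst _ _ _⟩

/-- Two closed loci intersect in a closed subscheme. -/
theorem exists_inter {T Z₁ Z₂ : Over S} (i₁ : Z₁ ⟶ T) (i₂ : Z₂ ⟶ T) [IsClosedImmersion i₁.left]
    [IsClosedImmersion i₂.left] :
    ∃ (Z : Over S) (i : Z ⟶ T), IsClosedImmersion i.left ∧
      ∀ (T' : Over S) (f : T' ⟶ T), (∃ z, z ≫ i = f) ↔ (∃ z, z ≫ i₁ = f) ∧ (∃ z, z ≫ i₂ = f) := by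
  have h : IsPullback (pullback.fst i₁ i₂).left (pullback.snd i₁ i₂).left i₁.left i₂.left :=
    (IsPullback.of_hasPullback i₁ i₂).map (Over.forget S)
  haveI : IsClosedImmersion (pullback.fst i₁ i₂).left :=
    MorphismProperty.of_isPullback (P := @IsClosedImmersion) h.flip inferInstance
  refine ⟨_, pullback.fst i₁ i₂ ≫ i₁, by rw [Over.comp_left]; infer_instance, fun T' f => ⟨?_, ?_⟩⟩
  · rintro ⟨z, rfl⟩
    exact ⟨⟨z ≫ pullback.fst i₁ i₂, Category.assoc _ _ _⟩,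
      ⟨z ≫ pullback.snd i₁ i₂, by rw [Category.assoc, pullback.condition]⟩⟩
  · rintro ⟨⟨z₁, h₁⟩, ⟨z₂, h₂⟩⟩
    exact ⟨pullback.lift z₁ z₂ (h₁.trans h₂.symm), by rw [pullback.lift_fst_assoc, h₁]⟩

variable (G : Over S) [GrpObj G] {X Y : Over S}

/-- The transporter of `y'` into the closed subscheme `y`. -/
theorem exists_transporter (hX : ProjChart X.hom) (y' : X ⟶ G) (y : Y ⟶ G) [IsClosedImmersion y.left] :
    ∃ (T : Over S) (t : T ⟶ G), IsClosedImmersion t.left ∧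
      ∀ (S' : Over S) (g : S' ⟶ G), (∃ z : S' ⟶ T, z ≫ t = g) ↔
        ∀ (S'' : Over S) (s : S'' ⟶ S') (x : S'' ⟶ X),
          ∃ x' : S'' ⟶ Y, (s ≫ g) * (x ≫ y') * (s ≫ g)⁻¹ = x' ≫ y := by
  obtain ⟨T, t, ht, hT⟩ := exists_factor_locus X G G Y hX (snd X G * (fst X G ≫ y') * (snd X G)⁻¹) y
  refine ⟨T, t, ht, fun S' g => (hT S' g).trans ?_⟩
  simp only [MonObj.comp_mul, GrpObj.comp_inv, lift_snd, lift_fst_assoc]

/-- The reverse transporter. -/
theorem exists_transporter_inv (hX : ProjChart X.hom) (y' : X ⟶ G) (y : Y ⟶ G) [IsClosedImmersion y.left] :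
    ∃ (T : Over S) (t : T ⟶ G), IsClosedImmersion t.left ∧
      ∀ (S' : Over S) (g : S' ⟶ G), (∃ z : S' ⟶ T, z ≫ t = g) ↔
        ∀ (S'' : Over S) (s : S'' ⟶ S') (x : S'' ⟶ X),
          ∃ x' : S'' ⟶ Y, (s ≫ g)⁻¹ * (x ≫ y') * (s ≫ g) = x' ≫ y := by
  obtain ⟨T, t, ht, hT⟩ := exists_factor_locus X G G Y hX ((snd X G)⁻¹ * (fst X G ≫ y') * snd X G) y
  refine ⟨T, t, ht, fun S' g => (hT S' g).trans ?_⟩
  simp only [MonObj.comp_mul, GrpObj.comp_inv, lift_snd, lift_fst_assoc]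

/-- The strict transporter. -/
theorem exists_strict_transporter (hX : ProjChart X.hom) (hY : ProjChart Y.hom) (y' : X ⟶ G) (y : Y ⟶ G)
    [IsClosedImmersion y.left] [IsClosedImmersion y'.left] :
    ∃ (T : Over S) (t : T ⟶ G), IsClosedImmersion t.left ∧
      ∀ (S' : Over S) (g : S' ⟶ G), (∃ z : S' ⟶ T, z ≫ t = g) ↔
        ((∀ (S'' : Over S) (s : S'' ⟶ S') (x : S'' ⟶ X),
          ∃ x' : S'' ⟶ Y, (s ≫ g) * (x ≫ y') * (s ≫ g)⁻¹ = x' ≫ y) ∧
        (∀ (S'' : Over S) (s : S'' ⟶ S') (x' : S'' ⟶ Y),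
          ∃ x : S'' ⟶ X, (s ≫ g)⁻¹ * (x' ≫ y) * (s ≫ g) = x ≫ y')) := by
  obtain ⟨T₁, t₁, h₁, hT₁⟩ := exists_transporter G hX y' y
  obtain ⟨T₂, t₂, h₂, hT₂⟩ := exists_transporter_inv G hY y y'
  obtain ⟨T, t, ht, hT⟩ := exists_inter t₁ t₂
  exact ⟨T, t, ht, fun S' g => by rw [hT, hT₁, hT₂]⟩

end Groth.Agent.GrpSch.WeilClosed
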