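import Groth.Agent.GrpSch.MonoCrit
import Groth.Agent.FinHopf.GrpSch
import Groth.Agent.UnramFibre.Basic
import Groth.Prelude.Def_Red

/-!
# Finite group schemes of invertible order are étale
-/

set_option autoImplicit false

universe u

open CategoryTheory MonoidalCategory CartesianMonoidalCategory MonObj GrpObj Limits AlgebraicGeometry
  TrivSqZeroExt

namespace Groth.Agent.GrpSch.FiniteOrder

/-- over a field, a finite group scheme of invertible order is unramified -/
theorem formallyUnramified_field {k : Type u} [Field k] (G : Over (Spec (CommRingCat.of k))) [GrpObj G]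
    [IsFinite G.hom] (h : ∀ y, (G.hom.finrank y : k) ≠ 0) : FormallyUnramified G.hom := by
  haveI : Flat G.hom := inferInstance
  haveI : LocallyOfFinitePresentation G.hom := inferInstance
  let y₀ : Spec (CommRingCat.of k) := IsLocalRing.closedPoint k
  have hN := FinHopf.pow_rank_eq_one G (G.hom.finrank y₀) fun y => by
    rw [Subsingleton.elim (α := PrimeSpectrum k) y y₀]
  have hG : IsMonHom (toUnit G) := ⟨toUnit_unique _ _, toUnit_unique _ _⟩
  have := MonoCrit.formallyUnramified_of_tangent (toUnit G) fun g hg _ => by
    rw [← Hom.one_def]
    refine TangentMul.eq_one_of_zpow g hg (n := (G.hom.finrank y₀ : ℤ)) (by simpa using h y₀) ?_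
    rw [zpow_natCast]
    have := congrArg (fun w => g ≫ w) hN
    simpa only [MonObj.comp_pow, Category.comp_id, MonObj.comp_one] using this
  exact this

/-- a quasi-finite flat group scheme of invertible order is étale -/
theorem etale_of_order {S : Scheme.{u}} (G : Over S) [GrpObj G]
    [LocallyQuasiFinite G.hom] [QuasiCompact G.hom] [Flat G.hom] [LocallyOfFinitePresentation G.hom]
    (h : ∀ (s : S) (x : ↥(Spec (S.residueField s))),
      ((pullback.snd G.hom (S.fromSpecResidueField s)).finrank x : S.residueField s) ≠ 0) :
    Etale G.hom := by
  haveI : FormallyUnramified G.hom := UnramFibre.formallyUnramified_of_fibres G.hom fun s => by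
    let Gs : Over (Spec (CommRingCat.of (S.residueField s))) := Red.bc (S.fromSpecResidueField s) G
    haveI : GrpObj Gs := Red.grpObj_bc (S.fromSpecResidueField s) G
    haveI : LocallyQuasiFinite Gs.hom := inferInstanceAs (LocallyQuasiFinite (pullback.snd G.hom (S.fromSpecResidueField s)))
    haveI : QuasiCompact Gs.hom := inferInstanceAs (QuasiCompact (pullback.snd G.hom (S.fromSpecResidueField s)))
    haveI : IsFinite Gs.hom := IsFinite.of_locallyQuasiFinite _
    exact formallyUnramified_field Gs (fun y => h s y)
  exact Etale.of_formallyUnramified_of_flat G.hom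

end Groth.Agent.GrpSch.FiniteOrder
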