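import Mathlib

/-! Coinvariants of a finite group of invertible order acting on a smooth algebra are smooth. -/

set_option autoImplicit false

universe u v

namespace Groth.Agent.GrpSch.FixSmooth

/-- The ideal cutting out the fixed points of a family of endomorphisms. -/
def fixIdeal {R : Type u} {A : Type u} [CommRing R] [CommRing A] [Algebra R A] {G : Type v} (σ : G → A →ₐ[R] A) : Ideal A :=
  Ideal.span (⋃ g, Set.range fun a => σ g a - a)

variable {R : Type u} {A : Type u} [CommRing R] [CommRing A] [Algebra R A] {G : Type v} (σ : G → A →ₐ[R] A)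

lemma sub_mem_fixIdeal (g : G) (a : A) : σ g a - a ∈ fixIdeal σ :=
  Ideal.subset_span (Set.mem_iUnion.mpr ⟨g, a, rfl⟩)

lemma fixIdeal_le {I : Ideal A} (h : ∀ g a, σ g a - a ∈ I) : fixIdeal σ ≤ I :=
  Ideal.span_le.mpr (by rintro _ hx; obtain ⟨g, a, rfl⟩ := Set.mem_iUnion.mp hx; exact h g a)

lemma fg_fixIdeal [Finite G] [Algebra.FiniteType R A] : (fixIdeal σ).FG := by
  classical
  cases nonempty_fintype G
  obtain ⟨s, hs⟩ := Algebra.FiniteType.out (R := R) (A := A)
  let T : Finset A := Finset.univ.biUnion fun g : G => s.image fun a => σ g a - a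
  have key : ∀ g a, σ g a - a ∈ Ideal.span (T : Set A) := fun g a => by
    have ha : a ∈ AlgHom.equalizer ((Ideal.Quotient.mkₐ R (Ideal.span (T : Set A))).comp (σ g))
        (Ideal.Quotient.mkₐ R (Ideal.span (T : Set A))) := by
      have : Algebra.adjoin R (s : Set A) ≤ AlgHom.equalizer ((Ideal.Quotient.mkₐ R (Ideal.span (T : Set A))).comp (σ g))
          (Ideal.Quotient.mkₐ R (Ideal.span (T : Set A))) := Algebra.adjoin_le fun b hb =>
        Ideal.Quotient.eq.mpr (Ideal.subset_span
          (Finset.mem_biUnion.mpr ⟨g, Finset.mem_univ g, Finset.mem_image.mpr ⟨b, hb, rfl⟩⟩))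
      exact this (hs ▸ Algebra.mem_top)
    exact Ideal.Quotient.eq.mp ha
  exact ⟨T, le_antisymm (Ideal.span_le.mpr fun x hx => by
    obtain ⟨g, -, hx⟩ := Finset.mem_biUnion.mp hx
    obtain ⟨a, -, rfl⟩ := Finset.mem_image.mp hx
    exact sub_mem_fixIdeal σ g a) (fixIdeal_le σ key)⟩

/-- Averaging square-zero lifts: if the order of the family is invertible, coinvariants stay smooth. -/
theorem smooth_quotient [Finite G] [Group G] (h1 : σ 1 = AlgHom.id R A) (hmul : ∀ g h, σ (g * h) = (σ h).comp (σ g))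
    (hn : IsUnit (Nat.card G : R)) [Algebra.Smooth R A] : Algebra.Smooth R (A ⧸ fixIdeal σ) := by
  classical
  cases nonempty_fintype G
  haveI hfp : Algebra.FinitePresentation R A := Algebra.Smooth.finitePresentation
  haveI : Algebra.FormallySmooth R A := Algebra.Smooth.formallySmooth
  refine ⟨Algebra.FormallySmooth.of_comp_surjective fun B _ _ I hI f => ?_,
    Algebra.FinitePresentation.quotient (fg_fixIdeal σ)⟩
  obtain ⟨f₀, hf₀⟩ := Algebra.FormallySmooth.comp_surjective R A I hI (f.comp (Ideal.Quotient.mkₐ R _))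
  have hf₀' : ∀ a, Ideal.Quotient.mk I (f₀ a) = f (Ideal.Quotient.mk _ a) := fun a => DFunLike.congr_fun hf₀ a
  obtain ⟨c, hc⟩ := hn.exists_left_inv
  let d : G → A → B := fun g a => f₀ (σ g a) - f₀ a
  have hd : ∀ g a, d g a ∈ I := fun g a => by
    rw [← Ideal.Quotient.eq, hf₀', hf₀', Ideal.Quotient.eq.mpr (sub_mem_fixIdeal σ g a)]
  have hII : ∀ x ∈ I, ∀ y ∈ I, x * y = 0 := fun x hx y hy => by
    have := Ideal.mul_mem_mul hx hy
    rwa [← pow_two, hI, Ideal.mem_bot] at this
  have hcB : algebraMap R B c * (Nat.card G : B) = 1 := by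
    rw [← map_natCast (algebraMap R B), ← map_mul, hc, map_one]
  let lin : A →ₗ[R] B := c • ∑ g, (f₀.comp (σ g)).toLinearMap
  have hlin : ∀ a, lin a = algebraMap R B c * ∑ g, f₀ (σ g a) := fun a => by
    simp [lin, Algebra.smul_def]
  have hlin' : ∀ a, lin a = f₀ a + algebraMap R B c * ∑ g, d g a := fun a => by
    rw [hlin]
    simp only [d, Finset.sum_sub_distrib, Finset.sum_const, Finset.card_univ, ← Nat.card_eq_fintype_card,
      nsmul_eq_mul]
    linear_combination (f₀ a) * hcB
  let h : A →ₐ[R] B := AlgHom.ofLinearMap lin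
    (by
      rw [hlin']
      have : ∀ g, d g 1 = 0 := fun g => by simp [d]
      simp [this])
    (fun a b => by
      have hab : ∀ g, d g (a * b) = f₀ a * d g b + f₀ b * d g a := fun g => by
        have := hII _ (hd g a) _ (hd g b)
        simp only [d] at this ⊢
        simp only [map_mul]
        linear_combination this
      rw [hlin', hlin', hlin', Finset.sum_congr rfl fun g _ => hab g, Finset.sum_add_distrib, ← Finset.mul_sum,
        ← Finset.mul_sum, map_mul]
      have h0 := hII _ (I.sum_mem fun g _ => hd g a : ∑ g, d g a ∈ I) _ (I.sum_mem fun g _ => hd g b : ∑ g, d g b ∈ I)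
      linear_combination (-(algebraMap R B c * algebraMap R B c)) * h0)
  have hfix : ∀ k a, h (σ k a) = h a := fun k a => by
    show lin (σ k a) = lin a
    rw [hlin, hlin]
    congr 1
    exact Fintype.sum_equiv (Equiv.mulLeft k) _ _ fun g => by
      show _ = f₀ (σ (k * g) a)
      rw [hmul]; rfl
  refine ⟨Ideal.Quotient.liftₐ _ h fun x hx => ?_, ?_⟩
  · exact (fixIdeal_le σ (I := RingHom.ker h.toRingHom) fun g a => by
      rw [RingHom.mem_ker, map_sub]; exact sub_eq_zero.mpr (hfix g a)) hx
  · apply AlgHom.ext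
    intro x
    obtain ⟨a, rfl⟩ := Ideal.Quotient.mk_surjective x
    show Ideal.Quotient.mk I (lin a) = _
    rw [hlin', map_add, hf₀', Ideal.Quotient.eq_zero_iff_mem.mpr (I.mul_mem_left _ (I.sum_mem fun g _ => hd g a)),
      add_zero]

end Groth.Agent.GrpSch.FixSmooth
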