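import Mathlib
import Groth.Agent.GrpSch.AffineLine
import Groth.Agent.GrpSch.Core
import Groth.Agent.GrpSch.Action
import Groth.Agent.EGA2Curve.Extend
import Groth.Prelude.Def_AlgGrp

/-!
# Fixed points of the additive and multiplicative groups on proper schemes

The orbit map of a rational point extends to the affine line; the value at the origin is fixed.
-/

set_option autoImplicit false
set_option backward.isDefEq.respectTransparency.types false

universe u

open CategoryTheory MonoidalCategory CartesianMonoidalCategory MonObj Limits AlgebraicGeometry Polynomial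

noncomputable section

namespace Groth.Agent.GrpSch.FixedLine

open AffineLine (aff str exists_map)

variable {k : Type u} [Field k]

/-- the scheme of a `k`-algebra -/
noncomputable abbrev sp (k : Type u) [Field k] (A : Type u) [CommRing A] [Algebra k A] :
    Over (Spec (CommRingCat.of k)) := aff (algebraMap k A)

instance isAffine_sp (A : Type u) [CommRing A] [Algebra k A] : IsAffine (sp k A).left :=
  inferInstanceAs (IsAffine (Spec _))

instance isIntegral_sp (A : Type u) [CommRing A] [IsDomain A] [Algebra k A] : IsIntegral (sp k A).left :=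
  inferInstanceAs (IsIntegral (Spec _))

instance nonempty_sp (A : Type u) [CommRing A] [Nontrivial A] [Algebra k A] : Nonempty ↥(sp k A).left :=
  inferInstanceAs (Nonempty (PrimeSpectrum A))

/-- the value of a function at a point -/
noncomputable def val {A : Type u} [CommRing A] [Algebra k A] {T : Over (Spec (CommRingCat.of k))}
    (x : T ⟶ sp k A) : A →+* Γ(T.left, ⊤) :=
  ((Scheme.ΓSpecIso (CommRingCat.of A)).inv ≫ x.left.appTop).hom

lemma val_comp {A : Type u} [CommRing A] [Algebra k A] {T T' : Over (Spec (CommRingCat.of k))}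
    (t : T' ⟶ T) (x : T ⟶ sp k A) (a : A) : val (t ≫ x) a = t.left.appTop (val x a) := by
  simp [val]

/-- the map of schemes of an algebra map -/
noncomputable def spHom {A B : Type u} [CommRing A] [Algebra k A] [CommRing B] [Algebra k B]
    (φ : A →ₐ[k] B) : sp k B ⟶ sp k A :=
  Over.homMk (Spec.map (CommRingCat.ofHom φ.toRingHom)) (by
    change Spec.map _ ≫ Spec.map _ = Spec.map _
    rw [← Spec.map_comp, ← CommRingCat.ofHom_comp]; exact congrArg (fun r => Spec.map (CommRingCat.ofHom r)) φ.comp_algebraMap)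

lemma val_comp_spHom {A B : Type u} [CommRing A] [Algebra k A] [CommRing B] [Algebra k B]
    (φ : A →ₐ[k] B) {T : Over (Spec (CommRingCat.of k))} (x : T ⟶ sp k B) (a : A) :
    val (x ≫ spHom φ) a = val x (φ a) := by
  have h := congrArg (fun m => m.hom a) (Scheme.ΓSpecIso_inv_naturality (CommRingCat.ofHom φ.toRingHom))
  simp only [CommRingCat.hom_comp, RingHom.comp_apply] at h
  rw [val, val]
  simp only [Over.comp_left, spHom, Over.homMk_left, Scheme.Hom.comp_appTop, CommRingCat.hom_comp,
    RingHom.comp_apply]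
  rw [← h]
  rfl

lemma ext_val {A : Type u} [CommRing A] [Algebra k A] {T : Over (Spec (CommRingCat.of k))}
    {x y : T ⟶ sp k A} (h : val x = val y) : x = y := by
  apply Over.OverMorphism.ext
  apply ext_of_isAffine
  rw [← cancel_epi (Scheme.ΓSpecIso (CommRingCat.of A)).inv]
  exact CommRingCat.hom_ext h

lemma val_algebraMap {A : Type u} [CommRing A] [Algebra k A] {T : Over (Spec (CommRingCat.of k))}
    (x : T ⟶ sp k A) : (val x).comp (algebraMap k A) = str T := by
  ext r
  have h := congrArg (fun m => m.hom r)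
    (Scheme.ΓSpecIso_inv_naturality (CommRingCat.ofHom (algebraMap k A)))
  simp only [CommRingCat.hom_comp, RingHom.comp_apply] at h
  rw [RingHom.comp_apply, val, str, ← Over.w x]
  simp only [CommRingCat.hom_comp, RingHom.comp_apply, Scheme.Hom.comp_appTop]
  exact congrArg (fun z => x.left.appTop z) h

/-- the ring of the punctured line -/
abbrev Lau (k : Type u) [Field k] : Type u := Localization.Away (Polynomial.X : k[X])

/-- the inclusion of the punctured line in the line -/
noncomputable abbrev incl (k : Type u) [Field k] : sp k (Lau k) ⟶ sp k k[X] :=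
  spHom (IsScalarTower.toAlgHom k k[X] (Lau k))

instance isOpenImmersion_incl : IsOpenImmersion (incl k).left :=
  inferInstanceAs (IsOpenImmersion (Spec.map (CommRingCat.ofHom (algebraMap k[X] (Lau k)))))

lemma isNormalScheme_line : Pi1.IsNormalScheme (Spec (CommRingCat.of k[X])) := by
  intro x
  letI : Algebra k[X] ((Spec (CommRingCat.of k[X])).presheaf.stalk x) :=
    inferInstanceAs (Algebra k[X] ((Spec.structureSheaf k[X]).presheaf.stalk x))
  haveI : IsLocalization.AtPrime ((Spec (CommRingCat.of k[X])).presheaf.stalk x) x.asIdeal :=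
    inferInstanceAs (IsLocalization.AtPrime ((Spec.structureSheaf k[X]).presheaf.stalk x) x.asIdeal)
  haveI hd : IsDomain ((Spec (CommRingCat.of k[X])).presheaf.stalk x) :=
    IsLocalization.isDomain_of_le_nonZeroDivisors _ x.asIdeal.primeCompl_le_nonZeroDivisors
  exact ⟨hd, isIntegrallyClosed_of_isLocalization _ x.asIdeal.primeCompl
    x.asIdeal.primeCompl_le_nonZeroDivisors⟩

lemma dim_stalk_line (x : Spec (CommRingCat.of k[X])) (hx : IsClosed ({x} : Set (Spec (CommRingCat.of k[X])))) :
    ringKrullDim ((Spec (CommRingCat.of k[X])).presheaf.stalk x) = 1 := by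
  haveI : x.asIdeal.IsMaximal := (PrimeSpectrum.isClosed_singleton_iff_isMaximal x).1 hx
  letI : Algebra k[X] ((Spec (CommRingCat.of k[X])).presheaf.stalk x) :=
    inferInstanceAs (Algebra k[X] ((Spec.structureSheaf k[X]).presheaf.stalk x))
  haveI : IsLocalization.AtPrime ((Spec (CommRingCat.of k[X])).presheaf.stalk x) x.asIdeal :=
    inferInstanceAs (IsLocalization.AtPrime ((Spec.structureSheaf k[X]).presheaf.stalk x) x.asIdeal)
  rw [IsLocalization.AtPrime.ringKrullDim_eq_height x.asIdeal,
    IsPrincipalIdealRing.height_eq_one_of_isMaximal x.asIdeal (Polynomial.not_isField k)]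
  rfl

/-- morphisms from the punctured line to a proper scheme extend to the line -/
lemma exists_extension (Y : Over (Spec (CommRingCat.of k))) [IsProper Y.hom]
    (f : sp k (Lau k) ⟶ Y) : ∃ f' : sp k k[X] ⟶ Y, incl k ≫ f' = f := by
  let i := (incl k).left
  haveI : Nonempty (Spec (CommRingCat.of (Lau k))) := by
    haveI : Nontrivial (Lau k) := (IsLocalization.injective (S := Lau k)
      (M := Submonoid.powers (Polynomial.X : k[X]))
      (powers_le_nonZeroDivisors_of_noZeroDivisors Polynomial.X_ne_zero)).nontrivial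
    exact inferInstanceAs (Nonempty (PrimeSpectrum (Lau k)))
  haveI : Nontrivial (Lau k) := (PrimeSpectrum.nonempty_iff_nontrivial).1 ‹_›
  have hU : Dense (i.opensRange : Set (sp k k[X]).left) :=
    i.opensRange.2.dense ⟨i (Classical.arbitrary (sp k (Lau k)).left), ⟨_, rfl⟩⟩
  haveI : IsLocallyNoetherian (sp k k[X]).left := inferInstanceAs (IsLocallyNoetherian (Spec (CommRingCat.of k[X])))
  obtain ⟨g', ⟨hg1, hg2⟩, -⟩ := EGA2Curve.existsUnique_extension (sp k k[X]).hom Y.hom
    dim_stalk_line isNormalScheme_line i.opensRange hU (i.isoOpensRange.inv ≫ f.left) (by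
      rw [Category.assoc, Over.w f, ← Over.w (incl k), ← Category.assoc]
      congr 1
      exact Scheme.Hom.isoOpensRange_inv_comp i)
  refine ⟨Over.homMk g' hg2, Over.OverMorphism.ext ?_⟩
  change i ≫ g' = f.left
  calc i ≫ g' = (i.isoOpensRange.hom ≫ i.opensRange.ι) ≫ g' := by
        rw [Scheme.Hom.isoOpensRange_hom_ι]
    _ = f.left := by rw [Category.assoc, hg1, Iso.hom_inv_id_assoc]

/-- if `g · u(s) = u(s')` on a dense open of an integral parameter space specialising to the origin, then
the value at the origin of the extended orbit map of any rational point is fixed -/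
theorem exists_fixed {G Y : Over (Spec (CommRingCat.of k))} [GrpObj G] [IsProper Y.hom]
    (y₀ : 𝟙_ (Over (Spec (CommRingCat.of k))) ⟶ Y) (a : AlgGrp.Action G Y)
    {L : Type u} [CommRing L] [IsDomain L] [Algebra k L] (g : sp k L ⟶ G) (s s' : L)
    (hs : s ≠ 0) (hs' : s' ≠ 0) (u : sp k (Lau k) ⟶ G)
    (key : ∀ (T : Over (Spec (CommRingCat.of k))) (j : T ⟶ sp k L) (σ σ' : T ⟶ sp k (Lau k)),
      val σ (algebraMap k[X] (Lau k) X) = val j s → val σ' (algebraMap k[X] (Lau k) X) = val j s' →
      (j ≫ g) * (σ ≫ u) = σ' ≫ u)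
    (z : G ⟶ sp k L) (hz : z ≫ g = 𝟙 G) (hzs : val z s = 0) (hzs' : val z s' = 0) :
    ∃ x : 𝟙_ (Over (Spec (CommRingCat.of k))) ⟶ Y, a.IsFixedPt x := by
  obtain ⟨f, hf⟩ := exists_extension Y (u ≫ a.orbitMap y₀)
  let S : sp k L ⟶ sp k k[X] := spHom (Polynomial.aeval s)
  let S' : sp k L ⟶ sp k k[X] := spHom (Polynomial.aeval s')
  obtain ⟨o, ho⟩ := exists_map (algebraMap k k[X]) (S := 𝟙_ (Over (Spec (CommRingCat.of k))))
    (eval₂RingHom (str _) 0) (by ext r; simp [Polynomial.algebraMap_eq])
  -- the locus where both parameters are invertible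
  let L₀ : Type u := Localization.Away (s * s')
  let j : sp k L₀ ⟶ sp k L := spHom (IsScalarTower.toAlgHom k L L₀)
  haveI : IsDominant j.left := by
    haveI : IsOpenImmersion j.left :=
      inferInstanceAs (IsOpenImmersion (Spec.map (CommRingCat.ofHom (algebraMap L L₀))))
    haveI : Nonempty (Spec (CommRingCat.of L₀)) := by
      haveI : Nontrivial L₀ := (IsLocalization.injective (S := L₀) (M := Submonoid.powers (s * s'))
        (powers_le_nonZeroDivisors_of_noZeroDivisors (mul_ne_zero hs hs'))).nontrivial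
      exact inferInstanceAs (Nonempty (PrimeSpectrum L₀))
    haveI : IrreducibleSpace (Spec (CommRingCat.of L)) := inferInstanceAs (IrreducibleSpace (PrimeSpectrum L))
    exact ⟨j.left.opensRange.2.dense ⟨j.left (Classical.arbitrary (Spec (CommRingCat.of L₀))), ⟨_, rfl⟩⟩⟩
  have hu : IsUnit (algebraMap L L₀ (s * s')) := IsLocalization.Away.algebraMap_isUnit _
  rw [map_mul, IsUnit.mul_iff] at hu
  have lift : ∀ (r : L), IsUnit (algebraMap L L₀ r) → ∃ σ : sp k L₀ ⟶ sp k (Lau k),
      σ ≫ incl k = j ≫ spHom (Polynomial.aeval r) ∧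
        val σ (algebraMap k[X] (Lau k) X) = val j r := by
    intro r hr
    let φ : Lau k →ₐ[k] L₀ :=
      { IsLocalization.Away.lift (S := Lau k) (X : k[X])
          (g := ((IsScalarTower.toAlgHom k L L₀).comp (Polynomial.aeval r)).toRingHom)
          (by simpa using hr) with
        commutes' := fun c => by
          simp only [RingHom.toMonoidHom_eq_coe, OneHom.toFun_eq_coe, MonoidHom.toOneHom_coe,
            MonoidHom.coe_coe]
          rw [IsScalarTower.algebraMap_apply k k[X] (Lau k), IsLocalization.Away.lift_eq]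
          simp [← IsScalarTower.algebraMap_apply] }
    have hφ : ∀ p : k[X], φ (algebraMap k[X] (Lau k) p) = algebraMap L L₀ (Polynomial.aeval r p) :=
      fun p => IsLocalization.Away.lift_eq (S := Lau k) (X : k[X]) (g := ((IsScalarTower.toAlgHom k L L₀).comp (Polynomial.aeval r)).toRingHom) (by simpa using hr) p
    refine ⟨spHom φ, ext_val (RingHom.ext fun p => ?_), ?_⟩
    · rw [val_comp_spHom, val_comp_spHom, show (IsScalarTower.toAlgHom k k[X] (Lau k)) p =
        algebraMap k[X] (Lau k) p from rfl, ← Category.id_comp (spHom φ), val_comp_spHom, hφ]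
      rw [← Category.id_comp j, val_comp_spHom]
      rfl
    · rw [← Category.id_comp (spHom φ), val_comp_spHom, hφ, ← Category.id_comp j, val_comp_spHom]
      simp
  obtain ⟨σ, hσ, hσv⟩ := lift s hu.1
  obtain ⟨σ', hσ', hσv'⟩ := lift s' hu.2
  have hW : CartesianMonoidalCategory.lift g (S ≫ f) ≫ a.act = S' ≫ f := by
    apply Over.OverMorphism.ext
    refine ext_of_isDominant_of_isSeparated Y.hom ?_ j.left ?_
    · rw [Over.w, Over.w]
    rw [← Over.comp_left, ← Over.comp_left]
    congr 1
    rw [comp_lift_assoc, ← Category.assoc j S, ← Category.assoc j S', ← hσ, ← hσ', Category.assoc,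
      Category.assoc, hf, ← Category.assoc, ← Category.assoc, Core.orbit_comp, Core.orbit_comp,
      ← key _ j σ σ' hσv hσv', act_mul]
  refine ⟨o ≫ f, fun T t => ?_⟩
  have hS : ∀ r : L, val z r = 0 → z ≫ spHom (Polynomial.aeval r) = toUnit G ≫ o := by
    intro r hr
    refine ext_val (Polynomial.ringHom_ext' ?_ ?_)
    · rw [← Polynomial.algebraMap_eq, val_algebraMap, val_algebraMap]
    · rw [val_comp_spHom, Polynomial.aeval_X, hr, val_comp]
      rw [show val o X = 0 from (ho X).trans (by simp), map_zero]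
  have h := congrArg (fun q => t ≫ z ≫ q) hW
  simp only [comp_lift_assoc] at h
  rw [hz, Category.comp_id, ← Category.assoc z S f, ← Category.assoc z S' f, hS s hzs, hS s' hzs'] at h
  simpa only [Category.assoc, comp_toUnit_assoc] using h

/-- the case of the additive group -/
theorem exists_fixed_additive {G Y : Over (Spec (CommRingCat.of k))} [GrpObj G] [IsProper Y.hom]
    (y₀ : 𝟙_ (Over (Spec (CommRingCat.of k))) ⟶ Y) (a : AlgGrp.Action G Y)
    (c : ∀ T : Over (Spec (CommRingCat.of k)), (T ⟶ G) → Γ(T.left, ⊤))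
    (hc : ∀ {T T' : Over (Spec (CommRingCat.of k))} (t : T' ⟶ T) (g : T ⟶ G), c T' (t ≫ g) = t.left.appTop (c T g))
    (hinj : ∀ T, Function.Injective (c T)) (hsurj : ∀ T, Function.Surjective (c T))
    (hadd : ∀ T (g h : T ⟶ G), c T (g * h) = c T g + c T h) :
    ∃ x : 𝟙_ (Over (Spec (CommRingCat.of k))) ⟶ Y, a.IsFixedPt x := by
  let q : k[X][X] := 1 + C X * X
  have hq : q ≠ 0 := fun h => by simpa [q] using congrArg (fun p : k[X][X] => p.coeff 0) h
  let L : Type u := Localization.Away q
  haveI : IsDomain L := IsLocalization.isDomain_of_le_nonZeroDivisors L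
    (powers_le_nonZeroDivisors_of_noZeroDivisors hq)
  let em := algebraMap k[X][X] L
  have hemi : Function.Injective em := IsLocalization.injective L
    (powers_le_nonZeroDivisors_of_noZeroDivisors hq)
  obtain ⟨g, hg⟩ := hsurj (sp k L) ((val (𝟙 (sp k L))) (em (C X)))
  let s' : L := em X * IsLocalization.Away.invSelf q
  have hs'q : s' * em q = em X := by
    rw [show s' * em q = em X * (em q * IsLocalization.Away.invSelf q) by ring,
      IsLocalization.Away.mul_invSelf, _root_.mul_one]
  obtain ⟨u, hu⟩ := hsurj (sp k (Lau k))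
    (val (𝟙 (sp k (Lau k))) (IsLocalization.Away.invSelf (X : k[X])))
  let t : Γ(G.left, ⊤) := c G (𝟙 G)
  let ψ : k[X][X] →+* Γ(G.left, ⊤) := eval₂RingHom (eval₂RingHom (str G) t) 0
  have hψq : IsUnit (ψ q) := by simp [ψ, q]
  obtain ⟨z, hz⟩ := exists_map (algebraMap k L) (S := G) (IsLocalization.Away.lift (S := L) q hψq) (by
    ext r
    rw [RingHom.comp_apply, IsScalarTower.algebraMap_apply k k[X][X] L, IsLocalization.Away.lift_eq]
    simp [ψ, Polynomial.algebraMap_apply])
  have hval : ∀ p : k[X][X], val z (em p) = ψ p := fun p =>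
    (hz (em p)).trans (IsLocalization.Away.lift_eq (S := L) q hψq p)
  have hzs' : val z s' = 0 := by
    have h1 := congrArg (val z) hs'q
    rw [map_mul, hval, hval] at h1
    simpa [ψ, q] using h1
  refine exists_fixed y₀ a g (em X) s' ?_ ?_ u ?_ z ?_ ?_ hzs'
  · exact (map_ne_zero_iff em hemi).2 X_ne_zero
  · intro h0; rw [h0, zero_mul] at hs'q
    exact (map_ne_zero_iff em hemi).2 X_ne_zero hs'q.symm
  · intro T j σ σ' hσ hσ'
    apply hinj
    rw [hadd, hc, hc, hc, hg, hu, ← val_comp, ← val_comp, ← val_comp, Category.comp_id, Category.comp_id,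
      Category.comp_id]
    have e1 : val σ (algebraMap k[X] (Lau k) X) * val σ (IsLocalization.Away.invSelf (X : k[X])) = 1 := by
      rw [← map_mul, IsLocalization.Away.mul_invSelf, map_one]
    have e2 : val σ' (algebraMap k[X] (Lau k) X) * val σ' (IsLocalization.Away.invSelf (X : k[X])) = 1 := by
      rw [← map_mul, IsLocalization.Away.mul_invSelf, map_one]
    rw [hσ] at e1
    rw [hσ'] at e2
    have e3 : val j s' * (1 + val j (em (C X)) * val j (em X)) = val j (em X) := by
      rw [← map_one (val j), ← map_mul, ← map_add, ← map_mul]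
      congr 1
      simpa [q, em] using hs'q
    generalize val σ (IsLocalization.Away.invSelf (X : k[X])) = α at e1 ⊢
    generalize val σ' (IsLocalization.Away.invSelf (X : k[X])) = β at e2 ⊢
    linear_combination (α * β) * e3 - (val j (em (C X)) + α) * e2 + (β - val j (em (C X)) * β * val j s') * e1
  · apply hinj
    rw [hc, hg, ← val_comp, Category.comp_id, hval]
    simp [ψ, t]
  · rw [hval]; simp [ψ]

/-- the case of the multiplicative group -/
theorem exists_fixed_multiplicative {G Y : Over (Spec (CommRingCat.of k))} [GrpObj G] [IsProper Y.hom]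
    (y₀ : 𝟙_ (Over (Spec (CommRingCat.of k))) ⟶ Y) (a : AlgGrp.Action G Y)
    (c : ∀ T : Over (Spec (CommRingCat.of k)), (T ⟶ G) → Γ(T.left, ⊤))
    (hc : ∀ {T T' : Over (Spec (CommRingCat.of k))} (t : T' ⟶ T) (g : T ⟶ G), c T' (t ≫ g) = t.left.appTop (c T g))
    (hinj : ∀ T, Function.Injective (c T)) (hunit : ∀ T (g : T ⟶ G), IsUnit (c T g))
    (hsurj : ∀ (T : Over (Spec (CommRingCat.of k))) (v : Γ(T.left, ⊤)), IsUnit v → ∃ g, c T g = v)
    (hmul : ∀ T (g h : T ⟶ G), c T (g * h) = c T g * c T h) :
    ∃ x : 𝟙_ (Over (Spec (CommRingCat.of k))) ⟶ Y, a.IsFixedPt x := by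
  let q : k[X][X] := C X
  have hq : q ≠ 0 := by simp [q]
  let L : Type u := Localization.Away q
  haveI : IsDomain L := IsLocalization.isDomain_of_le_nonZeroDivisors L
    (powers_le_nonZeroDivisors_of_noZeroDivisors hq)
  let em := algebraMap k[X][X] L
  have hemi : Function.Injective em := IsLocalization.injective L
    (powers_le_nonZeroDivisors_of_noZeroDivisors hq)
  obtain ⟨g, hg⟩ := hsurj (sp k L) ((val (𝟙 (sp k L))) (em (C X)))
    ((IsLocalization.Away.algebraMap_isUnit (S := L) q).map _)
  obtain ⟨u, hu⟩ := hsurj (sp k (Lau k)) (val (𝟙 (sp k (Lau k))) (algebraMap k[X] (Lau k) X))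
    ((IsLocalization.Away.algebraMap_isUnit (S := Lau k) (X : k[X])).map _)
  let t : Γ(G.left, ⊤) := c G (𝟙 G)
  let ψ : k[X][X] →+* Γ(G.left, ⊤) := eval₂RingHom (eval₂RingHom (str G) t) 0
  have hψq : IsUnit (ψ q) := by simpa [ψ, q, t] using hunit G (𝟙 G)
  obtain ⟨z, hz⟩ := exists_map (algebraMap k L) (S := G) (IsLocalization.Away.lift (S := L) q hψq) (by
    ext r
    rw [RingHom.comp_apply, IsScalarTower.algebraMap_apply k k[X][X] L, IsLocalization.Away.lift_eq]
    simp [ψ, Polynomial.algebraMap_apply])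
  have hval : ∀ p : k[X][X], val z (em p) = ψ p := fun p =>
    (hz (em p)).trans (IsLocalization.Away.lift_eq (S := L) q hψq p)
  refine exists_fixed y₀ a g (em X) (em (C X * X)) ?_ ?_ u ?_ z ?_ ?_ ?_
  · exact (map_ne_zero_iff em hemi).2 X_ne_zero
  · exact (map_ne_zero_iff em hemi).2 (mul_ne_zero hq X_ne_zero)
  · intro T j σ σ' hσ hσ'
    apply hinj
    rw [hmul, hc, hc, hc, hg, hu, ← val_comp, ← val_comp, ← val_comp, Category.comp_id, Category.comp_id,
      Category.comp_id, hσ, hσ', ← map_mul, ← map_mul]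
  · apply hinj
    rw [hc, hg, ← val_comp, Category.comp_id, hval]
    simp [ψ, t]
  · rw [hval]; simp [ψ]
  · rw [hval]; simp [ψ]

end Groth.Agent.GrpSch.FixedLine
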