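import Mathlib
import Groth.Agent.GrpSch.AffEnv
import Groth.Agent.GrpSch.FieldTop
import Groth.Agent.AlgSpc.FppfGlue
import Groth.Prelude.Def_AlgGrp

/-!
# Quasi-affine group schemes over a field are affine; faithful actions on affine schemes
-/

set_option autoImplicit false
set_option backward.isDefEq.respectTransparency.types false

universe u

open CategoryTheory MonoidalCategory CartesianMonoidalCategory MonObj GrpObj Limits AlgebraicGeometry

namespace Groth.Agent.GrpSch.QuasiAffineGrp

open AffEnv

variable {k : Type u} [Field k]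

/-- a quasi-affine group scheme over a field is affine -/
theorem isAffine_of_isQuasiAffine (G : Over (Spec (CommRingCat.of k))) [GrpObj G]
    [QuasiCompact G.hom] [G.left.IsQuasiAffine] : IsAffine G.left := by
  haveI := compactSpace_left G
  obtain ⟨_, _⟩ := exists_grpObj G
  have hoi : IsOpenImmersion (toAff G).left := inferInstanceAs (IsOpenImmersion G.left.toSpecΓ)
  have hc : IsClosed (Set.range (toAff G).left) :=
    isClosed_range_of_isOpen_range (toAff G) (toAff G).left.isOpenEmbedding.isOpen_range
  haveI : QuasiCompact G.left.toSpecΓ := inferInstance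
  have hd : closure (Set.range G.left.toSpecΓ) = Set.univ := by
    rw [← Scheme.Hom.support_ker, Scheme.ker_toSpecΓ, Scheme.IdealSheafData.support_bot]
    rfl
  have : Surjective G.left.toSpecΓ := ⟨Set.range_eq_univ.1 (hc.closure_eq.symm.trans hd)⟩
  have : IsIso G.left.toSpecΓ := IsOpenImmersion.isIso _
  exact IsAffine.of_isIso G.left.toSpecΓ

/-- a group of finite type with a monomorphism to an affine scheme is affine -/
theorem isAffine_of_mono (G : Over (Spec (CommRingCat.of k))) [GrpObj G]
    [LocallyOfFiniteType G.hom] [QuasiCompact G.hom] {Y : Over (Spec (CommRingCat.of k))}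
    [IsAffine Y.left] (f : G ⟶ Y) [Mono f.left] : IsAffine G.left := by
  haveI := compactSpace_left G
  haveI : LocallyOfFiniteType f.left := by
    have h : LocallyOfFiniteType (f.left ≫ Y.hom) := by rw [Over.w f]; infer_instance
    exact locallyOfFiniteType_of_comp f.left Y.hom
  haveI : QuasiCompact f.left := quasiCompact_of_compactSpace f.left
  haveI : IsSeparated f.left := inferInstance
  haveI : LocallyQuasiFinite f.left := inferInstance
  haveI := AlgSpc.FppfDescent.isQuasiAffine_of_locallyQuasiFinite f.left
  exact isAffine_of_isQuasiAffine G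

/-- an action on an affine scheme only depends on the image in the affinization -/
lemma act_eq_of_toAff_eq (G X : Over (Spec (CommRingCat.of k))) [GrpObj G] [QuasiCompact G.hom]
    [IsAffine X.left] (a : AlgGrp.Action G X) {T : Over (Spec (CommRingCat.of k))} (g h : T ⟶ G)
    (x : T ⟶ X) (e : g ≫ toAff G = h ≫ toAff G) : lift g x ≫ a.act = lift h x ≫ a.act := by
  haveI := compactSpace_left G
  haveI := quasiSeparatedSpace_left G
  haveI := isIso_toAff_appTop G
  haveI : IsIso (𝟙 X : X ⟶ X).left.appTop := by
    rw [Over.id_left, Scheme.Hom.id_appTop]; infer_instance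
  haveI := isAffine_tensor (aff G) X
  haveI := isIso_tensor_appTop (toAff G) (𝟙 X)
  obtain ⟨b, hb, -⟩ := existsUnique_desc (toAff G ⊗ₘ 𝟙 X) a.act
  rw [← hb, ← Category.assoc, ← Category.assoc, lift_map, lift_map, e]

/-- a group of finite type acting faithfully on an affine scheme is affine -/
theorem isAffine_of_faithful (G X : Over (Spec (CommRingCat.of k))) [GrpObj G]
    [LocallyOfFiniteType G.hom] [QuasiCompact G.hom] [IsAffine X.left] (a : AlgGrp.Action G X)
    (hf : ∀ (T : Over (Spec (CommRingCat.of k))) (g : T ⟶ G),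
      (∀ (T' : Over (Spec (CommRingCat.of k))) (t : T' ⟶ T) (x : T' ⟶ X), lift (t ≫ g) x ≫ a.act = x) → g = 1) :
    IsAffine G.left := by
  obtain ⟨_, _⟩ := exists_grpObj G
  have key : ∀ (T : Over (Spec (CommRingCat.of k))) (g h : T ⟶ G),
      g ≫ toAff G = h ≫ toAff G → g = h := by
    intro T g h e
    have h1 : g⁻¹ * h = 1 := hf T _ fun T' t x => by
      have e' : (t ≫ (g⁻¹ * h)) ≫ toAff G = (1 : T' ⟶ G) ≫ toAff G := by
        rw [Category.assoc, MonObj.mul_comp, GrpObj.inv_comp, e, inv_mul_cancel, MonObj.comp_one,
          MonObj.one_comp]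
      rw [act_eq_of_toAff_eq G X a _ _ x e']
      have hone : (lift (1 : T' ⟶ G) x) ≫ a.act = x := by
        have h2 : lift (1 : T' ⟶ G) x = x ≫ (λ_ X).inv ≫ η[G] ▷ X := by
          apply CartesianMonoidalCategory.hom_ext <;> simp [Hom.one_def]
        rw [h2, Category.assoc, Category.assoc, a.one_act, Iso.inv_hom_id, Category.comp_id]
      exact hone
    exact (inv_mul_eq_one.1 h1)
  haveI : Mono (toAff G) := ⟨fun g h e => key _ g h e⟩
  haveI : Mono (toAff G).left := ⟨fun {Z} p q e => by
    let T : Over (Spec (CommRingCat.of k)) := Over.mk (p ≫ G.hom)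
    have hw : q ≫ G.hom = p ≫ G.hom := by rw [← Over.w (toAff G), ← Category.assoc, ← e, Category.assoc]
    exact congrArg (fun φ : T ⟶ G => φ.left)
      (key T (Over.homMk p rfl) (Over.homMk q hw) (Over.OverMorphism.ext e))⟩
  exact isAffine_of_mono G (toAff G)

end Groth.Agent.GrpSch.QuasiAffineGrp
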