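import Mathlib
import Groth.Agent.GrpSch.Component
import Groth.Agent.GrpSch.DenseMul
import Groth.Agent.GrpSch.Points
import Groth.Agent.GrpSch.SepPoints
import Groth.Agent.LimSch.ClosureRange

/-!
# Saturation of open subsets by irreducible components in arbitrary group schemes over a field
-/

set_option autoImplicit false
set_option backward.isDefEq.respectTransparency.types false

universe u

open CategoryTheory MonoidalCategory CartesianMonoidalCategory MonObj GrpObj Limits AlgebraicGeometry

namespace Groth.Agent.GrpSch.Saturation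

variable {K : Type u} [Field K] (G : Over (Spec (CommRingCat.of K))) [GrpObj G]

/-- the identity point -/
noncomputable abbrev e₀ : G.left := η[G].left (IsLocalRing.closedPoint K)

/-- the component of a point -/
abbrev comp (x : G.left) : Set G.left := irreducibleComponent x

lemma comp_eq_of_mem {x y : G.left} (h : y ∈ comp G x) : comp G y = comp G x :=
  eq_of_mem_irreducibleComponents G (irreducibleComponent_mem_irreducibleComponents y)
    (irreducibleComponent_mem_irreducibleComponents x) mem_irreducibleComponent h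

lemma comp_eq_of_specializes {x y : G.left} (h : x ⤳ y) : comp G y = comp G x :=
  comp_eq_of_mem G (h.mem_closed isClosed_irreducibleComponent mem_irreducibleComponent)

/-- the generic point of the component of a point -/
noncomputable def gen (x : G.left) : G.left :=
  (irreducibleComponent_mem_irreducibleComponents x).1.genericPoint

lemma isGenericPoint_gen (x : G.left) : IsGenericPoint (gen G x) (comp G x) :=
  (irreducibleComponent_mem_irreducibleComponents x).1.isGenericPoint_genericPoint
    isClosed_irreducibleComponent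

lemma gen_specializes (x : G.left) : gen G x ⤳ x :=
  (isGenericPoint_gen G x).specializes mem_irreducibleComponent

lemma specializes_of_comp_eq {x y : G.left} (h : comp G y = comp G x) : gen G x ⤳ y :=
  (isGenericPoint_gen G x).specializes (h ▸ mem_irreducibleComponent)

lemma gen_mem {U : Set G.left} (hU : IsOpen U) {x y : G.left} (hy : y ∈ U)
    (h : comp G y = comp G x) : gen G x ∈ U :=
  (specializes_of_comp_eq G h).mem_open hU hy

/-- the points whose component meets `U` -/
def sat (U : Set G.left) : Set G.left := {x | ∃ u ∈ U, comp G u = comp G x}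

lemma subset_sat (U : Set G.left) : U ⊆ sat G U := fun x hx => ⟨x, hx, rfl⟩

lemma exists_identity_component : ∃ (C : Over (Spec (CommRingCat.of K))) (i : C ⟶ G)
    (c₀ : 𝟙_ (Over (Spec (CommRingCat.of K))) ⟶ C),
    GeometricallyIrreducible C.hom ∧ Set.range i.left = comp G (e₀ G) ∧ c₀ ≫ i = η[G] := by
  let I := Scheme.IdealSheafData.vanishingIdeal
    (⟨comp G (e₀ G), isClosed_irreducibleComponent⟩ : TopologicalSpace.Closeds G.left)
  have hr : Set.range I.subschemeι = comp G (e₀ G) := by
    rw [Scheme.IdealSheafData.range_subschemeι, Scheme.IdealSheafData.coe_support_vanishingIdeal]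
    rfl
  have hg := geometricallyIrreducible_component G I.subschemeι
    (by rw [hr]; exact irreducibleComponent_mem_irreducibleComponents _)
    (by rw [hr]; exact mem_irreducibleComponent)
  obtain ⟨s, hs⟩ := exists_factor_of_mem_range (K := K) I.subschemeι η[G].left
    (by rw [hr]; exact mem_irreducibleComponent)
  exact ⟨Over.mk (I.subschemeι ≫ G.hom), Over.homMk I.subschemeι rfl,
    Over.homMk s (by simp only [Over.mk_hom]; rw [← Category.assoc, hs]; exact Over.w η[G]),
    hg, hr, Over.OverMorphism.ext hs⟩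

/-- multiplying by a point of the identity component stays in the component -/
theorem comp_mul_eq (w : (G ⊗ G).left) (h : (fst G G).left w ∈ comp G (e₀ G)) :
    comp G (μ[G].left w) = comp G ((snd G G).left w) := by
  obtain ⟨C, i, c₀, hC, hi, hc₀⟩ := exists_identity_component G
  set a := (snd G G).left w
  obtain ⟨c, hc⟩ := hi.ge h
  let T := ptOver G a
  let t := ptHom G a
  obtain ⟨pt⟩ : Nonempty T.left := inferInstanceAs (Nonempty (PrimeSpectrum _))
  let j : C ⊗ T ⟶ G ⊗ G := i ⊗ₘ t
  have : IrreducibleSpace ↥(C ⊗ T).left := by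
    haveI := hC
    haveI : UniversallyOpen T.hom := inferInstance
    haveI : IrreducibleSpace ↥T.left := inferInstanceAs (IrreducibleSpace (PrimeSpectrum _))
    exact inferInstanceAs (IrreducibleSpace ↥(pullback C.hom T.hom))
  have hjw : w ∈ Set.range j.left := by
    have hr := Scheme.Pullback.range_map C.hom T.hom G.hom G.hom i.left t.left (𝟙 _)
      ((Category.comp_id _).trans (Over.w i).symm) ((Category.comp_id _).trans (Over.w t).symm)
    have e : j.left = pullback.map C.hom T.hom G.hom G.hom i.left t.left (𝟙 _)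
      ((Category.comp_id _).trans (Over.w i).symm) ((Category.comp_id _).trans (Over.w t).symm) := by
      apply pullback.hom_ext
      · rw [pullback.lift_fst]
        exact congrArg (fun φ => φ.left) (tensorHom_fst i t)
      · rw [pullback.lift_snd]
        exact congrArg (fun φ => φ.left) (tensorHom_snd i t)
    rw [e, hr]
    exact ⟨⟨c, hc⟩, ⟨pt, ptHom_apply G a pt⟩⟩
  obtain ⟨q, hq⟩ := hjw
  let l : T ⟶ C ⊗ T := lift (toUnit T ≫ c₀) (𝟙 T)
  have hl : l ≫ j ≫ μ[G] = t := by
    have : l ≫ j = lift (1 : T ⟶ G) t := by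
      apply CartesianMonoidalCategory.hom_ext
      · simp [l, j, hc₀, one_eq_toUnit]
      · simp [l, j]
    rw [← Category.assoc, this, ← mul_eq_lift, _root_.one_mul]
  have hd := (IrreducibleSpace.isIrreducible_univ ↥(C ⊗ T).left).isGenericPoint_genericPoint isClosed_univ
  have h1 := (hd.specializes (Set.mem_univ q)).map (j ≫ μ[G]).left.continuous
  have h2 := (hd.specializes (Set.mem_univ (l.left pt))).map (j ≫ μ[G]).left.continuous
  have e1 : (j ≫ μ[G]).left q = μ[G].left w := congrArg μ[G].left hq
  have e2 : (j ≫ μ[G]).left (l.left pt) = a :=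
    (congrArg (fun φ : T ⟶ G => φ.left pt) hl).trans (ptHom_apply G a pt)
  rw [e1] at h1
  rw [e2] at h2
  rw [comp_eq_of_specializes G h1, comp_eq_of_specializes G h2]

/-- every point is a product of a point of the identity component and the generic point of its
component; more precisely the set of possible first factors is open and contains the generic point -/
theorem exists_pair (x : G.left) : ∃ p : (ptOver G x ⊗ G).left,
    (snd (ptOver G x) G).left p ∈ comp G (e₀ G) ∧
    (((snd (ptOver G x) G)⁻¹ * (fst (ptOver G x) G ≫ ptHom G x))).left p = gen G x := by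
  set T := ptOver G x
  set t := ptHom G x
  obtain ⟨pt⟩ : Nonempty T.left := inferInstanceAs (Nonempty (PrimeSpectrum _))
  let m : T ⊗ G ⟶ G := ((t ≫ ι[G]) ▷ G ≫ μ[G]) ≫ ι[G]
  have hm : m = (snd T G)⁻¹ * (fst T G ≫ t) := by
    simp only [m, whiskerRight_mul, ← Hom.inv_def]
    rw [_root_.mul_inv_rev, GrpObj.comp_inv, _root_.inv_inv]
  have : Flat m.left := by
    have h1 : Flat ((t ≫ ι[G]) ▷ G ≫ μ[G]).left := property_whisker_mul (P := @Flat) _ inferInstance
    have : IsIso ι[G] := ⟨ι[G], GrpObj.inv_comp_inv G, GrpObj.inv_comp_inv G⟩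
    have : IsIso ι[G].left := inferInstanceAs (IsIso ((Over.forget _).map ι[G]))
    exact inferInstanceAs (Flat (((t ≫ ι[G]) ▷ G ≫ μ[G]).left ≫ ι[G].left))
  have h0 : m.left ((lift (𝟙 T) (1 : T ⟶ G)).left pt) = x := by
    have : lift (𝟙 T) (1 : T ⟶ G) ≫ m = t := by
      rw [hm, MonObj.comp_mul, GrpObj.comp_inv, lift_snd, lift_fst_assoc, inv_one, _root_.one_mul,
        Category.id_comp]
    exact (congrArg (fun φ : T ⟶ G => φ.left pt) this).trans (ptHom_apply G x pt)
  have hg : gen G x ⤳ m.left ((lift (𝟙 T) (1 : T ⟶ G)).left pt) := by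
    rw [h0]; exact gen_specializes G x
  obtain ⟨p, hp, hpm⟩ := Flat.generalizingMap m.left hg
  refine ⟨p, ?_, by rw [← hm]; exact hpm⟩
  have h1 := hp.map (snd T G).left.continuous
  have e : (snd T G).left ((lift (𝟙 T) (1 : T ⟶ G)).left pt) = e₀ G := by
    rw [← comp_left_apply, lift_snd]
    exact one_apply pt _
  rw [e] at h1
  have := comp_eq_of_specializes G h1
  exact this ▸ mem_irreducibleComponent

/-- the saturation of an open set is open -/
theorem isOpen_sat {U : Set G.left} (hU : IsOpen U) : IsOpen (sat G U) := by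
  rw [isOpen_iff_forall_mem_open]
  intro x hx
  obtain ⟨u, huU, hu⟩ := hx
  obtain ⟨p, hp1, hp2⟩ := exists_pair G x
  let z := (snd (ptOver G x) G).left p
  let T := ptOver G z
  let t : T ⟶ G := ptHom G z
  obtain ⟨pt⟩ : Nonempty T.left := inferInstanceAs (Nonempty (PrimeSpectrum _))
  refine ⟨(t ▷ G ≫ μ[G]).left '' ((snd T G).left ⁻¹' U), ?_,
    isOpenMap_whisker_mul t _ (hU.preimage (snd T G).left.continuous), ?_⟩
  · rintro _ ⟨w, hw, rfl⟩
    refine ⟨_, hw, ?_⟩
    have h1 : (fst G G).left ((t ▷ G).left w) = z := by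
      rw [← comp_left_apply, whiskerRight_fst, comp_left_apply]
      exact ptHom_apply G z _
    have h2 : (snd G G).left ((t ▷ G).left w) = (snd T G).left w := by
      rw [← comp_left_apply, whiskerRight_snd]
    have h := comp_mul_eq G ((t ▷ G).left w) (by rw [h1]; exact hp1)
    rw [h2] at h
    exact h.symm
  · obtain ⟨P, p', a, b, hab, -, hb⟩ := exists_common_point t (snd (ptOver G x) G) pt p
      (ptHom_apply G z pt)
    let l : P ⟶ T ⊗ G := lift a (b ≫ ((snd _ G)⁻¹ * (fst _ G ≫ ptHom G x)))
    refine ⟨l.left p', ?_, ?_⟩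
    · rw [Set.mem_preimage, ← comp_left_apply, lift_snd, comp_left_apply, hb, hp2]
      exact gen_mem G hU huU hu
    · have : l ≫ t ▷ G ≫ μ[G] = b ≫ fst _ G ≫ ptHom G x := by
        have h1 : l ≫ fst T G = a := lift_fst _ _
        have h2 : l ≫ snd T G = b ≫ ((snd _ G)⁻¹ * (fst _ G ≫ ptHom G x)) := lift_snd _ _
        rw [whiskerRight_mul, MonObj.comp_mul, ← Category.assoc l, h1, h2, MonObj.comp_mul]
        rw [hab, GrpObj.comp_inv, mul_inv_cancel_left]
      exact (congrArg (fun φ : P ⟶ G => φ.left p') this).trans (ptHom_apply G x _)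

/-- the saturation of a quasi-compact open is closed -/
theorem isClosed_sat {U : G.left.Opens} (hU : IsCompact (U : Set G.left)) :
    IsClosed (sat G U) := by
  have : IsSeparated G.hom := SepPoints.isSeparated_grp G
  have : CompactSpace ↥U.toScheme := isCompact_iff_compactSpace.1 hU
  have : QuasiSeparatedSpace G.left := quasiSeparatedSpace_of_quasiSeparated G.hom
  have : QuasiCompact U.ι := inferInstance
  rw [← closure_subset_iff_isClosed]
  intro x hx
  have hsub : sat G U ⊆ closure (Set.range U.ι) := by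
    rintro y ⟨u, hu, huy⟩
    rw [Scheme.Opens.range_ι]
    exact ((specializes_of_comp_eq G rfl).mem_closed isClosed_closure
      (subset_closure (gen_mem G U.2 hu huy)))
  obtain ⟨w, hw⟩ := LimSch.exists_specializes_of_mem_closure_range U.ι
    (closure_minimal hsub isClosed_closure hx)
  exact ⟨U.ι w, U.ι_apply w ▸ w.2, (comp_eq_of_specializes G hw).symm⟩

/-- a relatively clopen open subset of an affine open is affine -/
lemma isAffineOpen_of_isClopen {X : Scheme.{u}} {U : X.Opens} (hU : IsAffineOpen U) {W : X.Opens}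
    {S : Set X} (hS : IsClosed S) (hW : (W : Set X) = (U : Set X) ∩ S) : IsAffineOpen W := by
  have hle : W ≤ U := fun x hx => (hW.le hx).1
  have : IsAffine U.toScheme := hU
  have : IsClosedImmersion (X.homOfLE hle) := by
    refine IsClosedImmersion.of_isPreimmersion _ ?_
    have h : Set.range (X.homOfLE hle) = U.ι ⁻¹' S := by
      ext y
      constructor
      · rintro ⟨w, rfl⟩
        change U.ι (X.homOfLE hle w) ∈ S
        rw [← Scheme.Hom.comp_apply, Scheme.homOfLE_ι]
        exact (hW.le w.2).2
      · intro hy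
        refine ⟨⟨y.1, hW.ge ⟨y.2, hy⟩⟩, U.ι.isOpenEmbedding.injective ?_⟩
        rw [← Scheme.Hom.comp_apply, Scheme.homOfLE_ι]
        rfl
    rw [h]
    exact hS.preimage U.ι.continuous
  exact isAffine_of_isAffineHom (X.homOfLE hle)

/-- finitely many affine opens: an affine open meeting all their components -/
theorem exists_affine_sat {ι' : Type*} (s : Finset ι') (U : ι' → G.left.Opens)
    (hU : ∀ i ∈ s, IsAffineOpen (U i)) :
    ∃ V : G.left.Opens, IsAffineOpen V ∧ ∀ i ∈ s, (U i : Set G.left) ⊆ sat G V := by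
  classical
  induction s using Finset.induction_on with
  | empty => exact ⟨⊥, isAffineOpen_bot _, fun i hi => absurd hi (Finset.notMem_empty i)⟩
  | @insert a s _ ih =>
    obtain ⟨V, hV, hVs⟩ := ih fun i hi => hU i (Finset.mem_insert_of_mem hi)
    let W : G.left.Opens := ⟨(U a : Set G.left) ∩ (sat G V)ᶜ,
      (U a).2.inter (isClosed_sat G hV.isCompact).isOpen_compl⟩
    have hW : IsAffineOpen W := isAffineOpen_of_isClopen (hU a (Finset.mem_insert_self a s))
      (isOpen_sat G V.2).isClosed_compl rfl
    have hd : Disjoint V W := by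
      rw [← TopologicalSpace.Opens.coe_disjoint, Set.disjoint_left]
      exact fun x hx hx' => hx'.2 (subset_sat G _ hx)
    refine ⟨V ⊔ W, hV.sup_of_disjoint hW hd, fun i hi x hx => ?_⟩
    rcases Finset.mem_insert.1 hi with rfl | hi
    · by_cases h : x ∈ sat G V
      · obtain ⟨u, hu, hux⟩ := h
        exact ⟨u, Or.inl hu, hux⟩
      · exact ⟨x, Or.inr ⟨hx, h⟩, rfl⟩
    · obtain ⟨u, hu, hux⟩ := hVs i hi hx
      exact ⟨u, Or.inl hu, hux⟩

/-- a connected group scheme over a field is irreducible -/
theorem irreducibleSpace_of_connected [ConnectedSpace G.left] : IrreducibleSpace G.left := by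
  haveI : Nonempty G.left := ⟨e₀ G⟩
  have key : ∀ V : Set G.left, IsOpen V → V.Nonempty → ∀ x, gen G x ∈ V := by
    intro V hV ⟨v, hv⟩ x
    obtain ⟨_, ⟨W, hW, rfl⟩, hvW, hWV⟩ :=
      G.left.isBasis_affineOpens.exists_subset_of_mem_open hv hV
    have := IsClopen.eq_univ ⟨isClosed_sat G hW.isCompact, isOpen_sat G W.2⟩ ⟨v, subset_sat G _ hvW⟩
    obtain ⟨u, hu, hux⟩ := this.ge (Set.mem_univ x)
    exact hWV (gen_mem G W.2 hu hux)
  exact { isPreirreducible_univ := fun u v hu hv ⟨x, _, hx⟩ ⟨y, _, hy⟩ =>
            ⟨gen G (e₀ G), trivial, key u hu ⟨x, hx⟩ _, key v hv ⟨y, hy⟩ _⟩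
          toNonempty := inferInstance }

/-- the connected component of the identity is the irreducible component -/
theorem connectedComponent_eq : connectedComponent (e₀ G) = comp G (e₀ G) := by
  refine Set.Subset.antisymm (fun x hx => ?_) ?_
  · by_contra hne
    have hg : gen G x ∉ comp G (e₀ G) := fun h =>
      hne ((gen_specializes G x).mem_closed isClosed_irreducibleComponent h)
    obtain ⟨_, ⟨W, hW, rfl⟩, hgW, hWC⟩ := G.left.isBasis_affineOpens.exists_subset_of_mem_open
      (show gen G x ∈ (comp G (e₀ G))ᶜ from hg) isClosed_irreducibleComponent.isOpen_compl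
    have hc : IsClopen (sat G W) := ⟨isClosed_sat G hW.isCompact, isOpen_sat G W.2⟩
    have hxs : x ∈ sat G W := ⟨_, hgW, (comp_eq_of_specializes G (gen_specializes G x)).symm⟩
    have : e₀ G ∈ sat G W := by
      have h := hc.connectedComponent_subset hxs
      rw [← _root_.connectedComponent_eq hx] at h
      exact h mem_connectedComponent
    obtain ⟨u, hu, hue⟩ := this
    exact hWC hu (show u ∈ comp G (e₀ G) from hue ▸ mem_irreducibleComponent)
  · exact irreducibleComponent_subset_connectedComponent

/-- the identity component is quasi-compact -/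
theorem isCompact_comp : IsCompact (comp G (e₀ G)) := by
  obtain ⟨_, ⟨U', hU', rfl⟩, heU, -⟩ :=
    G.left.isBasis_affineOpens.exists_subset_of_mem_open (Set.mem_univ (e₀ G)) isOpen_univ
  let U : G.left.Opens := U'
  have : IsAffine U.toScheme := hU'
  let q : pullback (U.ι ≫ G.hom) (U.ι ≫ G.hom) ⟶ (G ⊗ G).left :=
    pullback.map _ _ G.hom G.hom U.ι U.ι (𝟙 _) (by simp) (by simp)
  have hq : Set.range q = (fst G G).left ⁻¹' U ∩ (snd G G).left ⁻¹' U := by
    have := Scheme.Pullback.range_map (U.ι ≫ G.hom) (U.ι ≫ G.hom) G.hom G.hom U.ι U.ι (𝟙 _)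
      (by simp) (by simp)
    rw [this, Scheme.Opens.range_ι]
    rfl
  refine IsCompact.of_isClosed_subset ((isCompact_range q.continuous).image μ[G].left.continuous)
    isClosed_irreducibleComponent fun x hx => ?_
  rw [hq]
  obtain ⟨C, i, c₀, hC, hi, hc₀⟩ := exists_identity_component G
  set T := ptOver G x
  set t := ptHom G x
  obtain ⟨pt⟩ : Nonempty T.left := inferInstanceAs (Nonempty (PrimeSpectrum _))
  have : IrreducibleSpace ↥(T ⊗ C).left := by
    haveI := hC
    haveI : UniversallyOpen T.hom := inferInstance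
    haveI : IrreducibleSpace ↥T.left := inferInstanceAs (IrreducibleSpace (PrimeSpectrum _))
    exact inferInstanceAs (IrreducibleSpace ↥(pullback T.hom C.hom))
  let z : T ⊗ C ⟶ G := snd T C ≫ i
  let v : T ⊗ C ⟶ G := z⁻¹ * (fst T C ≫ t)
  have hz : (z.left ⁻¹' (U : Set G.left)).Nonempty := by
    refine ⟨(lift (𝟙 T) (toUnit T ≫ c₀)).left pt, ?_⟩
    have : lift (𝟙 T) (toUnit T ≫ c₀) ≫ z = 1 := by
      simp [z, hc₀, one_eq_toUnit]
    rw [Set.mem_preimage, ← comp_left_apply, this, one_apply pt (IsLocalRing.closedPoint K)]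
    exact heU
  have hv : (v.left ⁻¹' (U : Set G.left)).Nonempty := by
    obtain ⟨p, hp1, hp2⟩ := exists_pair G x
    obtain ⟨p', hp'⟩ : p ∈ Set.range (T ◁ i).left := by
      rw [range_whiskerLeft]; exact hi.ge hp1
    refine ⟨p', ?_⟩
    have : v = T ◁ i ≫ ((snd T G)⁻¹ * (fst T G ≫ t)) := by
      simp [v, z, MonObj.comp_mul, GrpObj.comp_inv]
    rw [Set.mem_preimage, this, comp_left_apply, hp', hp2]
    exact gen_mem G U.2 heU (comp_eq_of_mem G hx).symm
  obtain ⟨w, -, hw1, hw2⟩ := (IrreducibleSpace.isIrreducible_univ ↥(T ⊗ C).left).2 _ _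
    (U.2.preimage z.left.continuous) (U.2.preimage v.left.continuous)
    ⟨hz.some, trivial, hz.some_mem⟩ ⟨hv.some, trivial, hv.some_mem⟩
  refine ⟨(lift z v).left w, ⟨?_, ?_⟩, ?_⟩
  · rw [Set.mem_preimage, ← comp_left_apply, lift_fst]; exact hw1
  · rw [Set.mem_preimage, ← comp_left_apply, lift_snd]; exact hw2
  · rw [← comp_left_apply, ← mul_eq_lift]
    simp only [v, mul_inv_cancel_left, comp_left_apply]
    exact ptHom_apply G x _

end Groth.Agent.GrpSch.Saturation
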