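import Groth.Agent.GrpSch.FlatHom
import Groth.Agent.GrpSch.DensePoints
import Groth.Agent.GrpSch.AbMul
import Groth.Agent.FlatLocus.Scheme
import Groth.Agent.HomLocus.Basic
import Groth.Prelude.Def_Red

/-!
# Surjective homomorphisms onto group schemes with geometrically reduced fibres are flat
-/

set_option autoImplicit false

universe u

open CategoryTheory MonoidalCategory CartesianMonoidalCategory MonObj GrpObj Limits AlgebraicGeometry

namespace Groth.Agent.GrpSch.FlatSurj

variable {S : Scheme.{u}} (G H : Over S) [GrpObj G] [GrpObj H] (f : G ⟶ H) [IsMonHom f]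

lemma flat_fibre [Surjective f.left] [GeometricallyReduced H.hom] (s : S) :
    Flat ((Over.pullback (S.fromSpecResidueField s)).map f).left := by
  let t := S.fromSpecResidueField s
  let Gs : Over (Spec (CommRingCat.of (S.residueField s))) := Red.bc t G
  let Hs : Over (Spec (CommRingCat.of (S.residueField s))) := Red.bc t H
  let : GrpObj Gs := Red.grpObj_bc t G
  let : GrpObj Hs := Red.grpObj_bc t H
  let fs : Gs ⟶ Hs := (Over.pullback t).map f
  haveI : IsMonHom fs := Functor.map.instIsMonHom (f := f) (F := Over.pullback t)
  haveI : Surjective fs.left :=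
    MorphismProperty.of_isPullback (HomLocus.PointProp.isPullback_pullbackMap G H f t) ‹Surjective f.left›
  haveI : GeometricallyReduced Hs.hom := inferInstanceAs (GeometricallyReduced (pullback.snd H.hom t))
  haveI : AlgebraicGeometry.IsReduced Hs.left := DensePoints.isReduced_of_geometricallyReduced Hs.hom
  exact flat_hom_of_isReduced fs

theorem flat_of_surjective [LocallyOfFinitePresentation G.hom] [Flat G.hom] [LocallyOfFiniteType H.hom]
    [GeometricallyReduced H.hom] [Surjective f.left] : Flat f.left ∧ Flat H.hom := by
  have hw : f.left ≫ H.hom = G.hom := Over.w f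
  haveI : LocallyOfFinitePresentation (f.left ≫ H.hom) := by rw [hw]; infer_instance
  haveI : Flat (f.left ≫ H.hom) := by rw [hw]; infer_instance
  have key : ∀ x : G.left, (H.hom.stalkMap (f.left x)).hom.Flat ∧ (f.left.stalkMap x).hom.Flat := fun x => by
    refine FlatLocus.flat_of_flat_fiberMap f.left H.hom x (Flat.stalkMap (f.left ≫ H.hom) x) ?_
    set s := H.hom (f.left x)
    haveI : Flat (MoreMor.fiberMap f.left H.hom s) := by
      have h1 := FlatLocus.isPullback_fiberMap f.left H.hom s
      have h2 := HomLocus.PointProp.isPullback_pullbackMap G H f (S.fromSpecResidueField s)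
      have hfl := flat_fibre G H f s
      have e := IsPullback.isoIsPullback_hom_snd _ _ h1 (h2 : IsPullback _ _ f.left (H.hom.fiberι s))
      rw [← e]
      exact MorphismProperty.comp_mem @Flat _ _ inferInstance hfl
    exact Flat.stalkMap _ _
  refine ⟨(Flat.iff_flat_stalkMap _).mpr fun x => (key x).2, (Flat.iff_flat_stalkMap _).mpr fun y => ?_⟩
  obtain ⟨x, rfl⟩ := f.left.surjective y
  exact (key x).1

/-- a flat homomorphism from a proper group scheme to a separated one with connected fibres is surjective -/
theorem surjective_of_flat [LocallyOfFinitePresentation G.hom] [IsProper G.hom] [LocallyOfFiniteType H.hom]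
    [IsSeparated H.hom] [GeometricallyConnected H.hom] [Flat f.left] : Surjective f.left := by
  have hw : f.left ≫ H.hom = G.hom := Over.w f
  haveI : IsProper (f.left ≫ H.hom) := by rw [hw]; infer_instance
  haveI : IsProper f.left :=
    MorphismProperty.of_postcomp (W := @IsProper) (W' := @IsSeparated) _ H.hom inferInstance ‹_›
  haveI : LocallyOfFinitePresentation (f.left ≫ H.hom) := by rw [hw]; infer_instance
  haveI : LocallyOfFinitePresentation f.left := Groth.Agent.AlgSpc.lfp_of_comp f.left H.hom
  exact AbMul.surjective_of_clopen H f f.left.isOpenMap.isOpen_range f.left.isClosedMap.isClosed_range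

end Groth.Agent.GrpSch.FlatSurj
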