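import Groth.Agent.GrpSch.Points
import Groth.Agent.GrpSch.SmoothRed
import Groth.Agent.GrpSch.IdComp
import Groth.Agent.HenselCouple.Basic
import Groth.Prelude.Def_W4bk4grossh111Obs

/-! Global functions as functions on rational points, over an algebraically closed field. -/

set_option autoImplicit false
set_option backward.isDefEq.respectTransparency.types false

universe u

open CategoryTheory MonoidalCategory CartesianMonoidalCategory MonObj GrpObj AlgebraicGeometry

namespace Groth.Agent.GrpSch.FunPts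

variable {k : Type u} [Field k]

/-- The value of a global function at a rational point. -/
noncomputable def ev {X : Over (Spec (CommRingCat.of k))} (x : VecGrp.pt k k ⟶ X) :
    Γ(X.left, ⊤) →+* k :=
  (show Γ(X.left, ⊤) ⟶ CommRingCat.of k from
    x.left.appTop ≫ (Scheme.ΓSpecIso (CommRingCat.of k)).hom).hom

lemma ev_comp {X Y : Over (Spec (CommRingCat.of k))} (x : VecGrp.pt k k ⟶ X) (φ : X ⟶ Y)
    (f : Γ(Y.left, ⊤)) : ev (x ≫ φ) f = ev x (φ.left.appTop f) := by
  simp only [ev, Over.comp_left, Scheme.Hom.comp_appTop]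
  rfl

/-- The image point of a rational point. -/
noncomputable abbrev imP {X : Over (Spec (CommRingCat.of k))} (x : VecGrp.pt k k ⟶ X) : X.left :=
  (x.left : Spec (CommRingCat.of k) ⟶ X.left) (IsLocalRing.closedPoint k)

lemma comp_imP {X Y : Over (Spec (CommRingCat.of k))} (x : VecGrp.pt k k ⟶ X) (φ : X ⟶ Y) :
    imP (x ≫ φ) = φ.left (imP x) := rfl

lemma mem_basicOpen_iff {X : Over (Spec (CommRingCat.of k))} (x : VecGrp.pt k k ⟶ X)
    (f : Γ(X.left, ⊤)) : imP x ∈ X.left.basicOpen f ↔ ev x f ≠ 0 := by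
  let xl : Spec (CommRingCat.of k) ⟶ X.left := x.left
  let c : ↥(Spec (CommRingCat.of k)) := IsLocalRing.closedPoint k
  change c ∈ xl ⁻¹ᵁ X.left.basicOpen f ↔ _
  rw [Scheme.preimage_basicOpen_top, basicOpen_eq_of_affine']
  change (Scheme.ΓSpecIso (CommRingCat.of k)).hom (xl.appTop f) ∉ IsLocalRing.maximalIdeal k ↔ _
  rw [IsLocalRing.maximalIdeal_eq_bot, Ideal.mem_bot]
  rfl

lemma exists_pt [IsAlgClosed k] (X : Over (Spec (CommRingCat.of k))) [LocallyOfFiniteType X.hom]
    {z : X.left} (hz : IsClosed ({z} : Set X.left)) : ∃ x : VecGrp.pt k k ⟶ X, imP x = z := by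
  obtain ⟨p, rfl⟩ := exists_ratPoint X hz
  refine ⟨Over.homMk p.left ((Over.w p).trans ?_), rfl⟩
  change 𝟙 _ = Spec.map (CommRingCat.ofHom (algebraMap k k))
  rw [Algebra.algebraMap_self, CommRingCat.ofHom_id, Spec.map_id]

/-- Functions on a reduced scheme are determined by their values at rational points. -/
theorem ext_ev [IsAlgClosed k] {X : Over (Spec (CommRingCat.of k))} [LocallyOfFiniteType X.hom]
    [AlgebraicGeometry.IsReduced X.left] {f g : Γ(X.left, ⊤)} (h : ∀ x, ev x f = ev x g) : f = g := by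
  rw [← sub_eq_zero, ← basicOpen_eq_bot_iff]
  by_contra hne
  have hJ : JacobsonSpace X.left := LocallyOfFiniteType.jacobsonSpace X.hom
  obtain ⟨z, hz, hzc⟩ := nonempty_inter_closedPoints (X := X.left)
    (Z := (X.left.basicOpen (f - g) : Set X.left))
    (Set.nonempty_iff_ne_empty.2 fun he => hne (TopologicalSpace.Opens.ext he))
    (X.left.basicOpen (f - g)).2.isLocallyClosed
  obtain ⟨x, rfl⟩ := exists_pt X hzc
  exact (mem_basicOpen_iff x _).1 hz (by rw [map_sub, h, sub_self])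

lemma pt_eq_id (s : VecGrp.pt k k ⟶ VecGrp.pt k k) : s = 𝟙 _ := by
  ext1
  have h : s.left ≫ Spec.map (CommRingCat.ofHom (algebraMap k k)) =
      Spec.map (CommRingCat.ofHom (algebraMap k k)) := Over.w s
  rw [Algebra.algebraMap_self, CommRingCat.ofHom_id, Spec.map_id] at h
  exact (Category.comp_id _).symm.trans h

variable [IsAlgClosed k] {G : Over (Spec (CommRingCat.of k))} [GrpObj G]

/-- Invariance under right translation, on rational points. -/
theorem isRTransInv_iff {T : Over (Spec (CommRingCat.of k))} [LocallyOfFiniteType (G ⊗ T).hom]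
    [AlgebraicGeometry.IsReduced (G ⊗ T).left] (t : T ⟶ G) (f : Γ(G.left, ⊤)) :
    AGF.IsRTransInv t f ↔ ∀ (x : VecGrp.pt k k ⟶ G) (s : VecGrp.pt k k ⟶ T),
      ev (x * (s ≫ t)) f = ev x f := by
  have hl : ∀ (x : VecGrp.pt k k ⟶ G) (s : VecGrp.pt k k ⟶ T),
      lift x s ≫ (G ◁ t) ≫ μ[G] = x * (s ≫ t) := fun x s => by
    rw [lift_whiskerLeft_assoc, Hom.mul_def]
  constructor
  · intro h x s
    rw [← hl, ev_comp]
    conv_rhs => rw [← lift_fst x s, ev_comp]
    exact congrArg _ h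
  · intro h
    refine ext_ev fun z => ?_
    rw [← ev_comp, ← ev_comp]
    have hz : z = lift (z ≫ fst G T) (z ≫ snd G T) := by
      apply CartesianMonoidalCategory.hom_ext <;> simp
    rw [hz, hl, lift_fst]
    exact h _ _

theorem isRTransInv_hom_iff [Smooth G.hom] {H : Over (Spec (CommRingCat.of k))} [GrpObj H] [Smooth H.hom]
    (i : H ⟶ G) (f : Γ(G.left, ⊤)) :
    AGF.IsRTransInv i f ↔ ∀ (x : VecGrp.pt k k ⟶ G) (s : VecGrp.pt k k ⟶ H),
      ev (x * (s ≫ i)) f = ev x f := by
  have : Smooth (G ⊗ H).hom :=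
    MorphismProperty.comp_mem _ _ _ (MorphismProperty.pullback_fst _ _ inferInstance) inferInstance
  have := isReduced_of_smooth (G ⊗ H)
  exact isRTransInv_iff i f

theorem isRTransInv_pt_iff [Smooth G.hom] (g : VecGrp.pt k k ⟶ G) (f : Γ(G.left, ⊤)) :
    AGF.IsRTransInv g f ↔ ∀ x : VecGrp.pt k k ⟶ G, ev (x * g) f = ev x f := by
  have hI : IsIso (VecGrp.pt k k).hom := by
    change IsIso (Spec.map (CommRingCat.ofHom (algebraMap k k)))
    rw [Algebra.algebraMap_self, CommRingCat.ofHom_id, Spec.map_id]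
    infer_instance
  have hI' : IsIso (fst G (VecGrp.pt k k)).left :=
    MorphismProperty.pullback_fst (P := MorphismProperty.isomorphisms Scheme.{u}) _ _ hI
  have := isReduced_of_smooth G
  have : AlgebraicGeometry.IsReduced (G ⊗ VecGrp.pt k k).left :=
    isReduced_of_isOpenImmersion (fst G (VecGrp.pt k k)).left
  have : LocallyOfFiniteType (G ⊗ VecGrp.pt k k).hom := by
    rw [← Over.w (fst G (VecGrp.pt k k))]; infer_instance
  rw [isRTransInv_iff]
  exact ⟨fun h x => by simpa using h x (𝟙 _),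
    fun h x s => by rw [pt_eq_id s, Category.id_comp]; exact h x⟩

variable (G) in
/-- The ring of functions on rational points coming from global functions. -/
noncomputable def funRing : Subring ((VecGrp.pt k k ⟶ G) → k) :=
  (RingHom.pi fun x => ev x : Γ(G.left, ⊤) →+* _).range

lemma mem_funRing {a : (VecGrp.pt k k ⟶ G) → k} :
    a ∈ funRing G ↔ ∃ f : Γ(G.left, ⊤), ∀ x, ev x f = a x :=
  ⟨fun ⟨f, hf⟩ => ⟨f, fun x => congrFun hf x⟩, fun ⟨f, hf⟩ => ⟨f, funext hf⟩⟩

lemma translate_mem_funRing {a : (VecGrp.pt k k ⟶ G) → k} (ha : a ∈ funRing G)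
    (p q : 𝟙_ (Over (Spec (CommRingCat.of k))) ⟶ G) :
    (fun x : VecGrp.pt k k ⟶ G => a ((toUnit _ ≫ p) * x * (toUnit _ ≫ q))) ∈ funRing G := by
  obtain ⟨f, hf⟩ := mem_funRing.1 ha
  refine mem_funRing.2 ⟨((toUnit G ≫ p) * 𝟙 G * (toUnit G ≫ q)).left.appTop f, fun x => ?_⟩
  rw [← ev_comp, ← hf]
  congr 2
  simp only [MonObj.comp_mul, Category.comp_id, comp_toUnit_assoc]

lemma exists_unit_pt (x : VecGrp.pt k k ⟶ G) :
    ∃ p : 𝟙_ (Over (Spec (CommRingCat.of k))) ⟶ G, toUnit _ ≫ p = x := by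
  have hw : (VecGrp.pt k k).hom = 𝟙 _ := by
    change Spec.map (CommRingCat.ofHom (algebraMap k k)) = _
    rw [Algebra.algebraMap_self, CommRingCat.ofHom_id, Spec.map_id]; rfl
  refine ⟨Over.homMk x.left ((Over.w x).trans hw), ?_⟩
  ext1
  have : (toUnit (VecGrp.pt k k)).left = 𝟙 _ :=
    (((Category.comp_id _).symm.trans (Over.w (toUnit _))).trans hw).trans rfl
  rw [Over.comp_left, this]
  exact Category.id_comp _

variable {G₀ : Over (Spec (CommRingCat.of k))} [GrpObj G₀] [ConnectedSpace G₀.left]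
  (j : G₀ ⟶ G) [IsMonHom j] [IsOpenImmersion j.left] [LocallyOfFiniteType G.hom]

/-- The rational points of an open connected subgroup. -/
noncomputable def subPts : Subgroup (VecGrp.pt k k ⟶ G) := (IsMonHom.monoidHom j (VecGrp.pt k k)).range

omit [ConnectedSpace G₀.left] in
lemma mem_subPts_iff (x : VecGrp.pt k k ⟶ G) : x ∈ subPts j ↔ imP x ∈ Set.range j.left := by
  constructor
  · rintro ⟨y, rfl⟩
    exact ⟨imP y, rfl⟩
  · intro h
    let xl : Spec (CommRingCat.of k) ⟶ G.left := x.left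
    have hsub : Set.range xl ⊆ Set.range j.left := by
      rintro - ⟨z, rfl⟩
      rwa [Subsingleton.elim (α := PrimeSpectrum k) z (IsLocalRing.closedPoint k)]
    refine ⟨Over.homMk (IsOpenImmersion.lift j.left xl hsub) ?_, ?_⟩
    · rw [← Over.w j, IsOpenImmersion.lift_fac_assoc]
      exact Over.w x
    · exact Over.OverMorphism.ext (IsOpenImmersion.lift_fac _ _ _)

lemma isClopen_range : IsClopen (Set.range j.left) :=
  ⟨by rw [range_eq_connectedComponent G G₀ j]; exact isClosed_connectedComponent,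
    j.left.isOpenEmbedding.isOpen_range⟩

theorem exists_indicator : ∃ a ∈ funRing G,
    (∀ x ∈ subPts j, a x = 1) ∧ ∀ x ∉ subPts j, a x = 0 := by
  obtain ⟨e, he, heW⟩ := HenselCouple.exists_idem_basicOpen (isClopen_range j)
  refine ⟨fun x => ev x e, mem_funRing.2 ⟨e, fun _ => rfl⟩, fun x hx => ?_, fun x hx => ?_⟩
  · have h1 : ev x e ≠ 0 := by
      rw [← mem_basicOpen_iff, ← SetLike.mem_coe, heW, ← mem_subPts_iff]; exact hx
    exact ((IsIdempotentElem.iff_eq_zero_or_one.1 (he.map (ev x))).resolve_left h1)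
  · by_contra h1
    change ev x e ≠ 0 at h1
    rw [← mem_basicOpen_iff, ← SetLike.mem_coe, heW, ← mem_subPts_iff] at h1
    exact hx h1

theorem exists_extend [IsAffine G.left] (f : Γ(G₀.left, ⊤)) :
    ∃ a ∈ funRing G, ∀ y : VecGrp.pt k k ⟶ G₀, a (y ≫ j) = ev y f := by
  have : IsClosedImmersion j.left := IsClosedImmersion.of_isPreimmersion _ (isClopen_range j).isClosed
  obtain ⟨F, hF⟩ := j.left.app_surjective ⊤ (isAffineOpen_top G.left) f
  refine ⟨fun x => ev x F, mem_funRing.2 ⟨F, fun _ => rfl⟩, fun y => ?_⟩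
  change ev (y ≫ j) F = ev y f
  rw [ev_comp]
  exact congrArg (ev y) hF

omit [ConnectedSpace G₀.left] in
theorem finiteIndex_subPts [CompactSpace G.left] : (subPts j).FiniteIndex := by
  let U : (VecGrp.pt k k ⟶ G) → Set G.left := fun x =>
    ((toUnit G ≫ (exists_unit_pt x).choose)⁻¹ * 𝟙 G).left ⁻¹' Set.range j.left
  have hU : ∀ x y : VecGrp.pt k k ⟶ G, imP y ∈ U x ↔ x⁻¹ * y ∈ subPts j := by
    intro x y
    rw [mem_subPts_iff, Set.mem_preimage, ← comp_imP]
    have e : y ≫ ((toUnit G ≫ (exists_unit_pt x).choose)⁻¹ * 𝟙 G) = x⁻¹ * y := by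
      rw [MonObj.comp_mul, GrpObj.comp_inv, comp_toUnit_assoc, Category.comp_id,
        (exists_unit_pt x).choose_spec]
    rw [e]
  have hcov : Set.univ ⊆ ⋃ x, U x := by
    intro z _
    by_contra hz
    have hJ : JacobsonSpace G.left := LocallyOfFiniteType.jacobsonSpace G.hom
    have ho : IsOpen (⋃ x, U x) := isOpen_iUnion fun x =>
      j.left.isOpenEmbedding.isOpen_range.preimage (Scheme.Hom.continuous _)
    obtain ⟨w, hw, hwc⟩ := nonempty_inter_closedPoints (X := G.left) (Z := (⋃ x, U x)ᶜ) ⟨z, hz⟩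
      ho.isClosed_compl.isLocallyClosed
    obtain ⟨y, rfl⟩ := exists_pt G hwc
    exact hw (Set.mem_iUnion.2 ⟨y, (hU y y).2 (by rw [inv_mul_cancel]; exact one_mem _)⟩)
  obtain ⟨F, hF⟩ := isCompact_univ.elim_finite_subcover U
    (fun x => j.left.isOpenEmbedding.isOpen_range.preimage (Scheme.Hom.continuous _)) hcov
  have : Finite ((VecGrp.pt k k ⟶ G) ⧸ subPts j) := Finite.of_surjective
    (fun x : F => (QuotientGroup.mk (x : VecGrp.pt k k ⟶ G) : (VecGrp.pt k k ⟶ G) ⧸ subPts j)) (by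
      intro q
      induction q using QuotientGroup.induction_on with
      | H y =>
        obtain ⟨x, hx, hy⟩ := Set.mem_iUnion₂.1 (hF (Set.mem_univ (imP y)))
        exact ⟨⟨x, hx⟩, QuotientGroup.eq.2 ((hU x y).1 hy)⟩)
  exact Subgroup.finiteIndex_of_finite_quotient

end Groth.Agent.GrpSch.FunPts
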