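import Groth.Agent.Cartier.Scheme
import Groth.Agent.GrpSch.FlatHom
import Groth.Agent.FlatCrit.Basic
import Groth.Agent.HomLocus.Instances
import Mathlib

/-!
# Tangent vectors of group schemes and multiplication by `n`

The group law on tangent vectors at the unit is addition; multiplication by an invertible integer
on a commutative group scheme over a field is étale.
-/

set_option autoImplicit false

universe u

open CategoryTheory MonoidalCategory CartesianMonoidalCategory MonObj GrpObj Limits AlgebraicGeometry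
  TrivSqZeroExt

namespace Groth.Agent.GrpSch.TangentMul

open Cartier

/-! ### the flatness criterion -/

lemma injective_of_surjective {R : Type u} [CommRing R] [IsNoetherianRing R] (f : R →+* R)
    (hf : Function.Surjective f) : Function.Injective f := by
  obtain ⟨n, hn⟩ := monotone_stabilizes_iff_noetherian.mpr (inferInstanceAs (IsNoetherian R R))
    ⟨fun k => RingHom.ker (f ^ k), monotone_nat_of_le_succ fun k x hx => by
      rw [RingHom.mem_ker] at hx ⊢
      rw [pow_succ']
      change f ((f ^ k) x) = 0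
      rw [hx, map_zero]⟩
  rw [injective_iff_map_eq_zero]
  intro a ha
  obtain ⟨b, rfl⟩ := (RingHom.coe_pow f n ▸ hf.iterate n : Function.Surjective ⇑(f ^ n)) a
  have : b ∈ RingHom.ker (f ^ (n + 1)) := by
    rw [RingHom.mem_ker, pow_succ']
    exact ha
  rwa [← show RingHom.ker (f ^ n) = RingHom.ker (f ^ (n + 1)) from hn (n + 1) n.le_succ,
    RingHom.mem_ker] at this

open IsLocalRing in
/-- a local homomorphism of isomorphic noetherian local rings inducing surjections on residue
fields and on cotangent spaces is flat -/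
theorem flat_of_iso {A B : Type u} [CommRing A] [CommRing B] [IsLocalRing A] [IsLocalRing B]
    [IsNoetherianRing A] [IsNoetherianRing B] (φ : A →+* B) (θ : A ≃+* B)
    (hm : (maximalIdeal A).map φ = maximalIdeal B)
    (hres : ∀ b, ∃ a, b - φ a ∈ maximalIdeal B) : φ.Flat := by
  let _ : Algebra A B := φ.toAlgebra
  have key : ∀ (n : ℕ) (b : B), ∃ a, b - φ a ∈ (maximalIdeal A ^ n).map φ := by
    intro n
    induction n with
    | zero => exact fun b => ⟨0, by simp [Ideal.map_top]⟩
    | succ n ih =>
      suffices h : ∀ c ∈ (maximalIdeal A ^ n).map φ, ∃ a, c - φ a ∈ (maximalIdeal A ^ (n + 1)).map φ by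
        intro b
        obtain ⟨a, ha⟩ := ih b
        obtain ⟨a', ha'⟩ := h _ ha
        exact ⟨a + a', by rwa [map_add, ← sub_sub]⟩
      intro c hc
      induction hc using Submodule.span_induction with
      | mem c hc =>
        obtain ⟨x, hx, rfl⟩ := hc
        exact ⟨x, by simp⟩
      | zero => exact ⟨0, by simp⟩
      | add c d _ _ hc hd =>
        obtain ⟨a, ha⟩ := hc
        obtain ⟨a', ha'⟩ := hd
        refine ⟨a + a', ?_⟩
        rw [map_add, show c + d - (φ a + φ a') = (c - φ a) + (d - φ a') by abel]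
        exact add_mem ha ha'
      | smul b c hc hcd =>
        obtain ⟨a, ha⟩ := hcd
        obtain ⟨r, hr⟩ := hres b
        refine ⟨r * a, ?_⟩
        rw [smul_eq_mul, map_mul, show b * c - φ r * φ a = (b - φ r) * c + φ r * (c - φ a) by ring]
        refine add_mem ?_ (Ideal.mul_mem_left _ _ ha)
        rw [pow_succ', Ideal.map_mul, hm]
        exact Ideal.mul_mem_mul hr hc
  haveI : Module.Finite B B := inferInstance
  refine FlatCrit.flat_of_lTensor_injective_mod_pow (S := B) (I := maximalIdeal A)
    (hm.le.trans (IsLocalRing.jacobson_eq_maximalIdeal (⊥ : Ideal B) bot_ne_top).ge) fun n N => ?_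
  -- the reduction is bijective
  let f : A ⧸ maximalIdeal A ^ n →+* B ⧸ (maximalIdeal A ^ n).map φ :=
    Ideal.quotientMap _ φ Ideal.le_comap_map
  have hf : Function.Surjective f := fun y => by
    obtain ⟨b, rfl⟩ := Ideal.Quotient.mk_surjective y
    obtain ⟨a, ha⟩ := key n b
    exact ⟨Ideal.Quotient.mk _ a, ((Ideal.Quotient.mk_eq_mk_iff_sub_mem _ _).mpr ha).symm⟩
  have hθ : (maximalIdeal A ^ n).map φ = (maximalIdeal A ^ n).map (θ : A →+* B) := by
    rw [Ideal.map_pow, Ideal.map_pow, hm]
    congr 1
    exact (IsLocalRing.eq_maximalIdeal (Ideal.map_isMaximal_of_equiv θ)).symm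
  let g : A ⧸ maximalIdeal A ^ n ≃+* B ⧸ (maximalIdeal A ^ n).map φ :=
    Ideal.quotientEquiv _ _ θ hθ
  have hbij : Function.Bijective f := by
    refine ⟨?_, hf⟩
    have := injective_of_surjective (g.symm.toRingHom.comp f) (g.symm.surjective.comp hf)
    exact fun x y h => this (congrArg g.symm h)
  -- hence the tensor product is free of rank one
  let e := Algebra.TensorProduct.quotIdealMapEquivTensorQuot B (maximalIdeal A ^ n)
  let c := TensorProduct.comm A B (A ⧸ maximalIdeal A ^ n)
  let l : (A ⧸ maximalIdeal A ^ n) →ₗ[A ⧸ maximalIdeal A ^ n] TensorProduct A (A ⧸ maximalIdeal A ^ n) B :=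
    LinearMap.toSpanSingleton _ _ ((1 : A ⧸ maximalIdeal A ^ n) ⊗ₜ[A] (1 : B))
  have hl : ∀ x, l x = c (e (f x)) := by
    intro x
    obtain ⟨a, rfl⟩ := Ideal.Quotient.mk_surjective x
    change Ideal.Quotient.mk (maximalIdeal A ^ n) a • ((1 : A ⧸ maximalIdeal A ^ n) ⊗ₜ[A] (1 : B)) = c (e (Ideal.Quotient.mk _ (φ a)))
    rw [TensorProduct.smul_tmul', smul_eq_mul, _root_.mul_one,
      Algebra.TensorProduct.quotIdealMapEquivTensorQuot_mk, TensorProduct.comm_tmul]
    rw [show (φ a : B) = a • (1 : B) from (Algebra.algebraMap_eq_smul_one a), TensorProduct.tmul_smul,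
      TensorProduct.smul_tmul']
    congr 1
    exact (Algebra.algebraMap_eq_smul_one (A := A ⧸ maximalIdeal A ^ n) a)
  have hlb : Function.Bijective l := by
    have h' : Function.Bijective fun x => c (e (f x)) :=
      c.bijective.comp (e.bijective.comp hbij)
    exact (funext hl : ⇑l = _) ▸ h'
  haveI : Module.Flat (A ⧸ maximalIdeal A ^ n) (TensorProduct A (A ⧸ maximalIdeal A ^ n) B) :=
    Module.Flat.of_linearEquiv (LinearEquiv.ofBijective l hlb).symm
  exact FlatCrit.lTensor_injective_of_flat_quotient_pow n N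

/-! ### tangent vectors -/

variable {k : Type u} [Field k]

/-- scaling of dual numbers -/
noncomputable def scale (c : k) : DualNumber k →ₐ[k] DualNumber k :=
  TrivSqZeroExt.map (c • LinearMap.id)

/-- the augmentation -/
noncomputable abbrev aug : DualNumber k →ₐ[k] k := TrivSqZeroExt.fstHom k k k

lemma scale_apply (c : k) (x : DualNumber k) : scale c x = (x.fst, c * x.snd) := by
  apply TrivSqZeroExt.ext
  · exact TrivSqZeroExt.fst_map _ _
  · exact TrivSqZeroExt.snd_map _ _

variable {G : Over (Spec (CommRingCat.of k))}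

lemma map_comp {B C D : Type u} [CommRing B] [Algebra k B] [CommRing C] [Algebra k C]
    [CommRing D] [Algebra k D] (f : B →ₐ[k] C) (g : C →ₐ[k] D) :
    specOverMap g ≫ specOverMap f = specOverMap (g.comp f) :=
  Over.OverMorphism.ext (Spec.map_comp _ _).symm

lemma map_id {B : Type u} [CommRing B] [Algebra k B] :
    specOverMap (AlgHom.id k B) = 𝟙 (specOver (K := k) B) :=
  Over.OverMorphism.ext (by
    change Spec.map (CommRingCat.ofHom (RingHom.id B)) = _
    rw [CommRingCat.ofHom_id, Spec.map_id]; rfl)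

/-- points in a jointly injective pair of local quotients are determined by their images -/
lemma eq_of_jointly {B C D : Type u} [CommRing B] [Algebra k B] [IsLocalRing B] [CommRing C] [Algebra k C]
    [IsLocalRing C] [CommRing D] [Algebra k D] (j₁ : B →ₐ[k] C) (j₂ : B →ₐ[k] D) [IsLocalHom j₁.toRingHom]
    (hj : ∀ b, j₁ b = 0 → j₂ b = 0 → b = 0) {p q : specOver (K := k) B ⟶ G}
    (h₁ : specOverMap j₁ ≫ p = specOverMap j₁ ≫ q) (h₂ : specOverMap j₂ ≫ p = specOverMap j₂ ≫ q) :
    p = q := by
  apply Over.OverMorphism.ext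
  set x := p.left (IsLocalRing.closedPoint B) with hx
  have hcl : (specOverMap j₁).left (IsLocalRing.closedPoint C) = IsLocalRing.closedPoint B :=
    IsLocalRing.comap_closedPoint j₁.toRingHom
  have hqx : q.left (IsLocalRing.closedPoint B) = x := by
    rw [hx, ← hcl, ← comp_left_apply, ← comp_left_apply, h₁]
  obtain ⟨ψ, hψ, -⟩ := exists_factor (R := CommRingCat.of B) p.left x hx.symm
  obtain ⟨ψ', hψ', -⟩ := exists_factor (R := CommRingCat.of B) q.left x hqx
  have e₁ : ψ ≫ CommRingCat.ofHom j₁.toRingHom = ψ' ≫ CommRingCat.ofHom j₁.toRingHom :=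
    Spec.map_injective <| by
      rw [← cancel_mono (G.left.fromSpecStalk x), Spec.map_comp, Spec.map_comp, Category.assoc,
        Category.assoc, hψ, hψ']
      exact congr(($h₁).left)
  have e₂ : ψ ≫ CommRingCat.ofHom j₂.toRingHom = ψ' ≫ CommRingCat.ofHom j₂.toRingHom :=
    Spec.map_injective <| by
      rw [← cancel_mono (G.left.fromSpecStalk x), Spec.map_comp, Spec.map_comp, Category.assoc,
        Category.assoc, hψ, hψ']
      exact congr(($h₂).left)
  have : ψ = ψ' := by
    ext a
    refine sub_eq_zero.mp (hj _ ?_ ?_)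
    · rw [map_sub, sub_eq_zero]; exact congr($e₁ a)
    · rw [map_sub, sub_eq_zero]; exact congr($e₂ a)
  rw [← hψ, ← hψ', this]

variable [GrpObj G]

/-- the group law on tangent vectors at the unit is addition -/
theorem scale_mul (g : specOver (K := k) (DualNumber k) ⟶ G) (hg : specOverMap aug ≫ g = 1) (a b : k) :
    (specOverMap (scale a) ≫ g) * (specOverMap (scale b) ≫ g) = specOverMap (scale (a + b)) ≫ g := by
  have loc : IsLocalRing (TrivSqZeroExt k (k × k)) := IsLocalRing.of_isUnit_or_isUnit_one_sub_self fun a => by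
    rw [TrivSqZeroExt.isUnit_iff_isUnit_fst, TrivSqZeroExt.isUnit_iff_isUnit_fst]
    simpa using IsLocalRing.isUnit_or_isUnit_one_sub_self (TrivSqZeroExt.fst a : k)
  haveI : IsLocalRing (DualNumber k) := isLocalRing_dualNumber k
  let i₁ : DualNumber k →ₐ[k] (TrivSqZeroExt k (k × k)) := TrivSqZeroExt.map (LinearMap.inl k k k)
  let i₂ : DualNumber k →ₐ[k] (TrivSqZeroExt k (k × k)) := TrivSqZeroExt.map (LinearMap.inr k k k)
  let i₃ : DualNumber k →ₐ[k] (TrivSqZeroExt k (k × k)) := TrivSqZeroExt.map (LinearMap.inl k k k + LinearMap.inr k k k)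
  let j₁ : (TrivSqZeroExt k (k × k)) →ₐ[k] DualNumber k := TrivSqZeroExt.map (LinearMap.fst k k k)
  let j₂ : (TrivSqZeroExt k (k × k)) →ₐ[k] DualNumber k := TrivSqZeroExt.map (LinearMap.snd k k k)
  let d : (TrivSqZeroExt k (k × k)) →ₐ[k] DualNumber k := TrivSqZeroExt.map (a • LinearMap.fst k k k + b • LinearMap.snd k k k)
  have e11 : j₁.comp i₁ = AlgHom.id k _ := AlgHom.ext fun x => TrivSqZeroExt.ext (by simp [j₁, i₁]) (by simp [j₁, i₁])
  have e22 : j₂.comp i₂ = AlgHom.id k _ := AlgHom.ext fun x => TrivSqZeroExt.ext (by simp [j₂, i₂]) (by simp [j₂, i₂])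
  have e13 : j₁.comp i₃ = AlgHom.id k _ := AlgHom.ext fun x => TrivSqZeroExt.ext (by simp [j₁, i₃]) (by simp [j₁, i₃])
  have e23 : j₂.comp i₃ = AlgHom.id k _ := AlgHom.ext fun x => TrivSqZeroExt.ext (by simp [j₂, i₃]) (by simp [j₂, i₃])
  have e12 : j₁.comp i₂ = (Algebra.ofId k _).comp aug := AlgHom.ext fun x => TrivSqZeroExt.ext (by simp [j₁, i₂, Algebra.ofId_apply, TrivSqZeroExt.algebraMap_eq_inl]) (by simp [j₁, i₂, Algebra.ofId_apply, TrivSqZeroExt.algebraMap_eq_inl])
  have e21 : j₂.comp i₁ = (Algebra.ofId k _).comp aug := AlgHom.ext fun x => TrivSqZeroExt.ext (by simp [j₂, i₁, Algebra.ofId_apply, TrivSqZeroExt.algebraMap_eq_inl]) (by simp [j₂, i₁, Algebra.ofId_apply, TrivSqZeroExt.algebraMap_eq_inl])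
  have d1 : d.comp i₁ = scale a := AlgHom.ext fun x => TrivSqZeroExt.ext (by simp [d, i₁, scale]) (by simp [d, i₁, scale])
  have d2 : d.comp i₂ = scale b := AlgHom.ext fun x => TrivSqZeroExt.ext (by simp [d, i₂, scale]) (by simp [d, i₂, scale])
  have d3 : d.comp i₃ = scale (a + b) := AlgHom.ext fun x => TrivSqZeroExt.ext (by simp [d, i₃, scale]) (by simp [d, i₃, scale, add_mul])
  have haug : specOverMap ((Algebra.ofId k (DualNumber k)).comp aug) ≫ g = 1 := by
    rw [← map_comp, Category.assoc, hg, MonObj.comp_one]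
  have hid : specOverMap (AlgHom.id k (DualNumber k)) ≫ g = g := by rw [map_id, Category.id_comp]
  haveI : IsLocalHom j₁.toRingHom := ⟨fun x hx => by
    rw [TrivSqZeroExt.isUnit_iff_isUnit_fst] at hx ⊢
    simpa [j₁] using hx⟩
  have key : (specOverMap i₁ ≫ g) * (specOverMap i₂ ≫ g) = specOverMap i₃ ≫ g := by
    refine eq_of_jointly j₁ j₂ (fun x h1 h2 => ?_) ?_ ?_
    · apply TrivSqZeroExt.ext
      · simpa [j₁] using congrArg TrivSqZeroExt.fst h1
      · exact Prod.ext (by simpa [j₁] using congrArg TrivSqZeroExt.snd h1) (by simpa [j₂] using congrArg TrivSqZeroExt.snd h2)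
    · simp only [MonObj.comp_mul, ← Category.assoc, map_comp, e11, e12, e13, haug, hid, _root_.mul_one]
    · simp only [MonObj.comp_mul, ← Category.assoc, map_comp, e21, e22, e23, haug, hid, _root_.one_mul]
  have := congrArg (fun w => specOverMap d ≫ w) key
  simpa only [MonObj.comp_mul, ← Category.assoc, map_comp, d1, d2, d3] using this

lemma scale_zero (g : specOver (K := k) (DualNumber k) ⟶ G) (hg : specOverMap aug ≫ g = 1) :
    specOverMap (scale (0 : k)) ≫ g = 1 := by
  have : scale (0 : k) = (Algebra.ofId k (DualNumber k)).comp aug :=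
    AlgHom.ext fun x => TrivSqZeroExt.ext (by simp [scale, Algebra.ofId_apply, TrivSqZeroExt.algebraMap_eq_inl]) (by simp [scale, Algebra.ofId_apply, TrivSqZeroExt.algebraMap_eq_inl])
  rw [this, ← map_comp, Category.assoc, hg, MonObj.comp_one]

/-- powers of tangent vectors at the unit -/
theorem zpow_eq_scale (g : specOver (K := k) (DualNumber k) ⟶ G) (hg : specOverMap aug ≫ g = 1) (n : ℤ) :
    g ^ n = specOverMap (scale (n : k)) ≫ g := by
  have h1 : specOverMap (scale (1 : k)) ≫ g = g := by
    rw [show scale (1 : k) = AlgHom.id k _ from AlgHom.ext fun x => TrivSqZeroExt.ext (by simp [scale]) (by simp [scale]), map_id, Category.id_comp]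
  have hn : ∀ m : ℕ, g ^ m = specOverMap (scale (m : k)) ≫ g := by
    intro m
    induction m with
    | zero => rw [pow_zero, Nat.cast_zero, scale_zero g hg]
    | succ m ih =>
      calc g ^ (m + 1) = g ^ m * g := pow_succ g m
        _ = (specOverMap (scale (m : k)) ≫ g) * (specOverMap (scale (1 : k)) ≫ g) := by rw [ih, h1]
        _ = _ := by rw [scale_mul g hg, Nat.cast_succ]
  rcases n with m | m
  · simpa using hn m
  · rw [zpow_negSucc, hn, inv_eq_iff_mul_eq_one, scale_mul g hg, Int.cast_negSucc, ← scale_zero g hg]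
    congr 3
    ring

/-- a point over the unit with invertible multiple trivial is trivial -/
theorem eq_one_of_zpow (g : specOver (K := k) (DualNumber k) ⟶ G) (hg : specOverMap aug ≫ g = 1)
    {n : ℤ} (hn : (n : k) ≠ 0) (h : g ^ n = 1) : g = 1 := by
  have h' : specOverMap (scale ((n : k)⁻¹)) ≫ (g ^ n) = g := by
    rw [zpow_eq_scale g hg, ← Category.assoc, map_comp,
      show (scale ((n : k)⁻¹)).comp (scale (n : k)) = AlgHom.id k _ from
        AlgHom.ext fun x => TrivSqZeroExt.ext (by simp [scale]) (by simp [scale, ← _root_.mul_assoc, inv_mul_cancel₀ hn]),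
      map_id, Category.id_comp]
  rw [← h', h, MonObj.comp_one]

/-- a point without nonzero tangent vectors: the local ring is the residue field -/
theorem ratPoint_stalk {X : Over (Spec (CommRingCat.of k))} [LocallyOfFiniteType X.hom]
    (e : 𝟙_ (Over (Spec (CommRingCat.of k))) ⟶ X) :
    (∀ b : X.left.presheaf.stalk (e.left (IsLocalRing.closedPoint k)),
      ∃ r, b - (X.hom.stalkMap (e.left (IsLocalRing.closedPoint k))).hom r ∈ IsLocalRing.maximalIdeal _) ∧
    ((∀ g : specOver (K := k) (DualNumber k) ⟶ X, specOverMap aug ≫ g = toUnit _ ≫ e → g = toUnit _ ≫ e) →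
      Function.Surjective (X.hom.stalkMap (e.left (IsLocalRing.closedPoint k))).hom) := by
  haveI : IsLocallyNoetherian X.left := LocallyOfFiniteType.isLocallyNoetherian X.hom
  set x := e.left (IsLocalRing.closedPoint k) with hx
  let A := X.left.presheaf.stalk x
  let φ : CommRingCat.of k ⟶ A :=
    StructureSheaf.toStalk k (X.hom x) ≫ X.hom.stalkMap x
  have hφ : Spec.map φ = X.left.fromSpecStalk x ≫ X.hom := by
    rw [← Scheme.SpecMap_stalkMap_fromSpecStalk, Spec.fromSpecStalk_eq']
    exact Spec.map_comp _ _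
  let _ : Algebra k A := φ.hom.toAlgebra
  let gA : specOver (K := k) A ⟶ X := Over.homMk (X.left.fromSpecStalk x) hφ.symm
  obtain ⟨ε₀, hε₀, -⟩ := exists_factor (R := CommRingCat.of k) e.left x hx.symm
  have hloc : IsLocalHom ε₀.hom := by
    obtain ⟨ψ, hψ, hψl⟩ := exists_factor (R := CommRingCat.of k) e.left x hx.symm
    have : ψ = ε₀ := Spec.map_injective (by rw [← cancel_mono (X.left.fromSpecStalk x), hψ, hε₀])
    exact this ▸ hψl
  have hφε : φ ≫ ε₀ = 𝟙 _ := Spec.map_injective (by
    rw [Spec.map_comp, hφ, ← Category.assoc, hε₀, Spec.map_id]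
    exact Over.w e)
  have hεφ : ∀ c, ε₀.hom (φ.hom c) = c := fun c => congr($hφε c)
  have hε : ∀ a, a ∈ IsLocalRing.maximalIdeal A ↔ ε₀.hom a = 0 := by
    intro a
    have : IsUnit (ε₀.hom a) ↔ IsUnit a := isUnit_map_iff ε₀.hom a
    rw [IsLocalRing.mem_maximalIdeal, mem_nonunits_iff, ← this, isUnit_iff_ne_zero, not_not]
  have hres : ∀ b : A, b - φ.hom (ε₀.hom b) ∈ IsLocalRing.maximalIdeal A := fun b => by
    rw [hε, map_sub, hεφ, sub_self]
  refine ⟨fun b => ⟨_, hres b⟩, fun htan => ?_⟩
  have hm2 : IsLocalRing.maximalIdeal A ≤ IsLocalRing.maximalIdeal A ^ 2 := by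
    intro a ha
    by_contra hna
    let W : Submodule k A := (IsLocalRing.maximalIdeal A ^ 2).restrictScalars k ⊔ Submodule.span k {1}
    have hW : a ∉ W := by
      intro h
      obtain ⟨c, hc, d, hd, rfl⟩ := Submodule.mem_sup.mp h
      obtain ⟨s, rfl⟩ := Submodule.mem_span_singleton.mp hd
      rw [hε, map_add, (hε c).mp (Ideal.pow_le_self (by norm_num) hc)] at ha
      have hs : s = 0 := by
        have h2 : ε₀.hom (φ.hom s * 1) = 0 := by simpa [Algebra.smul_def, RingHom.algebraMap_toAlgebra] using ha
        simpa [hεφ] using h2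
      apply hna
      simpa [hs] using hc
    obtain ⟨l, hla, hl⟩ := Submodule.exists_dual_map_eq_bot_of_notMem hW inferInstance
    have hl0 : ∀ z ∈ W, l z = 0 := fun z hz => by
      have := Submodule.mem_map_of_mem (f := l) hz
      rwa [hl, Submodule.mem_bot] at this
    let lam : A →ₐ[k] DualNumber k :=
      { toFun := fun a => (ε₀.hom a, l a)
        map_one' := TrivSqZeroExt.ext (map_one ε₀.hom) (hl0 _ (Submodule.mem_sup_right (Submodule.subset_span rfl)))
        map_mul' := fun a b => by
          apply TrivSqZeroExt.ext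
          · exact map_mul ε₀.hom a b
          · change l (a * b) = ε₀.hom a • l b + MulOpposite.op (ε₀.hom b) • l a
            have h := hl0 _ (Submodule.mem_sup_left (show (a - φ.hom (ε₀.hom a)) * (b - φ.hom (ε₀.hom b)) ∈
                (IsLocalRing.maximalIdeal A ^ 2).restrictScalars k by
                rw [Submodule.restrictScalars_mem, pow_two]; exact Ideal.mul_mem_mul (hres a) (hres b)))
            have e' : (a - φ.hom (ε₀.hom a)) * (b - φ.hom (ε₀.hom b)) =
                a * b - ε₀.hom a • b - ε₀.hom b • a + (ε₀.hom a * ε₀.hom b) • (1 : A) := by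
              simp only [Algebra.smul_def, RingHom.algebraMap_toAlgebra, map_mul]; ring
            rw [e', map_add, map_sub, map_sub, map_smul, map_smul, map_smul,
              hl0 1 (Submodule.mem_sup_right (Submodule.subset_span rfl)), smul_zero, add_zero, sub_sub, sub_eq_zero] at h
            simp [h, smul_eq_mul, mul_comm]
        map_zero' := TrivSqZeroExt.ext (map_zero ε₀.hom) (map_zero l)
        map_add' := fun a b => TrivSqZeroExt.ext (map_add ε₀.hom a b) (map_add l a b)
        commutes' := fun c => by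
          apply TrivSqZeroExt.ext
          · exact hεφ c
          · change l (algebraMap k A c) = 0
            rw [Algebra.algebraMap_eq_smul_one, map_smul,
              hl0 1 (Submodule.mem_sup_right (Submodule.subset_span rfl)), smul_zero] }
    let εA : A →ₐ[k] k := { ε₀.hom with commutes' := hεφ }
    have hbase : specOverMap ((Algebra.ofId k (DualNumber k)).comp εA) ≫ gA = toUnit _ ≫ e := by
      apply Over.OverMorphism.ext
      change Spec.map (CommRingCat.ofHom ((Algebra.ofId k (DualNumber k)).toRingHom.comp ε₀.hom)) ≫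
        X.left.fromSpecStalk x = Spec.map _ ≫ e.left
      conv_rhs => rw [← hε₀]
      rw [CommRingCat.ofHom_comp, Spec.map_comp, Category.assoc]
      rfl
    have htriv := htan (specOverMap lam ≫ gA) (by
      rw [← Category.assoc, map_comp]
      have : aug.comp lam = (AlgHom.id k k).comp εA := AlgHom.ext fun _ => rfl
      rw [this]
      apply Over.OverMorphism.ext
      change Spec.map (CommRingCat.ofHom ε₀.hom) ≫ X.left.fromSpecStalk x = Spec.map (CommRingCat.ofHom (RingHom.id k)) ≫ e.left
      rw [CommRingCat.ofHom_id, Spec.map_id, Category.id_comp]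
      exact hε₀)
    rw [← hbase] at htriv
    have h2 : CommRingCat.ofHom lam.toRingHom =
        CommRingCat.ofHom ((Algebra.ofId k (DualNumber k)).comp εA).toRingHom :=
      Spec.map_injective (by
        rw [← cancel_mono (X.left.fromSpecStalk x)]
        exact congr(($htriv).left))
    apply hla
    have h3 := congrArg (fun m => TrivSqZeroExt.snd (m.hom a)) h2
    exact h3.trans (TrivSqZeroExt.snd_inl _ _)
  have hbot : IsLocalRing.maximalIdeal A = ⊥ := Submodule.eq_bot_of_le_smul_of_le_jacobson_bot
    (IsLocalRing.maximalIdeal A) _ (IsNoetherian.noetherian _)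
    (by rw [smul_eq_mul, ← pow_two]; exact hm2)
    (IsLocalRing.jacobson_eq_maximalIdeal (⊥ : Ideal A) bot_ne_top).ge
  intro b
  refine ⟨(StructureSheaf.toStalk k (X.hom x)).hom (ε₀.hom b), ?_⟩
  have := hres b
  rw [hbot, Ideal.mem_bot, sub_eq_zero] at this
  exact this.symm

open scoped CategoryTheory.MonObj in
/-- powers of the identity of a commutative group object are homomorphisms -/
theorem isMonHom_zpow {C : Type*} [Category C] [CartesianMonoidalCategory C] [BraidedCategory C] (G : C) [GrpObj G] [IsCommMonObj G] (n : ℤ) :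
    IsMonHom (𝟙 G ^ n) where
  one_hom := by rw [GrpObj.comp_zpow, Category.comp_id, show η[G] = (1 : 𝟙_ C ⟶ G) by simp [Hom.one_def], one_zpow]
  mul_hom := by
    rw [GrpObj.comp_zpow, Category.comp_id]
    have h : (μ[G] : G ⊗ G ⟶ G) = fst G G * snd G G := by rw [Hom.mul_def, lift_fst_snd, Category.id_comp]
    have h1 : fst G G ≫ (𝟙 G ^ n) = fst G G ^ n := by rw [GrpObj.comp_zpow, Category.comp_id]
    have h2 : snd G G ≫ (𝟙 G ^ n) = snd G G ^ n := by rw [GrpObj.comp_zpow, Category.comp_id]
    rw [h, mul_zpow, MonObj.comp_mul, tensorHom_fst, tensorHom_snd, h1, h2]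

/-- multiplication by an invertible integer on a commutative group scheme over a field is étale -/
theorem etale_zpow (G : Over (Spec (CommRingCat.of k))) [GrpObj G] [IsCommMonObj G]
    [LocallyOfFiniteType G.hom] (n : ℤ) (hn : (n : k) ≠ 0) : Etale (𝟙 G ^ n).left := by
  haveI := isMonHom_zpow G n
  let u := 𝟙 G ^ n
  haveI : IsMonHom u := this
  haveI : IsLocallyNoetherian G.left := LocallyOfFiniteType.isLocallyNoetherian G.hom
  haveI : LocallyOfFiniteType u.left := by
    haveI : LocallyOfFiniteType (u.left ≫ G.hom) := by rw [Over.w u]; infer_instance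
    exact locallyOfFiniteType_of_comp u.left G.hom
  have hK : IsPullback (pullback.fst u η[G]) (toUnit _) u η[G] := by
    rw [← toUnit_unique (pullback.snd u η[G]) (toUnit _)]
    exact IsPullback.of_hasPullback u η[G]
  obtain ⟨e, he⟩ := HomLocus.exists_unit hK
  haveI : LocallyOfFiniteType (pullback u η[G]).hom :=
    HomLocus.PointProp.kernel_property (R := @LocallyOfFiniteType) hK inferInstance
  haveI : Mono η[G] := (SplitMono.mk (toUnit G) (toUnit_unique _ _)).mono
  have hFU : FormallyUnramified u.left := by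
    refine (HomLocus.unramPt.iff_unit hK he).mpr fun s => ?_
    obtain rfl : IsLocalRing.closedPoint k = s := Subsingleton.elim (α := ↥(Spec (CommRingCat.of k))) _ _
    change RingHom.FormallyUnramified _
    refine RingHom.FormallyUnramified.of_surjective ((ratPoint_stalk e).2 fun g hg => ?_)
    rw [← cancel_mono (pullback.fst u η[G]), Category.assoc, he, ← Hom.one_def]
    refine eq_one_of_zpow (g ≫ pullback.fst u η[G]) ?_ hn ?_
    · rw [← Category.assoc, hg, Category.assoc, he, Hom.one_def]
    · have h1 : (g ≫ pullback.fst u η[G]) ≫ u = 1 := by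
        rw [Category.assoc, hK.w, ← Category.assoc, comp_toUnit, Hom.one_def]
      simpa only [u, GrpObj.comp_zpow, Category.comp_id] using h1
  haveI : FormallyUnramified u.left := hFU
  set x₀ := η[G].left (IsLocalRing.closedPoint k) with hx₀
  have hux : u.left x₀ = x₀ := by rw [hx₀, ← comp_left_apply, IsMonHom.one_hom]
  have hflat : (u.left.stalkMap x₀).hom.Flat := by
    let θ : G.left.presheaf.stalk (u.left x₀) ≃+* G.left.presheaf.stalk x₀ :=
      (G.left.presheaf.stalkCongr (.of_eq hux)).commRingCatIsoToRingEquiv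
    haveI : IsNoetherianRing (G.left.presheaf.stalk (u.left x₀)) := inferInstance
    refine flat_of_iso (u.left.stalkMap x₀).hom θ ?_ fun b => ?_
    · let _ : Algebra (G.left.presheaf.stalk (u.left x₀)) (G.left.presheaf.stalk x₀) := (u.left.stalkMap x₀).hom.toAlgebra
      haveI : Algebra.FormallyUnramified (G.left.presheaf.stalk (u.left x₀)) (G.left.presheaf.stalk x₀) := FormallyUnramified.stalkMap u.left x₀
      haveI : Algebra.EssFiniteType (G.left.presheaf.stalk (u.left x₀)) (G.left.presheaf.stalk x₀) := LocallyOfFiniteType.stalkMap u.left x₀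
      haveI : IsLocalHom (algebraMap (G.left.presheaf.stalk (u.left x₀)) (G.left.presheaf.stalk x₀)) := inferInstanceAs (IsLocalHom (u.left.stalkMap x₀).hom)
      exact Algebra.FormallyUnramified.map_maximalIdeal
    · obtain ⟨r, hr⟩ := (ratPoint_stalk (X := G) η[G]).1 b
      have hw : u.left ≫ G.hom = G.hom := Over.w u
      rw [Scheme.Hom.stalkMap_congr_hom _ _ hw.symm, Scheme.Hom.stalkMap_comp] at hr
      exact ⟨_, hr⟩
  haveI : Flat u.left := flat_of_transitive u x₀ hflat fun P a b => by
    refine ⟨shearLeft ((a * b⁻¹) ≫ u), shearLeft (a * b⁻¹), ?_, ?_⟩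
    · apply CartesianMonoidalCategory.hom_ext
      · simp [shearLeft]
      · simp [shearLeft, MonObj.comp_mul, MonObj.mul_comp, GrpObj.inv_comp]
    · apply CartesianMonoidalCategory.hom_ext
      · simp [shearLeft]
      · simp [shearLeft, MonObj.comp_mul, GrpObj.comp_inv]
  haveI : LocallyOfFinitePresentation u.left := inferInstance
  exact Etale.of_formallyUnramified_of_flat u.left

end Groth.Agent.GrpSch.TangentMul
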