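import Groth.Agent.GaGmQuot.Scheme
import Groth.Agent.GrpSch.TangentMul
import Groth.Agent.GrpSch.SmoothRed
import Groth.Agent.GrpSch.Homogeneous
import Groth.Agent.GeomConn.Scheme
import Mathlib.RingTheory.Bialgebra.MonoidAlgebra

/-! Power maps of the multiplicative group; commutativity of groups isogenous to commutative
groups. -/

set_option autoImplicit false
set_option backward.isDefEq.respectTransparency.types false

universe u

open CategoryTheory MonoidalCategory CartesianMonoidalCategory MonObj GrpObj AlgebraicGeometry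
  WithConv TensorProduct

namespace Groth.Agent.GrpSch.GmIsogeny

/-- The power map on a diagonalisable group is the map induced by the power map on characters. -/
lemma convPow_single {K G : Type u} [Field K] [CommGroup G] (n : ℕ) :
    ((toConv (AlgHom.id K (MonoidAlgebra K G))) ^ n).ofConv =
      MonoidAlgebra.mapDomainAlgHom K K (powMonoidHom (α := G) n) := by
  apply MonoidAlgebra.algHom_ext
  on_goal 2 => exact Subsingleton.elim _ _
  intro g
  induction n with
  | zero => simp [AlgHom.convOne_apply, MonoidAlgebra.one_def]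
  | succ n ih =>
    rw [pow_succ]
    change (((toConv (AlgHom.id K (MonoidAlgebra K G))) ^ n *
      toConv (AlgHom.id K (MonoidAlgebra K G)) : WithConv (MonoidAlgebra K G →ₐ[K] MonoidAlgebra K G)))
      (MonoidAlgebra.single g 1) = _
    rw [MonoidAlgebra.convMul_algHom_single_one]
    erw [ih]
    simp [pow_succ]

/-- The power maps of the multiplicative group are finite and surjective. -/
theorem isFinite_surjective_pow (K : Type u) [Field K] (n : ℕ) (hn : n ≠ 0) :
    IsFinite ((𝟙 (Red.Gm (Spec (CommRingCat.of K)))) ^ n).left ∧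
      Surjective ((𝟙 (Red.Gm (Spec (CommRingCat.of K)))) ^ n).left := by
  let G := ULift.{u} (Multiplicative ℤ)
  let A := MonoidAlgebra K G
  let halg : Algebra (ULift.{u} ℤ) K := ((Int.castRingHom K).comp ULift.ringEquiv.toRingHom).toAlgebra
  let e : Grp.mk (Red.Gm (Spec (CommRingCat.of K))) ≅ Grp.mk (NormalQuot.specGrp K A) :=
    MultHopf.bcDiag (ULift.{u} ℤ) K _ ℤ
  let T := Red.Gm (Spec (CommRingCat.of K))
  let X := NormalQuot.specGrp K A
  let f : T ⟶ X := e.hom.hom.hom
  let g : X ⟶ T := e.inv.hom.hom
  have : IsMonHom g := e.inv.hom.isMonHom_hom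
  have : IsMonHom f := e.hom.hom.isMonHom_hom
  have hfg : f ≫ g = 𝟙 T := congrArg (fun z => z.hom.hom) e.hom_inv_id
  have hgf : g ≫ f = 𝟙 X := congrArg (fun z => z.hom.hom) e.inv_hom_id
  have : IsIso f := ⟨g, hfg, hgf⟩
  have : IsIso g := ⟨f, hgf, hfg⟩
  have : IsIso f.left := inferInstanceAs (IsIso ((Over.forget _).map f))
  have : IsIso g.left := inferInstanceAs (IsIso ((Over.forget _).map g))
  have hT : (𝟙 T : T ⟶ T) ^ n = f ≫ ((𝟙 X : X ⟶ X) ^ n) ≫ g := by
    calc (𝟙 T : T ⟶ T) ^ n = (f ≫ g) ^ n := by rw [hfg]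
      _ = f ≫ g ^ n := (MonObj.comp_pow _ _ _).symm
      _ = f ≫ ((𝟙 X : X ⟶ X) ^ n) ≫ g := by
          congr 1
          have := map_pow (IsMonHom.monoidHom g X) (𝟙 X) n
          simpa using this.symm
  let ψ := MonoidAlgebra.mapDomainAlgHom K K (powMonoidHom n : G →* G)
  have hX : ((𝟙 X : X ⟶ X) ^ n).left = Spec.map (CommRingCat.ofHom ψ.toRingHom) := by
    have e1 : (Spec.mapMulEquiv (R := CommRingCat.of K) (S := A) (T := A))
        (toConv (AlgHom.id K A)) = 𝟙 X := by
      apply Over.OverMorphism.ext
      show Spec.map (CommRingCat.ofHom (RingHom.id A)) = 𝟙 _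
      simp
    rw [← e1]
    erw [← map_pow]
    change Spec.map (CommRingCat.ofHom
      ((toConv (AlgHom.id K A)) ^ n).ofConv.toRingHom) = _
    rw [convPow_single]
  have hinj : Function.Injective (powMonoidHom n : G →* G) := by
    intro a b h
    replace h : (a ^ n).down.toAdd = (b ^ n).down.toAdd := congrArg (fun z : G => z.down.toAdd) h
    change n • a.down.toAdd = n • b.down.toAdd at h
    exact ULift.ext _ _ (Multiplicative.toAdd.injective (nsmul_right_injective hn h))
  have hint : ψ.toRingHom.IsIntegral := by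
    intro a
    induction a using MonoidAlgebra.induction_on with
    | of g =>
      refine ⟨Polynomial.X ^ n - Polynomial.C (MonoidAlgebra.single g 1),
        Polynomial.monic_X_pow_sub_C _ hn, ?_⟩
      simp [ψ, MonoidAlgebra.of_apply, MonoidAlgebra.single_pow]
    | add a b ha hb => exact ha.add _ hb
    | smul r a ha =>
      rw [Algebra.smul_def]
      refine RingHom.IsIntegralElem.mul _ ?_ ha
      rw [← AlgHom.commutes ψ]
      exact RingHom.isIntegralElem_map _
  have : Monoid.FG G := Monoid.fg_of_surjective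
    (MulEquiv.ulift.symm : Multiplicative ℤ ≃* G).toMonoidHom (MulEquiv.surjective _)
  have hfin : ψ.toRingHom.Finite := hint.to_finite
    (RingHom.FiniteType.of_comp_finiteType (f := algebraMap K A) (by
      rw [show ψ.toRingHom.comp (algebraMap K A) = algebraMap K A from ψ.comp_algebraMap]
      exact RingHom.finiteType_algebraMap.2 inferInstance))
  have h1 : IsFinite ((𝟙 X : X ⟶ X) ^ n).left := hX ▸ (IsFinite.SpecMap_iff _).2 hfin
  have h2 : Surjective ((𝟙 X : X ⟶ X) ^ n).left := hX ▸ ⟨fun x => by
    obtain ⟨y, hy⟩ := hint.comap_surjective (MonoidAlgebra.mapDomain_injective hinj) x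
    exact ⟨y, hy⟩⟩
  constructor
  · change IsFinite ((𝟙 T : T ⟶ T) ^ n).left
    rw [hT, Over.comp_left, Over.comp_left]; infer_instance
  · change Surjective ((𝟙 T : T ⟶ T) ^ n).left
    rw [hT, Over.comp_left, Over.comp_left]; infer_instance

/-- The multiplicative group over a field is reduced. -/
theorem isReduced_gm (K : Type u) [Field K] :
    AlgebraicGeometry.IsReduced (Red.Gm (Spec (CommRingCat.of K))).left := by
  let halg : Algebra (ULift.{u} ℤ) K := ((Int.castRingHom K).comp ULift.ringEquiv.toRingHom).toAlgebra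
  let e : Grp.mk (Red.Gm (Spec (CommRingCat.of K))) ≅
      Grp.mk (NormalQuot.specGrp K (MonoidAlgebra K (ULift.{u} (Multiplicative ℤ)))) :=
    MultHopf.bcDiag (ULift.{u} ℤ) K _ ℤ
  let e' : (Red.Gm (Spec (CommRingCat.of K))).left ≅
      Spec (CommRingCat.of (MonoidAlgebra K (ULift.{u} (Multiplicative ℤ)))) :=
    (Over.forget _).mapIso ⟨e.hom.hom.hom, e.inv.hom.hom, congrArg (fun z => z.hom.hom) e.hom_inv_id,
      congrArg (fun z => z.hom.hom) e.inv_hom_id⟩
  let u : MonoidAlgebra K (ULift.{u} (Multiplicative ℤ)) ≃ₐ[K] MonoidAlgebra K (Multiplicative ℤ) :=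
    MonoidAlgebra.domCongr K K MulEquiv.ulift
  have : _root_.IsReduced (MonoidAlgebra K (ULift.{u} (Multiplicative ℤ))) :=
    isReduced_of_injective u.toRingEquiv.toRingHom u.injective
  exact isReduced_of_isOpenImmersion e'.hom

/-- A connected smooth group mapping with finite kernel to a commutative group is commutative. -/
theorem isCommMonObj_of_isFinite {K : Type u} [Field K]
    (H A : Over (Spec (CommRingCat.of K))) [GrpObj H] [GrpObj A] [IsCommMonObj A] [Smooth H.hom]
    [ConnectedSpace H.left] (f : H ⟶ A) [IsMonHom f] [IsFinite f.left] : IsCommMonObj H := by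
  let HH := H ⊗ H
  let a : HH ⟶ H := fst H H
  let b : HH ⟶ H := snd H H
  let c : HH ⟶ H := a * b * (b * a)⁻¹
  have hcf : c ≫ f = 1 := by
    simp only [c, MonObj.mul_comp, GrpObj.inv_comp]
    rw [_root_.mul_comm (b ≫ f) (a ≫ f), mul_inv_cancel]
  have : Smooth HH.hom :=
    MorphismProperty.comp_mem _ _ _ (MorphismProperty.pullback_fst _ _ inferInstance) inferInstance
  have : AlgebraicGeometry.IsReduced HH.left := isReduced_of_smooth HH
  have : ConnectedSpace HH.left :=
    GeomConn.connectedSpace_pullback H.hom H.hom η[H].left (Over.w η[H])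
  let e := η[H].left (IsLocalRing.closedPoint K)
  let s := f.left ⁻¹' {η[A].left (IsLocalRing.closedPoint K)}
  have hs : Set.range c.left ⊆ s := by
    rintro - ⟨z, rfl⟩
    change f.left (c.left z) = _
    rw [← Scheme.Hom.comp_apply, ← Over.comp_left, hcf, one_eq_toUnit, Over.comp_left,
      Scheme.Hom.comp_apply]
    congr 1
    exact Subsingleton.elim (α := PrimeSpectrum K) _ _
  have he : e ∈ Set.range c.left := by
    refine ⟨(lift η[H] η[H]).left (IsLocalRing.closedPoint K), ?_⟩
    have : lift η[H] η[H] ≫ c = η[H] := by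
      simp only [c, a, b, MonObj.comp_mul, GrpObj.comp_inv, lift_fst, lift_snd]
      rw [mul_inv_cancel, one_eq_toUnit, toUnit_unique (toUnit (𝟙_ _)) (𝟙 _), Category.id_comp]
    rw [← Scheme.Hom.comp_apply, ← Over.comp_left, this]
  have hfin : s.Finite := f.left.finite_preimage_singleton _
  have : IsClosedImmersion η[A].left :=
    isClosedImmersion_of_comp_eq_id A.hom η[A].left (Over.w η[A])
  have hcl : IsClosed ({η[A].left (IsLocalRing.closedPoint K)} : Set A.left) := by
    have heq : Set.range η[A].left = {η[A].left (IsLocalRing.closedPoint K)} := by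
      refine Set.eq_singleton_iff_unique_mem.2 ⟨⟨_, rfl⟩, ?_⟩
      rintro - ⟨z, rfl⟩
      exact congrArg _ (Subsingleton.elim (α := PrimeSpectrum K) _ _)
    exact heq ▸ η[A].left.isClosedEmbedding.isClosed_range
  have hdisc : ∀ y ∈ s, IsClosed ({y} : Set H.left) := fun y hy => by
    obtain ⟨U, hU, hUs⟩ := isDiscrete_iff_forall_mem_exists_isClosed.1
      (f.left.isDiscrete_preimage_singleton _) {y} (Set.singleton_subset_iff.2 hy)
    exact hUs ▸ hU.inter (hcl.preimage f.left.continuous)
  have hsub : Set.range c.left ⊆ {e} := by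
    intro y hy
    by_contra hne
    have hrest : IsClosed (s \ {y}) := by
      rw [← Set.biUnion_of_singleton (s \ {y})]
      exact (hfin.subset Set.diff_subset).isClosed_biUnion fun z hz => hdisc z hz.1
    have := (isPreconnected_range c.left.continuous) {y}ᶜ (s \ {y})ᶜ
      (hdisc y (hs hy)).isOpen_compl hrest.isOpen_compl
      (fun z _ => by
        by_cases hz : z = y
        · exact Or.inr fun h => h.2 hz
        · exact Or.inl hz)
      ⟨e, he, fun h => hne h.symm⟩ ⟨y, hy, fun h => h.2 rfl⟩
    obtain ⟨z, hz, hz1, hz2⟩ := this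
    exact hz2 ⟨hs hz, hz1⟩
  have : IsClosedImmersion η[H].left :=
    isClosedImmersion_of_comp_eq_id H.hom η[H].left (Over.w η[H])
  obtain ⟨c', hc'⟩ := exists_lift_of_isImmersion η[H].left c.left (hsub.trans fun y hy =>
    ⟨IsLocalRing.closedPoint K, hy.symm⟩)
  have hc : c = 1 := by
    rw [one_eq_toUnit]
    ext1
    rw [Over.comp_left, ← hc']
    congr 1
    have h1 : c' = HH.hom := by
      have := Over.w c
      rw [← hc', Category.assoc, Over.w η[H]] at this
      exact (Category.comp_id _).symm.trans this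
    exact h1.trans ((Category.comp_id _).symm.trans (Over.w (toUnit HH))).symm
  have hab : a * b = b * a := mul_inv_eq_one.1 hc
  refine ⟨?_⟩
  have hμ : μ[H] = a * b := by rw [Hom.mul_def, lift_fst_snd]; exact (Category.id_comp _).symm
  rw [hμ, MonObj.comp_mul]
  simp only [a, b, braiding_hom_fst, braiding_hom_snd]
  exact hab.symm

end Groth.Agent.GrpSch.GmIsogeny
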