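import Mathlib
import Groth.Agent.GrpSch.Saturation
import Groth.Agent.PureIdealSheaf.Scheme

/-!
# The identity component of an arbitrary group scheme over a field as a flat closed subgroup
-/

set_option autoImplicit false
set_option backward.isDefEq.respectTransparency.types false

universe u

open CategoryTheory MonoidalCategory CartesianMonoidalCategory MonObj GrpObj Limits AlgebraicGeometry

namespace Groth.Agent.GrpSch.IdentityComponent

open Saturation

variable {K : Type u} [Field K] (G : Over (Spec (CommRingCat.of K))) [GrpObj G]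

lemma stable_comp : StableUnderGeneralization (comp G (e₀ G)) := fun x y h hx => by
  have : comp G y = comp G (e₀ G) := by rw [← comp_eq_of_specializes G h, comp_eq_of_mem G hx]
  exact this ▸ mem_irreducibleComponent

lemma geometricallyIrreducible_of_comp {X Y Z : Scheme.{u}} (g : X ⟶ Y) (f : Y ⟶ Z) [Surjective g]
    (h : GeometricallyIrreducible (g ≫ f)) : GeometricallyIrreducible f := by
  rw [GeometricallyIrreducible.eq_geometrically] at h ⊢
  intro L _ y W p₁ p₂ hW
  have hW' := (IsPullback.of_hasPullback g p₁).paste_vert hW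
  have := h y _ _ hW'
  exact @Function.Surjective.irreducibleSpace _ _ _ _ _ (Limits.pullback.snd g p₁).continuous
    (Limits.pullback.snd g p₁).surjective this

theorem exists_subgroup : ∃ (G₀ : Over (Spec (CommRingCat.of K))) (_ : GrpObj G₀) (incl : G₀ ⟶ G)
    (_ : IsMonHom incl), IsClosedImmersion incl.left ∧ Flat incl.left ∧
      Set.range ⇑incl.left = connectedComponent (η[G].left (IsLocalRing.closedPoint K)) ∧
      GeometricallyIrreducible G₀.hom ∧ CompactSpace ↥G₀.left ∧
      ∀ (T : Over (Spec (CommRingCat.of K))) (g : T ⟶ G),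
        Set.range g.left ⊆ comp G (e₀ G) → ∃ g₀ : T ⟶ G₀, g₀ ≫ incl = g := by
  let Z : TopologicalSpace.Closeds G.left := ⟨comp G (e₀ G), isClosed_irreducibleComponent⟩
  let I := PureIdealSheaf.idealSheaf Z (stable_comp G)
  have : Flat I.subschemeι := PureIdealSheaf.flat_idealSheaf Z (stable_comp G)
  have hr : Set.range I.subschemeι = comp G (e₀ G) := by
    rw [Scheme.IdealSheafData.range_subschemeι]
    rfl
  let G₀ : Over (Spec (CommRingCat.of K)) := Over.mk (I.subschemeι ≫ G.hom)
  let incl : G₀ ⟶ G := Over.homMk I.subschemeι rfl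
  have hcl : IsClosedImmersion incl.left := inferInstanceAs (IsClosedImmersion I.subschemeι)
  have : Mono incl :=
    (Over.forget _).mono_of_mono_map (show Mono incl.left from inferInstance)
  have fac : ∀ (T : Over (Spec (CommRingCat.of K))) (g : T ⟶ G),
      Set.range g.left ⊆ comp G (e₀ G) → ∃ g₀ : T ⟶ G₀, g₀ ≫ incl = g := by
    intro T g hg
    obtain ⟨g', hg'⟩ := PureIdealSheaf.exists_factor I g.left (by
      rw [← I.range_subschemeι, hr]; exact hg)
    exact ⟨Over.homMk g' (by change g' ≫ I.subschemeι ≫ G.hom = _; rw [← Category.assoc, hg', Over.w g]),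
      Over.OverMorphism.ext hg'⟩
  have hmem : ∀ (T : Over (Spec (CommRingCat.of K))) (a : T ⟶ G₀) (t : T.left),
      (a ≫ incl).left t ∈ comp G (e₀ G) := fun T a t => hr.le ⟨a.left t, rfl⟩
  obtain ⟨hg, hincl⟩ := exists_grpObj_of_mono incl
    (fac _ η[G] (by
      rintro _ ⟨t, rfl⟩
      rw [closed_point_subsingleton t (IsLocalRing.closedPoint K)]
      exact mem_irreducibleComponent))
    (fun T a b => fac T _ (by
      rintro _ ⟨t, rfl⟩
      rw [mul_eq_lift, comp_left_apply]
      set w := (lift (a ≫ incl) (b ≫ incl)).left t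
      have h1 : (fst G G).left w = (a ≫ incl).left t := by
        rw [← comp_left_apply, lift_fst]
      have h2 : (snd G G).left w = (b ≫ incl).left t := by
        rw [← comp_left_apply, lift_snd]
      have := comp_mul_eq G w (h1 ▸ hmem T a t)
      rw [h2, comp_eq_of_mem G (hmem T b t)] at this
      exact this ▸ mem_irreducibleComponent))
    (fun T a => fac T _ (by
      rintro _ ⟨t, rfl⟩
      rw [Hom.inv_def, comp_left_apply]
      have he : ι[G].left (e₀ G) = e₀ G := by
        have : η[G] ≫ ι[G] = η[G] := by
          rw [← Hom.inv_def, eq_one_unit, inv_one]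
        exact congrArg (fun φ : 𝟙_ _ ⟶ G => φ.left (IsLocalRing.closedPoint K)) this
      have hirr : IsIrreducible (ι[G].left '' comp G (e₀ G)) :=
        isIrreducible_irreducibleComponent.image _ ι[G].left.continuous.continuousOn
      obtain ⟨C, hC, hsub, hmax⟩ := exists_preirreducible _ hirr.isPreirreducible
      have hCmem : C ∈ irreducibleComponents G.left := by
        refine ⟨⟨(hirr.nonempty.mono hsub), hC⟩, fun C' hC' hle => (hmax C' hC'.isPreirreducible hle).le⟩
      have hC_eq : C = comp G (e₀ G) := eq_of_mem_irreducibleComponents G hCmem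
        (irreducibleComponent_mem_irreducibleComponents _)
        (hsub ⟨e₀ G, mem_irreducibleComponent, he⟩) mem_irreducibleComponent
      exact hC_eq ▸ hsub ⟨_, hmem T a t, rfl⟩))
  refine ⟨G₀, hg, incl, hincl, hcl, ‹Flat I.subschemeι›, ?_, ?_, ?_, fac⟩
  · change Set.range I.subschemeι = _
    rw [hr]
    exact (connectedComponent_eq G).symm
  · obtain ⟨C, i, c₀, hC, hi, hc₀⟩ := exists_identity_component G
    obtain ⟨g, hg⟩ := fac C i hi.le
    have : Surjective g.left := ⟨fun x => by
      obtain ⟨c, hc⟩ := hi.ge (hr.le ⟨x, rfl⟩)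
      refine ⟨c, incl.left.isClosedEmbedding.injective ?_⟩
      exact (congrArg (fun φ : C ⟶ G => φ.left c) hg).trans hc⟩
    refine geometricallyIrreducible_of_comp g.left G₀.hom ?_
    rw [Over.w g]
    exact hC
  · refine isCompact_univ_iff.1 ?_
    rw [incl.left.isClosedEmbedding.isEmbedding.isInducing.isCompact_iff, Set.image_univ]
    change IsCompact (Set.range I.subschemeι)
    rw [hr]
    exact isCompact_comp G

end Groth.Agent.GrpSch.IdentityComponent
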