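import Groth.Agent.GrpSch.AffThm
import Groth.Agent.GrpSch.AffEnv
import Groth.Agent.GrpSch.Cat
import Groth.Agent.GrpSch.JointInj
import Groth.Prelude.Def_AlgGrp

/-!
# Image of a homomorphism to an affine group scheme
-/

set_option autoImplicit false
set_option backward.isDefEq.respectTransparency.types false

universe u

open CategoryTheory MonoidalCategory CartesianMonoidalCategory MonObj GrpObj Limits AlgebraicGeometry
open TensorProduct

namespace Groth.Agent.GrpSch.Image

variable {k : Type u} [Field k]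

/-- factorisation through a closed subscheme of an affine scheme is detected after a morphism
injective on global functions -/
lemma exists_lift {Y X H I : Over (Spec (CommRingCat.of k))} [IsAffine H.left] (p : Y ⟶ X)
    [CompactSpace X.left] (hp : Function.Injective p.left.appTop.hom) (i : I ⟶ H) [IsClosedImmersion i.left]
    (f : X ⟶ H) (g : Y ⟶ I) (hg : g ≫ i = p ≫ f) : ∃ l : X ⟶ I, l ≫ i = f := by
  haveI : QuasiCompact f.left := quasiCompact_of_compactSpace f.left
  have hle : i.left.ker ≤ f.left.ker := by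
    refine Scheme.IdealSheafData.le_of_iSup_eq_top
      (fun _ : Unit => (⟨⊤, isAffineOpen_top H.left⟩ : H.left.affineOpens)) (iSup_const) fun _ => ?_
    intro s hs
    rw [Scheme.Hom.ker_apply] at hs ⊢
    refine hp (Eq.trans ?_ (map_zero p.left.appTop.hom).symm)
    have h : (p ≫ f).left.appTop s = 0 := by
      rw [← hg, Over.comp_left, Scheme.Hom.comp_appTop, CommRingCat.comp_apply,
        show i.left.appTop s = 0 from hs, map_zero]
    exact h
  let l := IsClosedImmersion.lift i.left f.left hle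
  exact ⟨Over.homMk l (by rw [← Over.w i, IsClosedImmersion.lift_fac_assoc, Over.w]),
    Over.OverMorphism.ext (IsClosedImmersion.lift_fac _ _ _)⟩

attribute [local instance] JointInj.algΓ

lemma injective_tensor_map {A A' B B' : Type u} [CommRing A] [CommRing A'] [CommRing B] [CommRing B']
    [Algebra k A] [Algebra k A'] [Algebra k B] [Algebra k B'] (f : A →ₐ[k] A') (g : B →ₐ[k] B')
    (hf : Function.Injective f) (hg : Function.Injective g) :
    Function.Injective (Algebra.TensorProduct.map f g) := by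
  have h : ∀ z, Algebra.TensorProduct.map f g z = g.toLinearMap.lTensor A' (f.toLinearMap.rTensor B z) := by
    intro z
    induction z with
    | zero => simp
    | tmul a b => simp
    | add x y hx hy => simp only [map_add, hx, hy]
  intro x y hxy
  rw [h, h] at hxy
  exact Module.Flat.rTensor_preserves_injective_linearMap _ hf
    (Module.Flat.lTensor_preserves_injective_linearMap _ hg hxy)

lemma injective_tensor_appTop {P₁ Q₁ P₂ Q₂ : Over (Spec (CommRingCat.of k))} (q₁ : P₁ ⟶ Q₁) (q₂ : P₂ ⟶ Q₂)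
    [CompactSpace P₁.left] [QuasiSeparatedSpace P₁.left] [CompactSpace P₂.left] [QuasiSeparatedSpace P₂.left]
    [CompactSpace Q₁.left] [QuasiSeparatedSpace Q₁.left] [CompactSpace Q₂.left] [QuasiSeparatedSpace Q₂.left]
    (h₁ : Function.Injective q₁.left.appTop.hom) (h₂ : Function.Injective q₂.left.appTop.hom) :
    Function.Injective (q₁ ⊗ₘ q₂).left.appTop.hom := by
  have key : ∀ (X Y : Over (Spec (CommRingCat.of k))) [CompactSpace X.left] [QuasiSeparatedSpace X.left]
      [CompactSpace Y.left] [QuasiSeparatedSpace Y.left],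
      ∃ e : CommRingCat.of (Γ(X.left, ⊤) ⊗[k] Γ(Y.left, ⊤)) ≅ Γ((X ⊗ Y).left, ⊤),
        CommRingCat.ofHom Algebra.TensorProduct.includeLeftRingHom ≫ e.hom = (fst X Y).left.appTop ∧
        CommRingCat.ofHom Algebra.TensorProduct.includeRight.toRingHom ≫ e.hom = (snd X Y).left.appTop := by
    intro X Y _ _ _ _
    have h1 := CommRingCat.isPushout_tensorProduct k Γ(X.left, ⊤) Γ(Y.left, ⊤)
    have h2 : IsPushout ((Scheme.ΓSpecIso (CommRingCat.of k)).inv ≫ X.hom.appTop)
        ((Scheme.ΓSpecIso (CommRingCat.of k)).inv ≫ Y.hom.appTop) (fst X Y).left.appTop (snd X Y).left.appTop :=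
      (AffEnv.isPushout_appTop X Y).of_iso (Scheme.ΓSpecIso (CommRingCat.of k)) (Iso.refl _) (Iso.refl _) (Iso.refl _)
        (by simp) (by simp) (by simp) (by simp)
    exact ⟨h1.isoIsPushout _ _ h2, IsPushout.inl_isoIsPushout_hom _ _ _ _,
      IsPushout.inr_isoIsPushout_hom _ _ _ _⟩
  obtain ⟨eP, hP1, hP2⟩ := key P₁ P₂
  obtain ⟨eQ, hQ1, hQ2⟩ := key Q₁ Q₂
  let f : ∀ {P Q : Over (Spec (CommRingCat.of k))} (q : P ⟶ Q), Γ(Q.left, ⊤) →ₐ[k] Γ(P.left, ⊤) := fun {P Q} q =>
    { toRingHom := q.left.appTop.hom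
      commutes' := fun c => by
        have : Q.hom.appTop ≫ q.left.appTop = P.hom.appTop := by
          rw [← Scheme.Hom.comp_appTop, Over.w q]
        exact ConcreteCategory.congr_hom this ((Scheme.ΓSpecIso (CommRingCat.of k)).inv c) }
  have hnat : CommRingCat.ofHom (Algebra.TensorProduct.map (f q₁) (f q₂)).toRingHom ≫ eP.hom =
      eQ.hom ≫ (q₁ ⊗ₘ q₂).left.appTop := by
    apply (CommRingCat.isPushout_tensorProduct k Γ(Q₁.left, ⊤) Γ(Q₂.left, ⊤)).hom_ext
    · rw [reassoc_of% hQ1, ← Scheme.Hom.comp_appTop, ← Category.assoc]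
      have : CommRingCat.ofHom Algebra.TensorProduct.includeLeftRingHom ≫
          CommRingCat.ofHom (Algebra.TensorProduct.map (f q₁) (f q₂)).toRingHom =
          q₁.left.appTop ≫ CommRingCat.ofHom Algebra.TensorProduct.includeLeftRingHom := by
        ext r; simp [f]
      rw [this, Category.assoc, hP1, ← Scheme.Hom.comp_appTop]
      exact congrArg (fun φ => φ.left.appTop) (tensorHom_fst q₁ q₂).symm
    · rw [reassoc_of% hQ2, ← Scheme.Hom.comp_appTop, ← Category.assoc]
      have : CommRingCat.ofHom Algebra.TensorProduct.includeRight.toRingHom ≫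
          CommRingCat.ofHom (Algebra.TensorProduct.map (f q₁) (f q₂)).toRingHom =
          q₂.left.appTop ≫ CommRingCat.ofHom Algebra.TensorProduct.includeRight.toRingHom := by
        ext r; simp [f]
      rw [this, Category.assoc, hP2, ← Scheme.Hom.comp_appTop]
      exact congrArg (fun φ => φ.left.appTop) (tensorHom_snd q₁ q₂).symm
  intro x y hxy
  apply (ConcreteCategory.bijective_of_isIso eQ.inv).1
  apply injective_tensor_map (f q₁) (f q₂) h₁ h₂
  apply (ConcreteCategory.bijective_of_isIso eP.hom).1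
  have hz : ∀ z, eP.hom (Algebra.TensorProduct.map (f q₁) (f q₂) (eQ.inv z)) = (q₁ ⊗ₘ q₂).left.appTop z := by
    intro z
    refine (ConcreteCategory.congr_hom hnat (eQ.inv z)).trans ?_
    rw [CommRingCat.comp_apply, ← CommRingCat.comp_apply eQ.inv eQ.hom, Iso.inv_hom_id]
    rfl
  rw [hz, hz]
  exact hxy

/-- a homomorphism to an affine group factors through a closed subgroup by a faithfully flat one -/
theorem exists_image {G H : Over (Spec (CommRingCat.of k))} [GrpObj G] [GrpObj H]
    [LocallyOfFiniteType G.hom] [QuasiCompact G.hom] [IsAffine H.left] (f : G ⟶ H) [IsMonHom f] :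
    ∃ (I : Over (Spec (CommRingCat.of k))) (_ : GrpObj I) (q : G ⟶ I) (i : I ⟶ H),
      IsMonHom q ∧ IsMonHom i ∧ q ≫ i = f ∧ IsAffine I.left ∧ LocallyOfFiniteType I.hom ∧
      IsClosedImmersion i.left ∧ Flat q.left ∧ Surjective q.left ∧ LocallyOfFinitePresentation q.left := by
  haveI := AffEnv.compactSpace_left G
  haveI := AffEnv.quasiSeparatedSpace_left G
  haveI : QuasiCompact f.left := quasiCompact_of_compactSpace f.left
  let I : Over (Spec (CommRingCat.of k)) := Over.mk (f.left.imageι ≫ H.hom)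
  let i : I ⟶ H := Over.homMk f.left.imageι rfl
  let q : G ⟶ I := Over.homMk f.left.toImage (by
    change f.left.toImage ≫ f.left.imageι ≫ H.hom = G.hom
    rw [Scheme.Hom.toImage_imageι_assoc, Over.w f])
  have hqi : q ≫ i = f := Over.OverMorphism.ext (Scheme.Hom.toImage_imageι f.left)
  haveI hi : IsClosedImmersion i.left := inferInstanceAs (IsClosedImmersion f.left.imageι)
  haveI : IsAffine I.left := isAffine_of_isAffineHom i.left
  haveI : Mono i := (Over.forget _).mono_of_mono_map (show Mono i.left from inferInstance)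
  have hq : Function.Injective q.left.appTop.hom := by
    have h := f.left.toImage_app_injective ⟨⊤, isAffineOpen_top H.left⟩
    exact h
  haveI : CompactSpace I.left := inferInstance
  haveI := AffEnv.isAffine_tensor I I
  obtain ⟨e, he⟩ : ∃ e : 𝟙_ (Over (Spec (CommRingCat.of k))) ⟶ I, e ≫ i = η[H] :=
    ⟨η[G] ≫ q, by rw [Category.assoc, hqi, IsMonHom.one_hom]⟩
  obtain ⟨m, hm⟩ := exists_lift (q ⊗ₘ q) (injective_tensor_appTop q q hq hq) i
    ((fst I I ≫ i) * (snd I I ≫ i)) (μ[G] ≫ q) (by
      rw [Category.assoc, hqi, IsMonHom.mul_hom, MonObj.comp_mul, tensorHom_fst_assoc, tensorHom_snd_assoc, hqi,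
        mul_eq_lift]
      congr 1)
  obtain ⟨v, hv⟩ := exists_lift q hq i i⁻¹ (ι[G] ≫ q) (by
    rw [Category.assoc, hqi, GrpObj.comp_inv, hqi, GrpObj.inv_eq_inv, GrpObj.inv_comp, Category.id_comp])
  obtain ⟨hI, hiI⟩ := exists_grpObj_of_mono i ⟨e, he⟩
    (fun T a b => ⟨lift a b ≫ m, by rw [Category.assoc, hm, MonObj.comp_mul, lift_fst_assoc, lift_snd_assoc]⟩)
    (fun T a => ⟨a ≫ v, by rw [Category.assoc, hv, GrpObj.comp_inv]⟩)
  haveI hqh : IsMonHom q := by
    constructor
    · rw [← cancel_mono i, Category.assoc, hqi, IsMonHom.one_hom, IsMonHom.one_hom]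
    · rw [← cancel_mono i, Category.assoc, hqi, IsMonHom.mul_hom, Category.assoc, IsMonHom.mul_hom (f := i),
        tensorHom_comp_tensorHom_assoc, hqi]
  obtain ⟨h1, h2⟩ := AffThm.flat_surjective q hq
  obtain ⟨h3, h4⟩ := AffThm.locallyOfFiniteType q hq
  exact ⟨I, hI, q, i, hqh, hiI, hqi, ‹_›, h3, hi, h1, h2, h4⟩

end Groth.Agent.GrpSch.Image
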