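import Groth.Agent.GrpSch.Image
import Groth.Agent.GrpSch.Desc
import Groth.Agent.GrpSch.AntiHom
import Groth.Agent.S3278

/-!
# The affine quotient of a group by a normal subgroup and the kernel of the affinisation
-/

set_option autoImplicit false
set_option backward.isDefEq.respectTransparency.types false

universe u

open CategoryTheory MonoidalCategory CartesianMonoidalCategory MonObj GrpObj Limits AlgebraicGeometry

namespace Groth.Agent.GrpSch.ImageQuot

variable {k : Type u} [Field k]

lemma lift_cover {G Q T : Over (Spec (CommRingCat.of k))} (o : G ⟶ Q) [Flat o.left] [Surjective o.left]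
    [LocallyOfFinitePresentation o.left] (x : T ⟶ Q) :
    ∃ (A : Over (Spec (CommRingCat.of k))) (π : A ⟶ T) (b : A ⟶ G), Flat π.left ∧ Surjective π.left ∧
      LocallyOfFinitePresentation π.left ∧ π ≫ x = b ≫ o := by
  let A : Over (Spec (CommRingCat.of k)) := Over.mk (pullback.fst x.left o.left ≫ T.hom)
  let π : A ⟶ T := Over.homMk (pullback.fst x.left o.left) rfl
  let b : A ⟶ G := Over.homMk (pullback.snd x.left o.left) (by
    change pullback.snd x.left o.left ≫ G.hom = pullback.fst x.left o.left ≫ T.hom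
    rw [← Over.w o, ← pullback.condition_assoc, Over.w x])
  exact ⟨A, π, b, inferInstanceAs (Flat (pullback.fst x.left o.left)),
    MorphismProperty.pullback_fst _ _ ‹Surjective o.left›,
    MorphismProperty.pullback_fst _ _ ‹LocallyOfFinitePresentation o.left›,
    Over.OverMorphism.ext pullback.condition⟩

lemma factor_of_cover {A T I H : Over (Spec (CommRingCat.of k))} (i : I ⟶ H) [Mono i] (π : A ⟶ T)
    [Flat π.left] [Surjective π.left] [LocallyOfFinitePresentation π.left] (g : T ⟶ H) (z : A ⟶ I)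
    (h : π ≫ g = z ≫ i) : ∃ z' : T ⟶ I, z' ≫ i = g := by
  obtain ⟨z', hz', -⟩ := Desc.exists_desc π z (fun S a b hab => by
    rw [← cancel_mono i, Category.assoc, Category.assoc, ← h, ← Category.assoc, ← Category.assoc, hab])
  haveI : Epi π := Desc.epi_of_effectiveEpi_left π
  exact ⟨z', by rw [← cancel_epi π, ← Category.assoc, hz', h]⟩

/-- the image of a normal subgroup under a faithfully flat homomorphism is normal -/
theorem isNormalHom_image {N G A I : Over (Spec (CommRingCat.of k))} [GrpObj N] [GrpObj G] [GrpObj A] [GrpObj I]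
    (i : N ⟶ G) [IsMonHom i] (hN : AlgGrp.IsNormalHom i) (t : G ⟶ A) [IsMonHom t] [Flat t.left] [Surjective t.left]
    [LocallyOfFinitePresentation t.left] (q : N ⟶ I) [IsMonHom q] [Flat q.left] [Surjective q.left]
    [LocallyOfFinitePresentation q.left] (j : I ⟶ A) [IsMonHom j] [Mono j] (h : q ≫ j = i ≫ t) :
    AlgGrp.IsNormalHom j := by
  intro T a z
  obtain ⟨A₁, π₁, g, _, _, _, hg⟩ := lift_cover t a
  obtain ⟨A₂, π₂, n, _, _, _, hn⟩ := lift_cover q (π₁ ≫ z)
  obtain ⟨n', hn'⟩ := hN A₂ (π₂ ≫ g) n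
  haveI : Flat (π₂ ≫ π₁).left := inferInstanceAs (Flat (π₂.left ≫ π₁.left))
  haveI : Surjective (π₂ ≫ π₁).left := inferInstanceAs (Surjective (π₂.left ≫ π₁.left))
  haveI : LocallyOfFinitePresentation (π₂ ≫ π₁).left :=
    inferInstanceAs (LocallyOfFinitePresentation (π₂.left ≫ π₁.left))
  obtain ⟨z', hz'⟩ := factor_of_cover j (π₂ ≫ π₁) (a * (z ≫ j) * a⁻¹) (n' ≫ q) (by
    have e := congrArg (· ≫ t) hn'
    simp only [MonObj.mul_comp, GrpObj.inv_comp, Category.assoc, ← h] at e
    have hzz := congrArg (· ≫ j) hn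
    simp only [Category.assoc] at hzz
    rw [Category.assoc, Category.assoc, ← e, ← hzz, ← hg]
    simp only [MonObj.comp_mul, GrpObj.comp_inv])
  exact ⟨z', hz'.symm⟩

/-- for a quotient `q : G ⟶ Q` by a normal subgroup `N` there is a homomorphism `r` from `Q` to an affine
group such that a point of `G` killed by `q ≫ r` lies, locally, in `N` times the kernel of the affinisation -/
theorem exists_affine_hom {N G Q : Over (Spec (CommRingCat.of k))} [GrpObj N] [GrpObj G] [GrpObj Q]
    [LocallyOfFiniteType G.hom] [QuasiCompact G.hom] [LocallyOfFiniteType Q.hom] [QuasiCompact Q.hom]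
    [GrpObj (AffEnv.aff G)] [IsMonHom (AffEnv.toAff G)]
    (i : N ⟶ G) [IsMonHom i] [IsClosedImmersion i.left] (hN : AlgGrp.IsNormalHom i)
    (q : G ⟶ Q) [IsMonHom q] [Surjective q.left] [Flat q.left] (hq : AlgGrp.IsKernel i q) :
    ∃ (R : Over (Spec (CommRingCat.of k))) (_ : GrpObj R) (r : Q ⟶ R), IsMonHom r ∧ IsAffine R.left ∧
      LocallyOfFiniteType R.hom ∧ Flat r.left ∧ Surjective r.left ∧
      ∀ (T : Over (Spec (CommRingCat.of k))) (g : T ⟶ G), g ≫ q ≫ r = 1 →
        ∃ (A : Over (Spec (CommRingCat.of k))) (π : A ⟶ T) (n : A ⟶ N) (m : A ⟶ G),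
          Surjective π.left ∧ m ≫ AffEnv.toAff G = 1 ∧ π ≫ g = m * (n ≫ i) := by
  haveI := AffEnv.compactSpace_left G
  haveI := AffEnv.quasiSeparatedSpace_left G
  haveI := AffEnv.isIso_toAff_appTop G
  have hinj : Function.Injective (AffEnv.toAff G).left.appTop.hom :=
    (ConcreteCategory.bijective_of_isIso (AffEnv.toAff G).left.appTop).1
  obtain ⟨hAft, htlfp⟩ := AffThm.locallyOfFiniteType (AffEnv.toAff G) hinj
  obtain ⟨htf, hts⟩ := AffThm.flat_surjective (AffEnv.toAff G) hinj
  haveI : LocallyOfFiniteType N.hom := by rw [← Over.w i]; infer_instance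
  haveI : QuasiCompact N.hom := by rw [← Over.w i]; infer_instance
  obtain ⟨I, _, qI, j, _, _, hj, hIa, hIf, hjc, hqIf, hqIs, hqIp⟩ := Image.exists_image (i ≫ AffEnv.toAff G)
  haveI : Mono j := (Over.forget _).mono_of_mono_map (show Mono j.left from inferInstance)
  obtain ⟨R, _, π, _, hRa, hRf, hπf, hπs, hπk⟩ :=
    Groth.Agent.S3278.result k (AffEnv.aff G) I j (isNormalHom_image i hN (AffEnv.toAff G) qI j hj)
  haveI := hRa
  haveI : IsLocallyNoetherian Q.left := LocallyOfFiniteType.isLocallyNoetherian Q.hom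
  haveI : LocallyOfFiniteType q.left := by
    have h : LocallyOfFiniteType (q.left ≫ Q.hom) := by rw [Over.w q]; infer_instance
    exact locallyOfFiniteType_of_comp q.left Q.hom
  haveI : LocallyOfFinitePresentation q.left := inferInstance
  have hiπ : i ≫ AffEnv.toAff G ≫ π = 1 := by
    rw [← Category.assoc, ← hj, Category.assoc, (isKernel_factors_iff hπk j).1 ⟨𝟙 I, Category.id_comp _⟩,
      MonObj.comp_one]
  obtain ⟨r, hr, -⟩ := Desc.exists_desc q (AffEnv.toAff G ≫ π) (fun T a b hab => by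
    obtain ⟨z, hz⟩ := (isKernel_factors_iff hq (a⁻¹ * b)).2 (by
      rw [MonObj.mul_comp, GrpObj.inv_comp, hab, inv_mul_cancel])
    have h := congrArg (· ≫ AffEnv.toAff G ≫ π) hz
    simp only [Category.assoc, hiπ, MonObj.comp_one, MonObj.mul_comp, GrpObj.inv_comp] at h
    exact inv_mul_eq_one.1 h.symm)
  haveI : Epi (q ⊗ₘ q) := by
    rw [MonoidalCategory.tensorHom_def]
    haveI : Flat (q ▷ G).left := Desc.whiskerRight_prop G q ‹_›
    haveI : Surjective (q ▷ G).left := Desc.whiskerRight_prop G q ‹_›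
    haveI : LocallyOfFinitePresentation (q ▷ G).left := Desc.whiskerRight_prop G q ‹_›
    haveI : Flat (Q ◁ q).left := Desc.whiskerLeft_prop Q q ‹_›
    haveI : Surjective (Q ◁ q).left := Desc.whiskerLeft_prop Q q ‹_›
    haveI : LocallyOfFinitePresentation (Q ◁ q).left := Desc.whiskerLeft_prop Q q ‹_›
    haveI : Epi (q ▷ G) := Desc.epi_of_effectiveEpi_left _
    haveI : Epi (Q ◁ q) := Desc.epi_of_effectiveEpi_left _
    infer_instance
  haveI : IsMonHom (q ≫ r) := by rw [hr]; infer_instance
  haveI hrm := Desc.isMonHom_of_epi q r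
  haveI : Flat r.left := by
    haveI : Flat (q.left ≫ r.left) := by rw [← Over.comp_left, hr, Over.comp_left]; infer_instance
    exact (Flat.iff_flat_stalkMap _).2 fun y => by
      obtain ⟨x, rfl⟩ := q.left.surjective y
      exact flat_stalkMap_of_comp q.left r.left x (Flat.stalkMap _ _) (Flat.stalkMap _ _)
  haveI : Surjective r.left := by
    haveI : Surjective (q.left ≫ r.left) := by rw [← Over.comp_left, hr, Over.comp_left]; infer_instance
    exact Surjective.of_comp q.left r.left
  refine ⟨R, ‹_›, r, hrm, hRa, hRf, ‹_›, ‹_›, fun T g hg => ?_⟩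
  obtain ⟨z, hz⟩ := (isKernel_factors_iff hπk (g ≫ AffEnv.toAff G)).2 (by rw [Category.assoc, ← hr, hg])
  obtain ⟨A, p, n, _, _, _, hp⟩ := lift_cover qI z
  refine ⟨A, p, n, (p ≫ g) * (n ≫ i)⁻¹, ‹_›, ?_, by rw [inv_mul_cancel_right]⟩
  rw [MonObj.mul_comp, GrpObj.inv_comp, mul_inv_eq_one, Category.assoc, ← hz, ← Category.assoc, hp,
    Category.assoc, hj, Category.assoc]

end Groth.Agent.GrpSch.ImageQuot
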