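import Groth.Agent.GrpSch.AffEnv
import Groth.Agent.GrpSch.Action
import Groth.Agent.GrpSch.JointInj
import Groth.Agent.HopfFF.SubHopf
import Groth.Agent.NormalQuot.Scheme

/-!
# Linear actions on affine space from matrices of functions
-/

set_option autoImplicit false
set_option backward.isDefEq.respectTransparency.types false

universe u

open CategoryTheory MonoidalCategory CartesianMonoidalCategory MonObj GrpObj Limits AlgebraicGeometry
open scoped TensorProduct

namespace Groth.Agent.GrpSch.LinearAction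

variable {k : Type u} [Field k]

attribute [local instance] JointInj.algΓ

/-- affine space over `k` -/
noncomputable abbrev affSp (k : Type u) [Field k] (n : ℕ) : Over (Spec (CommRingCat.of k)) :=
  (Spec (CommRingCat.of (MvPolynomial (Fin n) k))).asOver (Spec (CommRingCat.of k))

instance isAffine_asOver (A : Type u) [CommRing A] [Algebra k A] :
    IsAffine ((Spec (CommRingCat.of A)).asOver (Spec (CommRingCat.of k))).left :=
  inferInstanceAs (IsAffine (Spec _))

/-- the value of a function of `Spec A` at a point -/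
noncomputable def val {A : Type u} [CommRing A] [Algebra k A] {T : Over (Spec (CommRingCat.of k))}
    (x : T ⟶ (Spec (CommRingCat.of A)).asOver (Spec (CommRingCat.of k))) : A →+* Γ(T.left, ⊤) :=
  ((Scheme.ΓSpecIso (CommRingCat.of A)).inv ≫ x.left.appTop).hom

lemma val_comp {A : Type u} [CommRing A] [Algebra k A] {T T' : Over (Spec (CommRingCat.of k))} (t : T' ⟶ T)
    (x : T ⟶ (Spec (CommRingCat.of A)).asOver (Spec (CommRingCat.of k))) :
    val (t ≫ x) = t.left.appTop.hom.comp (val x) := rfl

lemma val_algebraMap {A : Type u} [CommRing A] [Algebra k A] {T : Over (Spec (CommRingCat.of k))}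
    (x : T ⟶ (Spec (CommRingCat.of A)).asOver (Spec (CommRingCat.of k))) (r : k) :
    val x (algebraMap k A r) = algebraMap k Γ(T.left, ⊤) r := by
  have h1 : CommRingCat.ofHom (algebraMap k A) ≫ (Scheme.ΓSpecIso (CommRingCat.of A)).inv =
      (Scheme.ΓSpecIso (CommRingCat.of k)).inv ≫ (Spec.map (CommRingCat.ofHom (algebraMap k A))).appTop :=
    (Scheme.ΓSpecIso_inv_naturality _).symm ▸ rfl
  change (CommRingCat.ofHom (algebraMap k A) ≫ (Scheme.ΓSpecIso (CommRingCat.of A)).inv ≫ x.left.appTop).hom r =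
    ((Scheme.ΓSpecIso (CommRingCat.of k)).inv ≫ T.hom.appTop).hom r
  congr 2
  rw [← Category.assoc, h1, Category.assoc]
  exact congrArg (fun m => (Scheme.ΓSpecIso (CommRingCat.of k)).inv ≫ m)
    ((Scheme.Hom.comp_appTop _ _).symm.trans (congrArg Scheme.Hom.appTop (Over.w x)))

/-- the coordinates of a point of affine space -/
noncomputable def coords {n : ℕ} {T : Over (Spec (CommRingCat.of k))} (x : T ⟶ affSp k n) : Fin n → Γ(T.left, ⊤) :=
  fun i => val x (MvPolynomial.X i)

lemma coords_comp {n : ℕ} {T T' : Over (Spec (CommRingCat.of k))} (t : T' ⟶ T) (x : T ⟶ affSp k n) :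
    coords (t ≫ x) = t.left.appTop.hom ∘ coords x := rfl

lemma ext_coords {n : ℕ} {T : Over (Spec (CommRingCat.of k))} {x y : T ⟶ affSp k n}
    (h : coords x = coords y) : x = y := by
  apply Over.OverMorphism.ext
  apply ext_of_isAffine
  refine (cancel_epi (Scheme.ΓSpecIso (CommRingCat.of (MvPolynomial (Fin n) k))).inv).1 ?_
  apply CommRingCat.hom_ext
  change val x = val y
  refine MvPolynomial.ringHom_ext (fun r => ?_) fun i => congrFun h i
  rw [← MvPolynomial.algebraMap_eq, val_algebraMap, val_algebraMap]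

lemma exists_coords {n : ℕ} {T : Over (Spec (CommRingCat.of k))} (v : Fin n → Γ(T.left, ⊤)) :
    ∃ x : T ⟶ affSp k n, coords x = v := by
  let φ : CommRingCat.of (MvPolynomial (Fin n) k) ⟶ Γ(T.left, ⊤) :=
    CommRingCat.ofHom (MvPolynomial.aeval v).toRingHom
  have hφ : CommRingCat.ofHom (algebraMap k (MvPolynomial (Fin n) k)) ≫ φ =
      (Scheme.ΓSpecIso (CommRingCat.of k)).inv ≫ T.hom.appTop := by
    apply CommRingCat.hom_ext
    exact RingHom.ext fun r => (MvPolynomial.aeval v).commutes r
  refine ⟨Over.homMk (T.left.toSpecΓ ≫ Spec.map φ) ?_, ?_⟩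
  · change (T.left.toSpecΓ ≫ Spec.map φ) ≫ Spec.map (CommRingCat.ofHom (algebraMap k (MvPolynomial (Fin n) k))) = T.hom
    rw [Category.assoc, ← Spec.map_comp, hφ, Spec.map_comp, ← Scheme.toSpecΓ_naturality_assoc,
      toSpecΓ_SpecMap_ΓSpecIso_inv, Category.comp_id]
  · funext i
    change ((Scheme.ΓSpecIso (CommRingCat.of (MvPolynomial (Fin n) k))).inv ≫ (T.left.toSpecΓ ≫ Spec.map φ).appTop).hom
      (MvPolynomial.X i) = v i
    have : (Scheme.ΓSpecIso (CommRingCat.of (MvPolynomial (Fin n) k))).inv ≫ (T.left.toSpecΓ ≫ Spec.map φ).appTop = φ := by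
      rw [Scheme.Hom.comp_appTop, Scheme.toSpecΓ_appTop, ← Category.assoc, ← Scheme.ΓSpecIso_inv_naturality,
        Category.assoc, Iso.inv_hom_id, Category.comp_id]
    rw [this]
    exact MvPolynomial.aeval_X v i

lemma geometricallyIntegral_affSp (n : ℕ) : GeometricallyIntegral (affSp k n).hom := by
  refine ⟨fun K _ y Z a b h => ?_⟩
  obtain ⟨φ, rfl⟩ := Spec.map_surjective y
  let : Algebra k K := φ.hom.toAlgebra
  let e : MvPolynomial (Fin n) k ⊗[k] K ≃ₐ[k] MvPolynomial (Fin n) K :=
    (Algebra.TensorProduct.comm k _ _).trans ((MvPolynomial.algebraTensorAlgEquiv k K).restrictScalars k)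
  haveI : IsDomain (MvPolynomial (Fin n) k ⊗[k] K) := e.toMulEquiv.isDomain _
  haveI : IsIntegral (Spec (CommRingCat.of (MvPolynomial (Fin n) k ⊗[k] K))) := inferInstance
  haveI : Nonempty ↥(pullback (affSp k n).hom (Spec.map φ)) :=
    ⟨(pullbackSpecIso k (MvPolynomial (Fin n) k) K).inv (Classical.arbitrary _)⟩
  haveI : Nonempty ↥Z := ⟨h.isoPullback.inv (Classical.arbitrary _)⟩
  exact AlgebraicGeometry.isIntegral_of_isOpenImmersion
    (h.isoPullback.hom ≫ (pullbackSpecIso k (MvPolynomial (Fin n) k) K).hom)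

variable {G : Over (Spec (CommRingCat.of k))} [GrpObj G]

/-- the linear action given by a matrix of functions -/
theorem exists_action {n : ℕ} (c : Matrix (Fin n) (Fin n) Γ(G.left, ⊤))
    (hmul : ∀ (T : Over (Spec (CommRingCat.of k))) (g h : T ⟶ G),
      c.map (g * h).left.appTop.hom = c.map g.left.appTop.hom * c.map h.left.appTop.hom)
    (hone : ∀ (T : Over (Spec (CommRingCat.of k))), c.map (1 : T ⟶ G).left.appTop.hom = 1) :
    ∃ a : AlgGrp.Action G (affSp k n), ∀ (T : Over (Spec (CommRingCat.of k))) (g : T ⟶ G) (x : T ⟶ affSp k n),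
      coords (lift g x ≫ a.act) = (c.map g.left.appTop.hom).mulVec (coords x) := by
  obtain ⟨act, hact⟩ := exists_coords
    ((c.map (fst G (affSp k n)).left.appTop.hom).mulVec (coords (snd G (affSp k n))))
  have key : ∀ (T : Over (Spec (CommRingCat.of k))) (g : T ⟶ G) (x : T ⟶ affSp k n),
      coords (lift g x ≫ act) = (c.map g.left.appTop.hom).mulVec (coords x) := fun T g x => by
    rw [coords_comp, hact]
    funext i
    rw [Function.comp_apply, RingHom.map_mulVec, Matrix.map_map]
    congr 1
    · congr 1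
      ext j
      change ((fst G (affSp k n)).left.appTop ≫ (lift g x).left.appTop).hom _ = g.left.appTop.hom _
      rw [← Scheme.Hom.comp_appTop, ← Over.comp_left, lift_fst]
    · rw [← coords_comp, lift_snd]
  refine ⟨{ act := act, one_act := ?_, mul_act := ?_ }, key⟩
  · have : η[G] ▷ affSp k n = lift (1 : _ ⟶ G) (snd _ _) := by
      apply CartesianMonoidalCategory.hom_ext
      · rw [whiskerRight_fst, lift_fst, Hom.one_def, toUnit_unique (fst (𝟙_ _) (affSp k n)) (toUnit _)]
      · simp
    refine ext_coords ?_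
    rw [this, key, hone, Matrix.one_mulVec, leftUnitor_hom]
  · let g₁ := fst (G ⊗ G) (affSp k n) ≫ fst G G
    let g₂ := fst (G ⊗ G) (affSp k n) ≫ snd G G
    have e1 : μ[G] ▷ affSp k n = lift (g₁ * g₂) (snd _ _) := by
      apply CartesianMonoidalCategory.hom_ext
      · rw [whiskerRight_fst, lift_fst, ← MonObj.comp_mul, Hom.mul_def, lift_fst_snd, Category.id_comp]
      · simp
    have e2 : (α_ G G (affSp k n)).hom ≫ G ◁ act ≫ act = lift g₁ (lift g₂ (snd _ _) ≫ act) ≫ act := by
      rw [← Category.assoc]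
      congr 1
      apply CartesianMonoidalCategory.hom_ext
      · simp [g₁]
      · simp only [Category.assoc, whiskerLeft_snd, lift_snd]
        rw [← Category.assoc (α_ G G (affSp k n)).hom]
        congr 1
        apply CartesianMonoidalCategory.hom_ext <;> simp [g₂]
    refine ext_coords ?_
    rw [e1, e2, key, key, key, hmul, Matrix.mulVec_mulVec]

variable {A : Type u} [CommRing A] [HopfAlgebra k A]

open Groth.Agent.NormalQuot in
lemma val_mul_affine {T : Over (Spec (CommRingCat.of k))} [IsAffine T.left] (x y : T ⟶ specGrp k A) {m : ℕ}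
    (a : Matrix (Fin m) (Fin m) A)
    (hΔ : ∀ i j, Coalgebra.comul (R := k) (a i j) = ∑ l, a i l ⊗ₜ[k] a l j)
    (hε : ∀ i j, Coalgebra.counit (R := k) (a i j) = if i = j then 1 else 0) :
    a.map (val (x * y)) = a.map (val x) * a.map (val y) ∧ a.map (val (1 : T ⟶ specGrp k A)) = 1 := by
  let S : Over (Spec (CommRingCat.of k)) := (Spec Γ(T.left, ⊤)).asOver (Spec (CommRingCat.of k))
  let t : T ⟶ S := Over.homMk T.left.toSpecΓ (by
    change T.left.toSpecΓ ≫ Spec.map ((Scheme.ΓSpecIso (CommRingCat.of k)).inv ≫ T.hom.appTop) = T.hom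
    rw [Spec.map_comp, ← Scheme.toSpecΓ_naturality_assoc, toSpecΓ_SpecMap_ΓSpecIso_inv,
      Category.comp_id])
  haveI : IsIso t.left := inferInstanceAs (IsIso T.left.toSpecΓ)
  haveI : IsIso ((Over.forget _).map t) := inferInstanceAs (IsIso t.left)
  haveI : IsIso t := isIso_of_reflects_iso t (Over.forget _)
  have hv : ∀ (f : WithConv (A →ₐ[k] Γ(T.left, ⊤))) (b : A),
      val (t ≫ Spec.mapMulEquiv (R := k) f) b = f.ofConv b := by
    intro f b
    have : (Scheme.ΓSpecIso (CommRingCat.of A)).inv ≫ (t ≫ Spec.mapMulEquiv (R := k) f).left.appTop =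
        CommRingCat.ofHom f.ofConv.toRingHom := by
      rw [Over.comp_left, Scheme.Hom.comp_appTop]
      change _ ≫ (Spec.map (CommRingCat.ofHom f.ofConv.toRingHom)).appTop ≫ T.left.toSpecΓ.appTop = _
      rw [Scheme.toSpecΓ_appTop, ← Category.assoc, ← Scheme.ΓSpecIso_inv_naturality,
        Category.assoc]
      erw [Iso.inv_hom_id, Category.comp_id]
    exact RingHom.congr_fun (congrArg CommRingCat.Hom.hom this) b
  obtain ⟨f, hf⟩ := (Spec.mapMulEquiv (R := k) (S := A) (T := Γ(T.left, ⊤))).surjective (inv t ≫ x)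
  obtain ⟨g, hg⟩ := (Spec.mapMulEquiv (R := k) (S := A) (T := Γ(T.left, ⊤))).surjective (inv t ≫ y)
  rw [IsIso.eq_inv_comp] at hf hg
  refine ⟨?_, ?_⟩
  · rw [← hf, ← hg, ← MonObj.comp_mul, ← map_mul]
    ext i j
    simp only [Matrix.map_apply, Matrix.mul_apply, hv]
    rw [AlgHom.convMul_apply, hΔ, map_sum]
    exact Finset.sum_congr rfl fun l _ => by simp
  · rw [← MonObj.comp_one t, ← map_one (Spec.mapMulEquiv (R := k) (S := A) (T := Γ(T.left, ⊤)))]
    ext i j
    simp only [Matrix.map_apply, hv]
    rw [AlgHom.convOne_apply, hε, Matrix.one_apply]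
    split_ifs <;> simp

open Groth.Agent.NormalQuot in
/-- matrices of points multiply, for every test scheme -/
theorem val_mul {T : Over (Spec (CommRingCat.of k))} (x y : T ⟶ specGrp k A) {m : ℕ}
    (a : Matrix (Fin m) (Fin m) A)
    (hΔ : ∀ i j, Coalgebra.comul (R := k) (a i j) = ∑ l, a i l ⊗ₜ[k] a l j)
    (hε : ∀ i j, Coalgebra.counit (R := k) (a i j) = if i = j then 1 else 0) :
    a.map (val (x * y)) = a.map (val x) * a.map (val y) ∧ a.map (val (1 : T ⟶ specGrp k A)) = 1 := by
  haveI : IsAffine (specGrp k A ⊗ specGrp k A).left := AffEnv.isAffine_tensor _ _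
  haveI : IsAffine (𝟙_ (Over (Spec (CommRingCat.of k)))).left := inferInstanceAs (IsAffine (Spec _))
  refine ⟨?_, ?_⟩
  · have h := (val_mul_affine (fst (specGrp k A) (specGrp k A)) (snd _ _) a hΔ hε).1
    have h2 := congrArg (fun M => M.map (lift x y).left.appTop.hom) h
    simp only [Matrix.map_map, Matrix.map_mul, ← RingHom.coe_comp, ← val_comp, MonObj.comp_mul,
      lift_fst, lift_snd] at h2
    exact h2
  · have h := (val_mul_affine (T := 𝟙_ (Over (Spec (CommRingCat.of k)))) η[specGrp k A] η[specGrp k A] a hΔ hε).2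
    have h2 := congrArg (fun M => M.map (toUnit T).left.appTop.hom) h
    simp only [Matrix.map_map, Matrix.map_one _ (map_zero _) (map_one _)] at h2
    rw [← MonObj.comp_one (toUnit T)]
    simp only [val_comp, RingHom.coe_comp]
    exact h2

open Groth.Agent.Comod in
/-- every finite set of a Hopf algebra lies in the subalgebra generated by a comatrix -/
theorem exists_comatrix (s : Finset A) : ∃ (m : ℕ) (a : Matrix (Fin m) (Fin m) A),
    (∀ i j, Coalgebra.comul (R := k) (a i j) = ∑ l, a i l ⊗ₜ[k] a l j) ∧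
    (∀ i j, Coalgebra.counit (R := k) (a i j) = if i = j then 1 else 0) ∧
    (s : Set A) ⊆ Algebra.adjoin k (Set.range fun p : Fin m × Fin m => a p.1 p.2) := by
  obtain ⟨M, hfin, hsM, hM⟩ := exists_finite_subcomod (k := k) (A := A) (V := A) (s : Set A) s.finite_toSet
  letI := ComodSub.Comod.restr (HopfRep.Comod.regular k A) M hM
  let b := Module.finBasis k M
  let ρ := HopfRep.Comod.coact (k := k) (A := A) (V := M)
  let a : Matrix (Fin (Module.finrank k M)) (Fin (Module.finrank k M)) A := fun i j => slL (b.coord i) (ρ (b j))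
  have hexp : ∀ x : M ⊗[k] A, x = ∑ i, b i ⊗ₜ[k] slL (b.coord i) x := by
    intro x
    induction x with
    | zero => simp
    | tmul p q =>
      conv_lhs => rw [← b.sum_repr p, TensorProduct.sum_tmul]
      exact Finset.sum_congr rfl fun i _ => by simp [TensorProduct.smul_tmul]
    | add y z hy hz =>
      conv_lhs => rw [hy, hz, ← Finset.sum_add_distrib]
      simp [TensorProduct.tmul_add]
  have hΔ : ∀ i j, Coalgebra.comul (R := k) (a i j) = ∑ l, a i l ⊗ₜ[k] a l j := by
    intro i j
    have h := LinearMap.congr_fun (isComodHom_coeffMap (C := A) (V := M) (b.coord i)) (b j)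
    simp only [LinearMap.comp_apply] at h
    show Coalgebra.comul (R := k) (coeffMap (C := A) (b.coord i) (b j)) = _
    rw [show Coalgebra.comul (R := k) (coeffMap (C := A) (b.coord i) (b j)) = _ from h]
    conv_lhs => rw [hexp (HopfRep.Comod.coact (k := k) (A := A) (b j))]
    rw [map_sum]
    rfl
  have hε : ∀ i j, Coalgebra.counit (R := k) (a i j) = if i = j then 1 else 0 := by
    intro i j
    show Coalgebra.counit (R := k) (coeffMap (C := A) (b.coord i) (b j)) = _
    rw [counit_coeffMap]
    simp [Module.Basis.coord_apply, Finsupp.single_apply, eq_comm]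
  refine ⟨_, a, hΔ, hε, fun x hx => ?_⟩
  have hmem : ∀ m : M, (m : A) ∈ Algebra.adjoin k (Set.range fun p : Fin _ × Fin _ => a p.1 p.2) := by
    intro m
    rw [← b.sum_repr m, Submodule.coe_sum]
    refine Subalgebra.sum_mem _ fun j _ => ?_
    rw [Submodule.coe_smul]
    refine Subalgebra.smul_mem _ ?_ _
    have hbj : (b j : A) = ∑ i, Coalgebra.counit (R := k) (b i : A) • a i j := by
      have h0 := slL_counit_comul (k := k) (b j : A)
      have h1 := ComodSub.restr_coact_coe (HopfRep.Comod.regular k A) M hM (b j)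
      rw [show Coalgebra.comul (R := k) (b j : A) = M.subtype.rTensor A (ρ (b j)) from h1.symm,
        hexp (ρ (b j))] at h0
      simp only [map_sum, LinearMap.rTensor_tmul, slL_tmul, Submodule.subtype_apply] at h0
      exact h0.symm
    rw [hbj]
    exact Subalgebra.sum_mem _ fun i _ => Subalgebra.smul_mem _ (Algebra.subset_adjoin (Set.mem_range_self (i, j))) _
  exact hmem ⟨x, hsM hx⟩

end Groth.Agent.GrpSch.LinearAction
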