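import Groth.Agent.GrpSch.LinearAction
import Mathlib.LinearAlgebra.GeneralLinearGroup.Basic
import Mathlib.LinearAlgebra.Matrix.ToLin
import Groth.Prelude.Def_W4bk4grossh111Obs

/-! A `GMod` from a natural family of matrix representations of the points of a group scheme,
and comatrices with a coordinate system for a finite set of functions. -/

set_option autoImplicit false
set_option backward.isDefEq.respectTransparency.types false
universe u
open CategoryTheory MonoidalCategory CartesianMonoidalCategory MonObj GrpObj AlgebraicGeometry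
open scoped TensorProduct

namespace Groth.Agent.GrpSch.MatRep

variable {k : Type u} [Field k] {G : Over (Spec (CommRingCat.of k))} [GrpObj G]
  {nn : Type} [Fintype nn] [DecidableEq nn]

/-- a module over the point functor from matrices of points -/
theorem exists_gmod
    (R : ∀ (B : Type u) [CommRing B] [Algebra k B], (VecGrp.pt k B ⟶ G) →* Matrix nn nn B)
    (hR : ∀ {B B' : Type u} [CommRing B] [Algebra k B] [CommRing B'] [Algebra k B'] (φ : B →ₐ[k] B')
      (g : VecGrp.pt k B ⟶ G), R B' (VecGrp.ptMap φ ≫ g) = (R B g).map φ) :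
    ∃ ρ : VecGrp.GMod G (nn → k), ∀ (g : VecGrp.pt k k ⟶ G) (v : nn → k),
      ρ.ρ k g ((1 : k) ⊗ₜ[k] v) = (1 : k) ⊗ₜ[k] v ↔ (R k g).mulVec v = v := by
  let E : ∀ (B : Type u) [CommRing B] [Algebra k B], B ⊗[k] (nn → k) ≃ₗ[B] (nn → B) :=
    fun B _ _ => TensorProduct.piScalarRight k B B nn
  let Φ : ∀ (B : Type u) [CommRing B] [Algebra k B],
      (VecGrp.pt k B ⟶ G) →* Module.End B (B ⊗[k] (nn → k)) := fun B _ _ =>
    { toFun := fun g => (E B).symm.toLinearMap ∘ₗ Matrix.toLin' (R B g) ∘ₗ (E B).toLinearMap
      map_one' := by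
        refine LinearMap.ext fun z => ?_
        simp
      map_mul' := fun g h => by
        refine LinearMap.ext fun z => ?_
        simp [Matrix.toLin'_mul] }
  let ρ : VecGrp.GMod G (nn → k) :=
    { ρ := fun B _ _ => (LinearMap.GeneralLinearGroup.generalLinearEquiv B _).toMonoidHom.comp (Φ B).toHomUnits
      naturality := fun {B B'} _ _ _ _ φ g z => by
        have hE : ∀ w : B ⊗[k] (nn → k), E B' (VecGrp.Wmap φ w) = φ ∘ E B w := fun w => by
          induction w using TensorProduct.induction_on with
          | zero => ext i; simp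
          | tmul r v => ext i; simp [E]
          | add a b ha hb => ext i; simp [ha, hb]
        apply (E B').injective
        change E B' (VecGrp.Wmap φ ((E B).symm (Matrix.toLin' (R B g) (E B z)))) =
          E B' ((E B').symm (Matrix.toLin' (R B' (VecGrp.ptMap φ ≫ g)) (E B' (VecGrp.Wmap φ z))))
        rw [hE, LinearEquiv.apply_symm_apply, LinearEquiv.apply_symm_apply, hE, hR,
          Matrix.toLin'_apply, Matrix.toLin'_apply]
        funext i
        exact RingHom.map_mulVec φ.toRingHom (R B g) (E B z) i }
  refine ⟨ρ, fun g v => ?_⟩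
  change (E k).symm (Matrix.toLin' (R k g) (E k (1 ⊗ₜ[k] v))) = _ ↔ _
  rw [LinearEquiv.symm_apply_eq, Matrix.toLin'_apply,
    show E k (1 ⊗ₜ[k] v) = v from funext fun i => by simp [E]]

variable {A : Type u} [CommRing A] [HopfAlgebra k A]

open Groth.Agent.Comod in
/-- a comatrix together with independent functions transformed by it and spanning a finite set -/
theorem exists_comatrix_basis (s : Finset A) : ∃ (m : ℕ) (a : Matrix (Fin m) (Fin m) A) (b : Fin m → A),
    (∀ i j, Coalgebra.comul (R := k) (a i j) = ∑ l, a i l ⊗ₜ[k] a l j) ∧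
    (∀ i j, Coalgebra.counit (R := k) (a i j) = if i = j then 1 else 0) ∧
    LinearIndependent k b ∧
    (∀ j, b j = ∑ i, Coalgebra.counit (R := k) (b i) • a i j) ∧
    (s : Set A) ⊆ Submodule.span k (Set.range b) := by
  obtain ⟨M, hfin, hsM, hM⟩ := exists_finite_subcomod (k := k) (A := A) (V := A) (s : Set A) s.finite_toSet
  letI := ComodSub.Comod.restr (HopfRep.Comod.regular k A) M hM
  let b := Module.finBasis k M
  let ρ := HopfRep.Comod.coact (k := k) (A := A) (V := M)
  let a : Matrix (Fin (Module.finrank k M)) (Fin (Module.finrank k M)) A := fun i j => slL (b.coord i) (ρ (b j))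
  have hexp : ∀ x : M ⊗[k] A, x = ∑ i, b i ⊗ₜ[k] slL (b.coord i) x := by
    intro x
    induction x with
    | zero => simp
    | tmul p q =>
      conv_lhs => rw [← b.sum_repr p, TensorProduct.sum_tmul]
      exact Finset.sum_congr rfl fun i _ => by simp [TensorProduct.smul_tmul]
    | add y z hy hz =>
      conv_lhs => rw [hy, hz, ← Finset.sum_add_distrib]
      simp [TensorProduct.tmul_add]
  have hΔ : ∀ i j, Coalgebra.comul (R := k) (a i j) = ∑ l, a i l ⊗ₜ[k] a l j := by
    intro i j
    have h := LinearMap.congr_fun (isComodHom_coeffMap (C := A) (V := M) (b.coord i)) (b j)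
    simp only [LinearMap.comp_apply] at h
    show Coalgebra.comul (R := k) (coeffMap (C := A) (b.coord i) (b j)) = _
    rw [show Coalgebra.comul (R := k) (coeffMap (C := A) (b.coord i) (b j)) = _ from h]
    conv_lhs => rw [hexp (HopfRep.Comod.coact (k := k) (A := A) (b j))]
    rw [map_sum]
    rfl
  have hε : ∀ i j, Coalgebra.counit (R := k) (a i j) = if i = j then 1 else 0 := by
    intro i j
    show Coalgebra.counit (R := k) (coeffMap (C := A) (b.coord i) (b j)) = _
    rw [counit_coeffMap]
    simp [Module.Basis.coord_apply, Finsupp.single_apply, eq_comm]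
  refine ⟨_, a, fun j => (b j : A), hΔ, hε, ?_, fun j => ?_, fun x hx => ?_⟩
  · exact b.linearIndependent.map' M.subtype M.ker_subtype
  · have h0 := slL_counit_comul (k := k) (b j : A)
    have h1 := ComodSub.restr_coact_coe (HopfRep.Comod.regular k A) M hM (b j)
    rw [show Coalgebra.comul (R := k) (b j : A) = M.subtype.rTensor A (ρ (b j)) from h1.symm,
      hexp (ρ (b j))] at h0
    simp only [map_sum, LinearMap.rTensor_tmul, slL_tmul, Submodule.subtype_apply] at h0
    exact h0.symm
  · have : (⟨x, hsM hx⟩ : M) ∈ Submodule.span k (Set.range b) := b.span_eq ▸ Submodule.mem_top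
    have h2 := Submodule.mem_map_of_mem (f := M.subtype) this
    rw [Submodule.map_span, ← Set.range_comp] at h2
    exact h2

end Groth.Agent.GrpSch.MatRep
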