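import Groth.Agent.GrpSch.KernelSquare
import Groth.Agent.GrpSch.FieldTop
import Groth.Agent.FpqcDescent.Basic

/-!
# The middle map of a morphism of short exact sequences
-/

set_option autoImplicit false

universe u

open CategoryTheory MonoidalCategory CartesianMonoidalCategory MonObj GrpObj Limits AlgebraicGeometry

namespace Groth.Agent.GrpSch.MiddleImm

variable {S : Scheme.{u}} {A G H N' N Q B : Over S} [GrpObj G] [GrpObj Q]

theorem isPullback_gen (a₂ : N ⟶ G) (b₂ : G ⟶ Q) [IsMonHom b₂] (hk : AlgGrp.IsKernel a₂ b₂) (j : H ⟶ G) :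
    IsPullback (fst H N) ((fst H N ≫ j) * (snd H N ≫ a₂)) (j ≫ b₂) b₂ := by
  have hi : ∀ {T : Over S} (n : T ⟶ N), n ≫ a₂ ≫ b₂ = 1 := fun n => by
    rw [hk.w, ← Category.assoc, comp_toUnit, Hom.one_def]
  have hn : ∀ s : PullbackCone (j ≫ b₂) b₂, ((s.fst ≫ j)⁻¹ * s.snd) ≫ b₂ = toUnit _ ≫ η[Q] := fun s => by
    rw [MonObj.mul_comp, GrpObj.inv_comp, Category.assoc, s.condition, inv_mul_cancel, Hom.one_def]
  refine IsPullback.of_isLimit' ⟨?_⟩ (PullbackCone.IsLimit.mk _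
    (fun s => lift s.fst (hk.lift _ (toUnit _) (hn s))) (fun s => lift_fst _ _) (fun s => ?_)
    (fun s m h1 h2 => ?_))
  · rw [MonObj.mul_comp, Category.assoc, Category.assoc, hi, _root_.mul_one]
  · rw [MonObj.comp_mul, lift_fst_assoc, lift_snd_assoc, hk.lift_fst, mul_inv_cancel_left]
  · apply CartesianMonoidalCategory.hom_ext
    · rw [lift_fst]; exact h1
    · rw [lift_snd]
      refine hk.hom_ext ?_ (toUnit_unique _ _)
      rw [hk.lift_fst, ← h2, ← h1, MonObj.comp_mul]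
      simp only [Category.assoc]
      rw [inv_mul_cancel_left]

theorem isClosedImmersion [GrpObj H] [GrpObj A] (a₁ : N' ⟶ H) (b₁ : H ⟶ A) [IsMonHom b₁]
    (h₁ : AlgGrp.IsKernel a₁ b₁) [Flat b₁.left] [Surjective b₁.left] [QuasiCompact b₁.left]
    (a₂ : N ⟶ G) (b₂ : G ⟶ Q) [IsMonHom b₂] (h₂ : AlgGrp.IsKernel a₂ b₂)
    (j' : N' ⟶ N) (j : H ⟶ G) [IsMonHom j] (j'' : A ⟶ Q) (sq₁ : a₁ ≫ j = j' ≫ a₂) (sq₂ : b₁ ≫ j'' = j ≫ b₂)
    (hj' : IsClosedImmersion j'.left) (hj'' : IsClosedImmersion j''.left) :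
    IsClosedImmersion j.left := by
  have hP : IsPullback (pullback.fst b₂ j'') (pullback.snd b₂ j'') b₂ j'' := IsPullback.of_hasPullback _ _
  let jt : H ⟶ pullback b₂ j'' := hP.lift j b₁ sq₂.symm
  have hjt₁ : jt ≫ pullback.fst b₂ j'' = j := hP.lift_fst _ _ _
  have hjt₂ : jt ≫ pullback.snd b₂ j'' = b₁ := hP.lift_snd _ _ _
  let ψ : H ⊗ N ⟶ G := (fst H N ≫ j) * (snd H N ≫ a₂)
  have hgen := isPullback_gen a₂ b₂ h₂ j
  let π : H ⊗ N ⟶ pullback b₂ j'' := hP.lift ψ (fst H N ≫ b₁) (by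
    rw [Category.assoc, sq₂]; exact hgen.w.symm)
  have hπ₁ : π ≫ pullback.fst b₂ j'' = ψ := hP.lift_fst _ _ _
  have hπ₂ : π ≫ pullback.snd b₂ j'' = fst H N ≫ b₁ := hP.lift_snd _ _ _
  have hπpb : IsPullback π (fst H N) (pullback.snd b₂ j'') b₁ := by
    refine IsPullback.of_right (h₁₂ := pullback.fst b₂ j'') (h₂₂ := j'') ?_ hπ₂ hP
    rw [hπ₁, sq₂]
    exact hgen.flip
  have hk := KernelSquare.isPullback a₁ b₁ h₁
  have hsq : IsPullback (H ◁ j') (fst H N' * (snd H N' ≫ a₁)) π jt := by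
    have hw : (H ◁ j') ≫ π = (fst H N' * (snd H N' ≫ a₁)) ≫ jt := by
      refine hP.hom_ext ?_ ?_
      · rw [Category.assoc, hπ₁, Category.assoc, hjt₁, MonObj.comp_mul, whiskerLeft_fst_assoc,
          whiskerLeft_snd_assoc, MonObj.mul_comp, Category.assoc, sq₁]
      · rw [Category.assoc, hπ₂, Category.assoc, hjt₂, whiskerLeft_fst_assoc]
        exact hk.w
    refine IsPullback.of_right (h₁₂ := fst H N) (h₂₂ := pullback.snd b₂ j'') ?_ hw hπpb.flip
    rw [whiskerLeft_fst, hjt₂]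
    exact hk
  haveI : Flat π.left := MorphismProperty.of_isPullback (isPullback_left hπpb).flip ‹Flat b₁.left›
  haveI : Surjective π.left := MorphismProperty.of_isPullback (isPullback_left hπpb).flip ‹Surjective b₁.left›
  haveI : QuasiCompact π.left := MorphismProperty.of_isPullback (isPullback_left hπpb).flip ‹QuasiCompact b₁.left›
  haveI : IsClosedImmersion (H ◁ j').left :=
    MorphismProperty.of_isPullback (isPullback_left (isPullback_whiskerLeft H j')).flip hj'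
  haveI : IsClosedImmersion jt.left :=
    MorphismProperty.of_isPullback_of_descendsAlong (P := @IsClosedImmersion) (Q := @Surjective ⊓ @Flat ⊓ @QuasiCompact)
      (isPullback_left hsq) ⟨⟨‹_›, ‹_›⟩, ‹_›⟩ ‹_›
  haveI : IsClosedImmersion (pullback.fst b₂ j'').left :=
    MorphismProperty.of_isPullback (isPullback_left hP).flip hj''
  have : IsClosedImmersion (jt ≫ pullback.fst b₂ j'').left :=
    inferInstanceAs (IsClosedImmersion (jt.left ≫ (pullback.fst b₂ j'').left))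
  rwa [hjt₁] at this

end Groth.Agent.GrpSch.MiddleImm
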