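import Groth.Agent.GrpSch.FieldTop
import Groth.Agent.GrpSch.Action
import Groth.Agent.QHomeo.Basic
import Mathlib.AlgebraicGeometry.Morphisms.FinitePresentation

/-! Orbits of group actions over a field are locally closed. -/

set_option autoImplicit false
set_option backward.isDefEq.respectTransparency.types false

universe u

open CategoryTheory MonoidalCategory CartesianMonoidalCategory MonObj GrpObj Limits AlgebraicGeometry Topology

namespace Groth.Agent.GrpSch

lemma exists_open_part_of_finite {α : Type u} [TopologicalSpace α] {T : Set (Set α)} (hT : T.Finite)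
    (hlc : ∀ t ∈ T, IsLocallyClosed t) (hne : (⋃₀ T).Nonempty) :
    ∃ O, IsOpen O ∧ (O ∩ closure (⋃₀ T)).Nonempty ∧ O ∩ closure (⋃₀ T) ⊆ ⋃₀ T := by
  induction T, hT using Set.Finite.induction_on with
  | empty => simp at hne
  | @insert t T _ hfin ih =>
    rw [Set.sUnion_insert] at hne ⊢
    by_cases h : t ⊆ closure (⋃₀ T)
    · have hc : closure (t ∪ ⋃₀ T) = closure (⋃₀ T) := by
        rw [closure_union, Set.union_eq_right.2 (closure_minimal h isClosed_closure)]
      have hne' : (⋃₀ T).Nonempty := by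
        by_contra h'
        rw [Set.not_nonempty_iff_eq_empty] at h'
        obtain ⟨x, hx⟩ := hne
        rw [h', closure_empty] at h
        rw [h', Set.union_empty] at hx
        exact h hx
      obtain ⟨O, hO, hne, hsub⟩ := ih (fun s hs => hlc s (Set.mem_insert_of_mem _ hs)) hne'
      exact ⟨O, hO, hc.symm ▸ hne, hc.symm ▸ hsub.trans Set.subset_union_right⟩
    · obtain ⟨O, Z, hO, hZ, rfl⟩ := hlc t (Set.mem_insert _ _)
      obtain ⟨x, hxt, hx⟩ := Set.not_subset.1 h
      refine ⟨O \ closure (⋃₀ T), hO.sdiff isClosed_closure,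
        ⟨x, ⟨hxt.1, hx⟩, subset_closure (Or.inl hxt)⟩, ?_⟩
      rintro y ⟨⟨hyO, hy⟩, hy'⟩
      rw [closure_union] at hy'
      exact Or.inl ⟨hyO, closure_minimal Set.inter_subset_right hZ (hy'.resolve_right hy)⟩

lemma exists_open_part {α : Type u} [TopologicalSpace α] {R : Set α}
    (hR : IsLocallyConstructible R) (hne : R.Nonempty) :
    ∃ O, IsOpen O ∧ (O ∩ closure R).Nonempty ∧ O ∩ closure R ⊆ R := by
  obtain ⟨x, hx⟩ := hne
  obtain ⟨U, hU, hxU, T, hT, hlc, hUR⟩ := hR.lqc x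
  obtain ⟨O, hO, ⟨z, hzO, hz⟩, hsub⟩ :=
    exists_open_part_of_finite hT hlc (hUR ▸ ⟨x, hxU, hx⟩)
  have hz' : z ∈ U ∩ R := hUR.ge (hsub ⟨hzO, hz⟩)
  refine ⟨O ∩ U, hO.inter hU, ⟨z, ⟨hzO, hz'.1⟩, subset_closure hz'.2⟩, ?_⟩
  rintro y ⟨⟨hyO, hyU⟩, hy⟩
  exact (hUR.ge (hsub ⟨hyO, closure_mono hUR.le (hU.inter_closure ⟨hyU, hy⟩)⟩)).2

variable {K : Type u} [Field K] {H X : Over (Spec (CommRingCat.of K))}

/-- A constructible image which is "homogeneous" is locally closed. -/
theorem isLocallyClosed_range_of_transitive (φ : H ⟶ X)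
    (hR : IsLocallyConstructible (Set.range φ.left))
    (htr : ∀ (P : Over (Spec (CommRingCat.of K))) (a b : P ⟶ H),
      ∃ (θ : P ⊗ X ≅ P ⊗ X) (σ : P ⊗ H ≅ P ⊗ H),
        (P ◁ φ) ≫ θ.hom = σ.hom ≫ (P ◁ φ) ∧
        lift (𝟙 P) (b ≫ φ) ≫ θ.hom = lift (𝟙 P) (a ≫ φ)) :
    IsLocallyClosed (Set.range φ.left) := by
  set R := Set.range φ.left
  suffices key : ∀ y ∈ R, ∃ W, IsOpen W ∧ y ∈ W ∧ W ∩ closure R ⊆ R by
    choose W hWo hWy hWR using key
    refine ⟨⋃ y : R, W y.1 y.2, closure R, isOpen_iUnion fun y => hWo _ _, isClosed_closure, ?_⟩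
    refine Set.Subset.antisymm
      (fun y hy => ⟨Set.mem_iUnion.2 ⟨⟨y, hy⟩, hWy y hy⟩, subset_closure hy⟩) ?_
    rintro z ⟨hz, hzc⟩
    obtain ⟨y, hy⟩ := Set.mem_iUnion.1 hz
    exact hWR _ _ ⟨hy, hzc⟩
  rintro _ ⟨g, rfl⟩
  obtain ⟨O, hO, ⟨y', hy'O, hy'C⟩, hOR⟩ := exists_open_part hR ⟨_, g, rfl⟩
  obtain ⟨h, rfl⟩ := hOR ⟨hy'O, hy'C⟩
  obtain ⟨w, hw₁, hw₂⟩ := Scheme.Pullback.exists_preimage_pullback (f := H.hom) (g := H.hom) g h
    (Subsingleton.elim (α := PrimeSpectrum K) _ _)
  set P := ptOver (H ⊗ H) w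
  set pt := ptHom (H ⊗ H) w
  obtain ⟨p⟩ : Nonempty P.left := inferInstanceAs (Nonempty (PrimeSpectrum _))
  obtain ⟨θ, σ, hθσ, hθ⟩ := htr P (pt ≫ fst H H) (pt ≫ snd H H)
  have : IsIso θ.hom.left := inferInstanceAs (IsIso ((Over.forget _).map θ.hom))
  have : IsIso σ.hom.left := inferInstanceAs (IsIso ((Over.forget _).map σ.hom))
  set R' := (snd P X).left ⁻¹' R
  have hR' : θ.hom.left '' R' = R' := by
    simp only [R', R, ← range_whiskerLeft]
    have h1 : Set.range ((P ◁ φ) ≫ θ.hom).left = Set.range (σ.hom ≫ (P ◁ φ)).left := by rw [hθσ]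
    simp only [Over.comp_left, Scheme.Hom.comp_base, TopCat.coe_comp, Set.range_comp,
      σ.hom.left.surjective.range_eq, Set.image_univ] at h1
    exact h1
  refine ⟨(snd P X).left '' (θ.hom.left '' ((snd P X).left ⁻¹' O)),
    isOpenMap_snd P X _ (θ.hom.left.homeomorph.isOpenMap _ (hO.preimage (snd P X).left.continuous)),
    ⟨_, ⟨(lift (𝟙 P) ((pt ≫ snd H H) ≫ φ)).left p, ?_, rfl⟩, ?_⟩, ?_⟩
  · rw [Set.mem_preimage, ← comp_left_apply, lift_snd, comp_left_apply, comp_left_apply,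
      show pt.left p = w from ptHom_apply _ _ _]
    change φ.left (pullback.snd H.hom H.hom w) ∈ O
    rw [hw₂]; exact hy'O
  · rw [← comp_left_apply, ← comp_left_apply, ← Category.assoc, hθ, lift_snd, comp_left_apply, comp_left_apply,
      show pt.left p = w from ptHom_apply _ _ _]
    exact congrArg φ.left hw₁
  · rintro c ⟨⟨_, ⟨v, hv, rfl⟩, rfl⟩, hc⟩
    have h1 : θ.hom.left v ∈ closure R' := by
      simp only [R', R, ← preimage_closure_range]; exact hc
    have h2 : θ.hom.left.homeomorph '' closure R' = closure R' := by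
      rw [θ.hom.left.homeomorph.image_closure]
      exact congrArg closure hR'
    obtain ⟨v', hv', hv''⟩ := h2.ge h1
    obtain rfl : v' = v := θ.hom.left.homeomorph.injective hv''
    have h3 : (snd P X).left v' ∈ closure R :=
      map_mem_closure (snd P X).left.continuous hv' fun z hz => hz
    have h4 : θ.hom.left v' ∈ R' := hR'.le ⟨v', hOR ⟨hv, h3⟩, rfl⟩
    exact h4

variable [GrpObj H]

/-- Orbits are locally closed. -/
theorem isLocallyClosed_range_orbit (a : AlgGrp.Action H X) (φ : H ⟶ X)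
    (hφ : ∀ (T : Over (Spec (CommRingCat.of K))) (g h : T ⟶ H),
      (g * h) ≫ φ = lift g (h ≫ φ) ≫ a.act)
    (hR : IsLocallyConstructible (Set.range φ.left)) :
    IsLocallyClosed (Set.range φ.left) := by
  refine isLocallyClosed_range_of_transitive φ hR fun P x y => ?_
  let c : P ⟶ H := x * y⁻¹
  let θ : P ⊗ X ≅ P ⊗ X :=
    { hom := lift (fst P X) (lift (fst P X ≫ c) (snd P X) ≫ a.act)
      inv := lift (fst P X) (lift (fst P X ≫ c⁻¹) (snd P X) ≫ a.act)
      hom_inv_id := by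
        apply CartesianMonoidalCategory.hom_ext
        · simp
        · simp only [Category.assoc, lift_snd, comp_lift_assoc, lift_fst_assoc, Category.id_comp]
          rw [← act_mul, ← MonObj.comp_mul, inv_mul_cancel, MonObj.comp_one, act_one]
      inv_hom_id := by
        apply CartesianMonoidalCategory.hom_ext
        · simp
        · simp only [Category.assoc, lift_snd, comp_lift_assoc, lift_fst_assoc, Category.id_comp]
          rw [← act_mul, ← MonObj.comp_mul, mul_inv_cancel, MonObj.comp_one, act_one] }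
  refine ⟨θ, shearLeft c, ?_, ?_⟩
  · apply CartesianMonoidalCategory.hom_ext
    · simp [θ, shearLeft]
    · simp only [θ, Category.assoc, lift_snd, comp_lift_assoc, whiskerLeft_fst_assoc,
        whiskerLeft_snd, shearLeft, lift_snd_assoc]
      rw [hφ]
  · apply CartesianMonoidalCategory.hom_ext
    · simp [θ]
    · simp only [θ, Category.assoc, lift_snd, comp_lift_assoc, lift_fst_assoc, Category.id_comp]
      rw [← hφ, inv_mul_cancel_right]

end Groth.Agent.GrpSch
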