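import Groth.Agent.GrpSch.Action
import Groth.Agent.GrpSch.CompGroup
import Groth.Agent.GrpSch.Orbit
import Mathlib.AlgebraicGeometry.Geometrically.Integral

/-! Open orbits of actions of group schemes over a field. -/

set_option autoImplicit false
set_option backward.isDefEq.respectTransparency.types false

universe u

open CategoryTheory MonoidalCategory CartesianMonoidalCategory MonObj GrpObj AlgebraicGeometry

namespace Groth.Agent.GrpSch.OpenOrbit

/-- Two points with the same image come from one test point. -/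
lemma exists_common {S : Scheme.{u}} {A B C : Over S} (f : A ⟶ C) (g : B ⟶ C) (p : A.left) (q : B.left)
    (h : f.left p = g.left q) :
    ∃ (T : Over S) (t : T.left) (P : T ⟶ A) (Q : T ⟶ B), P.left t = p ∧ Q.left t = q ∧ P ≫ f = Q ≫ g := by
  obtain ⟨r, hr₁, hr₂⟩ := Scheme.Pullback.exists_preimage_pullback (f := f.left) (g := g.left) p q h
  let P : Over.mk (Limits.pullback.fst f.left g.left ≫ A.hom) ⟶ A :=
    Over.homMk (Limits.pullback.fst f.left g.left) rfl
  let Q : Over.mk (Limits.pullback.fst f.left g.left ≫ A.hom) ⟶ B :=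
    Over.homMk (Limits.pullback.snd f.left g.left) (by
      change Limits.pullback.snd f.left g.left ≫ B.hom = Limits.pullback.fst f.left g.left ≫ A.hom
      rw [← Over.w g, ← Category.assoc, ← Limits.pullback.condition, Category.assoc, Over.w f])
  exact ⟨_, r, P, Q, hr₁, hr₂, Over.OverMorphism.ext Limits.pullback.condition⟩

variable {k : Type u} [Field k] (K : Type u) [Field K] [Algebra k K]

/-- The test object of `K`-points. -/
noncomputable abbrev geomPt : Over (Spec (CommRingCat.of k)) :=
  Over.mk (Spec.map (CommRingCat.ofHom (algebraMap k K)))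

/-- The image point of a `K`-point. -/
noncomputable abbrev imPt {A : Over (Spec (CommRingCat.of k))} (y : geomPt (k := k) K ⟶ A) : A.left :=
  (y.left : Spec (CommRingCat.of K) ⟶ A.left) (IsLocalRing.closedPoint K)

variable [IsAlgClosed K]

/-- Geometric points lift to any fibre that is not empty. -/
theorem exists_lift_imPt {A B : Over (Spec (CommRingCat.of k))} [LocallyOfFiniteType A.hom] (f : A ⟶ B)
    (y : geomPt (k := k) K ⟶ B) (hy : imPt K y ∈ Set.range f.left) :
    ∃ x : geomPt (k := k) K ⟶ A, x ≫ f = y := by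
  haveI : LocallyOfFiniteType f.left := by
    haveI : LocallyOfFiniteType (f.left ≫ B.hom) := by rw [Over.w f]; infer_instance
    exact locallyOfFiniteType_of_comp f.left B.hom
  let g : Spec (CommRingCat.of K) ⟶ B.left := y.left
  haveI : LocallyOfFiniteType (Limits.pullback.snd f.left g) := MorphismProperty.pullback_snd _ _ ‹_›
  haveI : JacobsonSpace (Limits.pullback f.left g :) :=
    LocallyOfFiniteType.jacobsonSpace (Limits.pullback.snd f.left g)
  obtain ⟨a, ha⟩ := hy
  obtain ⟨w, -⟩ := Scheme.Pullback.exists_preimage_pullback (f := f.left) (g := g) a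
    (IsLocalRing.closedPoint K) ha
  obtain ⟨q, -, hq⟩ := nonempty_inter_closedPoints (X := (Limits.pullback f.left g :)) (Z := Set.univ)
    ⟨w, trivial⟩ isOpen_univ.isLocallyClosed
  let p := pointOfClosedPoint (Limits.pullback.snd f.left g) q hq
  have hp : (p ≫ Limits.pullback.fst f.left g) ≫ f.left = g := by
    rw [Category.assoc, Limits.pullback.condition, ← Category.assoc, pointOfClosedPoint_comp]
    exact Category.id_comp _
  refine ⟨Over.homMk (p ≫ Limits.pullback.fst f.left g) ?_, Over.OverMorphism.ext hp⟩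
  rw [← Over.w f, ← Category.assoc, hp]
  exact Over.w y

/-- Two nonempty open conditions on geometric points of a geometrically irreducible scheme have a
common solution. -/
theorem exists_inter {X : Over (Spec (CommRingCat.of k))} [LocallyOfFiniteType X.hom]
    [GeometricallyIrreducible X.hom] {A B : Over (Spec (CommRingCat.of k))}
    (u₁ : geomPt (k := k) K ⟶ A) (u₂ : geomPt (k := k) K ⟶ B)
    (W₁ : Set (A ⊗ X).left) (W₂ : Set (B ⊗ X).left) (h₁ : IsOpen W₁) (h₂ : IsOpen W₂)
    (v₁ v₂ : geomPt (k := k) K ⟶ X) (hv₁ : imPt K (lift u₁ v₁) ∈ W₁) (hv₂ : imPt K (lift u₂ v₂) ∈ W₂) :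
    ∃ w : geomPt (k := k) K ⟶ X, imPt K (lift u₁ w) ∈ W₁ ∧ imPt K (lift u₂ w) ∈ W₂ := by
  let τ : Spec (CommRingCat.of K) ⟶ Spec (CommRingCat.of k) :=
    Spec.map (CommRingCat.ofHom (algebraMap k K))
  let P := geomPt (k := k) K ⊗ X
  let π : P.left ⟶ Spec (CommRingCat.of K) := (fst (geomPt (k := k) K) X).left
  have : GeometricallyIrreducible π :=
    MorphismProperty.pullback_fst (P := @GeometricallyIrreducible) _ _ ‹_›
  have : IrreducibleSpace P.left := GeometricallyIrreducible.irreducibleSpace_of_subsingleton π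
  have : LocallyOfFiniteType π := MorphismProperty.pullback_fst (P := @LocallyOfFiniteType) _ _ ‹_›
  have : JacobsonSpace P.left := LocallyOfFiniteType.jacobsonSpace π
  let O₁ := (u₁ ▷ X).left ⁻¹' W₁
  let O₂ := (u₂ ▷ X).left ⁻¹' W₂
  have key : ∀ {C : Over (Spec (CommRingCat.of k))} (u : geomPt (k := k) K ⟶ C) (v : geomPt (k := k) K ⟶ X),
      (u ▷ X).left (imPt K (lift (𝟙 _) v)) = imPt K (lift u v) := by
    intro C u v
    change (u ▷ X).left ((lift (𝟙 _) v).left (IsLocalRing.closedPoint K)) = _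
    rw [← Scheme.Hom.comp_apply, ← Over.comp_left, lift_whiskerRight, Category.id_comp]
  obtain ⟨z, hz⟩ := nonempty_preirreducible_inter (h₁.preimage (u₁ ▷ X).left.continuous)
    (h₂.preimage (u₂ ▷ X).left.continuous)
    ⟨imPt K (lift (𝟙 _) v₁), by rw [Set.mem_preimage, key]; exact hv₁⟩
    ⟨imPt K (lift (𝟙 _) v₂), by rw [Set.mem_preimage, key]; exact hv₂⟩
  obtain ⟨q, hqO, hq⟩ := nonempty_inter_closedPoints (X := P.left) (Z := O₁ ∩ O₂) ⟨z, hz⟩
    ((h₁.preimage (u₁ ▷ X).left.continuous).inter
      (h₂.preimage (u₂ ▷ X).left.continuous)).isLocallyClosed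
  let p := pointOfClosedPoint π q hq
  let p' : geomPt (k := k) K ⟶ P := Over.homMk p (by
    rw [← Over.w (fst (geomPt (k := k) K) X), ← Category.assoc, pointOfClosedPoint_comp]
    exact Category.id_comp _)
  have hp' : p' ≫ fst _ _ = 𝟙 _ := Over.OverMorphism.ext (pointOfClosedPoint_comp π q hq)
  refine ⟨p' ≫ snd _ _, ?_, ?_⟩
  · rw [← key]
    change (u₁ ▷ X).left ((lift (𝟙 _) (p' ≫ snd _ _)).left _) ∈ W₁
    rw [← hp', lift_comp_fst_snd]
    change (u₁ ▷ X).left (p (IsLocalRing.closedPoint K)) ∈ W₁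
    rw [pointOfClosedPoint_apply]
    exact hqO.1
  · rw [← key]
    change (u₂ ▷ X).left ((lift (𝟙 _) (p' ≫ snd _ _)).left _) ∈ W₂
    rw [← hp', lift_comp_fst_snd]
    change (u₂ ▷ X).left (p (IsLocalRing.closedPoint K)) ∈ W₂
    rw [pointOfClosedPoint_apply]
    exact hqO.2

variable {G X : Over (Spec (CommRingCat.of k))} [GrpObj G] (a : AlgGrp.Action G X)

omit [IsAlgClosed K] in
/-- A point of the image of the translates of a set. -/
lemma act_stable (s : Set X.left) (r : (G ⊗ X).left)
    (hr : (snd G X).left r ∈ a.act.left '' ((snd G X).left ⁻¹' s)) :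
    a.act.left r ∈ a.act.left '' ((snd G X).left ⁻¹' s) := by
  obtain ⟨z, hz, hzr⟩ := hr
  obtain ⟨T, t, P, Q, hP, hQ, hPQ⟩ := exists_common (snd G X) a.act r z hzr.symm
  refine ⟨(lift ((P ≫ fst G X) * (Q ≫ fst G X)) (Q ≫ snd G X)).left t, ?_, ?_⟩
  · change (snd G X).left _ ∈ s
    rw [← Scheme.Hom.comp_apply, ← Over.comp_left, lift_snd, Over.comp_left, Scheme.Hom.comp_apply, hQ]
    exact hz
  · rw [← hP, ← Scheme.Hom.comp_apply, ← Over.comp_left, ← Scheme.Hom.comp_apply, ← Over.comp_left,
      act_mul]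
    congr 2
    rw [← comp_lift_assoc Q, lift_fst_snd, Category.id_comp, ← hPQ, ← comp_lift_assoc P, lift_fst_snd,
      Category.id_comp]

end Groth.Agent.GrpSch.OpenOrbit
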