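import Groth.Agent.GrpSch.OrbitRat
import Groth.Agent.DimTheory.LocClosed
import Groth.Agent.FpqcDescent.Specialization

/-!
# Orbits of minimal dimension are closed
-/

set_option autoImplicit false
set_option backward.isDefEq.respectTransparency.types false

universe u

open CategoryTheory MonoidalCategory CartesianMonoidalCategory MonObj GrpObj Limits AlgebraicGeometry Topology

namespace Groth.Agent.GrpSch.OrbitMin

variable {K : Type u} [Field K] {G X : Over (Spec (CommRingCat.of K))} [GrpObj G]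

theorem exists_orbit_in_boundary [IsAlgClosed K] [LocallyOfFiniteType G.hom] [QuasiCompact G.hom]
    [LocallyOfFiniteType X.hom] [QuasiCompact X.hom] (a : AlgGrp.Action G X)
    (x : 𝟙_ (Over (Spec (CommRingCat.of K))) ⟶ X) (hcl : ¬ IsClosed (Set.range (a.orbitMap x).left)) :
    ∃ y : 𝟙_ (Over (Spec (CommRingCat.of K))) ⟶ X, Set.range (a.orbitMap y).left ⊆
      closure (Set.range (a.orbitMap x).left) \ Set.range (a.orbitMap x).left := by
  have : JacobsonSpace X.left := LocallyOfFiniteType.jacobsonSpace X.hom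
  have : JacobsonSpace G.left := LocallyOfFiniteType.jacobsonSpace G.hom
  let orb := fun x : 𝟙_ (Over (Spec (CommRingCat.of K))) ⟶ X => Set.range (a.orbitMap x).left
  have hne : (closure (orb x) \ orb x).Nonempty :=
    Set.sdiff_nonempty.2 fun h => hcl (closure_subset_iff_isClosed.1 h)
  have hlc : IsLocallyClosed (closure (orb x) \ orb x) := by
    obtain ⟨O, Z, hO, hZ, h⟩ := isLocallyClosed_orbit a x
    refine ⟨Set.univ, closure (orb x) \ O, isOpen_univ, isClosed_closure.sdiff hO, ?_⟩
    rw [Set.univ_inter]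
    ext z
    constructor
    · rintro ⟨hz, hz'⟩
      exact ⟨hz, fun hzO => hz' (h.ge ⟨hzO, closure_minimal (h.le.trans Set.inter_subset_right) hZ hz⟩)⟩
    · rintro ⟨hz, hz'⟩
      exact ⟨hz, fun hzR => hz' (h.le hzR).1⟩
  obtain ⟨y₀, hy₀, hy₀c⟩ := nonempty_inter_closedPoints (X := X.left) hne hlc
  obtain ⟨y, rfl⟩ := exists_ratPoint X hy₀c
  -- translations by rational points preserve the closure of the orbit
  have hinv : ∀ g : 𝟙_ _ ⟶ G, ∀ z ∈ closure (orb x),
      (lift (toUnit X ≫ g) (𝟙 X) ≫ a.act).left z ∈ closure (orb x) := by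
    intro g z hz
    refine map_mem_closure (lift (toUnit X ≫ g) (𝟙 X) ≫ a.act).left.continuous hz ?_
    rintro _ ⟨h, rfl⟩
    refine ⟨((toUnit G ≫ g) * 𝟙 G).left h, ?_⟩
    rw [← comp_left_apply, ← comp_left_apply, mul_orbitMap, Category.id_comp, comp_lift_assoc,
      comp_toUnit_assoc, Category.comp_id]
  have hsub : orb y ⊆ closure (orb x) := by
    rintro _ ⟨g, rfl⟩
    by_contra hg
    obtain ⟨g', hg', hg'c⟩ := nonempty_inter_closedPoints (X := G.left)
      (Z := (a.orbitMap y).left ⁻¹' (closure (orb x))ᶜ) ⟨g, hg⟩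
      (isClosed_closure.isOpen_compl.preimage (a.orbitMap y).left.continuous).isLocallyClosed
    obtain ⟨g'', rfl⟩ := exists_ratPoint G hg'c
    apply hg'
    have h := hinv g'' _ hy₀.1
    rw [← comp_left_apply, comp_lift_assoc, comp_toUnit_assoc, Category.comp_id] at h
    change (a.orbitMap y).left (g''.left (IsLocalRing.closedPoint K)) ∈ closure (orb x)
    rw [← comp_left_apply, comp_orbitMap]
    rwa [toUnit_unique (toUnit (𝟙_ _)) (𝟙 _), Category.id_comp] at h ⊢
  have hdisj : Disjoint (orb y) (orb x) := by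
    rw [Set.disjoint_left]
    intro z hzy hzx
    obtain ⟨g₀, rfl⟩ := hzy
    obtain ⟨g', hg', hg'c⟩ := nonempty_inter_closedPoints (X := G.left)
      (Z := (a.orbitMap y).left ⁻¹' orb x) ⟨g₀, hzx⟩
      ((isLocallyClosed_orbit a x).preimage (a.orbitMap y).left.continuous)
    obtain ⟨g, rfl⟩ := exists_ratPoint G hg'c
    set gy := g ≫ a.orbitMap y
    have hgyc : IsClosed ({gy.left (IsLocalRing.closedPoint K)} : Set X.left) :=
      (pointEquivClosedPoint X.hom ⟨gy.left, Over.w gy⟩).2
    obtain ⟨h', hh', hh'c⟩ := nonempty_inter_closedPoints (X := G.left)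
      (Z := (a.orbitMap x).left ⁻¹' {gy.left (IsLocalRing.closedPoint K)})
      (by obtain ⟨h, hh⟩ := (show gy.left (IsLocalRing.closedPoint K) ∈ orb x from hg'); exact ⟨h, hh⟩)
      (hgyc.preimage (a.orbitMap x).left.continuous).isLocallyClosed
    obtain ⟨h, rfl⟩ := exists_ratPoint G hh'c
    have heq : g ≫ a.orbitMap y = h ≫ a.orbitMap x :=
      Over.OverMorphism.ext (ext_of_apply_closedPoint_eq X.hom (Over.w gy)
        (Over.w (h ≫ a.orbitMap x)) (by rw [comp_left_apply]; exact hh'.symm))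
    apply hy₀.2
    refine ⟨(g⁻¹ * h).left (IsLocalRing.closedPoint K), ?_⟩
    rw [← comp_left_apply, mul_orbitMap, ← heq, ← mul_orbitMap, inv_mul_cancel, comp_orbitMap,
      act_one, toUnit_unique (toUnit (𝟙_ _)) (𝟙 _), Category.id_comp]
  exact ⟨y, fun z hz => ⟨hsub hz, fun h => Set.disjoint_left.1 hdisj hz h⟩⟩

theorem isClosed_of_minimal [IsAlgClosed K] [LocallyOfFiniteType G.hom] [QuasiCompact G.hom]
    [LocallyOfFiniteType X.hom] [QuasiCompact X.hom] (a : AlgGrp.Action G X)
    (x : 𝟙_ (Over (Spec (CommRingCat.of K))) ⟶ X)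
    (hmin : ∀ y : 𝟙_ (Over (Spec (CommRingCat.of K))) ⟶ X,
      topologicalKrullDim (Set.range (a.orbitMap x).left) ≤ topologicalKrullDim (Set.range (a.orbitMap y).left)) :
    IsClosed (Set.range (a.orbitMap x).left) := by
  by_contra hcl
  obtain ⟨y, hy⟩ := exists_orbit_in_boundary a x hcl
  obtain ⟨N, hN⟩ := DimTheory.exists_height_le X.hom
  have hle := hmin y
  rw [DimTheory.topologicalKrullDim_locallyClosed X.hom (isLocallyClosed_orbit a x),
    DimTheory.topologicalKrullDim_locallyClosed X.hom (isLocallyClosed_orbit a y)] at hle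
  haveI : QuasiCompact (a.orbitMap x).left := quasiCompact_left _
  have step : ∀ z ∈ Set.range (a.orbitMap y).left,
      ∃ m ∈ Set.range (a.orbitMap x).left, Order.height z + 1 ≤ Order.height m := by
    intro z hz
    obtain ⟨g, hg⟩ := FpqcDescent.exists_specializes_of_mem_closure_range (a.orbitMap x).left (hy hz).1
    refine ⟨_, ⟨g, rfl⟩, Order.height_add_one_le (lt_of_le_not_ge hg fun h => (hy hz).2 ⟨g, ?_⟩)⟩
    exact (hg.antisymm h).eq
  have key : ∀ n : ℕ, ∃ m ∈ Set.range (a.orbitMap x).left, (n : ℕ∞) ≤ Order.height m := by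
    intro n
    induction n with
    | zero => exact ⟨_, ⟨η[G].left (IsLocalRing.closedPoint K), rfl⟩, zero_le⟩
    | succ n ih =>
      obtain ⟨m, hm, hnm⟩ := ih
      by_cases hn0 : n = 0
      · obtain ⟨m', hm', h'⟩ := step _ ⟨η[G].left (IsLocalRing.closedPoint K), rfl⟩
        exact ⟨m', hm', le_trans (by subst hn0; simp) h'⟩
      · have h1 : ((n - 1 : ℕ) : WithBot ℕ∞) < ⨆ z : Set.range (a.orbitMap y).left, (Order.height z.1 : WithBot ℕ∞) := by
          refine lt_of_lt_of_le ?_ ((le_iSup (fun z : Set.range (a.orbitMap x).left =>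
            (Order.height z.1 : WithBot ℕ∞)) ⟨m, hm⟩).trans hle)
          refine lt_of_lt_of_le ?_ (WithBot.coe_le_coe.2 hnm)
          exact WithBot.coe_lt_coe.2 (Nat.cast_lt.2 (show n - 1 < n by omega))
        obtain ⟨⟨z, hz⟩, hlt⟩ := lt_iSup_iff.1 h1
        obtain ⟨m', hm', h'⟩ := step z hz
        refine ⟨m', hm', le_trans ?_ h'⟩
        have h2 : ((n - 1 : ℕ) : ℕ∞) < Order.height z := WithBot.coe_lt_coe.1 hlt
        have h3 := Order.add_one_le_of_lt h2
        push_cast
        refine add_le_add (le_trans (le_of_eq ?_) h3) le_rfl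
        exact_mod_cast (show n = n - 1 + 1 by omega)
  obtain ⟨m, -, hm⟩ := key (N + 1)
  have := hm.trans (hN m)
  norm_cast at this
  omega

end Groth.Agent.GrpSch.OrbitMin
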