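import Mathlib
import Groth.Agent.GrpSch.Saturation

/-!
# Profinite sets of rational points in group schemes lie in affine opens
-/

set_option autoImplicit false
set_option backward.isDefEq.respectTransparency.types false

universe u

open CategoryTheory MonoidalCategory CartesianMonoidalCategory MonObj GrpObj Limits AlgebraicGeometry

namespace Groth.Agent.GrpSch.ProfinitePts

open Saturation

variable {k : Type u} [Field k]

lemma exists_prod_eq_zero {A : Type u} [CommRing A] [Algebra k A]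
    (hA : ∀ s : Finset A, ∃ (B : Subalgebra k A) (n : ℕ), (↑s : Set A) ⊆ (B : Set A) ∧ Nonempty (B ≃ₐ[k] (Fin n → k)))
    (a : A) : ∃ (n : ℕ) (c : Fin n → k), ∏ i, (a - algebraMap k A (c i)) = 0 := by
  classical
  obtain ⟨B, n, hB, ⟨e⟩⟩ := hA {a}
  let b : B := ⟨a, hB (by simp)⟩
  refine ⟨n, e b, ?_⟩
  have h : ∏ i, (b - algebraMap k B (e b i)) = 0 := by
    apply e.injective
    rw [map_prod, map_zero]
    funext j
    rw [Finset.prod_apply]
    exact Finset.prod_eq_zero (Finset.mem_univ j) (by simp)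
  simpa [b, map_prod] using congrArg (B.val) h

lemma isIntegral {A : Type u} [CommRing A] [Algebra k A]
    (hA : ∀ s : Finset A, ∃ (B : Subalgebra k A) (n : ℕ), (↑s : Set A) ⊆ (B : Set A) ∧ Nonempty (B ≃ₐ[k] (Fin n → k))) :
    (algebraMap k A).IsIntegral := by
  intro a
  obtain ⟨n, c, hc⟩ := exists_prod_eq_zero hA a
  refine ⟨∏ i, (Polynomial.X - Polynomial.C (c i)),
    Polynomial.monic_prod_of_monic _ _ fun i _ => Polynomial.monic_X_sub_C _, ?_⟩
  simpa [Polynomial.eval₂_finsetProd] using hc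

lemma exists_algHom {A : Type u} [CommRing A] [Algebra k A]
    (hA : ∀ s : Finset A, ∃ (B : Subalgebra k A) (n : ℕ), (↑s : Set A) ⊆ (B : Set A) ∧ Nonempty (B ≃ₐ[k] (Fin n → k)))
    (t : PrimeSpectrum A) : ∃ ψ : A →+* k, ψ.comp (algebraMap k A) = RingHom.id k ∧
      RingHom.ker ψ = t.asIdeal := by
  have hbij : Function.Bijective (algebraMap k (A ⧸ t.asIdeal)) := by
    refine ⟨(algebraMap k (A ⧸ t.asIdeal)).injective, fun y => ?_⟩
    obtain ⟨a, rfl⟩ := Ideal.Quotient.mk_surjective y
    obtain ⟨n, c, hc⟩ := exists_prod_eq_zero hA a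
    obtain ⟨i, -, hi⟩ := t.2.prod_mem_iff.1 (hc ▸ t.asIdeal.zero_mem)
    exact ⟨c i, ((Ideal.Quotient.mk_eq_mk_iff_sub_mem a _).2 hi).symm⟩
  let e := RingEquiv.ofBijective _ hbij
  refine ⟨(e.symm : (A ⧸ t.asIdeal) →+* k).comp (Ideal.Quotient.mk t.asIdeal), ?_, ?_⟩
  · ext c
    exact e.symm_apply_apply c
  · rw [RingHom.ker_comp_of_injective _ e.symm.injective, Ideal.mk_ker]

/-- right translation by a point, with inverse -/
noncomputable def rightTranslate {G : Over (Spec (CommRingCat.of k))} [GrpObj G]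
    (y : 𝟙_ (Over (Spec (CommRingCat.of k))) ⟶ G) : G ≅ G where
  hom := 𝟙 G * (toUnit G ≫ y)
  inv := 𝟙 G * (toUnit G ≫ y)⁻¹
  hom_inv_id := by
    simp only [MonObj.comp_mul, GrpObj.comp_inv, comp_toUnit_assoc, Category.comp_id]
    rw [_root_.mul_inv_cancel_right]
  inv_hom_id := by
    simp only [MonObj.comp_mul, comp_toUnit_assoc, Category.comp_id]
    rw [inv_mul_cancel_right]

/-- the translate of the generic point of the identity component by `y` is the generic point of
the component of `y` -/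
lemma rightTranslate_gen_mem {G : Over (Spec (CommRingCat.of k))} [GrpObj G]
    (y : 𝟙_ (Over (Spec (CommRingCat.of k))) ⟶ G) {U : Set G.left} (hU : IsOpen U)
    (h : y.left (IsLocalRing.closedPoint k) ∈ sat G U) :
    (rightTranslate y).hom.left (gen G (e₀ G)) ∈ U := by
  set x := y.left (IsLocalRing.closedPoint k) with hx
  obtain ⟨u, hu, hux⟩ := h
  have he : (rightTranslate y).inv.left x = e₀ G := by
    have : y ≫ (rightTranslate y).inv = η[G] := by
      rw [rightTranslate, MonObj.comp_mul, GrpObj.comp_inv, comp_toUnit_assoc, Category.comp_id,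
        toUnit_unique (toUnit (𝟙_ _)) (𝟙 _), Category.id_comp, mul_inv_cancel, eq_one_unit]
    exact congrArg (fun φ : 𝟙_ _ ⟶ G => φ.left (IsLocalRing.closedPoint k)) this
  have h1 := (gen_specializes G x).map (rightTranslate y).inv.left.continuous
  rw [he] at h1
  have h2 := (specializes_of_comp_eq G (comp_eq_of_specializes G h1).symm).map
    (rightTranslate y).hom.left.continuous
  have h3 : (rightTranslate y).hom.left ((rightTranslate y).inv.left (gen G x)) = gen G x := by
    rw [← comp_left_apply, Iso.inv_hom_id]; rfl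
  rw [h3] at h2
  exact h2.mem_open hU (gen_mem G hU hu hux)

theorem exists_affineOpen [IsAlgClosed k] (G : Over (Spec (CommRingCat.of k))) [GrpObj G]
    [JacobsonSpace G.left]
    (hrat : ∀ g : G.left, IsClosed ({g} : Set G.left) → ∃ x : Spec (CommRingCat.of k) ⟶ G.left,
      x ≫ G.hom = 𝟙 _ ∧ x (IsLocalRing.closedPoint k) = g)
    (A : Type u) [CommRing A] [Algebra k A]
    (hA : ∀ s : Finset A, ∃ (B : Subalgebra k A) (n : ℕ), (↑s : Set A) ⊆ (B : Set A) ∧ Nonempty (B ≃ₐ[k] (Fin n → k)))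
    (f : Spec (CommRingCat.of A) ⟶ G.left)
    (hf : f ≫ G.hom = Spec.map (CommRingCat.ofHom (algebraMap k A))) :
    ∃ U : G.left.Opens, IsAffineOpen U ∧ Set.range ⇑f ⊆ (U : Set G.left) := by
  let A' : Over (Spec (CommRingCat.of k)) := Over.mk (Spec.map (CommRingCat.ofHom (algebraMap k A)))
  let φ : A' ⟶ G := Over.homMk f hf
  obtain ⟨s, hs⟩ := (isCompact_range f.continuous).elim_finite_subcover
    (fun U : G.left.affineOpens => ((U : G.left.Opens) : Set G.left)) (fun U => U.1.2)
    (fun x _ => by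
      obtain ⟨_, ⟨W, hW, rfl⟩, hxW, -⟩ :=
        G.left.isBasis_affineOpens.exists_subset_of_mem_open (Set.mem_univ x) isOpen_univ
      exact Set.mem_iUnion.2 ⟨⟨W, hW⟩, hxW⟩)
  obtain ⟨V, hV, hVs⟩ := exists_affine_sat G s (fun U => (U : G.left.Opens)) (fun U _ => U.2)
  have : IsIntegralHom A'.hom := IsIntegralHom.SpecMap_iff.2 (isIntegral hA)
  have hint : IsIntegralHom (fst G A').left := property_fst G A' inferInstance
  let m : G ⊗ A' ⟶ G := fst G A' * (snd G A' ≫ φ)
  let Z : Set G.left := (fst G A').left '' (m.left ⁻¹' (V : Set G.left)ᶜ)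
  have hZ : IsClosed Z :=
    (fst G A').left.isClosedMap _ (V.2.isClosed_compl.preimage m.left.continuous)
  have hgen : gen G (e₀ G) ∉ Z := by
    rintro ⟨q, hq, hq1⟩
    set t := (snd G A').left q with ht
    obtain ⟨ψ, hψ, hker⟩ := exists_algHom hA t
    let σ : 𝟙_ (Over (Spec (CommRingCat.of k))) ⟶ A' := Over.homMk (Spec.map (CommRingCat.ofHom ψ)) (by
      change Spec.map _ ≫ Spec.map _ = 𝟙 _
      rw [← Spec.map_comp, ← CommRingCat.ofHom_comp, hψ]
      exact Spec.map_id _)
    have hσ : σ.left (IsLocalRing.closedPoint k) = t := by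
      refine PrimeSpectrum.ext ?_
      change Ideal.comap ψ (IsLocalRing.maximalIdeal k) = _
      rw [IsLocalRing.maximalIdeal_eq_bot]
      exact hker
    obtain ⟨v, rfl⟩ : q ∈ Set.range (G ◁ σ).left := by
      rw [range_whiskerLeft]; exact ⟨_, hσ⟩
    have hv : (fst G (𝟙_ _)).left v = gen G (e₀ G) := by
      rw [← hq1, ← comp_left_apply (G ◁ σ), whiskerLeft_fst]
    have hm : G ◁ σ ≫ m = fst G (𝟙_ _) ≫ (rightTranslate (σ ≫ φ)).hom := by
      simp only [m, rightTranslate, MonObj.comp_mul, whiskerLeft_fst, whiskerLeft_snd_assoc,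
        Category.comp_id, comp_toUnit_assoc]
      rw [toUnit_unique (toUnit _) (snd G (𝟙_ _))]
    apply hq
    rw [← comp_left_apply, hm, comp_left_apply, hv]
    refine rightTranslate_gen_mem _ V.2 ?_
    rw [comp_left_apply, hσ]
    obtain ⟨U, hU, hxU⟩ := Set.mem_iUnion₂.1 (hs (Set.mem_range_self t))
    exact hVs U hU hxU
  obtain ⟨g, hg, hgc⟩ := nonempty_inter_closedPoints (X := G.left) ⟨_, hgen⟩
    hZ.isOpen_compl.isLocallyClosed
  obtain ⟨x, hx, hxg⟩ := hrat g hgc
  let y : 𝟙_ (Over (Spec (CommRingCat.of k))) ⟶ G := Over.homMk x hx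
  have : IsIso (translate y).hom.left :=
    inferInstanceAs (IsIso ((Over.forget _).map (translate y).hom))
  refine ⟨(translate y).hom.left ⁻¹ᵁ V, hV.preimage_of_isIso _, ?_⟩
  rintro _ ⟨t, rfl⟩
  by_contra h
  apply hg
  refine ⟨(lift (toUnit A' ≫ y) (𝟙 A')).left t, ?_, ?_⟩
  · rw [Set.mem_preimage, ← comp_left_apply]
    have : lift (toUnit A' ≫ y) (𝟙 A') ≫ m = φ ≫ (translate y).hom := by
      simp [m, comp_translate, MonObj.comp_mul]
    rw [this]
    exact h
  · rw [← comp_left_apply, lift_fst, comp_left_apply, closed_point_subsingleton ((toUnit A').left t)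
      (IsLocalRing.closedPoint k)]
    exact hxg

end Groth.Agent.GrpSch.ProfinitePts
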