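import Groth.Agent.ProjCoord.Span
import Groth.Agent.ProjBC.Basic
import Groth.Agent.GrpSch.Rigidity
import Groth.Agent.GrpSch.TransComp
import Groth.Agent.EGA2G.ProjMap
import Groth.Prelude.Def_CohB1
import Mathlib.AlgebraicGeometry.AffineSpace

/-! Shears of projective space and morphisms from projective space to group schemes. -/

set_option autoImplicit false
set_option backward.isDefEq.respectTransparency.types false
set_option linter.style.haveILetI false

universe u

open CategoryTheory CategoryTheory.Limits MonoidalCategory CartesianMonoidalCategory MonObj GrpObj AlgebraicGeometry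
open Groth.Agent.ProjCoord MvPolynomial CohB1 HomogeneousLocalization

namespace Groth.Agent.GrpSch.ProjShear

variable (n : ℕ) (S : Scheme.{u})

/-- The integers in the universe at hand. -/
abbrev Z0 : Type u := ULift.{u} ℤ

/-- The coefficient map. -/
noncomputable def ρ0 (T : Scheme.{u}) : Z0.{u} →+* Γ(T, ⊤) := ProjBC.zMap _

/-- Projective space as an object over the base. -/
noncomputable abbrev pX : Over S := Over.mk (ProjSpaceOver.toBase n S)

/-- The morphism to projective space over the integers. -/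
noncomputable abbrev proj : (pX n S).left ⟶ Proj (polyGrading n Z0.{u}) :=
  Limits.pullback.fst (ProjSpace.toSpec n Z0.{u}) (specULiftZIsTerminal.from S)

variable {n S}

/-- The point with coordinates `v`. -/
noncomputable def q {T : Over S} (v : Fin (n + 1) → Γ(T.left, ⊤)) (hv : Ideal.span (Set.range v) = ⊤) :
    T ⟶ pX n S :=
  Over.homMk (Limits.pullback.lift (ptSpan (ρ0 T.left) v hv) T.hom (specULiftZIsTerminal.hom_ext _ _))
    (Limits.pullback.lift_snd _ _ _)

lemma q_proj {T : Over S} (v : Fin (n + 1) → Γ(T.left, ⊤)) (hv : Ideal.span (Set.range v) = ⊤) :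
    (q v hv).left ≫ proj n S = ptSpan (ρ0 T.left) v hv :=
  Limits.pullback.lift_fst _ _ _

lemma hom_ext_proj {T : Over S} {f g : T ⟶ pX n S} (h : f.left ≫ proj n S = g.left ≫ proj n S) : f = g :=
  Over.OverMorphism.ext (Limits.pullback.hom_ext h ((Over.w f).trans (Over.w g).symm))

lemma span_of_one {W : Type u} [CommRing W] {v : Fin (n + 1) → W} (j : Fin (n + 1)) (h : IsUnit (v j)) :
    Ideal.span (Set.range v) = ⊤ :=
  Ideal.eq_top_of_isUnit_mem _ (Ideal.subset_span ⟨j, rfl⟩) h

lemma comp_q {T T' : Over S} (g : T' ⟶ T) (v : Fin (n + 1) → Γ(T.left, ⊤)) (hv : Ideal.span (Set.range v) = ⊤) :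
    g ≫ q v hv = q (fun l => g.left.appTop.hom (v l)) (span_map g.left hv) := by
  apply hom_ext_proj
  rw [Over.comp_left, Category.assoc, q_proj, q_proj, ptSpan_comp]
  congr 1
  exact ProjBC.zHom_ext _ _

lemma q_congr {T : Over S} {v w : Fin (n + 1) → Γ(T.left, ⊤)} (hv : Ideal.span (Set.range v) = ⊤)
    (hw : Ideal.span (Set.range w) = ⊤) (h : ∀ k l, v k * w l = v l * w k) : q v hv = q w hw := by
  apply hom_ext_proj
  rw [q_proj, q_proj]
  exact ptSpan_eq _ _ _ _ _ h

lemma q_congr' {T : Over S} {v w : Fin (n + 1) → Γ(T.left, ⊤)} (hv : Ideal.span (Set.range v) = ⊤)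
    (hw : Ideal.span (Set.range w) = ⊤) (h : v = w) : q v hv = q w hw := by
  subst h; rfl

/-- The coordinates on a chart. -/
noncomputable def chartCoord (j k : Fin (n + 1)) : Γ(Spec (CommRingCat.of (Away (polyGrading n Z0.{u}) (X j))), ⊤) :=
  (Scheme.ΓSpecIso (.of (Away (polyGrading n Z0.{u}) (X j)))).inv.hom (ratio j k)

lemma chartCoord_self (j : Fin (n + 1)) : chartCoord.{u} j j = 1 := by
  simp only [chartCoord, ratio_self, map_one]

lemma comp_awayι {T : Scheme.{u}} (j : Fin (n + 1))
    (a : T ⟶ Spec (CommRingCat.of (Away (polyGrading n Z0.{u}) (X j)))) :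
    a ≫ Proj.awayι (polyGrading n Z0.{u}) (X j) (X_mem j) one_pos =
      pt (ρ0 T) (fun k => a.appTop.hom (chartCoord j k)) j (by rw [chartCoord_self, map_one]; exact isUnit_one) := by
  rw [awayι_eq_pt, pt_comp]
  exact ProjBC.pt_congr _ _ (ProjBC.zHom_ext _ _) rfl

/-- The chart covering pulled back to a scheme. -/
noncomputable def pcover {T : Scheme.{u}} (π : T ⟶ Proj (polyGrading n Z0.{u})) : T.OpenCover :=
  (cover n Z0.{u}).openCover.pullback₁ π

/-- The coordinates of a piece of the pulled back covering. -/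
noncomputable def pcoord {T : Scheme.{u}} (π : T ⟶ Proj (polyGrading n Z0.{u})) (i : (pcover π).I₀) (k : Fin (n + 1)) :
    Γ((pcover π).X i, ⊤) :=
  (Limits.pullback.snd π ((cover n Z0.{u}).openCover.f i)).appTop.hom (chartCoord i.down k)

lemma pcoord_self {T : Scheme.{u}} (π : T ⟶ Proj (polyGrading n Z0.{u})) (i : (pcover π).I₀) :
    pcoord π i i.down = 1 :=
  (congrArg _ (chartCoord_self i.down)).trans (map_one _)

lemma pcover_comp {T : Scheme.{u}} (π : T ⟶ Proj (polyGrading n Z0.{u})) (i : (pcover π).I₀) :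
    (pcover π).f i ≫ π =
      pt (ρ0 _) (pcoord π i) i.down (by rw [pcoord_self]; exact isUnit_one) := by
  show Limits.pullback.fst π ((cover n Z0.{u}).openCover.f i) ≫ π = _
  rw [Limits.pullback.condition]
  exact comp_awayι i.down _

/-- Morphisms out of projective space are determined on points with a unit coordinate. -/
theorem hom_ext_q {Z : Over S} (f g : pX n S ⟶ Z)
    (h : ∀ (T : Over S) (v : Fin (n + 1) → Γ(T.left, ⊤)) (j : Fin (n + 1)) (hj : v j = 1),
      q v (span_of_one j (hj ▸ isUnit_one)) ≫ f = q v (span_of_one j (hj ▸ isUnit_one)) ≫ g) : f = g := by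
  apply Over.OverMorphism.ext
  apply (pcover (proj n S)).hom_ext
  intro i
  let U : Over S := Over.mk ((pcover (proj n S)).f i ≫ (pX n S).hom)
  let e : U ⟶ pX n S := Over.homMk ((pcover (proj n S)).f i) rfl
  have he : e = q (T := U) (pcoord (proj n S) i) (span_of_one i.down (by rw [pcoord_self]; exact isUnit_one)) := by
    apply hom_ext_proj
    rw [q_proj]
    exact (pcover_comp (proj n S) i).trans (pt_eq_ptSpan _ _ _ _ _)
  have := h U (pcoord (proj n S) i) i.down (pcoord_self _ i)
  rw [← he] at this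
  exact congrArg (·.left) this

/-- The coordinates of the sheared point. -/
noncomputable def shv {W : Type u} [CommRing W] (p k : Fin (n + 1)) (a : W) (v : Fin (n + 1) → W) : Fin (n + 1) → W :=
  Function.update v k (v k + a * v p)

lemma shv_map {W W' : Type u} [CommRing W] [CommRing W'] (g : W →+* W') (p k : Fin (n + 1)) (a : W)
    (v : Fin (n + 1) → W) : (fun l => g (shv p k a v l)) = shv p k (g a) (fun l => g (v l)) := by
  funext l
  rcases eq_or_ne l k with rfl | h
  · simp [shv]
  · simp [shv, h]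

lemma shv_span {W : Type u} [CommRing W] {p k : Fin (n + 1)} (hpk : p ≠ k) (a : W) {v : Fin (n + 1) → W}
    (hv : Ideal.span (Set.range v) = ⊤) : Ideal.span (Set.range (shv p k a v)) = ⊤ := by
  rw [← top_le_iff, ← hv, Ideal.span_le]
  rintro _ ⟨l, rfl⟩
  rcases eq_or_ne l k with rfl | h
  · have e : v l = shv p l a v l - a * shv p l a v p := by simp [shv, hpk]
    rw [e]
    exact sub_mem (Ideal.subset_span ⟨l, rfl⟩) (Ideal.mul_mem_left _ _ (Ideal.subset_span ⟨p, rfl⟩))
  · exact Ideal.subset_span ⟨l, by simp [shv, h]⟩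

lemma shv_cross {W : Type u} [CommRing W] (p k : Fin (n + 1)) (a : W) {v w : Fin (n + 1) → W}
    (h : ∀ i l, v i * w l = v l * w i) (i l : Fin (n + 1)) :
    shv p k a v i * shv p k a w l = shv p k a v l * shv p k a w i := by
  rcases eq_or_ne i k with hi | hi <;> rcases eq_or_ne l k with hl | hl
  · subst hi hl; rfl
  · subst hi
    simp only [shv, Function.update_self, Function.update_of_ne hl]
    linear_combination h i l + a * h p l
  · subst hl
    simp only [shv, Function.update_self, Function.update_of_ne hi]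
    linear_combination h i l + a * h i p
  · simp only [shv, Function.update_of_ne hi, Function.update_of_ne hl]
    exact h i l

/-- Coordinates of a point given both by a unit coordinate and by spanning coordinates are proportional. -/
lemma cross_of_ptSpan_eq {T : Scheme.{u}} (ρ : Z0.{u} →+* Γ(T, ⊤)) (r v : Fin (n + 1) → Γ(T, ⊤)) (j : Fin (n + 1))
    (hr : IsUnit (r j)) (hv : Ideal.span (Set.range v) = ⊤) (h : pt ρ r j hr = ptSpan ρ v hv)
    (k l : Fin (n + 1)) : r k * v l = r l * v k := by
  have hj : IsUnit (v j) := isUnit_of_basicOpen_eq_top <| by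
    rw [← ptSpan_preimage ρ v hv j, ← h, pt_preimage, Scheme.basicOpen_of_isUnit _ hr]
  rw [← pt_eq_ptSpan ρ v j hj hv] at h
  exact cross_of_pt_eq _ _ _ _ _ _ _ h k l

variable (S) in
/-- The affine line over the base. -/
noncomputable abbrev aX : Over S := Over.mk (𝔸(PUnit.{u + 1}; S) ↘ S)

/-- The value of a point of the affine line. -/
noncomputable def val {T : Over S} (a : T ⟶ aX S) : Γ(T.left, ⊤) :=
  a.left.appTop.hom (AffineSpace.coord S PUnit.unit)

/-- A function as a point of the affine line. -/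
noncomputable def ofVal {T : Over S} (c : Γ(T.left, ⊤)) : T ⟶ aX S :=
  Over.homMk (AffineSpace.homOfVector T.hom fun _ => c) (AffineSpace.homOfVector_over _ _)

lemma val_ofVal {T : Over S} (c : Γ(T.left, ⊤)) : val (ofVal c) = c :=
  AffineSpace.homOfVector_appTop_coord _ _ _

lemma val_comp {T T' : Over S} (g : T' ⟶ T) (a : T ⟶ aX S) : val (g ≫ a) = g.left.appTop.hom (val a) := by
  simp only [val, Over.comp_left, Scheme.Hom.comp_appTop, CommRingCat.hom_comp, RingHom.comp_apply]

variable (n S) in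
/-- The shear `v ↦ v + a v_p e_k` of projective space. -/
theorem exists_shear {p k : Fin (n + 1)} (hpk : p ≠ k) :
    ∃ sh : aX S ⊗ pX n S ⟶ pX n S, ∀ (T : Over S) (a : T ⟶ aX S) (v : Fin (n + 1) → Γ(T.left, ⊤))
      (hv : Ideal.span (Set.range v) = ⊤),
      lift a (q v hv) ≫ sh = q (shv p k (val a) v) (shv_span hpk _ hv) := by
  let B : Over S := aX S ⊗ pX n S
  let π : B.left ⟶ Proj (polyGrading n Z0.{u}) := (snd (aX S) (pX n S)).left ≫ proj n S
  let aB : Γ(B.left, ⊤) := val (fst (aX S) (pX n S))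
  let piece : ∀ i, (pcover π).X i ⟶ Proj (polyGrading n Z0.{u}) := fun i =>
    ptSpan (ρ0 _) (shv p k (((pcover π).f i).appTop.hom aB) (pcoord π i))
      (shv_span hpk _ (span_of_one i.down (by rw [pcoord_self]; exact isUnit_one)))
  have hcompat : ∀ i j, Limits.pullback.fst ((pcover π).f i) ((pcover π).f j) ≫ piece i =
      Limits.pullback.snd ((pcover π).f i) ((pcover π).f j) ≫ piece j := fun i j => by
    set a1 := Limits.pullback.fst ((pcover π).f i) ((pcover π).f j)
    set a2 := Limits.pullback.snd ((pcover π).f i) ((pcover π).f j)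
    have hc : a1 ≫ (pcover π).f i = a2 ≫ (pcover π).f j := Limits.pullback.condition
    have h' : a1 ≫ ((pcover π).f i ≫ π) = a2 ≫ ((pcover π).f j ≫ π) := by rw [reassoc_of% hc]
    rw [pcover_comp, pcover_comp, pt_comp, pt_comp] at h'
    have hcr := (ProjBC.eq_and_cross _ _ h').2
    have ha : a1.appTop.hom (((pcover π).f i).appTop.hom aB) = a2.appTop.hom (((pcover π).f j).appTop.hom aB) :=
      congrArg (fun m => m.appTop.hom aB) hc
    simp only [piece]
    rw [ptSpan_comp, ptSpan_comp]
    have hρ : a1.appTop.hom.comp (ρ0 _) = a2.appTop.hom.comp (ρ0 _) := ProjBC.zHom_ext _ _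
    simp only [hρ]
    apply ptSpan_eq
    intro x y
    have e1 := fun l => congrFun (shv_map a1.appTop.hom p k (((pcover π).f i).appTop.hom aB) (pcoord π i)) l
    have e2 := fun l => congrFun (shv_map a2.appTop.hom p k (((pcover π).f j).appTop.hom aB) (pcoord π j)) l
    rw [e1, e1, e2, e2, ha]
    exact shv_cross p k _ hcr x y
  let g := (pcover π).glueMorphisms piece hcompat
  refine ⟨Over.homMk (Limits.pullback.lift g B.hom (specULiftZIsTerminal.hom_ext _ _))
    (Limits.pullback.lift_snd _ _ _), fun T a v hv => ?_⟩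
  apply hom_ext_proj
  rw [q_proj, Over.comp_left, Category.assoc]
  refine (congrArg ((lift a (q v hv)).left ≫ ·) (Limits.pullback.lift_fst g B.hom _)).trans ?_
  let m : T.left ⟶ B.left := (lift a (q v hv)).left
  have hm1 : m ≫ π = ptSpan (ρ0 _) v hv := by
    show (lift a (q v hv)).left ≫ (snd (aX S) (pX n S)).left ≫ proj n S = _
    rw [← Category.assoc, ← Over.comp_left, lift_snd, q_proj]
  have hm2 : m.appTop.hom aB = val a := by
    show (lift a (q v hv)).left.appTop.hom (val (fst (aX S) (pX n S))) = _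
    rw [← val_comp, lift_fst]
  apply ((pcover π).pullback₁ m).hom_ext
  intro i
  let u : ((pcover π).pullback₁ m).X i ⟶ T.left := Limits.pullback.fst m ((pcover π).f i)
  let w : ((pcover π).pullback₁ m).X i ⟶ (pcover π).X i := Limits.pullback.snd m ((pcover π).f i)
  have hc : u ≫ m = w ≫ (pcover π).f i := Limits.pullback.condition
  show u ≫ m ≫ g = u ≫ ptSpan _ _ _
  rw [reassoc_of% hc, show (pcover π).f i ≫ g = piece i from (pcover π).ι_glueMorphisms _ _ _]
  have h1 : w ≫ ((pcover π).f i ≫ π) = u ≫ ptSpan (ρ0 _) v hv := by rw [← hm1, reassoc_of% hc]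
  rw [pcover_comp, pt_comp, ptSpan_comp] at h1
  have hρ : w.appTop.hom.comp (ρ0 _) = u.appTop.hom.comp (ρ0 _) := ProjBC.zHom_ext _ _
  simp only [hρ] at h1
  have hcr := cross_of_ptSpan_eq _ _ _ _ _ _ h1
  simp only [piece]
  rw [ptSpan_comp, ptSpan_comp]
  simp only [hρ]
  apply ptSpan_eq
  intro x y
  have e1 := fun l => congrFun (shv_map w.appTop.hom p k (((pcover π).f i).appTop.hom aB) (pcoord π i)) l
  have e2 := fun l => congrFun (shv_map u.appTop.hom p k (val a) v) l
  rw [e1, e1, e2, e2]
  have ha : w.appTop.hom (((pcover π).f i).appTop.hom aB) = u.appTop.hom (val a) := by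
    rw [← hm2]
    exact congrArg (fun z => z.appTop.hom aB) hc.symm
  rw [ha]
  exact shv_cross p k _ hcr x y

lemma shv_single_fix {W : Type u} [CommRing W] {p k : Fin (n + 1)} (hpk : p ≠ k) (a : W) :
    shv p k a (Pi.single k (1 : W)) = Pi.single k 1 := by
  funext l
  rcases eq_or_ne l k with rfl | h
  · simp [shv, hpk]
  · simp [shv, h]

lemma shv_zero {W : Type u} [CommRing W] (p k : Fin (n + 1)) (v : Fin (n + 1) → W) : shv p k 0 v = v := by
  simp [shv]

variable {k : Type u} [Field k]

lemma bijective_appTop_projSpace (n : ℕ) :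
    Function.Bijective ((Scheme.ΓSpecIso (CommRingCat.of k)).inv ≫ (pX n (Spec (CommRingCat.of k))).hom.appTop).hom := by
  obtain ⟨m, hm, hm'⟩ := ProjBC.exists_iso n k
  have hI : IsIntegral (Proj (polyGrading n k)) :=
    (EGA2G.proj_isIntegral_iff _ fun f _ h => h.eq_zero).2
      ⟨⟨X 0, HomogeneousIdeal.mem_irrelevant_of_mem _ one_pos (isHomogeneous_X k 0), X_ne_zero 0⟩,
        fun f _ g _ h => mul_eq_zero.1 h⟩
  haveI := hm
  haveI : IsIntegral (ProjSpace n k) := hI
  haveI : Nonempty (pX n (Spec (CommRingCat.of k))).left := ⟨m (Classical.arbitrary (ProjSpace n k))⟩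
  haveI hXI : IsIntegral (pX n (Spec (CommRingCat.of k))).left := isIntegral_of_isOpenImmersion (inv m)
  haveI : IsProper (ProjSpace.toSpec n Z0.{u}) := inferInstanceAs (IsProper (baseMap n Z0.{u}))
  haveI : IsProper (pX n (Spec (CommRingCat.of k))).hom :=
    inferInstanceAs (IsProper (Limits.pullback.snd _ _))
  exact TransComp.bijective_appTop_of_point _
    (q (T := 𝟙_ (Over (Spec (CommRingCat.of k)))) (Pi.single 0 1) (span_of_one 0 (by simp))).left (Over.w _)

lemma rigid_apply {S : Scheme.{u}} {A X G T : Over S} [GrpObj G] (sh : A ⊗ X ⟶ X) (φ : X ⟶ G) (x₀ : 𝟙_ (Over S) ⟶ X)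
    (hr : (((lift (snd X A) (fst X A) ≫ sh) ≫ φ) * (fst X A ≫ φ)⁻¹ : X ⊗ A ⟶ G) =
      snd X A ≫ lift (toUnit A ≫ x₀) (𝟙 A) ≫ (((lift (snd X A) (fst X A) ≫ sh) ≫ φ) * (fst X A ≫ φ)⁻¹ : X ⊗ A ⟶ G))
    (a : T ⟶ A) (x : T ⟶ X) :
    ((lift a x ≫ sh) ≫ φ) * (x ≫ φ)⁻¹ =
      ((lift a (toUnit T ≫ x₀) ≫ sh) ≫ φ) * ((toUnit T ≫ x₀) ≫ φ)⁻¹ := by
  have := congrArg (lift x a ≫ ·) hr
  simpa [MonObj.comp_mul, GrpObj.comp_inv, ← Category.assoc, comp_lift] using this

/-- Morphisms from projective space over a field to a separated group scheme are constant. -/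
theorem hom_projSpace_eq_const (n : ℕ) (G : Over (Spec (CommRingCat.of k))) [GrpObj G] [IsSeparated G.hom]
    (φ : pX n (Spec (CommRingCat.of k)) ⟶ G) :
    φ = toUnit _ ≫ q (T := 𝟙_ (Over (Spec (CommRingCat.of k)))) (Pi.single 0 1) (span_of_one 0 (by simp)) ≫ φ := by
  classical
  let P := pX n (Spec (CommRingCat.of k))
  let O : Over (Spec (CommRingCat.of k)) := 𝟙_ (Over (Spec (CommRingCat.of k)))
  have hX := bijective_appTop_projSpace (k := k) n
  haveI : IsProper (ProjSpace.toSpec n Z0.{u}) := inferInstanceAs (IsProper (baseMap n Z0.{u}))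
  haveI : IsProper P.hom := inferInstanceAs (IsProper (Limits.pullback.snd _ _))
  haveI : IsLocallyNoetherian (aX (Spec (CommRingCat.of k))).left := by
    haveI : LocallyOfFiniteType (aX (Spec (CommRingCat.of k))).hom := inferInstanceAs (LocallyOfFiniteType (𝔸(PUnit.{u + 1}; (Spec (CommRingCat.of k))) ↘ (Spec (CommRingCat.of k))))
    exact LocallyOfFiniteType.isLocallyNoetherian (aX (Spec (CommRingCat.of k))).hom
  haveI : IsIntegral (aX (Spec (CommRingCat.of k))).left := inferInstanceAs (IsIntegral 𝔸(PUnit.{u + 1}; (Spec (CommRingCat.of k))))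
  haveI : ConnectedSpace (aX (Spec (CommRingCat.of k))).left := inferInstance
  have hspan : ∀ {T : Over (Spec (CommRingCat.of k))} (p : Fin (n + 1)), Ideal.span (Set.range (Pi.single p (1 : Γ(T.left, ⊤)))) = ⊤ :=
    fun p => span_of_one p (by simp)
  have hnat : ∀ {T T' : Over (Spec (CommRingCat.of k))} (g : T' ⟶ T) (p : Fin (n + 1)), g ≫ q (Pi.single p 1) (hspan p) = q (Pi.single p 1) (hspan p) := by
    intro T T' g p
    rw [comp_q]
    refine q_congr' _ _ ?_
    funext l
    rcases eq_or_ne l p with rfl | h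
    · simp
    · simp [Pi.single_eq_of_ne h]
  -- invariance under shears
  have inv : ∀ (p l : Fin (n + 1)) (hpl : p ≠ l) (T : Over (Spec (CommRingCat.of k))) (c : Γ(T.left, ⊤)) (v : Fin (n + 1) → Γ(T.left, ⊤))
      (hv : Ideal.span (Set.range v) = ⊤), q (shv p l c v) (shv_span hpl _ hv) ≫ φ = q v hv ≫ φ := by
    intro p l hpl T c v hv
    obtain ⟨sh, hsh⟩ := exists_shear n (Spec (CommRingCat.of k)) hpl
    let ψ : P ⊗ aX (Spec (CommRingCat.of k)) ⟶ G := ((lift (snd P (aX (Spec (CommRingCat.of k)))) (fst P (aX (Spec (CommRingCat.of k)))) ≫ sh) ≫ φ) * (fst P (aX (Spec (CommRingCat.of k))) ≫ φ)⁻¹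
    let a0 : O ⟶ aX (Spec (CommRingCat.of k)) := ofVal 0
    have h0 : (P ◁ a0) ≫ ψ = toUnit _ ≫ (1 : O ⟶ G) := by
      have hfix : (P ◁ a0) ≫ lift (snd P (aX (Spec (CommRingCat.of k)))) (fst P (aX (Spec (CommRingCat.of k)))) ≫ sh = fst P O := by
        rw [comp_lift_assoc, whiskerLeft_snd, whiskerLeft_fst,
          show lift (snd P O ≫ a0) (fst P O) ≫ sh = fst P O ≫ lift (toUnit P ≫ a0) (𝟙 P) ≫ sh by
            rw [comp_lift_assoc, Category.comp_id, ← Category.assoc (fst P O),
              show fst P O ≫ toUnit P = snd P O from toUnit_unique _ _]]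
        suffices lift (toUnit P ≫ a0) (𝟙 P) ≫ sh = 𝟙 P by rw [this, Category.comp_id]
        refine hom_ext_q _ _ fun U w j hj => ?_
        rw [comp_lift_assoc, Category.comp_id, hsh]
        refine q_congr' _ _ ?_
        rw [val_comp, val_comp, val_ofVal, map_zero, map_zero, shv_zero]
      simp only [ψ, MonObj.comp_mul, GrpObj.comp_inv]
      rw [← Category.assoc _ _ φ, hfix, whiskerLeft_fst_assoc, mul_inv_cancel, MonObj.comp_one]
    have hr := Rigidity.rigidity P (aX (Spec (CommRingCat.of k))) G hX (q (Pi.single l 1) (hspan l)) a0 ψ 1 h0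
    have := rigid_apply sh φ _ hr (ofVal c) (q v hv)
    rw [hsh, hnat, hsh] at this
    simp only [val_ofVal] at this
    rw [q_congr' (shv_span hpl c (hspan l)) (hspan l) (shv_single_fix hpl c), mul_inv_cancel] at this
    exact mul_inv_eq_one.mp this
  -- each chart is sent to the point at its centre
  have hchart : ∀ (p : Fin (n + 1)) (T : Over (Spec (CommRingCat.of k))) (v : Fin (n + 1) → Γ(T.left, ⊤)) (hp : v p = 1),
      q v (span_of_one p (hp ▸ isUnit_one)) ≫ φ = q (Pi.single p 1) (hspan p) ≫ φ := by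
    intro p T v hp
    let z : Finset (Fin (n + 1)) → Fin (n + 1) → Γ(T.left, ⊤) := fun s l => if l ∈ s ∧ l ≠ p then 0 else v l
    have hz : ∀ s, z s p = 1 := fun s => by simp [z, hp]
    have hind : ∀ s, q (z s) (span_of_one p (hz s ▸ isUnit_one)) ≫ φ = q v (span_of_one p (hp ▸ isUnit_one)) ≫ φ := by
      intro s
      induction s using Finset.induction with
      | empty => rw [q_congr' (span_of_one p (hz ∅ ▸ isUnit_one)) (span_of_one p (hp ▸ isUnit_one)) (by funext l; simp [z])]
      | insert l s hls ih =>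
        rcases eq_or_ne p l with rfl | hpl
        · rw [q_congr' (span_of_one p (hz _ ▸ isUnit_one)) (span_of_one p (hz s ▸ isUnit_one))
            (by funext x; by_cases hx : x = p <;> simp [z, hx])]
          exact ih
        · rw [← ih, ← inv p l hpl T (-(z s l)) (z s) (span_of_one p (hz s ▸ isUnit_one))]
          refine congrArg (· ≫ φ) (q_congr' _ _ ?_)
          funext x
          rcases eq_or_ne x l with rfl | hx
          · simp [shv, hz, z, hls, hpl.symm]
          · simp [shv, z, hx]
    rw [← hind Finset.univ]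
    refine congrArg (· ≫ φ) (q_congr' _ _ ?_)
    funext x
    rcases eq_or_ne x p with rfl | hx
    · simp [hz]
    · simp [z, hx]
  apply hom_ext_q
  intro T v j hj
  rw [hchart j T v hj, ← Category.assoc, comp_toUnit, ← Category.assoc (toUnit T), hnat]
  let w : Fin (n + 1) → Γ(T.left, ⊤) := fun l => if l = j ∨ l = 0 then 1 else 0
  rw [← hchart j T w (by simp [w]), ← hchart 0 T w (by simp [w])]

end Groth.Agent.GrpSch.ProjShear
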