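import Mathlib

/-!
# Group laws on the punctured line
-/

universe u

open CategoryTheory MonoidalCategory CartesianMonoidalCategory MonObj GrpObj Limits AlgebraicGeometry
open scoped LaurentPolynomial

namespace Groth.Agent.GrpSch.Punctured

lemma exists_monomial {R : Type u} [CommRing R] [IsDomain R] {f : R[T;T⁻¹]} (hf : IsUnit f) :
    ∃ (u : R) (n : ℤ), IsUnit u ∧ f = LaurentPolynomial.C u * LaurentPolynomial.T n := by
  obtain ⟨g, hg⟩ := hf.exists_right_inv
  obtain ⟨a, p, hp⟩ := f.exists_T_pow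
  obtain ⟨b, q, hq⟩ := g.exists_T_pow
  have hpq : p * q = Polynomial.X ^ (a + b) := by
    apply Polynomial.toLaurent_injective
    rw [map_mul, hp, hq, _root_.mul_mul_mul_comm, hg, _root_.one_mul, ← LaurentPolynomial.T_add,
      Polynomial.toLaurent_X_pow, Nat.cast_add]
  obtain ⟨i, -, hi⟩ := (dvd_prime_pow Polynomial.prime_X _).mp (Dvd.intro q hpq)
  obtain ⟨v, hv⟩ := hi.symm
  obtain ⟨u, hu, huv⟩ := Polynomial.isUnit_iff.mp v.isUnit
  refine ⟨u, (i : ℤ) - a, hu, ?_⟩
  have h1 : f * LaurentPolynomial.T (a : ℤ) = LaurentPolynomial.C u * LaurentPolynomial.T (i : ℤ) := by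
    rw [← hp, ← hv, map_mul, Polynomial.toLaurent_X_pow, ← huv, Polynomial.toLaurent_C, _root_.mul_comm]
  have h2 := congrArg (· * LaurentPolynomial.T (-(a : ℤ))) h1
  simp only [_root_.mul_assoc, ← LaurentPolynomial.T_add, add_neg_cancel, LaurentPolynomial.T_zero, _root_.mul_one] at h2
  rw [sub_eq_add_neg]
  exact h2

lemma hom_ext {R A : Type u} [CommRing R] [CommRing A] {φ ψ : R[T;T⁻¹] →+* A}
    (hC : ∀ r, φ (LaurentPolynomial.C r) = ψ (LaurentPolynomial.C r))
    (hT : φ (LaurentPolynomial.T 1) = ψ (LaurentPolynomial.T 1)) : φ = ψ := by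
  have hT' : φ (LaurentPolynomial.T (-1)) = ψ (LaurentPolynomial.T (-1)) := by
    refine left_inv_eq_right_inv (a := φ (LaurentPolynomial.T 1)) ?_ ?_
    · rw [← map_mul, ← LaurentPolynomial.T_add, neg_add_cancel, LaurentPolynomial.T_zero, map_one]
    · rw [hT, ← map_mul, ← LaurentPolynomial.T_add, add_neg_cancel, LaurentPolynomial.T_zero, map_one]
  refine RingHom.ext fun f => ?_
  induction f using LaurentPolynomial.induction_on with
  | h_C a => exact hC a
  | h_add hp hq => rw [map_add, map_add, hp, hq]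
  | h_C_mul_T n a h =>
    rw [LaurentPolynomial.T_add, ← _root_.mul_assoc, map_mul φ (LaurentPolynomial.C a * _),
      map_mul ψ (LaurentPolynomial.C a * _), h, hT]
  | h_C_mul_T_Z n a h =>
    rw [sub_eq_add_neg, LaurentPolynomial.T_add, ← _root_.mul_assoc, map_mul φ (LaurentPolynomial.C a * _),
      map_mul ψ (LaurentPolynomial.C a * _), h, hT']

lemma map_T_eq {R R' A : Type u} [CommRing R] [CommRing R'] [CommRing A] (φ : R[T;T⁻¹] →+* A)
    (ψ : R'[T;T⁻¹] →+* A) (h : φ (LaurentPolynomial.T 1) = ψ (LaurentPolynomial.T 1)) (n : ℤ) :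
    φ (LaurentPolynomial.T n) = ψ (LaurentPolynomial.T n) := by
  have hT' : φ (LaurentPolynomial.T (-1)) = ψ (LaurentPolynomial.T (-1)) := by
    refine left_inv_eq_right_inv (a := φ (LaurentPolynomial.T 1)) ?_ ?_
    · rw [← map_mul, ← LaurentPolynomial.T_add, neg_add_cancel, LaurentPolynomial.T_zero, map_one]
    · rw [h, ← map_mul, ← LaurentPolynomial.T_add, add_neg_cancel, LaurentPolynomial.T_zero, map_one]
  induction n using Int.induction_on with
  | zero => rw [LaurentPolynomial.T_zero, LaurentPolynomial.T_zero, map_one, map_one]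
  | succ n ih => rw [LaurentPolynomial.T_add, LaurentPolynomial.T_add, map_mul, map_mul, ih, h]
  | pred n ih =>
    rw [sub_eq_add_neg, LaurentPolynomial.T_add, LaurentPolynomial.T_add, map_mul, map_mul, ih, hT']

lemma map_T_one {R A : Type u} [CommRing R] [CommRing A] (φ : R[T;T⁻¹] →+* A)
    (h : φ (LaurentPolynomial.T 1) = 1) (n : ℤ) : φ (LaurentPolynomial.T n) = 1 := by
  have h' : φ (LaurentPolynomial.T (-1)) = 1 := by
    calc φ (LaurentPolynomial.T (-1)) = φ (LaurentPolynomial.T (-1)) * φ (LaurentPolynomial.T 1) := by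
          rw [h, _root_.mul_one]
      _ = 1 := by rw [← map_mul, ← LaurentPolynomial.T_add, neg_add_cancel, LaurentPolynomial.T_zero, map_one]
  induction n using Int.induction_on with
  | zero => rw [LaurentPolynomial.T_zero, map_one]
  | succ n ih => rw [LaurentPolynomial.T_add, map_mul, ih, h, _root_.one_mul]
  | pred n ih => rw [sub_eq_add_neg, LaurentPolynomial.T_add, map_mul, ih, h', _root_.one_mul]

lemma monomial_eq {R : Type u} [CommRing R] [Nontrivial R] {r : R} {n : ℤ}
    (h : LaurentPolynomial.C r * LaurentPolynomial.T n = LaurentPolynomial.T 1) : r = 1 ∧ n = 1 := by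
  have hr : r = 1 := by
    have := congrArg (LaurentPolynomial.eval₂ (RingHom.id R) 1) h
    simpa [map_mul, LaurentPolynomial.eval₂_C, LaurentPolynomial.eval₂_T] using this
  refine ⟨hr, ?_⟩
  subst hr
  rw [map_one, _root_.one_mul] at h
  have := congrArg LaurentPolynomial.degree h
  rw [LaurentPolynomial.degree_T, LaurentPolynomial.degree_T] at this
  exact_mod_cast this

variable {k : Type u} [Field k] (G : Over (Spec (CommRingCat.of k)))
  (e : G.left ≅ Spec (CommRingCat.of k[T;T⁻¹]))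

/-- the ring map of a point -/
noncomputable def phi {S : Over (Spec (CommRingCat.of k))} (g : S ⟶ G) : k[T;T⁻¹] →+* Γ(S.left, ⊤) :=
  ((Scheme.ΓSpecIso (CommRingCat.of k[T;T⁻¹])).inv ≫ (g.left ≫ e.hom).appTop).hom

lemma phi_comp {S S' : Over (Spec (CommRingCat.of k))} (σ : S' ⟶ S) (g : S ⟶ G) (x : k[T;T⁻¹]) :
    phi G e (σ ≫ g) x = σ.left.appTop.hom (phi G e g x) := by
  simp [phi, Scheme.Hom.comp_appTop]

variable (he : e.hom ≫ Spec.map (CommRingCat.ofHom (algebraMap k k[T;T⁻¹])) = G.hom)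

include he in
lemma phi_C {S : Over (Spec (CommRingCat.of k))} (g : S ⟶ G) (r : k) :
    phi G e g (LaurentPolynomial.C r) =
      S.hom.appTop.hom ((Scheme.ΓSpecIso (CommRingCat.of k)).inv.hom r) := by
  have h := Over.w g
  rw [← he] at h
  rw [← h]
  simp only [phi, Scheme.Hom.comp_appTop, CommRingCat.hom_comp, RingHom.comp_apply, ← LaurentPolynomial.algebraMap_apply]
  have hn := Scheme.ΓSpecIso_inv_naturality (CommRingCat.ofHom (algebraMap k k[T;T⁻¹]))
  have := congrArg (fun m => m.hom r) hn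
  simp only [CommRingCat.hom_comp, RingHom.comp_apply] at this
  rw [← this]
  rfl

lemma ext_phi {S : Over (Spec (CommRingCat.of k))} {g g' : S ⟶ G} (h : phi G e g = phi G e g') :
    g = g' := by
  apply Over.OverMorphism.ext
  rw [← cancel_mono e.hom]
  apply ext_of_isAffine
  rw [← cancel_epi (Scheme.ΓSpecIso (CommRingCat.of k[T;T⁻¹])).inv]
  exact CommRingCat.hom_ext h

include he in
lemma ext_T {S : Over (Spec (CommRingCat.of k))} {g g' : S ⟶ G}
    (h : phi G e g (LaurentPolynomial.T 1) = phi G e g' (LaurentPolynomial.T 1)) : g = g' :=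
  ext_phi G e (hom_ext (fun r => by rw [phi_C G e he g r, phi_C G e he g' r]) h)

/-- the affine scheme of a `k`-algebra -/
noncomputable abbrev aff {A : Type u} [CommRing A] (a : k →+* A) : Over (Spec (CommRingCat.of k)) :=
  Over.mk (Spec.map (CommRingCat.ofHom a))

include he in
/-- points with values in an affine scheme -/
lemma exists_point {A : Type u} [CommRing A] (a : k →+* A) (φ : k[T;T⁻¹] →+* A)
    (hφ : φ.comp (algebraMap k k[T;T⁻¹]) = a) :
    ∃ g : aff a ⟶ G, ∀ x, phi G e g x = (Scheme.ΓSpecIso (CommRingCat.of A)).inv.hom (φ x) := by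
  refine ⟨Over.homMk (Spec.map (CommRingCat.ofHom φ) ≫ e.inv) ?_, fun x => ?_⟩
  · have : e.inv ≫ G.hom = Spec.map (CommRingCat.ofHom (algebraMap k k[T;T⁻¹])) := by
      rw [← he, Iso.inv_hom_id_assoc]
    rw [Category.assoc, this, ← Spec.map_comp, ← CommRingCat.ofHom_comp, hφ]
    rfl
  · have := congrArg (fun m => m.hom x) (Scheme.ΓSpecIso_inv_naturality (CommRingCat.ofHom φ))
    simp only [CommRingCat.comp_apply, CommRingCat.hom_ofHom] at this
    simp only [phi, Over.homMk_left, Category.assoc, Iso.inv_hom_id, Category.comp_id,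
      CommRingCat.comp_apply]
    exact this.symm

lemma toSpec_appTop {S : Scheme.{u}} {A : CommRingCat.{u}} (φ : A ⟶ Γ(S, ⊤)) (x : A) :
    (S.toSpecΓ ≫ Spec.map φ).appTop.hom ((Scheme.ΓSpecIso A).inv.hom x) = φ.hom x := by
  have : (Scheme.ΓSpecIso A).inv ≫ (S.toSpecΓ ≫ Spec.map φ).appTop = φ := by
    rw [Scheme.Hom.comp_appTop, ← Scheme.ΓSpecIso_inv_naturality_assoc, Scheme.toSpecΓ_appTop]
    simp
  exact congrArg (fun m => m.hom x) this

include he in
theorem phi_mul [GrpObj G]
    (hunit : phi G e η[G] (LaurentPolynomial.T 1) = 1)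
    {S : Over (Spec (CommRingCat.of k))} (g h : S ⟶ G) :
    phi G e (g * h) (LaurentPolynomial.T 1) =
      phi G e g (LaurentPolynomial.T 1) * phi G e h (LaurentPolynomial.T 1) := by
  have hone : ∀ (S : Over (Spec (CommRingCat.of k))),
      phi G e (1 : S ⟶ G) (LaurentPolynomial.T 1) = 1 := fun S => by
    rw [Hom.one_def, phi_comp, hunit, map_one]
  let L := k[T;T⁻¹]
  let a : k →+* L[T;T⁻¹] := (LaurentPolynomial.C).comp (algebraMap k L)
  let y : (L[T;T⁻¹])ˣ := (LaurentPolynomial.isUnit_T 1).unit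
  obtain ⟨g₀, hg₀⟩ := exists_point G e he a LaurentPolynomial.C rfl
  obtain ⟨h₀, hh₀⟩ := exists_point G e he a (LaurentPolynomial.eval₂ a y) (by
    ext r; simp [← LaurentPolynomial.algebraMap_apply])
  let isoA := (Scheme.ΓSpecIso (CommRingCat.of L[T;T⁻¹]))
  have hu : IsUnit (phi G e (g₀ * h₀) (LaurentPolynomial.T 1)) :=
    (LaurentPolynomial.isUnit_T 1).map _
  obtain ⟨v, j, hv, hfv⟩ := exists_monomial (hu.map isoA.hom.hom)
  obtain ⟨c, i, hc, hvc⟩ := exists_monomial hv
  have hfv' : phi G e (g₀ * h₀) (LaurentPolynomial.T 1) =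
      isoA.inv.hom (LaurentPolynomial.C (LaurentPolynomial.C c * LaurentPolynomial.T i) * LaurentPolynomial.T j) := by
    rw [← hvc, ← hfv]
    exact (congrArg (fun m => m.hom (phi G e (g₀ * h₀) (LaurentPolynomial.T 1))) isoA.hom_inv_id).symm
  -- specialisation
  have key : ∀ (S : Over (Spec (CommRingCat.of k))) (g h : S ⟶ G),
      ∃ ψ : L[T;T⁻¹] →+* Γ(S.left, ⊤),
        (∀ r, ψ (LaurentPolynomial.C (LaurentPolynomial.C r)) = S.hom.appTop.hom ((Scheme.ΓSpecIso (CommRingCat.of k)).inv.hom r)) ∧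
        ψ (LaurentPolynomial.C (LaurentPolynomial.T 1)) = phi G e g (LaurentPolynomial.T 1) ∧
        ψ (LaurentPolynomial.T 1) = phi G e h (LaurentPolynomial.T 1) ∧
        phi G e (g * h) (LaurentPolynomial.T 1) =
          ψ (LaurentPolynomial.C (LaurentPolynomial.C c * LaurentPolynomial.T i) * LaurentPolynomial.T j) := by
    intro S g h
    let yh : Γ(S.left, ⊤)ˣ := ((LaurentPolynomial.isUnit_T 1).map (phi G e h)).unit
    let ψ := LaurentPolynomial.eval₂ (phi G e g) yh
    have h1 : ∀ x, ψ (LaurentPolynomial.C x) = phi G e g x := fun x => LaurentPolynomial.eval₂_C _ _ x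
    have h2 : ψ (LaurentPolynomial.T 1) = phi G e h (LaurentPolynomial.T 1) := by
      rw [LaurentPolynomial.eval₂_T, zpow_one]; rfl
    let σ : S ⟶ aff a := Over.homMk (S.left.toSpecΓ ≫ Spec.map (CommRingCat.ofHom ψ)) (by
      change (S.left.toSpecΓ ≫ Spec.map (CommRingCat.ofHom ψ)) ≫ Spec.map (CommRingCat.ofHom a) = S.hom
      rw [Category.assoc, ← Spec.map_comp]
      have : CommRingCat.ofHom a ≫ CommRingCat.ofHom ψ =
          (Scheme.ΓSpecIso (CommRingCat.of k)).inv ≫ S.hom.appTop := by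
        ext r
        exact (h1 _).trans (phi_C G e he g r)
      rw [this, Spec.map_comp, ← Scheme.toSpecΓ_naturality_assoc]
      simp)
    have hσ : ∀ (p : aff a ⟶ G) (φ : L →+* L[T;T⁻¹]),
        (∀ x, phi G e p x = isoA.inv.hom (φ x)) → ∀ x, phi G e (σ ≫ p) x = ψ (φ x) := by
      intro p φ hp x
      rw [phi_comp, hp]
      exact toSpec_appTop _ _
    have hg : σ ≫ g₀ = g := ext_T G e he (by rw [hσ g₀ _ hg₀, h1])
    have hh : σ ≫ h₀ = h := ext_T G e he (by
      rw [hσ h₀ _ hh₀, LaurentPolynomial.eval₂_T, zpow_one]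
      exact h2)
    refine ⟨ψ, fun r => (h1 _).trans (phi_C G e he g r), h1 _, h2, ?_⟩
    rw [← hg, ← hh, ← MonObj.comp_mul, phi_comp, hfv']
    exact toSpec_appTop _ _
  -- the values of the exponents
  obtain ⟨p, hp⟩ := exists_point G e he (algebraMap k L) (RingHom.id L) rfl
  let S₁ := aff (algebraMap k L)
  let ι₁ : L →+* Γ(S₁.left, ⊤) := (Scheme.ΓSpecIso (CommRingCat.of L)).inv.hom
  have hι₁ : Function.Injective ι₁ :=
    ((ConcreteCategory.isIso_iff_bijective (Scheme.ΓSpecIso (CommRingCat.of L)).inv).mp inferInstance).1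
  have hC : ∀ r : k, S₁.hom.appTop.hom ((Scheme.ΓSpecIso (CommRingCat.of k)).inv.hom r) =
      ι₁ (LaurentPolynomial.C r) := fun r => by
    exact (congrArg (fun m => m.hom r) (Scheme.ΓSpecIso_inv_naturality (CommRingCat.ofHom (algebraMap k L)))).symm
  obtain ⟨ψ, hψC, hψx, hψy, hψ⟩ := key S₁ p 1
  obtain ⟨ψ', hψ'C, hψ'x, hψ'y, hψ'⟩ := key S₁ 1 p
  rw [hp, RingHom.id_apply] at hψx hψ'y
  rw [hone] at hψy hψ'x
  rw [_root_.mul_one, hp, RingHom.id_apply, map_mul, map_mul, map_mul, map_T_one ψ hψy, _root_.mul_one,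
    hψC, hC] at hψ
  rw [_root_.one_mul, hp, RingHom.id_apply, map_mul, map_mul, map_mul, hψ'C, hC] at hψ'
  have hi : ψ (LaurentPolynomial.C (LaurentPolynomial.T i)) = ι₁ (LaurentPolynomial.T i) :=
    map_T_eq (ψ.comp LaurentPolynomial.C) ι₁ hψx i
  rw [hi, ← map_mul] at hψ
  obtain ⟨rfl, rfl⟩ := monomial_eq (hι₁ hψ).symm
  have hj : ψ' (LaurentPolynomial.T j) = ι₁ (LaurentPolynomial.T j) := map_T_eq ψ' ι₁ hψ'y j
  rw [hψ'x, hj, map_one, map_one, _root_.one_mul, _root_.one_mul] at hψ'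
  obtain ⟨-, rfl⟩ : (1 : k) = 1 ∧ j = 1 := monomial_eq (show LaurentPolynomial.C 1 * LaurentPolynomial.T j =
    LaurentPolynomial.T 1 by rw [map_one, _root_.one_mul]; exact (hι₁ hψ').symm)
  obtain ⟨ψ'', -, hx, hy, hgh⟩ := key S g h
  rw [hgh, map_one, _root_.one_mul, map_mul, hx, hy]

include he in
/-- two group laws with the same unit on the punctured line agree -/
theorem mul_eq (h₁ h₂ : GrpObj G) (h : h₁.one = h₂.one) : h₁.mul = h₂.mul := by
  let z := (Scheme.ΓSpecIso (CommRingCat.of k)).hom.hom (phi G e h₁.one (LaurentPolynomial.T 1))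
  have hz : IsUnit z := ((LaurentPolynomial.isUnit_T 1).map (phi G e h₁.one)).map _
  obtain ⟨c, hc⟩ := hz
  have hd : IsUnit (LaurentPolynomial.C (↑c⁻¹ : k) * LaurentPolynomial.T 1) :=
    (c⁻¹.isUnit.map LaurentPolynomial.C).mul (LaurentPolynomial.isUnit_T 1)
  have hd' : IsUnit (LaurentPolynomial.C (↑c : k) * LaurentPolynomial.T 1) :=
    (c.isUnit.map LaurentPolynomial.C).mul (LaurentPolynomial.isUnit_T 1)
  let s : k[T;T⁻¹] →+* k[T;T⁻¹] := LaurentPolynomial.eval₂ LaurentPolynomial.C hd.unit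
  let t : k[T;T⁻¹] →+* k[T;T⁻¹] := LaurentPolynomial.eval₂ LaurentPolynomial.C hd'.unit
  have hsC : ∀ r, s (LaurentPolynomial.C r) = LaurentPolynomial.C r := LaurentPolynomial.eval₂_C _ _
  have htC : ∀ r, t (LaurentPolynomial.C r) = LaurentPolynomial.C r := LaurentPolynomial.eval₂_C _ _
  have hsT : s (LaurentPolynomial.T 1) = LaurentPolynomial.C (↑c⁻¹ : k) * LaurentPolynomial.T 1 := by
    simp [s, LaurentPolynomial.eval₂_T]
  have htT : t (LaurentPolynomial.T 1) = LaurentPolynomial.C (↑c : k) * LaurentPolynomial.T 1 := by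
    simp [t, LaurentPolynomial.eval₂_T]
  have hst : s.comp t = RingHom.id _ := hom_ext (fun r => by simp [hsC, htC]) (by
    rw [RingHom.comp_apply, htT, map_mul, hsC, hsT, ← _root_.mul_assoc, ← map_mul, c.mul_inv, map_one,
      _root_.one_mul, RingHom.id_apply])
  have hts : t.comp s = RingHom.id _ := hom_ext (fun r => by simp [hsC, htC]) (by
    rw [RingHom.comp_apply, hsT, map_mul, htC, htT, ← _root_.mul_assoc, ← map_mul, c.inv_mul, map_one,
      _root_.one_mul, RingHom.id_apply])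
  let e' : G.left ≅ Spec (CommRingCat.of k[T;T⁻¹]) :=
    { hom := e.hom ≫ Spec.map (CommRingCat.ofHom s)
      inv := Spec.map (CommRingCat.ofHom t) ≫ e.inv
      hom_inv_id := by
        rw [Category.assoc, ← Spec.map_comp_assoc, ← CommRingCat.ofHom_comp, hst, CommRingCat.ofHom_id,
          Spec.map_id, Category.id_comp, e.hom_inv_id]
      inv_hom_id := by
        rw [Category.assoc, e.inv_hom_id_assoc, ← Spec.map_comp, ← CommRingCat.ofHom_comp, hts,
          CommRingCat.ofHom_id, Spec.map_id] }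
  have he' : e'.hom ≫ Spec.map (CommRingCat.ofHom (algebraMap k k[T;T⁻¹])) = G.hom := by
    have : s.comp (algebraMap k k[T;T⁻¹]) = algebraMap k k[T;T⁻¹] := RingHom.ext fun r => by
      simp [RingHom.comp_apply, hsC]
    change (e.hom ≫ _) ≫ _ = _
    rw [Category.assoc, ← Spec.map_comp, ← CommRingCat.ofHom_comp, this, he]
  have hphi : ∀ {T : Over (Spec (CommRingCat.of k))} (q : T ⟶ G) (x : k[T;T⁻¹]),
      phi G e' q x = phi G e q (s x) := by
    intro T q x
    have := congrArg (fun m => m.hom x) (Scheme.ΓSpecIso_inv_naturality (CommRingCat.ofHom s))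
    simp only [CommRingCat.comp_apply, CommRingCat.hom_ofHom] at this
    simp only [phi, e', Scheme.Hom.comp_appTop, CommRingCat.hom_comp, RingHom.comp_apply]
    exact congrArg (fun w => q.left.appTop.hom (e.hom.appTop.hom w)) this.symm
  have hunit : phi G e' h₁.one (LaurentPolynomial.T 1) = 1 := by
    rw [hphi, hsT, map_mul]
    have hz' : phi G e h₁.one (LaurentPolynomial.T 1) = (Scheme.ΓSpecIso (CommRingCat.of k)).inv.hom (↑c : k) := by
      rw [hc]
      exact (congrArg (fun m => m.hom (phi G e h₁.one (LaurentPolynomial.T 1)))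
        (Scheme.ΓSpecIso (CommRingCat.of k)).hom_inv_id).symm
    rw [hz', phi_C G e he]
    have : (𝟙_ (Over (Spec (CommRingCat.of k)))).hom.appTop = 𝟙 _ := Scheme.Hom.id_appTop
    rw [this, CommRingCat.id_apply, ← map_mul, c.inv_mul, map_one]
  have key : ∀ (inst : GrpObj G), inst.one = h₁.one →
      phi G e' inst.mul (LaurentPolynomial.T 1) =
        phi G e' (fst G G) (LaurentPolynomial.T 1) * phi G e' (snd G G) (LaurentPolynomial.T 1) := by
    intro inst hi
    letI := inst
    have hm : μ[G] = fst G G * snd G G := by rw [Hom.mul_def, lift_fst_snd, Category.id_comp]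
    change phi G e' μ[G] _ = _
    rw [hm]
    exact phi_mul G e' he' (by change phi G e' inst.one _ = 1; rw [hi, hunit]) (fst G G) (snd G G)
  exact ext_T G e' he' ((key h₁ rfl).trans (key h₂ h.symm).symm)

end Groth.Agent.GrpSch.Punctured
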