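import Groth.Agent.GrpSch.Desc
import Groth.Agent.GrpSch.Core
import Groth.Agent.GrpSch.Cat
import Groth.Agent.FpqcDescent.Basic
import Groth.Agent.ThickAffine.General
import Groth.Prelude.Def_AGF

/-!
# Separatedness of quotients; thickenings with a section
-/

set_option autoImplicit false
set_option backward.isDefEq.respectTransparency.types false

universe u

open CategoryTheory MonoidalCategory CartesianMonoidalCategory MonObj GrpObj Limits AlgebraicGeometry

namespace Groth.Agent.GrpSch.QuotRed

/-- a morphism with a surjective closed section is affine -/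
theorem isAffineHom_of_section {P B : Scheme.{u}} (f : P ⟶ B) (s : B ⟶ P) (hs : s ≫ f = 𝟙 B)
    [IsClosedImmersion s] [Surjective s] : IsAffineHom f := by
  refine ⟨fun U hU => ?_⟩
  have hV : s ⁻¹ᵁ (f ⁻¹ᵁ U) = U := by
    rw [← Scheme.Hom.comp_preimage, hs]; rfl
  haveI : IsClosedImmersion (s ∣_ (f ⁻¹ᵁ U)) := IsZariskiLocalAtTarget.restrict ‹IsClosedImmersion s› _
  haveI : Surjective (s ∣_ (f ⁻¹ᵁ U)) := IsZariskiLocalAtTarget.restrict ‹Surjective s› _
  haveI : IsAffine (s ⁻¹ᵁ (f ⁻¹ᵁ U) : Scheme.{u}) := by rw [hV]; exact hU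
  exact ThickAffine.isAffine_of_thickening (s ∣_ (f ⁻¹ᵁ U))

variable {k : Type u} [Field k]

lemma fppf_orbit {G X : Over (Spec (CommRingCat.of k))} [GrpObj G] [LocallyOfFiniteType G.hom]
    (a : AlgGrp.Action G X) (o : 𝟙_ _ ⟶ X) (hlft : LocallyOfFiniteType X.hom) :
    LocallyOfFinitePresentation (a.orbitMap o).left := by
  haveI : IsLocallyNoetherian X.left := LocallyOfFiniteType.isLocallyNoetherian X.hom
  haveI : LocallyOfFiniteType ((a.orbitMap o).left ≫ X.hom) := by rw [Over.w]; infer_instance
  haveI : LocallyOfFiniteType (a.orbitMap o).left := locallyOfFiniteType_of_comp _ X.hom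
  infer_instance

/-- the quotient of a group by a closed subgroup is separated -/
theorem isSeparated_of_isQuotient {G H X : Over (Spec (CommRingCat.of k))} [GrpObj G] [GrpObj H]
    [LocallyOfFiniteType G.hom] [QuasiCompact G.hom] (h : H ⟶ G) [IsMonHom h] [IsClosedImmersion h.left]
    (a : AlgGrp.Action G X) (o : 𝟙_ _ ⟶ X) (hX : AGF.IsQuotient h X a o) : IsSeparated X.hom := by
  obtain ⟨hlft, hflat, hsurj, hpb⟩ := hX
  haveI := hflat; haveI := hsurj
  haveI := fppf_orbit a o hlft
  let π := a.orbitMap o
  have hsq : IsPullback (lift (fst G H) ((G ◁ h) ≫ μ[G])) (fst G H ≫ π) (π ⊗ₘ π) (lift (𝟙 X) (𝟙 X)) := by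
    refine IsPullback.of_isLimit' ⟨?_⟩ (Limits.PullbackCone.IsLimit.mk _
      (fun s => hpb.lift (s.fst ≫ fst G G) (s.fst ≫ snd G G) ?_) (fun s => ?_) (fun s => ?_) (fun s m h1 h2 => ?_))
    · rw [lift_map, comp_lift, Category.comp_id]
      congr 1
      exact hpb.w.symm
    · have h1 := congrArg (· ≫ fst X X) s.condition
      have h2 := congrArg (· ≫ snd X X) s.condition
      simp only [Category.assoc, tensorHom_fst, tensorHom_snd, lift_fst, lift_snd, Category.comp_id] at h1 h2
      rw [Category.assoc, Category.assoc, h1, h2]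
    · apply CartesianMonoidalCategory.hom_ext
      · simp
      · simp only [Category.assoc, lift_snd]
        exact hpb.lift_snd _ _ _
    · have h1 := congrArg (· ≫ fst X X) s.condition
      simp only [Category.assoc, tensorHom_fst, lift_fst, Category.comp_id] at h1
      rw [← Category.assoc, IsPullback.lift_fst, Category.assoc]
      exact h1
    · apply hpb.hom_ext
      · rw [IsPullback.lift_fst, ← h1, Category.assoc, lift_fst]
      · rw [IsPullback.lift_snd, ← h1, Category.assoc, lift_snd]
  haveI hci : IsClosedImmersion (lift (fst G H) ((G ◁ h) ≫ μ[G])).left := by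
    have he : lift (fst G H) ((G ◁ h) ≫ μ[G]) = (G ◁ h) ≫ lift (fst G G) μ[G] := by
      rw [comp_lift]; congr 1; simp
    haveI : IsClosedImmersion (G ◁ h).left := Desc.whiskerLeft_prop G h ‹_›
    haveI : IsIso (lift (fst G G) μ[G]) := by
      refine ⟨lift (fst G G) ((fst G G)⁻¹ * snd G G), ?_, ?_⟩
      · apply CartesianMonoidalCategory.hom_ext
        · simp
        · rw [Category.assoc, lift_snd, MonObj.comp_mul, GrpObj.comp_inv, lift_fst, lift_snd, Category.id_comp,
            mul_eq_mul, inv_mul_cancel_left]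
      · apply CartesianMonoidalCategory.hom_ext
        · simp
        · rw [Category.assoc, lift_snd, mul_eq_mul, MonObj.comp_mul, lift_fst, lift_snd, mul_inv_cancel_left,
            Category.id_comp]
    haveI : IsIso (lift (fst G G) μ[G]).left := inferInstanceAs (IsIso ((Over.forget _).map (lift (fst G G) μ[G])))
    rw [he, Over.comp_left]
    infer_instance
  haveI hq : (@Surjective ⊓ @Flat ⊓ @LocallyOfFinitePresentation : MorphismProperty Scheme.{u}) (π ⊗ₘ π).left := by
    rw [MonoidalCategory.tensorHom_def, Over.comp_left]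
    haveI : Flat (π ▷ G).left := Desc.whiskerRight_prop G π hflat
    haveI : Surjective (π ▷ G).left := Desc.whiskerRight_prop G π hsurj
    haveI : LocallyOfFinitePresentation (π ▷ G).left :=
      Desc.whiskerRight_prop G π ‹LocallyOfFinitePresentation (a.orbitMap o).left›
    haveI : Flat (X ◁ π).left := Desc.whiskerLeft_prop X π hflat
    haveI : Surjective (X ◁ π).left := Desc.whiskerLeft_prop X π hsurj
    haveI : LocallyOfFinitePresentation (X ◁ π).left :=
      Desc.whiskerLeft_prop X π ‹LocallyOfFinitePresentation (a.orbitMap o).left›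
    exact ⟨⟨inferInstance, inferInstance⟩, inferInstance⟩
  have hd : IsClosedImmersion (lift (𝟙 X) (𝟙 X)).left :=
    MorphismProperty.of_isPullback_of_descendsAlong (P := @IsClosedImmersion)
      (Q := @Surjective ⊓ @Flat ⊓ @LocallyOfFinitePresentation) (isPullback_left hsq) hq hci
  refine ⟨?_⟩
  have e : (lift (𝟙 X) (𝟙 X)).left = pullback.diagonal X.hom := by
    apply pullback.hom_ext
    · rw [pullback.diagonal_fst, ← Over.fst_left, ← Over.comp_left, lift_fst, Over.id_left]
    · rw [pullback.diagonal_snd, ← Over.snd_left, ← Over.comp_left, lift_snd, Over.id_left]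
  rw [← e]
  exact hd

end Groth.Agent.GrpSch.QuotRed
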