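import Groth.Agent.MultHopf.Bridge
import Groth.Agent.NormalQuot.Scheme
import Groth.Agent.Comod.GL
import Groth.Agent.GrpSch.LinearAction
import Groth.Prelude.Def_FrameBundle

/-!
# Homomorphisms to `GL_n` from comatrices; groups all of whose representations are trivial
-/

set_option autoImplicit false
set_option backward.isDefEq.respectTransparency.types false

universe u

open CategoryTheory CategoryTheory.Limits MonoidalCategory CartesianMonoidalCategory MonObj AlgebraicGeometry
open scoped TensorProduct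
open WithConv

namespace Groth.Agent.GrpSch.RepGLn

open Groth.Agent.NormalQuot

variable {k : Type u} [Field k] {A : Type u} [CommRing A] [HopfAlgebra k A]

theorem surjective_algebraMap_aux (R : Type u) [CommRing R] [Algebra R k] [Algebra R A] [IsScalarTower R k A]
    (h : ∀ (n : ℕ) (ρ : specGrp k A ⟶ Red.bc (Spec.map (CommRingCat.ofHom (algebraMap R k)))
      (MultHopf.hspec R (CoordGrp.GLn n R))), IsMonHom ρ → ρ = 1) :
    Function.Surjective (algebraMap k A) := by
  intro x
  classical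
  obtain ⟨m, a, hΔ, hε, hs⟩ := LinearAction.exists_comatrix (k := k) ({x} : Finset A)
  let f : (CoordGrp.GLn m R) →ₐ[R] A :=
    CoordGrp.GLn.pt m R a _ (Comod.isUnit_det_of_comatrix a hΔ hε)
  have hf : ∀ i j, f (CoordGrp.GLn.X i j) = a i j := fun i j =>
    CoordGrp.GLn.pt_X a _ (Comod.isUnit_det_of_comatrix a hΔ hε) i j
  let g : k ⊗[R] (CoordGrp.GLn m R) →ₐ[k] A :=
    Algebra.TensorProduct.lift (Algebra.ofId k A) f fun _ _ => Commute.all _ _
  have hg : ∀ i j, g ((1 : k) ⊗ₜ CoordGrp.GLn.X i j) = a i j := fun i j => by simp [g, hf]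
  let ψ : k ⊗[R] (CoordGrp.GLn m R) →ₐc[k] A := BialgHom.ofAlgHom g
    (Algebra.TensorProduct.ext (Subsingleton.elim _ _) (Comod.glAlgHom_ext fun i j => by
      simp [hg, hε, CoordGrp.GLn.counit_X, Bialgebra.counitAlgHom_apply]))
    (Algebra.TensorProduct.ext (Subsingleton.elim _ _) (Comod.glAlgHom_ext fun i j => by
      simp [hg, hΔ, CoordGrp.GLn.comul_X, TensorProduct.comul_tmul, TensorProduct.tmul_sum, Bialgebra.comulAlgHom_apply]))
  let e := MultHopf.bcSpec R k (CoordGrp.GLn m R)
  haveI : IsMonHom e.inv.hom.hom := e.inv.hom.isMonHom_hom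
  haveI : IsMonHom e.hom.hom.hom := e.hom.hom.isMonHom_hom
  haveI : IsMonHom (specHom ψ) := isMonHom_specHom ψ
  have h1 := h m (specHom ψ ≫ e.inv.hom.hom) inferInstance
  have h2 : specHom ψ = 1 := by
    have := congrArg (· ≫ e.hom.hom.hom) h1
    rw [Category.assoc, MonObj.one_comp] at this
    rw [show e.inv.hom.hom ≫ e.hom.hom.hom = 𝟙 _ from congrArg (fun z => z.hom.hom) e.inv_hom_id,
      Category.comp_id] at this
    exact this
  rw [specHom_eq, ← map_one (Spec.mapMulEquiv (R := k) (S := k ⊗[R] (CoordGrp.GLn m R)) (T := A))] at h2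
  have h3 := (Spec.mapMulEquiv (R := k) (S := k ⊗[R] (CoordGrp.GLn m R)) (T := A)).injective h2
  have hbot : ∀ i j, a i j ∈ (⊥ : Subalgebra k A) := fun i j => by
    have h4 := AlgHom.congr_fun (congrArg WithConv.ofConv h3) ((1 : k) ⊗ₜ CoordGrp.GLn.X i j)
    rw [AlgHom.convOne_apply] at h4
    rw [← hg i j]
    exact ⟨_, h4.symm⟩
  have hx : x ∈ (⊥ : Subalgebra k A) :=
    (Algebra.adjoin_le (S := (⊥ : Subalgebra k A)) (by rintro _ ⟨p, rfl⟩; exact hbot _ _)) (hs (by simp))
  exact Algebra.mem_bot.1 hx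


/-- if every homomorphism to every `GL_n` is trivial, the affine group is trivial -/
theorem surjective_algebraMap
    (h : ∀ (n : ℕ) (ρ : specGrp k A ⟶ FrB.GLn n (Spec (CommRingCat.of k))), IsMonHom ρ → ρ = 1) :
    Function.Surjective (algebraMap k A) := by
  letI : Algebra (ULift.{u} ℤ) k := ((Int.castRingHom k).comp ULift.ringEquiv.toRingHom).toAlgebra
  letI : Algebra (ULift.{u} ℤ) A := ((algebraMap k A).comp (algebraMap (ULift.{u} ℤ) k)).toAlgebra
  haveI : @IsScalarTower (ULift.{u} ℤ) k A Algebra.toSMul Algebra.toSMul Algebra.toSMul :=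
    IsScalarTower.of_algebraMap_eq fun _ => rfl
  refine surjective_algebraMap_aux (ULift.{u} ℤ) fun n ρ hρ => ?_
  let c := MultHopf.bcCongr (specULiftZIsTerminal.hom_ext
    (Spec.map (CommRingCat.ofHom (algebraMap (ULift.{u} ℤ) k))) (specULiftZIsTerminal.from _)) (FrB.GLZ n)
  haveI : IsMonHom c.hom.hom.hom := c.hom.hom.isMonHom_hom
  haveI : IsMonHom c.inv.hom.hom := c.inv.hom.isMonHom_hom
  haveI := hρ
  have h1 := congrArg (· ≫ c.inv.hom.hom) (h n (ρ ≫ c.hom.hom.hom) inferInstance)
  rwa [Category.assoc, show c.hom.hom.hom ≫ c.inv.hom.hom = 𝟙 _ from congrArg (fun z => z.hom.hom) c.hom_inv_id,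
    Category.comp_id, MonObj.one_comp] at h1

end Groth.Agent.GrpSch.RepGLn
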