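import Groth.Agent.GrpSch.CharZero
import Groth.Agent.GrpSch.Points
import Mathlib.AlgebraicGeometry.Group.Smooth
import Mathlib.AlgebraicGeometry.AlgClosed.Basic
import Mathlib.AlgebraicGeometry.Morphisms.LocalFlatDescent

/-! Smoothness of group schemes is detected at a single point. -/

set_option autoImplicit false
set_option backward.isDefEq.respectTransparency.types false

universe u

open CategoryTheory MonoidalCategory CartesianMonoidalCategory MonObj GrpObj Limits AlgebraicGeometry

namespace Groth.Agent.GrpSch

variable {K : Type u} [Field K]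

lemma isReduced_of_isReduced_stalk_one [IsAlgClosed K] (G : Over (Spec (CommRingCat.of K)))
    [GrpObj G] [LocallyOfFiniteType G.hom]
    (h : _root_.IsReduced (G.left.presheaf.stalk (η[G].left (IsLocalRing.closedPoint K)))) :
    AlgebraicGeometry.IsReduced G.left := by
  have := LocallyOfFiniteType.jacobsonSpace G.hom
  have : ∀ x : G.left, _root_.IsReduced (G.left.presheaf.stalk x) := by
    intro x
    obtain ⟨c, hcx, hc⟩ := nonempty_inter_closedPoints (X := G.left) (Z := closure {x})
      ⟨x, subset_closure rfl⟩ isClosed_closure.isLocallyClosed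
    have hsp : x ⤳ c := specializes_iff_mem_closure.2 hcx
    obtain ⟨g, rfl⟩ := exists_ratPoint G hc
    refine isReduced_stalk_of_specializes hsp ?_
    set σ := (translate g).symm
    have : IsIso σ.hom.left := inferInstanceAs (IsIso ((Over.forget _).map σ.hom))
    have hσ : σ.hom.left (g.left (IsLocalRing.closedPoint K)) =
        η[G].left (IsLocalRing.closedPoint K) := by
      rw [← translate_one_apply g, ← comp_left_apply]
      change ((translate g).hom ≫ (translate g).inv).left _ = _
      rw [Iso.hom_inv_id]
      rfl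
    rw [← hσ] at h
    exact isReduced_of_injective _
      (asIso (σ.hom.left.stalkMap (g.left (IsLocalRing.closedPoint K)))).symm.commRingCatIsoToRingEquiv.injective
  exact isReduced_of_isReduced_stalk _

/-- Over an algebraically closed field a group scheme which is smooth somewhere is smooth. -/
lemma smooth_of_mem_smoothLocus [IsAlgClosed K] (G : Over (Spec (CommRingCat.of K))) [GrpObj G]
    [LocallyOfFiniteType G.hom] {y₀ : G.left} (hy₀ : y₀ ∈ G.hom.smoothLocus) : Smooth G.hom := by
  have := LocallyOfFiniteType.jacobsonSpace G.hom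
  rw [← Scheme.Hom.smoothLocus_eq_top_iff, ← TopologicalSpace.Opens.coe_eq_univ,
    Set.eq_univ_iff_forall]
  by_contra H
  push Not at H
  obtain ⟨x₀, hx₀⟩ := H
  obtain ⟨x, hx, hxc⟩ := nonempty_inter_closedPoints (X := G.left) ⟨x₀, hx₀⟩
    G.hom.smoothLocus.2.isClosed_compl.isLocallyClosed
  obtain ⟨y, (hy : y ∈ G.hom.smoothLocus), hyc⟩ := nonempty_inter_closedPoints (X := G.left)
    ⟨y₀, hy₀⟩ G.hom.smoothLocus.2.isLocallyClosed
  obtain ⟨a, rfl⟩ := exists_ratPoint G hxc
  obtain ⟨b, rfl⟩ := exists_ratPoint G hyc
  set α := (translate a).symm ≪≫ translate b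
  have : IsIso α.hom.left := inferInstanceAs (IsIso ((Over.forget _).map α.hom))
  have hα : α.hom.left (a.left (IsLocalRing.closedPoint K)) = b.left (IsLocalRing.closedPoint K) := by
    rw [← comp_left_apply]
    have : a ≫ α.hom = b := by
      simp only [α, Iso.trans_hom, Iso.symm_hom, ← Category.assoc]
      rw [comp_translate_inv, comp_translate, toUnit_unique (toUnit (𝟙_ _)) (𝟙 _), Category.id_comp,
        Category.id_comp, inv_mul_cancel, _root_.mul_one]
    rw [this]
  rw [← hα, ← α.hom.left.mem_preimage, Scheme.Hom.preimage_smoothLocus_eq] at hy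
  simp only [Over.w α.hom] at hy
  exact hx hy

/-- The base change of a group scheme to an algebraic closure. -/
noncomputable abbrev geomFibre (G : Over (Spec (CommRingCat.of K))) :
    Over (Spec (CommRingCat.of (AlgebraicClosure K))) :=
  Over.mk (pullback.snd G.hom (Spec.map (CommRingCat.ofHom (algebraMap K (AlgebraicClosure K)))))

noncomputable instance (G : Over (Spec (CommRingCat.of K))) [GrpObj G] : GrpObj (geomFibre G) :=
  have : GrpObj (Over.mk G.hom) := ‹GrpObj G›
  Over.grpObjMkPullbackSnd

instance (G : Over (Spec (CommRingCat.of K))) [LocallyOfFiniteType G.hom] :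
    LocallyOfFiniteType (geomFibre G).hom :=
  MorphismProperty.pullback_snd _ _ ‹_›

lemma smooth_of_smooth_geomFibre (G : Over (Spec (CommRingCat.of K)))
    (h : Smooth (geomFibre G).hom) : Smooth G.hom := by
  apply MorphismProperty.of_pullback_snd_of_descendsAlong
    (Q := @Surjective ⊓ @Flat ⊓ @QuasiCompact)
    (g := Spec.map (CommRingCat.ofHom (algebraMap K (AlgebraicClosure K)))) (f := G.hom)
  · exact ⟨⟨inferInstance, inferInstance⟩, inferInstance⟩
  · exact h

/-- A group scheme locally of finite type over a field which is smooth on a nonempty open is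
smooth. -/
theorem smooth_of_open (G : Over (Spec (CommRingCat.of K))) [GrpObj G] [LocallyOfFiniteType G.hom]
    (U : G.left.Opens) (hne : (U : Set G.left).Nonempty) (hU : Smooth (U.ι ≫ G.hom)) :
    Smooth G.hom := by
  refine smooth_of_smooth_geomFibre G ?_
  set f := Spec.map (CommRingCat.ofHom (algebraMap K (AlgebraicClosure K)))
  let p : (geomFibre G).left ⟶ G.left := pullback.fst G.hom f
  have : Surjective f := ⟨Function.surjective_to_subsingleton
    (α := PrimeSpectrum (AlgebraicClosure K)) (β := PrimeSpectrum K) _⟩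
  have : Surjective p := inferInstanceAs (Surjective (pullback.fst G.hom f))
  obtain ⟨x, hx⟩ := hne
  obtain ⟨z, hz⟩ := p.surjective x
  let W : (geomFibre G).left.Opens := p ⁻¹ᵁ U
  have h : IsPullback (p ∣_ U) (W.ι ≫ (geomFibre G).hom) (U.ι ≫ G.hom) f :=
    (isPullback_morphismRestrict p U).paste_vert (IsPullback.of_hasPullback G.hom f)
  have hs : Smooth (W.ι ≫ (geomFibre G).hom) := MorphismProperty.of_isPullback h hU
  have hzW : z ∈ W := by
    change p z ∈ U
    rw [hz]; exact hx
  refine smooth_of_mem_smoothLocus (geomFibre G) (y₀ := z) ?_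
  have h1 : (⟨z, hzW⟩ : W.toScheme) ∈ (W.ι ≫ (geomFibre G).hom).smoothLocus := by
    rw [Scheme.Hom.smoothLocus_eq_top]; trivial
  rw [← Scheme.Hom.preimage_smoothLocus_eq] at h1
  exact h1

end Groth.Agent.GrpSch
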