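import Groth.Agent.GrpSch.SmoothPtAlg
import Mathlib.AlgebraicGeometry.Morphisms.Smooth
import Mathlib.AlgebraicGeometry.Noetherian

/-! Smooth schemes over a field are regular at rational points. -/

set_option autoImplicit false
set_option backward.isDefEq.respectTransparency.types false

universe u

open CategoryTheory AlgebraicGeometry

namespace Groth.Agent.GrpSch

theorem isRegularLocalRing_of_smooth_ratPoint {K : Type u} [Field K] {X : Scheme.{u}}
    (f : X ⟶ Spec (CommRingCat.of K)) [Smooth f] (s : Spec (CommRingCat.of K) ⟶ X)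
    (hs : s ≫ f = 𝟙 _) :
    IsRegularLocalRing (X.presheaf.stalk (s (IsLocalRing.closedPoint K))) := by
  set e₀ := s (IsLocalRing.closedPoint K)
  obtain ⟨U, hU, V, hV, heV, e, hstd⟩ := Smooth.exists_isStandardSmooth f e₀
  obtain rfl : U = ⊤ := by
    ext p
    simp only [TopologicalSpace.Opens.coe_top, Set.mem_univ, iff_true]
    have := e heV
    rwa [Subsingleton.elim (α := PrimeSpectrum K) p (f e₀)]
  let R := Γ(X, V)
  let φ : CommRingCat.of K ⟶ R := (Scheme.ΓSpecIso (CommRingCat.of K)).inv ≫ f.appLE ⊤ V e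
  let _ : Algebra K R := φ.hom.toAlgebra
  have : Algebra.IsStandardSmooth K R := by
    have h : φ.hom.IsStandardSmooth :=
      RingHom.isStandardSmooth_respectsIso.2 _
        (Scheme.ΓSpecIso (CommRingCat.of K)).symm.commRingCatIsoToRingEquiv hstd
    exact h.toAlgebra
  have : Algebra.FiniteType K R := inferInstance
  have : IsNoetherianRing R := Algebra.FiniteType.isNoetherianRing K R
  obtain ⟨ψ, hψ⟩ := Spec.map_surjective (IsOpenImmersion.lift hV.fromSpec s (by
    rw [hV.range_fromSpec]
    rintro - ⟨p, rfl⟩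
    rw [Subsingleton.elim (α := PrimeSpectrum K) p (IsLocalRing.closedPoint K)]
    exact heV))
  have hψη : Spec.map ψ ≫ hV.fromSpec = s := by rw [hψ]; exact IsOpenImmersion.lift_fac _ _ _
  have hφ : Spec.map φ = hV.fromSpec ≫ f := by
    rw [Spec.map_comp, ← IsAffineOpen.SpecMap_appLE_fromSpec f (isAffineOpen_top _) hV e,
      IsAffineOpen.fromSpec_top]
    congr 1
    exact (Scheme.isoSpec_Spec_inv _).symm
  have hcomp : φ ≫ ψ = 𝟙 _ := Spec.map_injective (by
    rw [Spec.map_comp, hφ, ← Category.assoc, hψη, Spec.map_id]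
    exact hs)
  let σ : R →ₐ[K] K := { ψ.hom with
    commutes' := fun c => congrArg (fun t : CommRingCat.of K ⟶ CommRingCat.of K => t.hom c) hcomp }
  have : (RingHom.ker σ).IsPrime := RingHom.ker_isPrime _
  let x₀ : Spec R := (Spec.map ψ) (IsLocalRing.closedPoint K)
  have hx₀ : x₀.asIdeal = RingHom.ker σ := by
    change (IsLocalRing.maximalIdeal K).comap ψ.hom = _
    rw [IsLocalRing.maximalIdeal_eq_bot]
    rfl
  have hx₀e : hV.fromSpec x₀ = e₀ := by
    rw [← Scheme.Hom.comp_apply, hψη]
  have hreg := isRegularLocalRing_of_isStandardSmooth R σ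
  rw [← hx₀e]
  let _ : Algebra R ((Spec R).presheaf.stalk x₀) := StructureSheaf.stalkAlgebra R x₀
  have : IsLocalization.AtPrime ((Spec R).presheaf.stalk x₀) x₀.asIdeal :=
    StructureSheaf.IsLocalization.to_stalk R x₀
  have : IsLocalization.AtPrime ((Spec R).presheaf.stalk x₀) (RingHom.ker σ) := by
    simpa only [hx₀] using this
  have h1 : IsRegularLocalRing ((Spec R).presheaf.stalk x₀) := IsRegularLocalRing.of_ringEquiv
    (IsLocalization.algEquiv (RingHom.ker σ).primeCompl (Localization.AtPrime (RingHom.ker σ))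
      ((Spec R).presheaf.stalk x₀)).toRingEquiv
  exact IsRegularLocalRing.of_ringEquiv
    (asIso (hV.fromSpec.stalkMap x₀)).symm.commRingCatIsoToRingEquiv

end Groth.Agent.GrpSch
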