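import Mathlib.RingTheory.Smooth.StandardSmooth
import Mathlib.RingTheory.Ideal.Height
import Mathlib.RingTheory.Ideal.KrullsHeightTheorem
import Mathlib.RingTheory.RegularLocalRing.Defs
import Mathlib.RingTheory.Nakayama
import Mathlib.LinearAlgebra.Matrix.NonsingularInverse

/-! A standard smooth algebra over a field is regular at rational points. -/

set_option autoImplicit false

universe u v w

open MvPolynomial IsLocalRing

namespace Groth.Agent.GrpSch

variable {k : Type u} [Field k]

/-- Substituting `a` for the variables in `s`. -/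
noncomputable def substPart {ι : Type v} (a : ι → k) (s : Set ι) [DecidablePred (· ∈ s)] :
    MvPolynomial ι k →ₐ[k] MvPolynomial ι k :=
  aeval fun i => if i ∈ s then C (a i) else X i

/-- The point ideal of a rational point has height at least the number of variables. -/
lemma card_le_height_point {ι : Type v} [Finite ι] (a : ι → k)
    [(RingHom.ker (aeval a : MvPolynomial ι k →ₐ[k] k)).IsPrime] :
    (Nat.card ι : ℕ∞) ≤ (RingHom.ker (aeval a : MvPolynomial ι k →ₐ[k] k)).height := by
  classical
  let e := Finite.equivFin ι
  let s : ℕ → Set ι := fun j => {i | (e i).val < j}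
  let P : ℕ → PrimeSpectrum (MvPolynomial ι k) := fun j =>
    ⟨RingHom.ker (substPart a (s j)), RingHom.ker_isPrime _⟩
  have hlast : (P (Nat.card ι)).asIdeal = RingHom.ker (aeval a : MvPolynomial ι k →ₐ[k] k) := by
    have h : substPart a (s (Nat.card ι)) =
        (Algebra.ofId k (MvPolynomial ι k)).comp (aeval a) := by
      refine MvPolynomial.algHom_ext fun i => ?_
      simp [substPart, s, MvPolynomial.algebraMap_eq]
    ext z
    simp [P, h, RingHom.mem_ker]
  have hmono : ∀ j, j < Nat.card ι → P j < P (j + 1) := by
    intro j hj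
    have hle : (P j).asIdeal ≤ (P (j + 1)).asIdeal := by
      intro z hz
      have h : substPart a (s (j + 1)) =
          (substPart a (s (j + 1))).comp (substPart a (s j)) := by
        refine MvPolynomial.algHom_ext fun i => ?_
        by_cases hi : (e i).val < j
        · simp [substPart, s, hi, Nat.le_of_lt hi]
        · simp [substPart, s, hi]
      rw [RingHom.mem_ker] at hz ⊢
      rw [h, AlgHom.comp_apply, hz, map_zero]
    refine lt_of_le_of_ne hle fun h => ?_
    let i := e.symm ⟨j, hj⟩
    have h1 : (X i - C (a i) : MvPolynomial ι k) ∈ (P (j + 1)).asIdeal := by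
      simp [P, RingHom.mem_ker, substPart, s, i]
    rw [← h] at h1
    have h2 : substPart a (s j) (X i - C (a i)) = X i - C (a i) := by
      simp [substPart, s, i]
    rw [RingHom.mem_ker, h2, sub_eq_zero] at h1
    have := congrArg (MvPolynomial.totalDegree) h1
    simp [totalDegree_X] at this
  let l : LTSeries (PrimeSpectrum (MvPolynomial ι k)) :=
    { length := Nat.card ι
      toFun := fun j => P j.val
      step := fun j => by simpa using hmono j.val j.isLt }
  have := Order.length_le_height (p := l)
    (x := (⟨RingHom.ker (aeval a : MvPolynomial ι k →ₐ[k] k), ‹_›⟩ : PrimeSpectrum _))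
    (le_of_eq (PrimeSpectrum.ext (by simpa [RelSeries.last, l] using hlast)))
  rwa [← PrimeSpectrum.height_eq_orderHeight] at this

theorem isRegularLocalRing_of_isStandardSmooth (R : Type u) [CommRing R] [Algebra k R]
    [Algebra.IsStandardSmooth k R] (σ : R →ₐ[k] k) [(RingHom.ker σ).IsPrime]
    [IsNoetherianRing R] : IsRegularLocalRing (Localization.AtPrime (RingHom.ker σ)) := by
  classical
  obtain ⟨ι, τ, hιf, hτf, ⟨P⟩⟩ := ‹Algebra.IsStandardSmooth k R›.out
  have := Fintype.ofFinite ι
  have := Fintype.ofFinite τ
  set m := RingHom.ker σ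
  let a : ι → k := fun i => σ (P.val i)
  let g : ι → R := fun i => P.val i - algebraMap k R (a i)
  have hσev : ∀ F : MvPolynomial ι k, σ (aeval P.val F) = aeval a F := fun F => by
    rw [← AlgHom.comp_apply]
    exact congrFun (congrArg DFunLike.coe (MvPolynomial.algHom_ext (f := σ.comp (aeval P.val))
      (g := aeval a) fun i => by simp [a])) F
  have hg : ∀ i, g i ∈ m := fun i => by simp [g, m, RingHom.mem_ker, a]
  -- first order expansion
  have taylor : ∀ F : MvPolynomial ι k,
      aeval P.val F - algebraMap k R (aeval a F) -
        ∑ i, algebraMap k R (aeval a (pderiv i F)) * g i ∈ m * m := by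
    intro F
    induction F using MvPolynomial.induction_on with
    | C c => simp
    | add p q hp hq =>
      have := add_mem hp hq
      convert this using 1
      simp only [map_add, add_mul, Finset.sum_add_distrib]
      ring
    | mul_X p j hp =>
      have hm : aeval P.val p - algebraMap k R (aeval a p) ∈ m := by
        simp [m, RingHom.mem_ker, hσev]
      have key : aeval P.val (p * X j) - algebraMap k R (aeval a (p * X j)) -
          ∑ i, algebraMap k R (aeval a (pderiv i (p * X j))) * g i =
          algebraMap k R (a j) * (aeval P.val p - algebraMap k R (aeval a p) -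
            ∑ i, algebraMap k R (aeval a (pderiv i p)) * g i) +
          (aeval P.val p - algebraMap k R (aeval a p)) * g j := by
        simp only [map_mul, aeval_X, Derivation.leibniz, map_add, smul_eq_mul, pderiv_X,
          Pi.single_apply, apply_ite (aeval a), map_one, map_zero, mul_ite, mul_one, mul_zero,
          apply_ite (algebraMap k R), add_mul, ite_mul, zero_mul, Finset.sum_add_distrib,
          Finset.sum_ite_eq, Finset.mem_univ, if_true, mul_sub, Finset.mul_sum]
        simp only [g]
        ring_nf
      rw [key]
      exact add_mem (Ideal.mul_mem_left _ _ hp) (Ideal.mul_mem_mul hm (hg j))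
  have hrel : ∀ j, ∑ i, algebraMap k R (aeval a (pderiv i (P.relation j))) * g i ∈ m * m := by
    intro j
    have h0 : aeval P.val (P.relation j) = 0 := P.aeval_val_relation j
    have h := taylor (P.relation j)
    rw [h0, ← hσev, h0, map_zero, map_zero, sub_zero, zero_sub, neg_mem_iff] at h
    exact h
  -- `m` is generated by the `g i`
  have hspan : m = Ideal.span (Set.range g) := by
    refine le_antisymm (fun r hr => ?_) (Ideal.span_le.2 (Set.range_subset_iff.2 hg))
    obtain ⟨F, rfl⟩ : ∃ F, aeval P.val F = r := ⟨P.σ r, P.aeval_val_σ r⟩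
    have : ∀ G : MvPolynomial ι k,
        aeval P.val G - algebraMap k R (aeval a G) ∈ Ideal.span (Set.range g) := by
      intro G
      induction G using MvPolynomial.induction_on with
      | C c => simp
      | add p q hp hq =>
        have := add_mem hp hq
        convert this using 1
        simp only [map_add]
        ring
      | mul_X p j hp =>
        have := add_mem (Ideal.mul_mem_right (P.val j) _ hp)
          (Ideal.mul_mem_left _ (algebraMap k R (aeval a p)) (Ideal.subset_span (Set.mem_range_self j)))
        convert this using 1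
        simp only [map_mul, aeval_X, g]
        ring
    have h := this F
    rwa [← hσev, RingHom.mem_ker.1 hr, map_zero, sub_zero] at h
  -- the Jacobian is invertible at the point
  let J : Matrix τ τ k := Matrix.of fun i j => aeval a (pderiv (P.map i) (P.relation j))
  have hJ : IsUnit J.det := by
    have h := (P.jacobian_isUnit).map σ
    rw [Algebra.PreSubmersivePresentation.jacobian_eq_jacobiMatrix_det,
      Algebra.Generators.algebraMap_apply, hσev, AlgHom.map_det] at h
    convert h using 2
    ext i j
    simp [J, Algebra.PreSubmersivePresentation.jacobiMatrix_apply]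
  let T : Set ι := (Set.range P.map)ᶜ
  let Q : Ideal R := Ideal.span (g '' T) ⊔ m * m
  have hall : ∀ i, g i ∈ Q := by
    intro i
    by_cases hi : i ∈ Set.range P.map
    swap
    · exact Ideal.mem_sup_left (Ideal.subset_span ⟨i, hi, rfl⟩)
    obtain ⟨i₀, rfl⟩ := hi
    -- `∑ₗ J l j • g (map l) ∈ Q`
    have hQ : ∀ j, ∑ l, algebraMap k R (J l j) * g (P.map l) ∈ Q := by
      intro j
      have h : ∑ i, algebraMap k R (aeval a (pderiv i (P.relation j))) * g i ∈ Q :=
        Ideal.mem_sup_right (hrel j)
      rw [← Finset.sum_add_sum_compl (Finset.univ.map ⟨P.map, P.map_inj⟩), Finset.sum_map] at h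
      refine (Ideal.add_mem_iff_left _ ?_).1 h
      refine Ideal.sum_mem _ fun i hi => Ideal.mul_mem_left _ _ (Ideal.mem_sup_left
        (Ideal.subset_span ⟨i, ?_, rfl⟩))
      simpa [T] using hi
    have h : ∑ j, algebraMap k R (J⁻¹ j i₀) * ∑ l, algebraMap k R (J l j) * g (P.map l) ∈ Q :=
      Ideal.sum_mem _ fun j _ => Ideal.mul_mem_left _ _ (hQ j)
    convert h using 1
    simp only [Finset.mul_sum, ← mul_assoc, ← map_mul]
    rw [Finset.sum_comm]
    simp only [← Finset.sum_mul, ← map_sum, mul_comm (J⁻¹ _ i₀), ← Matrix.mul_apply,
      Matrix.mul_nonsing_inv J hJ, Matrix.one_apply, apply_ite (algebraMap k R), map_one, map_zero,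
      ite_mul, one_mul, zero_mul, Finset.sum_ite_eq', Finset.mem_univ, if_true]
  have hmQ : m ≤ Q := by
    rw [hspan, Ideal.span_le]
    exact Set.range_subset_iff.2 hall
  -- dimension bound
  let M : Ideal (MvPolynomial ι k) := RingHom.ker (aeval a : MvPolynomial ι k →ₐ[k] k)
  have : M.IsPrime := RingHom.ker_isPrime _
  let π : MvPolynomial ι k →+* R := (aeval P.val : MvPolynomial ι k →ₐ[k] R).toRingHom
  have hπs : Function.Surjective π := fun r => ⟨P.σ r, P.aeval_val_σ r⟩
  have hker : RingHom.ker π = Ideal.span (Set.range P.relation) := by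
    rw [P.span_range_relation_eq_ker, P.toGenerators.ker_eq_ker_aeval_val]
    rfl
  have hMm : M = m.comap π := by
    ext z
    simp [M, m, π, RingHom.mem_ker, hσev]
  have hrs : Set.range P.relation ⊆ M := by
    rintro - ⟨j, rfl⟩
    rw [hMm]
    have : aeval P.val (P.relation j) = 0 := P.aeval_val_relation j
    simp [π, this]
  have hdim : (Nat.card ι : ℕ∞) ≤ m.height + Nat.card τ := by
    refine (card_le_height_point a).trans ?_
    refine (Ideal.height_le_height_add_encard_of_subset _ hrs).trans ?_
    gcongr
    · -- heights in the quotient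
      let q : (MvPolynomial ι k ⧸ Ideal.span (Set.range P.relation)) ≃+* R :=
        (Ideal.quotEquivOfEq hker.symm).trans (RingHom.quotientKerEquivOfSurjective hπs)
      have hq : (M.map (Ideal.Quotient.mk (Ideal.span (Set.range P.relation)))) = m.comap q := by
        have hcomp : π = q.toRingHom.comp (Ideal.Quotient.mk _) := by
          ext z <;> simp [q]
        rw [hMm, hcomp, ← Ideal.comap_comap,
          Ideal.map_comap_of_surjective _ Ideal.Quotient.mk_surjective]
        rfl
      rw [hq, RingEquiv.height_comap]
    · rw [← Set.image_univ]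
      exact (Set.encard_image_le _ _).trans (by simp)
  have hdim' : ((Nat.card ι - Nat.card τ : ℕ) : WithBot ℕ∞) ≤
      ringKrullDim (Localization.AtPrime m) := by
    rw [IsLocalization.AtPrime.ringKrullDim_eq_height m]
    refine WithBot.coe_le_coe.2 ?_
    rcases eq_or_ne m.height ⊤ with ht | ht
    · rw [ht]; exact le_top
    · obtain ⟨d, hd⟩ := ENat.ne_top_iff_exists.1 ht
      rw [← hd] at hdim ⊢
      norm_cast at hdim ⊢
      omega
  refine IsRegularLocalRing.of_spanFinrank_maximalIdeal_le _ (le_trans ?_ hdim')
  -- Nakayama
  let S := Localization.AtPrime m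
  let Q' : Ideal S := Ideal.span ((algebraMap R S ∘ g) '' T)
  have hmax : maximalIdeal S ≤ Q' ⊔ maximalIdeal S • maximalIdeal S := by
    rw [smul_eq_mul, ← Localization.AtPrime.map_eq_maximalIdeal, ← Ideal.map_mul]
    refine (Ideal.map_mono hmQ).trans (le_of_eq ?_)
    rw [Ideal.map_sup, Ideal.map_span, ← Set.image_comp]
  have hle : maximalIdeal S ≤ Q' :=
    Submodule.le_of_le_smul_of_le_jacobson_bot (IsNoetherian.noetherian _)
      (IsLocalRing.maximalIdeal_le_jacobson _) hmax
  have hle' : Q' ≤ maximalIdeal S := by
    rw [Ideal.span_le]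
    rintro - ⟨i, -, rfl⟩
    rw [← Localization.AtPrime.map_eq_maximalIdeal]
    exact Ideal.mem_map_of_mem _ (hg i)
  refine Nat.cast_le.2 ?_
  rw [le_antisymm hle hle']
  refine (Submodule.spanFinrank_span_le_ncard_of_finite (Set.toFinite _)).trans ?_
  refine (Set.ncard_image_le (Set.toFinite _)).trans ?_
  rw [Set.ncard_compl, Set.ncard_range_of_injective P.map_inj]

end Groth.Agent.GrpSch
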