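import Groth.Agent.GrpSch.DiagGLBase
import Groth.Prelude.Def_AlgGrp
import Mathlib.RingTheory.Finiteness.Basic
import Mathlib.LinearAlgebra.FreeModule.PID

/-!
# Exact sequences of split tori split
-/

set_option autoImplicit false
set_option backward.isDefEq.respectTransparency.types false

universe u

open CategoryTheory MonoidalCategory CartesianMonoidalCategory MonObj AlgebraicGeometry

namespace Groth.Agent.GrpSch.SplitToriSeq

open Groth.Agent.MultHopf (hspec)

variable {k : Type u} [Field k]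

/-- the map of diagonalisable groups of a map of character groups -/
noncomputable def specMap {A B : Type} [CommGroup A] [CommGroup B] (φ : A →* B) :
    hspec k (MonoidAlgebra k B) ⟶ hspec k (MonoidAlgebra k A) :=
  Spec.mapMulEquiv (R := k)
    (WithConv.toConv (MonoidAlgebra.mapDomainBialgHom k φ : MonoidAlgebra k A →ₐ[k] MonoidAlgebra k B))

instance isMonHom_specMap {A B : Type} [CommGroup A] [CommGroup B] (φ : A →* B) :
    IsMonHom (specMap (k := k) φ) :=
  ((hopfSpec (CommRingCat.of k)).map (CommHopfAlgCat.ofHom (MonoidAlgebra.mapDomainBialgHom k φ)).op).hom.isMonHom_hom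

theorem exists_specMap {A B : Type} [CommGroup A] [CommGroup B]
    (x : hspec k (MonoidAlgebra k B) ⟶ hspec k (MonoidAlgebra k A)) [IsMonHom x] :
    ∃ φ : A →* B, x = specMap φ := by
  obtain ⟨P, hP⟩ := DiagGL.exists_bialgHom x
  obtain ⟨φ, rfl⟩ := MonoidAlgebra.mapDomainBialgHomEquiv.surjective P
  exact ⟨φ, hP⟩

theorem specMap_injective {A B : Type} [CommGroup A] [CommGroup B] :
    Function.Injective (specMap (k := k) : (A →* B) → _) := fun φ φ' h => by
  have h1 := congrArg WithConv.ofConv ((Spec.mapMulEquiv (R := k)).injective h)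
  refine MonoidHom.ext fun a => ?_
  have := DFunLike.congr_fun h1 (MonoidAlgebra.single a 1)
  exact MonoidAlgebra.single_left_injective (one_ne_zero (α := k))
    ((MonoidAlgebra.mapDomainBialgHom_single φ a 1).symm.trans
      (this.trans (MonoidAlgebra.mapDomainBialgHom_single φ' a 1)))

theorem specMap_comp {A B C : Type} [CommGroup A] [CommGroup B] [CommGroup C] (φ : A →* B) (ψ : B →* C) :
    specMap (k := k) ψ ≫ specMap φ = specMap (ψ.comp φ) := by
  refine Over.OverMorphism.ext ?_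
  change Spec.map _ ≫ Spec.map _ = Spec.map _
  rw [← Spec.map_comp]
  refine congrArg Spec.map (CommRingCat.hom_ext (RingHom.ext fun x => ?_))
  exact MonoidAlgebra.mapDomainBialgHom_mapDomainBialgHom ψ φ x

theorem specMap_id (A : Type) [CommGroup A] : specMap (k := k) (MonoidHom.id A) = 𝟙 _ := by
  refine Over.OverMorphism.ext ?_
  change Spec.map _ = 𝟙 _
  rw [← Spec.map_id]
  refine congrArg Spec.map (CommRingCat.hom_ext (RingHom.ext fun x => ?_))
  exact DFunLike.congr_fun MonoidAlgebra.mapDomainBialgHom_id x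

theorem specMap_one (A B : Type) [CommGroup A] [CommGroup B] :
    specMap (k := k) (1 : A →* B) = 1 := by
  refine Eq.trans ?_ (map_one (Spec.mapMulEquiv (R := k) (S := MonoidAlgebra k A) (T := MonoidAlgebra k B)))
  refine congrArg (Spec.mapMulEquiv (R := k)) (WithConv.ext (AlgHom.ext fun x => ?_))
  induction x using MonoidAlgebra.induction_linear with
  | zero => simp
  | add a b ha hb => rw [map_add, map_add, ha, hb]
  | single a r => simp [AlgHom.convOne_apply]

theorem injective_of_flat_surjective {A B : Type} [CommGroup A] [CommGroup B] (φ : A →* B)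
    [Flat (specMap (k := k) φ).left] [Surjective (specMap (k := k) φ).left] : Function.Injective φ := by
  let f : MonoidAlgebra k A →+* MonoidAlgebra k B := (MonoidAlgebra.mapDomainBialgHom k φ : MonoidAlgebra k A →ₐ[k] MonoidAlgebra k B).toRingHom
  have hf : Flat (Spec.map (CommRingCat.ofHom f)) := ‹Flat (specMap (k := k) φ).left›
  have hs : Surjective (Spec.map (CommRingCat.ofHom f)) := ‹Surjective (specMap (k := k) φ).left›
  have hff : RingHom.FaithfullyFlat f :=
    RingHom.FaithfullyFlat.iff_flat_and_comap_surjective.2 ⟨Flat.SpecMap_iff.1 hf, hs.surj⟩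
  intro a a' h
  refine MonoidAlgebra.single_left_injective (one_ne_zero (α := k)) (hff.injective ?_)
  exact (MonoidAlgebra.mapDomainBialgHom_single φ a 1).trans
    ((congrArg (fun b => MonoidAlgebra.single b (1 : k)) h).trans (MonoidAlgebra.mapDomainBialgHom_single φ a' 1).symm)

variable {X : Over (Spec (CommRingCat.of k))} [GrpObj X]

theorem exists_section {K G Q : Over (Spec (CommRingCat.of k))} [GrpObj K] [GrpObj G] [GrpObj Q] {a b c : ℕ}
    (eK : Grp.mk K ≅ Grp.mk (hspec k (MonoidAlgebra k (Multiplicative (Fin a → ℤ)))))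
    (eG : Grp.mk G ≅ Grp.mk (hspec k (MonoidAlgebra k (Multiplicative (Fin b → ℤ)))))
    (eQ : Grp.mk Q ≅ Grp.mk (hspec k (MonoidAlgebra k (Multiplicative (Fin c → ℤ)))))
    (i : K ⟶ G) [IsMonHom i] [Mono i] (π : G ⟶ Q) [IsMonHom π] [Flat π.left] [Surjective π.left]
    (hker : AlgGrp.IsKernel i π) : ∃ s : Q ⟶ G, IsMonHom s ∧ s ≫ π = 𝟙 Q := by
  let K₀ : K ⟶ hspec k (MonoidAlgebra k (Multiplicative (Fin a → ℤ))) := eK.hom.hom.hom
  let K₁ : hspec k (MonoidAlgebra k (Multiplicative (Fin a → ℤ))) ⟶ K := eK.inv.hom.hom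
  let G₀ : G ⟶ hspec k (MonoidAlgebra k (Multiplicative (Fin b → ℤ))) := eG.hom.hom.hom
  let G₁ : hspec k (MonoidAlgebra k (Multiplicative (Fin b → ℤ))) ⟶ G := eG.inv.hom.hom
  let Q₀ : Q ⟶ hspec k (MonoidAlgebra k (Multiplicative (Fin c → ℤ))) := eQ.hom.hom.hom
  let Q₁ : hspec k (MonoidAlgebra k (Multiplicative (Fin c → ℤ))) ⟶ Q := eQ.inv.hom.hom
  haveI : IsMonHom K₀ := eK.hom.hom.isMonHom_hom
  haveI : IsMonHom K₁ := eK.inv.hom.isMonHom_hom
  haveI : IsMonHom G₀ := eG.hom.hom.isMonHom_hom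
  haveI : IsMonHom G₁ := eG.inv.hom.isMonHom_hom
  haveI : IsMonHom Q₀ := eQ.hom.hom.isMonHom_hom
  haveI : IsMonHom Q₁ := eQ.inv.hom.isMonHom_hom
  have hK : K₁ ≫ K₀ = 𝟙 _ := congrArg (fun z => z.hom.hom) eK.inv_hom_id
  have hK' : K₀ ≫ K₁ = 𝟙 _ := congrArg (fun z => z.hom.hom) eK.hom_inv_id
  have hG : G₁ ≫ G₀ = 𝟙 _ := congrArg (fun z => z.hom.hom) eG.inv_hom_id
  have hG' : G₀ ≫ G₁ = 𝟙 _ := congrArg (fun z => z.hom.hom) eG.hom_inv_id
  have hQ : Q₁ ≫ Q₀ = 𝟙 _ := congrArg (fun z => z.hom.hom) eQ.inv_hom_id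
  have hQ' : Q₀ ≫ Q₁ = 𝟙 _ := congrArg (fun z => z.hom.hom) eQ.hom_inv_id
  obtain ⟨φ, hφ⟩ := exists_specMap (G₁ ≫ π ≫ Q₀)
  obtain ⟨ψ, hψ⟩ := exists_specMap (K₁ ≫ i ≫ G₀)
  haveI : IsIso G₁ := ⟨G₀, hG, hG'⟩
  haveI : IsIso Q₀ := ⟨Q₁, hQ', hQ⟩
  haveI : IsIso G₁.left := inferInstanceAs (IsIso ((Over.forget (Spec (CommRingCat.of k))).map G₁))
  haveI : IsIso Q₀.left := inferInstanceAs (IsIso ((Over.forget (Spec (CommRingCat.of k))).map Q₀))
  haveI : Flat (specMap (k := k) φ).left := by rw [← hφ, Over.comp_left, Over.comp_left]; infer_instance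
  haveI : Surjective (specMap (k := k) φ).left := by rw [← hφ, Over.comp_left, Over.comp_left]; infer_instance
  have hinj := injective_of_flat_surjective (k := k) φ
  have hψφ : ψ.comp φ = 1 := specMap_injective (k := k) (by
    rw [← specMap_comp, ← hφ, ← hψ, specMap_one]
    simp only [Category.assoc]
    rw [reassoc_of% hG', reassoc_of% hker.w, IsMonHom.one_hom, comp_toUnit_assoc]
    exact Hom.one_def.symm)
  let p := QuotientGroup.mk' φ.range
  have hpφ : p.comp φ = 1 := MonoidHom.ext fun x => (QuotientGroup.eq_one_iff (φ x)).2 ⟨x, rfl⟩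
  let j := specMap (k := k) p ≫ G₁
  have hj : j ≫ π = toUnit _ ≫ η[Q] := by
    have : j ≫ π = (specMap (k := k) p ≫ (G₁ ≫ π ≫ Q₀)) ≫ Q₁ := by
      simp only [j, Category.assoc, hQ', Category.comp_id]
    rw [this, hφ, specMap_comp, hpφ, specMap_one, MonObj.one_comp, Hom.one_def]
  let l := hker.lift j (toUnit _) hj
  have hl : l ≫ i = j := hker.lift_fst _ _ hj
  haveI : IsMonHom j := inferInstance
  haveI : IsMonHom l := by
    haveI : IsMonHom (l ≫ i) := hl ▸ ‹IsMonHom j›
    refine ⟨?_, ?_⟩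
    · rw [← cancel_mono i, Category.assoc, IsMonHom.one_hom, IsMonHom.one_hom]
    · rw [← cancel_mono i, Category.assoc, IsMonHom.mul_hom, Category.assoc, IsMonHom.mul_hom (f := i),
        tensorHom_comp_tensorHom_assoc]
  obtain ⟨ψ', hψ'⟩ := exists_specMap (l ≫ K₀)
  have hψ'ψ : ψ'.comp ψ = p := specMap_injective (k := k) (by
    rw [← specMap_comp, ← hψ', ← hψ]
    simp only [Category.assoc]
    rw [reassoc_of% hK', reassoc_of% hl]
    simp only [j, Category.assoc, hG, Category.comp_id])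
  let f : (Fin c → ℤ) →ₗ[ℤ] (Fin b → ℤ) := (AddMonoidHom.mk' (fun x => Multiplicative.toAdd (φ (Multiplicative.ofAdd x))) (fun x y => congrArg Multiplicative.toAdd (map_mul φ (Multiplicative.ofAdd x) (Multiplicative.ofAdd y)))).toIntLinearMap
  let g : (Fin b → ℤ) →ₗ[ℤ] (Fin a → ℤ) := (AddMonoidHom.mk' (fun x => Multiplicative.toAdd (ψ (Multiplicative.ofAdd x))) (fun x y => congrArg Multiplicative.toAdd (map_mul ψ (Multiplicative.ofAdd x) (Multiplicative.ofAdd y)))).toIntLinearMap
  have hgf : LinearMap.range f ≤ LinearMap.ker g := by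
    rintro _ ⟨x, rfl⟩
    exact congrArg Multiplicative.toAdd (DFunLike.congr_fun hψφ (Multiplicative.ofAdd x))
  let gbar := (LinearMap.range f).liftQ g hgf
  have hgbar : Function.Injective gbar := by
    rw [injective_iff_map_eq_zero]
    intro x hx
    obtain ⟨y, rfl⟩ := Submodule.Quotient.mk_surjective _ x
    have hψy : ψ (Multiplicative.ofAdd y) = 1 := congrArg Multiplicative.ofAdd hx
    have : p (Multiplicative.ofAdd y) = 1 := by
      rw [← hψ'ψ, MonoidHom.comp_apply, hψy, map_one]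
    obtain ⟨z, hz⟩ := (QuotientGroup.eq_one_iff _).1 this
    rw [Submodule.Quotient.mk_eq_zero]
    exact ⟨Multiplicative.toAdd z, congrArg Multiplicative.toAdd hz⟩
  haveI : Module.IsTorsionFree ℤ ((Fin b → ℤ) ⧸ LinearMap.range f) :=
    hgbar.moduleIsTorsionFree gbar (fun r x => map_smul gbar r x)
  haveI : Module.Finite ℤ ((Fin b → ℤ) ⧸ LinearMap.range f) := inferInstance
  haveI : Module.Free ℤ ((Fin b → ℤ) ⧸ LinearMap.range f) := inferInstance
  obtain ⟨s₀, hs₀⟩ := Module.projective_lifting_property (LinearMap.range f).mkQ LinearMap.id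
    (Submodule.mkQ_surjective _)
  have hfinj : Function.Injective f := fun x y h => by
    have := hinj (congrArg Multiplicative.ofAdd h)
    exact congrArg Multiplicative.toAdd this
  let d : (Fin b → ℤ) →ₗ[ℤ] (Fin b → ℤ) := LinearMap.id - s₀ ∘ₗ (LinearMap.range f).mkQ
  have hd : ∀ y, d y ∈ LinearMap.range f := fun y => by
    rw [← Submodule.Quotient.mk_eq_zero, ← Submodule.mkQ_apply]
    have := DFunLike.congr_fun hs₀ ((LinearMap.range f).mkQ y)
    simp only [d, LinearMap.sub_apply, LinearMap.comp_apply, LinearMap.id_apply, map_sub] at this ⊢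
    rw [this, sub_self]
  let r : (Fin b → ℤ) →ₗ[ℤ] (Fin c → ℤ) :=
    (LinearEquiv.ofInjective f hfinj).symm.toLinearMap ∘ₗ d.codRestrict _ hd
  have hr : ∀ x, r (f x) = x := fun x => by
    apply hfinj
    have h0 : (LinearMap.range f).mkQ (f x) = 0 := (Submodule.Quotient.mk_eq_zero _).2 ⟨x, rfl⟩
    have : f ((LinearEquiv.ofInjective f hfinj).symm (d.codRestrict _ hd (f x))) = d (f x) :=
      congrArg Subtype.val ((LinearEquiv.ofInjective f hfinj).apply_symm_apply _)
    exact this.trans (by simp [d, h0])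
  let rm : Multiplicative (Fin b → ℤ) →* Multiplicative (Fin c → ℤ) := AddMonoidHom.toMultiplicative r.toAddMonoidHom
  have hrφ : rm.comp φ = MonoidHom.id _ :=
    MonoidHom.ext fun x => congrArg Multiplicative.ofAdd (hr (Multiplicative.toAdd x))
  refine ⟨Q₀ ≫ specMap (k := k) rm ≫ G₁, inferInstance, ?_⟩
  calc (Q₀ ≫ specMap (k := k) rm ≫ G₁) ≫ π
      = Q₀ ≫ (specMap (k := k) rm ≫ (G₁ ≫ π ≫ Q₀)) ≫ Q₁ := by simp only [Category.assoc, hQ', Category.comp_id]
    _ = 𝟙 Q := by rw [hφ, specMap_comp, hrφ, specMap_id, Category.id_comp, hQ']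

end Groth.Agent.GrpSch.SplitToriSeq
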