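import Groth.Agent.GrpSch.Action
import Groth.Agent.GrpSch.FieldTop
import Mathlib.AlgebraicGeometry.Morphisms.UniversallyOpen

/-!
# The largest open over which an equivariant morphism has a local property is stable
-/

set_option autoImplicit false

universe u

open CategoryTheory MonoidalCategory CartesianMonoidalCategory MonObj Limits AlgebraicGeometry

namespace Groth.Agent.GrpSch.StableOpen

theorem exists_largest {X Y : Scheme.{u}} (f : X ⟶ Y) (P : MorphismProperty Scheme.{u})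
    [IsZariskiLocalAtTarget P] :
    ∃ V : Y.Opens, P (f ∣_ V) ∧ ∀ V' : Y.Opens, P (f ∣_ V') → V' ≤ V := by
  let ι' := {V' : Y.Opens // P (f ∣_ V')}
  refine ⟨⨆ i : ι', i.1, ?_, fun V' h => le_iSup (fun i : ι' => i.1) ⟨V', h⟩⟩
  rw [IsZariskiLocalAtTarget.iff_of_iSup_eq_top (P := P)
    (fun i : ι' => (⨆ i : ι', i.1).ι ⁻¹ᵁ i.1) ((Scheme.Hom.preimage_iSup _ _).symm.trans (by
      ext x; simp))]
  intro i
  rw [P.arrow_mk_iso_iff (morphismRestrictRestrict _ _ _)]
  have : (⨆ i : ι', i.1).ι ''ᵁ (⨆ i : ι', i.1).ι ⁻¹ᵁ i.1 = i.1 := by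
    rw [Scheme.Hom.image_preimage_eq_opensRange_inf, Scheme.Opens.opensRange_ι]
    exact inf_eq_right.2 (le_iSup (fun i : ι' => i.1) i)
  rw [this]
  exact i.2

variable {S : Scheme.{u}} {G X Y : Over S} [GrpObj G]

theorem stable [Flat G.hom] [UniversallyOpen G.hom] (aX : AlgGrp.Action G X) (aY : AlgGrp.Action G Y)
    (f : X ⟶ Y) (hf : (G ◁ f) ≫ aY.act = aX.act ≫ f)
    (P : MorphismProperty Scheme.{u}) [IsZariskiLocalAtTarget P] [P.IsStableUnderBaseChange]
    [P.DescendsAlong (@Flat ⊓ @Surjective ⊓ @UniversallyOpen)]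
    (V : Y.left.Opens) (hV : P (f.left ∣_ V)) (hmax : ∀ V' : Y.left.Opens, P (f.left ∣_ V') → V' ≤ V) :
    (snd G Y).left ⁻¹ᵁ V ≤ aY.act.left ⁻¹ᵁ V := by
  have hsnd : IsPullback (G ◁ f).left (snd G X).left (snd G Y).left f.left :=
    isPullback_left (isPullback_whiskerLeft G f)
  have hact : IsPullback (G ◁ f).left aX.act.left aY.act.left f.left := by
    refine IsPullback.of_iso hsnd ((Over.forget S).mapIso (actShear aX)).symm
      ((Over.forget S).mapIso (actShear aY)).symm (Iso.refl _) (Iso.refl _) ?_ ?_ ?_ ?_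
    · change (G ◁ f).left ≫ (actShear aY).inv.left = (actShear aX).inv.left ≫ (G ◁ f).left
      rw [← Over.comp_left, ← Over.comp_left]
      congr 1
      rw [← cancel_epi (actShear aX).hom, Iso.hom_inv_id_assoc, ← Category.assoc, Iso.comp_inv_eq]
      apply CartesianMonoidalCategory.hom_ext
      · simp
      · simp [hf]
    · rw [Iso.refl_hom, Category.comp_id]
      change (snd G X).left = (actShear aX).inv.left ≫ aX.act.left
      rw [← Over.comp_left, ← actShear_hom_snd aX, Iso.inv_hom_id_assoc]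
    · rw [Iso.refl_hom, Category.comp_id]
      change (snd G Y).left = (actShear aY).inv.left ≫ aY.act.left
      rw [← Over.comp_left, ← actShear_hom_snd aY, Iso.inv_hom_id_assoc]
    · simp
  haveI : UniversallyOpen aY.act.left := property_act aY ‹_›
  haveI : Flat aY.act.left := property_act aY ‹_›
  set U := (snd G Y).left ⁻¹ᵁ V with hU
  let W : Y.left.Opens := ⟨aY.act.left '' U, aY.act.left.isOpenMap _ U.isOpen⟩
  let φ : U.toScheme ⟶ W.toScheme := IsOpenImmersion.lift W.ι (U.ι ≫ aY.act.left) (by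
    rw [W.range_ι]
    rintro _ ⟨z, rfl⟩
    exact ⟨U.ι z, z.2, rfl⟩)
  have hφ : φ ≫ W.ι = U.ι ≫ aY.act.left := IsOpenImmersion.lift_fac _ _ _
  have hpb : IsPullback φ (𝟙 _) W.ι (U.ι ≫ aY.act.left) := by
    refine IsPullback.of_isLimit' ⟨by rw [hφ, Category.id_comp]⟩ (PullbackCone.IsLimit.mk _
      (fun s => s.snd) (fun s => ?_) (fun s => Category.comp_id _) (fun s m _ h => ?_))
    · rw [← cancel_mono W.ι, Category.assoc, hφ, s.condition]
    · simpa using h
  haveI : Flat φ := MorphismProperty.of_isPullback hpb.flip (inferInstanceAs (Flat (U.ι ≫ aY.act.left)))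
  haveI : UniversallyOpen φ :=
    MorphismProperty.of_isPullback hpb.flip (inferInstanceAs (UniversallyOpen (U.ι ≫ aY.act.left)))
  haveI : Surjective φ := ⟨by
    rintro ⟨w, z, hz, rfl⟩
    exact ⟨⟨z, hz⟩, W.ι.isOpenEmbedding.injective (by
      rw [← Scheme.Hom.comp_apply, hφ]; rfl)⟩⟩
  let g := (G ◁ f).left
  have hr : IsPullback (g ∣_ U) ((g ⁻¹ᵁ U).ι) U.ι g := isPullback_morphismRestrict g U
  have hb : IsPullback (g ∣_ U) ((g ⁻¹ᵁ U).ι ≫ aX.act.left) (U.ι ≫ aY.act.left) f.left := hr.paste_vert hact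
  have hbW : IsPullback (f.left ∣_ W) (f.left ⁻¹ᵁ W).ι W.ι f.left := isPullback_morphismRestrict f.left W
  have hgU : P (g ∣_ U) := by
    have hb' : IsPullback (g ∣_ U) ((g ⁻¹ᵁ U).ι ≫ (snd G X).left) (U.ι ≫ (snd G Y).left) f.left :=
      hr.paste_vert hsnd
    have hbV : IsPullback (f.left ∣_ V) (f.left ⁻¹ᵁ V).ι V.ι f.left := isPullback_morphismRestrict f.left V
    rw [← morphismRestrict_ι] at hb'
    let m := hbV.lift (g ∣_ U ≫ (snd G Y).left ∣_ V) ((g ⁻¹ᵁ U).ι ≫ (snd G X).left) (by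
      rw [Category.assoc]; exact hb'.w)
    have hm : m ≫ (f.left ⁻¹ᵁ V).ι = (g ⁻¹ᵁ U).ι ≫ (snd G X).left := hbV.lift_snd _ _ _
    rw [← hm] at hb'
    exact MorphismProperty.of_isPullback (hb'.of_bot (hbV.lift_fst _ _ _).symm hbV).flip hV
  let m := hbW.lift (g ∣_ U ≫ φ) ((g ⁻¹ᵁ U).ι ≫ aX.act.left) (by
    rw [Category.assoc, hφ]; exact hb.w)
  have hm : m ≫ (f.left ⁻¹ᵁ W).ι = (g ⁻¹ᵁ U).ι ≫ aX.act.left := hbW.lift_snd _ _ _
  rw [← hm, ← hφ] at hb
  have hW : W ≤ V := hmax W (MorphismProperty.of_isPullback_of_descendsAlong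
    (P := P) (Q := @Flat ⊓ @Surjective ⊓ @UniversallyOpen)
    (hb.of_bot (hbW.lift_fst _ _ _).symm hbW) ⟨⟨‹_›, ‹_›⟩, ‹_›⟩ hgU)
  exact fun z hz => hW ⟨z, hz, rfl⟩

end Groth.Agent.GrpSch.StableOpen
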