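import Groth.Agent.GrpSch.TangentMul
import Groth.Agent.GrpSch.Dim
import Groth.Agent.GrpSch.OverBase

/-!
# Tangent vectors and unramifiedness
-/

set_option autoImplicit false

universe u

open CategoryTheory MonoidalCategory CartesianMonoidalCategory MonObj GrpObj Limits AlgebraicGeometry
  TrivSqZeroExt

namespace Groth.Agent.GrpSch.TangentMul

open Cartier

variable {k : Type u} [Field k]

/-- if the local ring at a rational point is the residue field there are no tangent vectors -/
theorem eq_trivial_of_surjective {X : Over (Spec (CommRingCat.of k))}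
    (e : 𝟙_ (Over (Spec (CommRingCat.of k))) ⟶ X)
    (h : Function.Surjective (X.hom.stalkMap (e.left (IsLocalRing.closedPoint k))).hom)
    (g : specOver (K := k) (DualNumber k) ⟶ X) (hg : specOverMap aug ≫ g = toUnit _ ≫ e) :
    g = toUnit _ ≫ e := by
  haveI : IsLocalRing (DualNumber k) := isLocalRing_dualNumber k
  set x := e.left (IsLocalRing.closedPoint k) with hx
  haveI : IsLocalHom (aug (k := k)).toRingHom := ⟨fun a ha => TrivSqZeroExt.isUnit_iff_isUnit_fst.2 ha⟩
  have hcl : (specOverMap (aug (k := k))).left (IsLocalRing.closedPoint k) = IsLocalRing.closedPoint (DualNumber k) :=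
    IsLocalRing.comap_closedPoint (aug (k := k)).toRingHom
  have hgx : g.left (IsLocalRing.closedPoint (DualNumber k)) = x := by
    rw [← hcl, ← comp_left_apply, hg, comp_left_apply, hx]
    exact congrArg e.left (Subsingleton.elim (α := PrimeSpectrum k) _ _)
  have hex : (toUnit (specOver (K := k) (DualNumber k)) ≫ e).left (IsLocalRing.closedPoint (DualNumber k)) = x := by
    rw [comp_left_apply, hx]
    exact congrArg e.left (Subsingleton.elim (α := PrimeSpectrum k) _ _)
  obtain ⟨ψ, hψ, -⟩ := exists_factor (R := CommRingCat.of (DualNumber k)) g.left x hgx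
  obtain ⟨ψ', hψ', -⟩ := exists_factor (R := CommRingCat.of (DualNumber k)) (toUnit (specOver (K := k) (DualNumber k)) ≫ e).left x hex
  have key : X.hom.stalkMap x ≫ ψ = X.hom.stalkMap x ≫ ψ' := Spec.map_injective <| by
    rw [← cancel_mono ((Spec (CommRingCat.of k)).fromSpecStalk (X.hom x)), Spec.map_comp, Spec.map_comp,
      Category.assoc, Category.assoc, Scheme.SpecMap_stalkMap_fromSpecStalk, ← Category.assoc,
      ← Category.assoc, hψ, hψ', Over.w g, Over.w (toUnit _ ≫ e)]
  have : ψ = ψ' := by
    apply CommRingCat.hom_ext; apply RingHom.ext; intro a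
    obtain ⟨r, rfl⟩ := h a
    exact congr($key r)
  exact Over.OverMorphism.ext (by rw [← hψ, ← hψ', this])

/-- on a positive dimensional group scheme multiplication by a multiple of the characteristic is
not étale -/
theorem not_etale_zpow (G : Over (Spec (CommRingCat.of k))) [GrpObj G] [IsCommMonObj G]
    [LocallyOfFiniteType G.hom] [IsSeparated G.hom] (hG : 0 < topologicalKrullDim G.left) (n : ℤ)
    (hn : (n : k) = 0) : ¬ Etale (𝟙 G ^ n).left := by
  intro hE
  let u := 𝟙 G ^ n
  haveI : Etale u.left := hE
  haveI : IsMonHom u := isMonHom_zpow G n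
  have hK : IsPullback (pullback.fst u η[G]) (toUnit _) u η[G] := by
    rw [← toUnit_unique (pullback.snd u η[G]) (toUnit _)]
    exact IsPullback.of_hasPullback u η[G]
  obtain ⟨e, he⟩ := HomLocus.exists_unit hK
  haveI : FormallyUnramified (pullback u η[G]).hom :=
    HomLocus.PointProp.kernel_property (R := @FormallyUnramified) hK inferInstance
  haveI : LocallyOfFiniteType (pullback u η[G]).hom :=
    HomLocus.PointProp.kernel_property (R := @LocallyOfFiniteType) hK inferInstance
  have hsK : Function.Surjective ((pullback u η[G]).hom.stalkMap (e.left (IsLocalRing.closedPoint k))).hom := by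
    set x := e.left (IsLocalRing.closedPoint k)
    let φ := ((pullback u η[G]).hom.stalkMap x).hom
    let _ : Algebra _ _ := φ.toAlgebra
    haveI : Algebra.FormallyUnramified ((Spec (CommRingCat.of k)).presheaf.stalk ((pullback u η[G]).hom x)) ((pullback u η[G]).left.presheaf.stalk x) := FormallyUnramified.stalkMap _ x
    haveI : Algebra.EssFiniteType ((Spec (CommRingCat.of k)).presheaf.stalk ((pullback u η[G]).hom x)) ((pullback u η[G]).left.presheaf.stalk x) := LocallyOfFiniteType.stalkMap _ x
    haveI : IsLocalHom (algebraMap ((Spec (CommRingCat.of k)).presheaf.stalk ((pullback u η[G]).hom x)) ((pullback u η[G]).left.presheaf.stalk x)) := inferInstanceAs (IsLocalHom φ)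
    have hm := Algebra.FormallyUnramified.map_maximalIdeal (R := (Spec (CommRingCat.of k)).presheaf.stalk ((pullback u η[G]).hom x)) (S := (pullback u η[G]).left.presheaf.stalk x)
    have hb : IsLocalRing.maximalIdeal ((Spec (CommRingCat.of k)).presheaf.stalk ((pullback u η[G]).hom x)) = ⊥ := by
      rw [← IsLocalRing.isField_iff_maximalIdeal_eq]
      exact isField_stalk_spec k _
    rw [hb, Ideal.map_bot] at hm
    intro b
    obtain ⟨r, hr⟩ := (ratPoint_stalk e).1 b
    rw [← hm, Ideal.mem_bot, sub_eq_zero] at hr
    exact ⟨r, hr.symm⟩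
  have hsG : Function.Surjective (G.hom.stalkMap (η[G].left (IsLocalRing.closedPoint k))).hom := by
    refine (ratPoint_stalk η[G]).2 fun g hg => ?_
    rw [← Hom.one_def] at hg ⊢
    have h1 : g ≫ u = toUnit _ ≫ η[G] := by
      rw [GrpObj.comp_zpow, Category.comp_id, zpow_eq_scale g hg, hn, scale_zero g hg, Hom.one_def]
    have hl : hK.lift g (toUnit _) h1 = toUnit _ ≫ e := by
      refine eq_trivial_of_surjective e hsK _ ?_
      refine hK.hom_ext ?_ (toUnit_unique _ _)
      rw [Category.assoc, hK.lift_fst, hg, Category.assoc, he, Hom.one_def]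
    rw [← hK.lift_fst g (toUnit _) h1, hl, Category.assoc, he, Hom.one_def]
  set x₀ := η[G].left (IsLocalRing.closedPoint k) with hx₀
  haveI := (isSeparated_iff_one G).1 ‹_›
  have hcl : IsClosed {x₀} := by
    have := η[G].left.isClosedEmbedding.isClosed_range
    have hr : Set.range η[G].left = {x₀} := Set.eq_singleton_iff_unique_mem.2 ⟨⟨_, rfl⟩, by
      rintro _ ⟨t, rfl⟩
      rw [hx₀, Subsingleton.elim (α := PrimeSpectrum k) t (IsLocalRing.closedPoint k)]⟩
    rwa [hr] at this
  have hfield : IsField (G.left.presheaf.stalk x₀) := by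
    let F := (Spec (CommRingCat.of k)).presheaf.stalk (G.hom x₀)
    let _ : Field F := (isField_stalk_spec k _).toField
    exact MulEquiv.isField (Field.toIsField F) (RingEquiv.ofBijective (G.hom.stalkMap x₀).hom ⟨RingHom.injective _, hsG⟩).symm.toMulEquiv
  have hdim := coheight_eq_topologicalKrullDim G hcl
  rw [← ringKrullDim_stalk_eq_coheight, ringKrullDim_eq_zero_of_isField hfield] at hdim
  exact hG.ne hdim
where
  isField_stalk_spec (k : Type u) [Field k] (x : Spec (CommRingCat.of k)) :
      IsField ((Spec (CommRingCat.of k)).presheaf.stalk x) := by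
    refine isField_stalk_of_closure_mem_irreducibleComponents _ _ ?_
    rw [irreducibleComponents_eq_singleton, Set.mem_singleton_iff]
    exact Set.eq_univ_of_forall fun y => Subsingleton.elim (α := PrimeSpectrum k) x y ▸ subset_closure rfl

end Groth.Agent.GrpSch.TangentMul
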