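import Groth.Agent.GrpSch.OrbitRat
import Groth.Agent.GrpSch.DenseMul
import Groth.Agent.GrpSch.Neutral
import Groth.Agent.GrpSch.Points
import Groth.Prelude.Def_AutSch

/-!
# Torsion of the component group lifts to torsion points
-/

set_option autoImplicit false

universe u

open CategoryTheory MonoidalCategory CartesianMonoidalCategory MonObj GrpObj AlgebraicGeometry

namespace Groth.Agent.GrpSch.TorsionLift

variable {k : Type u} [Field k] [IsAlgClosed k] {G H : Over (Spec (CommRingCat.of k))} [GrpObj G] [GrpObj H]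
  [IsCommMonObj G] [LocallyOfFiniteType G.hom]

instance isMonHom_mul {M : Over (Spec (CommRingCat.of k))} [GrpObj M] (f g : M ⟶ G) [IsMonHom f] [IsMonHom g] :
    IsMonHom (f * g) := by
  rw [Hom.mul_def]; infer_instance

lemma isMonHom_pow {M : Over (Spec (CommRingCat.of k))} [GrpObj M] (f : M ⟶ G) [IsMonHom f] (n : ℕ) :
    IsMonHom (f ^ n) := by
  induction n with
  | zero => rw [pow_zero]; exact inferInstanceAs (IsMonHom (toUnit M ≫ η[G]))
  | succ n ih => rw [pow_succ]; haveI := ih; infer_instance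

theorem exists_torsion (i : H ⟶ G) [IsMonHom i] [IsOpenImmersion i.left] [CompactSpace H.left]
    (g : 𝟙_ (Over (Spec (CommRingCat.of k))) ⟶ G) (n : ℕ) (hn : 0 < n)
    (x : 𝟙_ (Over (Spec (CommRingCat.of k))) ⟶ H) (hx : x ≫ i = g ^ n) :
    ∃ t : 𝟙_ (Over (Spec (CommRingCat.of k))) ⟶ G, IsOfFinOrder t ∧ t⁻¹ * g ∈ AutSch.ptsRange i := by
  haveI : LocallyOfFiniteType H.hom := by rw [← Over.w i]; infer_instance
  haveI : IsLocallyNoetherian G.left := LocallyOfFiniteType.isLocallyNoetherian G.hom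
  haveI : IsLocallyNoetherian H.left := LocallyOfFiniteType.isLocallyNoetherian H.hom
  haveI : IsNoetherian H.left := {}
  let R : ℕ → Set H.left := fun N => i.left ⁻¹' Set.range (i ^ N).left
  have hRc : ∀ N, IsClosed (R N) := fun N => by
    haveI := isMonHom_pow i N
    haveI : QuasiCompact (i ^ N).left := by
      haveI : QuasiSeparated G.hom := inferInstance
      haveI : QuasiCompact ((i ^ N).left ≫ G.hom) := by
        rw [Over.w]; exact (quasiCompact_iff_compactSpace H.hom).2 inferInstance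
      exact QuasiCompact.of_comp (i ^ N).left G.hom
    exact (isClosed_range_hom (i ^ N)).preimage i.left.continuous
  have hR : ∀ (N : ℕ) (y : H.left), y ∈ R N ↔ ∃ z, ((𝟙 H) ^ N).left z = y := by
    intro N y
    have he : ((𝟙 H) ^ N) ≫ i = i ^ N := by rw [MonObj.pow_comp, Category.id_comp]
    have he' : ∀ z, i.left (((𝟙 H) ^ N).left z) = (i ^ N).left z := fun z => by
      rw [← Scheme.Hom.comp_apply, ← Over.comp_left, he]
    constructor
    · rintro ⟨z, hz⟩
      exact ⟨z, i.left.isOpenEmbedding.injective ((he' z).trans hz)⟩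
    · rintro ⟨z, rfl⟩; exact ⟨z, (he' z).symm⟩
  have hanti : ∀ N N', N ∣ N' → R N' ⊆ R N := by
    rintro N _ ⟨d, rfl⟩ y hy
    obtain ⟨z, hz⟩ := (hR _ y).1 hy
    refine (hR N y).2 ⟨((𝟙 H) ^ d).left z, ?_⟩
    rw [← hz, ← Scheme.Hom.comp_apply, ← Over.comp_left, MonObj.comp_pow, Category.comp_id, ← pow_mul, mul_comm d]
  let C : ℕ →o (TopologicalSpace.Closeds H.left)ᵒᵈ :=
    ⟨fun j => OrderDual.toDual ⟨R j.factorial, hRc _⟩, fun a b hab =>
      show R b.factorial ⊆ R a.factorial from hanti _ _ (Nat.factorial_dvd_factorial hab)⟩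
  haveI : WellFoundedGT (TopologicalSpace.Closeds H.left)ᵒᵈ := inferInstance
  obtain ⟨m, hm⟩ := WellFoundedGT.monotone_chain_condition C
  set M := m.factorial
  have hMn : R M ⊆ R (M * n) := by
    have h1 : R M = R (m + M * n).factorial :=
      congrArg (fun c : (TopologicalSpace.Closeds H.left)ᵒᵈ => ((OrderDual.ofDual c).carrier : Set H.left)) (hm (m + M * n) (by omega))
    rw [h1]
    exact hanti _ _ (Nat.dvd_factorial (Nat.mul_pos m.factorial_pos hn) (by omega))
  have hp : (x ^ M).left (IsLocalRing.closedPoint k) ∈ R M := by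
    refine (hR M _).2 ⟨x.left (IsLocalRing.closedPoint k), ?_⟩
    rw [← Scheme.Hom.comp_apply, ← Over.comp_left, MonObj.comp_pow, Category.comp_id]
  obtain ⟨z, hz⟩ := (hR _ _).1 (hMn hp)
  have hcl : IsClosed {(x ^ M).left (IsLocalRing.closedPoint k)} := by
    exact (pointEquivClosedPoint H.hom ⟨(x ^ M).left, Over.w (x ^ M)⟩).2
  haveI : JacobsonSpace H.left := LocallyOfFiniteType.jacobsonSpace H.hom
  obtain ⟨w, hw, hwc⟩ := nonempty_inter_closedPoints (X := H.left)
    (Z := ((𝟙 H) ^ (M * n)).left ⁻¹' {(x ^ M).left (IsLocalRing.closedPoint k)}) ⟨z, hz⟩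
    (hcl.preimage ((𝟙 H) ^ (M * n)).left.continuous).isLocallyClosed
  obtain ⟨y, hy⟩ := exists_ratPoint H hwc
  have hyx : y ^ (M * n) = x ^ M := by
    refine Over.OverMorphism.ext (ext_of_apply_closedPoint_eq H.hom (Over.w _) (Over.w _) ?_)
    have : (y ≫ (𝟙 H) ^ (M * n)).left (IsLocalRing.closedPoint k) = (x ^ M).left (IsLocalRing.closedPoint k) := by
      rw [Over.comp_left, Scheme.Hom.comp_apply, hy]; exact hw
    rwa [MonObj.comp_pow, Category.comp_id] at this
  refine ⟨g * (y ≫ i)⁻¹, isOfFinOrder_iff_pow_eq_one.2 ⟨M * n, Nat.mul_pos m.factorial_pos hn, ?_⟩, ⟨y, ?_⟩⟩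
  · rw [mul_pow, inv_pow, ← MonObj.pow_comp, hyx, MonObj.pow_comp, hx, ← pow_mul, mul_comm n, mul_inv_cancel]
  · change y ≫ i = _
    rw [_root_.mul_inv_rev, _root_.inv_inv, _root_.mul_assoc, inv_mul_cancel, _root_.mul_one]

end Groth.Agent.GrpSch.TorsionLift
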