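import Groth.Agent.GrpSch.AbRigid
import Groth.Agent.GrpSch.TransComp
import Groth.Agent.IsoLocus.Basic
import Groth.Agent.GrpSch.ConstFib
import Groth.Agent.RedSepLib.Reduced
import Mathlib.AlgebraicGeometry.Morphisms.FlatDescent

/-!
# A unital multiplication on a proper flat scheme with integral fibres is a group law
-/

set_option autoImplicit false

universe u

open CategoryTheory Limits MonoidalCategory CartesianMonoidalCategory AlgebraicGeometry

namespace Groth.Agent.GrpSch.UnitalMul

open IsLocalRing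

/-- an isomorphism after base change to a field point gives an isomorphism on the fibre -/
theorem isIso_fiberMap {Y S : Scheme.{u}} (Φ : Y ⟶ Y) (h : Y ⟶ S) (hΦ : Φ ≫ h = h)
    {K : Type u} [Field K] (τ : Spec (CommRingCat.of K) ⟶ S) {W : Scheme.{u}} (c : W ⟶ Y)
    (q : W ⟶ Spec (CommRingCat.of K)) (sq : IsPullback c q h τ) (L : W ⟶ W) (hLq : L ≫ q = q)
    (hL : L ≫ c = c ≫ Φ) [IsIso L] : IsIso (MoreMor.fiberMap Φ h (τ (closedPoint K))) := by
  obtain ⟨⟨t, φ⟩, rfl⟩ : ∃ p, (Scheme.SpecToEquivOfField K S).symm p = τ :=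
    ⟨_, (Scheme.SpecToEquivOfField K S).symm_apply_apply τ⟩
  have ht : (Scheme.SpecToEquivOfField K S).symm ⟨t, φ⟩ (closedPoint K) = t :=
    S.fromSpecResidueField_apply t _
  rw [ht]
  have sq' : IsPullback c q h (Spec.map φ ≫ S.fromSpecResidueField t) := sq
  have hfib : IsPullback (h.fiberι t) (h.fiberToSpecResidueField t) h (S.fromSpecResidueField t) :=
    IsPullback.of_hasPullback h _
  let c' : W ⟶ h.fiber t := hfib.lift c (q ≫ Spec.map φ) (by rw [sq'.w, Category.assoc])
  have hc' : IsPullback c' q (h.fiberToSpecResidueField t) (Spec.map φ) :=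
    IsPullback.of_right (by rw [hfib.lift_fst]; exact sq') (hfib.lift_snd _ _ _) hfib
  haveI : Flat (Spec.map φ) := by
    rw [HasRingHomProperty.Spec_iff (P := @Flat)]
    let := φ.hom.toAlgebra
    exact inferInstanceAs (Module.Flat (S.residueField t) K)
  have hQ : (@Surjective ⊓ @Flat ⊓ @QuasiCompact : MorphismProperty Scheme.{u}) c' :=
    MorphismProperty.of_isPullback hc'.flip
      ⟨⟨⟨fun y => ⟨closedPoint K, Subsingleton.elim _ _⟩⟩, inferInstance⟩, inferInstance⟩
  have sqΦ := FlatLocus.isPullback_fiberMap Φ h t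
  let c'' : W ⟶ (Φ ≫ h).fiber t := sqΦ.lift c (L ≫ c')
    (by rw [Category.assoc, hfib.lift_fst, hL])
  have hcL : IsPullback c L Φ c := IsPullback.of_bot (by rw [hLq, hΦ]; exact sq') hL.symm sq'
  have hc'' : IsPullback c'' L (MoreMor.fiberMap Φ h t) c' :=
    IsPullback.of_right (by rw [sqΦ.lift_fst, hfib.lift_fst]; exact hcL) (sqΦ.lift_snd _ _ _) sqΦ
  exact MorphismProperty.of_isPullback_of_descendsAlong (P := MorphismProperty.isomorphisms Scheme.{u})
    (Q := @Surjective ⊓ @Flat ⊓ @QuasiCompact) hc''.flip hQ ‹IsIso L›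

variable {S : Scheme.{u}}

/-- Left translation by a point. -/
noncomputable abbrev leftMul (X : Over S) (m : X ⊗ X ⟶ X) (a : 𝟙_ (Over S) ⟶ X) : X ⟶ X :=
  lift (toUnit X ≫ a) (𝟙 X) ≫ m

lemma comp_leftMul {T X : Over S} (m : X ⊗ X ⟶ X) (a : 𝟙_ (Over S) ⟶ X) (q : T ⟶ X) :
    q ≫ leftMul X m a = lift (toUnit T ≫ a) q ≫ m := by
  rw [leftMul, comp_lift_assoc, Category.comp_id, ← Category.assoc, toUnit_unique (q ≫ toUnit X) (toUnit T)]

/-- a closed immersion of a noetherian space into itself is surjective -/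
theorem surjective_of_isClosedEmbedding {α : Type*} [TopologicalSpace α]
    [TopologicalSpace.NoetherianSpace α] {f : α → α} (hf : Topology.IsClosedEmbedding f) :
    Function.Surjective f := by
  let C : ℕ → TopologicalSpace.Closeds α := fun n =>
    ⟨Set.range (f^[n]), (Nat.rec (motive := fun n => IsClosed (Set.range (f^[n])))
      (by simp) (fun n hn => by
        rw [Function.iterate_succ', Set.range_comp]; exact hf.isClosedMap _ hn) n)⟩
  obtain ⟨n, hn⟩ := WellFounded.has_min (wellFounded_lt (α := TopologicalSpace.Closeds α))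
    (Set.range C) ⟨C 0, 0, rfl⟩
  obtain ⟨⟨n, rfl⟩, hmin⟩ := hn
  intro y
  have hle : C (n + 1) ≤ C n := by
    rintro _ ⟨z, rfl⟩
    exact ⟨f z, by rw [Function.iterate_succ_apply]⟩
  have heq : C (n + 1) = C n := by
    by_contra hne
    exact hmin (C (n + 1)) ⟨_, rfl⟩ (lt_of_le_of_ne hle hne)
  obtain ⟨z, hz⟩ : (f^[n] y) ∈ (C (n + 1) : Set α) := by rw [heq]; exact ⟨y, rfl⟩
  refine ⟨z, ?_⟩
  rw [Function.iterate_succ_apply] at hz
  exact (hf.injective.iterate n) hz

section Field

variable {k : Type u} [Field k] [IsAlgClosed k] (X : Over (Spec (CommRingCat.of k)))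
  [IsProper X.hom] [IsIntegral X.left] (e : 𝟙_ (Over (Spec (CommRingCat.of k))) ⟶ X) (m : X ⊗ X ⟶ X)

theorem isIso_leftMul (h₁ : lift (𝟙 X) (toUnit X ≫ e) ≫ m = 𝟙 X)
    (h₂ : lift (toUnit X ≫ e) (𝟙 X) ≫ m = 𝟙 X)
    (a : 𝟙_ (Over (Spec (CommRingCat.of k))) ⟶ X) : IsIso (leftMul X m a) := by
  let Φ : (X ⊗ X).left ⟶ (X ⊗ X).left := (lift (fst X X) m).left
  let h : (X ⊗ X).left ⟶ X.left := (fst X X).left
  have hΦ : Φ ≫ h = h := by
    change (lift (fst X X) m).left ≫ (fst X X).left = _
    rw [← Over.comp_left, lift_fst]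
  haveI : Flat X.hom := inferInstance
  haveI : IsProper h := property_fst X X ‹_›
  haveI : Flat h := property_fst X X ‹_›
  haveI : LocallyOfFinitePresentation X.hom := inferInstance
  haveI : LocallyOfFinitePresentation h := property_fst X X ‹_›
  haveI : IsProper (Φ ≫ h) := by rw [hΦ]; infer_instance
  haveI : Flat (Φ ≫ h) := by rw [hΦ]; infer_instance
  haveI : LocallyOfFinitePresentation (Φ ≫ h) := by rw [hΦ]; infer_instance
  obtain ⟨U, hU, hiso⟩ := IsoLocus.exists_open_iff Φ h
  let s₀ : Spec (CommRingCat.of k) ⟶ X.left := e.left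
  have heU : s₀ (closedPoint k) ∈ U := by
    rw [hU]
    have hsq : IsPullback (lift (toUnit X ≫ e) (𝟙 X)) (toUnit X) (fst X X) e :=
      IsPullback.of_isLimit' ⟨lift_fst _ _⟩ (PullbackCone.IsLimit.mk _
        (fun s => s.fst ≫ snd X X)
        (fun s => by
          apply CartesianMonoidalCategory.hom_ext
          · rw [Category.assoc, lift_fst, s.condition, ← Category.assoc]
            congr 1; exact toUnit_unique _ _
          · rw [Category.assoc, lift_snd, Category.comp_id])
        (fun s => toUnit_unique _ _)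
        (fun s w hw₁ _ => by rw [← hw₁, Category.assoc, lift_snd, Category.comp_id]))
    refine isIso_fiberMap Φ h hΦ (s₀ : Spec (CommRingCat.of k) ⟶ X.left)
      (lift (toUnit X ≫ e) (𝟙 X)).left (toUnit X).left (isPullback_left hsq) (𝟙 _)
      (Category.id_comp _) ?_
    change 𝟙 _ ≫ _ = (lift (toUnit X ≫ e) (𝟙 X)).left ≫ (lift (fst X X) m).left
    rw [Category.id_comp, ← Over.comp_left, comp_lift, lift_fst, h₂]
  -- the inverse over `U`
  let Uo : Over (Spec (CommRingCat.of k)) := Over.mk (U.ι ≫ X.hom)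
  let jU : Uo ⟶ X := Over.homMk U.ι rfl
  let uU : (Uo.left : Scheme.{u}) ⟶ (X ⊗ X).left := (lift jU (toUnit Uo ≫ e)).left
  let uU' : Uo.left ⟶ (h ⁻¹ᵁ U).toScheme := IsOpenImmersion.lift (h ⁻¹ᵁ U).ι uU (by
    rw [Scheme.Opens.range_ι]
    rintro _ ⟨z, rfl⟩
    change ((lift jU (toUnit Uo ≫ e)).left ≫ (fst X X).left) z ∈ U
    rw [← Over.comp_left, lift_fst]
    exact z.2)
  let σ : Uo.left ⟶ (X ⊗ X).left := uU' ≫ inv (Φ ∣_ (h ⁻¹ᵁ U)) ≫ (Φ ⁻¹ᵁ (h ⁻¹ᵁ U)).ι
  have hσΦ : σ ≫ Φ = uU := by
    simp only [σ, Category.assoc]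
    rw [← morphismRestrict_ι Φ (h ⁻¹ᵁ U), IsIso.inv_hom_id_assoc]
    exact IsOpenImmersion.lift_fac _ _ _
  have hσh : σ ≫ h = U.ι := by
    calc σ ≫ h = (σ ≫ Φ) ≫ h := ((Category.assoc σ Φ h).trans (congrArg (σ ≫ ·) hΦ)).symm
      _ = U.ι := by
        rw [hσΦ]
        change (lift jU (toUnit Uo ≫ e)).left ≫ (fst X X).left = _
        rw [← Over.comp_left, lift_fst]
        rfl
  have hσw : σ ≫ (X ⊗ X).hom = Uo.hom := by
    rw [← Over.w (fst X X)]
    change σ ≫ h ≫ X.hom = U.ι ≫ X.hom
    rw [← Category.assoc, hσh]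
  let σo : Uo ⟶ X ⊗ X := Over.homMk σ hσw
  have hσm : σo ≫ m = toUnit Uo ≫ e := by
    have h1 : σo ≫ lift (fst X X) m = lift jU (toUnit Uo ≫ e) := Over.OverMorphism.ext hσΦ
    simpa using congrArg (· ≫ snd X X) h1
  -- the reduced closure of its graph
  obtain ⟨G, g, hg, hGred, hgrange⟩ :=
    RedSepLib.exists_reduced_immersion (X := (X ⊗ X).left) (closure (Set.range σ))
      isClosed_closure.isLocallyClosed
  haveI := hg
  haveI := hGred
  haveI : IsClosedImmersion g := .of_isPreimmersion g (by rw [hgrange]; exact isClosed_closure)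
  haveI : Nonempty U := ⟨⟨_, heU⟩⟩
  haveI : IrreducibleSpace ↥Uo.left := inferInstanceAs (IrreducibleSpace U.toScheme)
  haveI : AlgebraicGeometry.IsReduced Uo.left :=
    inferInstanceAs (AlgebraicGeometry.IsReduced U.toScheme)
  obtain ⟨σ', hσ'⟩ := RedSepLib.exists_lift_of_range_subset σ g (by rw [hgrange]; exact subset_closure)
  haveI : IsDominant σ' := by
    constructor
    rw [DenseRange, Dense]
    intro z
    rw [g.isClosedEmbedding.isEmbedding.closure_eq_preimage_closure_image, Set.mem_preimage,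
      ← Set.range_comp]
    have : (g ∘ σ' : Uo.left → (X ⊗ X).left) = σ := by rw [← hσ']; rfl
    rw [this]
    exact hgrange.le ⟨z, rfl⟩
  let Go : Over (Spec (CommRingCat.of k)) := Over.mk (g ≫ (X ⊗ X).hom)
  let go : Go ⟶ X ⊗ X := Over.homMk g rfl
  haveI : IsProper (X ⊗ X).hom := by
    rw [← Over.w (fst X X)]
    exact (inferInstanceAs (IsProper (h ≫ X.hom)))
  haveI : AlgebraicGeometry.IsReduced Go.left := hGred
  haveI : IsProper Go.hom := inferInstanceAs (IsProper (g ≫ (X ⊗ X).hom))
  haveI : ConnectedSpace ↥Go.left := by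
    haveI : ConnectedSpace ↥Uo.left := IrreducibleSpace.connectedSpace _
    have hc : _root_.IsConnected (closure (Set.range σ')) :=
      (isConnected_range σ'.continuous).closure
    rw [IsDominant.denseRange.closure_eq] at hc
    exact connectedSpace_iff_univ.mpr hc
  have hgm : go ≫ m = toUnit Go ≫ e := by
    apply Over.OverMorphism.ext
    haveI : Go.left.IsSeparated := ⟨by
      have : IsSeparated (Go.hom ≫ terminal.from _) := inferInstance
      rwa [terminal.comp_from] at this⟩
    haveI : IsSeparated X.hom := inferInstance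
    refine ext_of_isDominant_of_isSeparated X.hom ?_ σ' ?_
    · rw [Over.w (go ≫ m), Over.w (toUnit Go ≫ e)]
    · change σ' ≫ g ≫ m.left = σ' ≫ (toUnit Go ≫ e).left
      rw [← Category.assoc, hσ']
      refine (congrArg (fun q => q.left) hσm).trans ?_
      rw [Over.comp_left, Over.comp_left]
      have hh : (toUnit Uo).left = σ' ≫ (toUnit Go).left := by
        rw [Over.toUnit_left, Over.toUnit_left]
        exact hσw.symm.trans (by rw [← hσ', Category.assoc]; rfl)
      rw [hh, Category.assoc]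

  let p1 : Go ⟶ X := go ≫ fst X X
  let p2 : Go ⟶ X := go ≫ snd X X
  have hp : ∀ {T : Over (Spec (CommRingCat.of k))} (γ₁ : T ⟶ Go),
      lift (γ₁ ≫ p1) (γ₁ ≫ p2) = γ₁ ≫ go := fun γ₁ => by
    apply CartesianMonoidalCategory.hom_ext <;> simp [p1, p2]
  -- the point `(e, e)`
  let eU : 𝟙_ (Over (Spec (CommRingCat.of k))) ⟶ Uo :=
    Over.homMk (IsOpenImmersion.lift U.ι s₀ (by
      rw [Scheme.Opens.range_ι]
      rintro _ ⟨z, rfl⟩
      rw [show z = closedPoint k from @Subsingleton.elim ↥(Spec (CommRingCat.of k)) inferInstance z (closedPoint k)]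
      exact heU)) (by
      change _ ≫ U.ι ≫ X.hom = _
      rw [IsOpenImmersion.lift_fac_assoc]
      exact Over.w e)
  let σ'o : Uo ⟶ Go := Over.homMk σ' (by
    change σ' ≫ g ≫ (X ⊗ X).hom = _
    rw [← Category.assoc, hσ']; exact hσw)
  let γe : 𝟙_ (Over (Spec (CommRingCat.of k))) ⟶ Go := eU ≫ σ'o
  have hγe1 : γe ≫ p1 = e := by
    apply Over.OverMorphism.ext
    simp only [γe, p1, eU, σ'o, go, Over.comp_left, Over.homMk_left, Category.assoc]
    rw [← Category.assoc σ', hσ', show σ ≫ (fst X X).left = U.ι from hσh, IsOpenImmersion.lift_fac]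
  have hγe2 : γe ≫ p2 = e := by
    have h1 : lift (γe ≫ p1) (γe ≫ p2) ≫ m = e := by
      rw [hp, Category.assoc, hgm, ← Category.assoc]
      exact (congrArg (· ≫ e) (toUnit_unique _ (𝟙 _))).trans (Category.id_comp e)
    have h2 : lift e (γe ≫ p2) ≫ m = γe ≫ p2 := by
      have := congrArg ((γe ≫ p2) ≫ ·) h₂
      simp only [comp_lift_assoc, Category.comp_id] at this
      rw [← Category.assoc, toUnit_unique ((γe ≫ p2) ≫ toUnit X) (𝟙 _), Category.id_comp] at this
      exact this
    rw [hγe1, h2] at h1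
    exact h1
  -- rigidity
  let f : Go ⊗ X ⟶ X := lift (fst Go X ≫ p1) (lift (fst Go X ≫ p2) (snd Go X) ≫ m) ≫ m
  haveI : IsLocallyNoetherian X.left := LocallyOfFiniteType.isLocallyNoetherian X.hom
  haveI : CompactSpace X.left := QuasiCompact.compactSpace_of_compactSpace X.hom
  haveI : IsNoetherian X.left := ⟨⟩
  haveI : ConnectedSpace ↥X.left := IrreducibleSpace.connectedSpace _
  have hrig := Rigidity.rigidity Go X X
    (TransComp.bijective_appTop_of_point Go.hom γe.left (Over.w γe)) γe e f e (by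
      rw [show Go ◁ e = lift (fst Go (𝟙_ _)) (toUnit _ ≫ e) by
        apply CartesianMonoidalCategory.hom_ext
        · simp
        · rw [whiskerLeft_snd, lift_snd, toUnit_unique (toUnit _) (snd Go (𝟙_ _))]]
      simp only [f, comp_lift_assoc, lift_fst_assoc, lift_snd]
      have h3 : lift (fst Go (𝟙_ _) ≫ p2) (toUnit _ ≫ e) ≫ m = fst Go (𝟙_ _) ≫ p2 := by
        have := congrArg ((fst Go (𝟙_ _) ≫ p2) ≫ ·) h₁
        simp only [comp_lift_assoc, Category.comp_id] at this
        rw [← Category.assoc _ (toUnit X) e, toUnit_unique ((fst Go (𝟙_ _) ≫ p2) ≫ toUnit X) (toUnit _)] at this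
        exact this
      rw [h3, hp, Category.assoc, hgm, ← Category.assoc]
      congr 1)

  have hf : f = snd Go X := by
    refine hrig.trans ?_
    simp only [f, comp_lift_assoc, lift_fst_assoc, lift_snd, Category.assoc, hγe1, hγe2]
    have h4 : lift (snd Go X ≫ toUnit X ≫ e) (snd Go X ≫ 𝟙 X) ≫ m = snd Go X := by
      simpa only [comp_lift_assoc, Category.comp_id] using congrArg (snd Go X ≫ ·) h₂
    rw [h4]
    simpa only [Category.comp_id] using h4
  have hkey : ∀ γ : 𝟙_ (Over (Spec (CommRingCat.of k))) ⟶ Go,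
      leftMul X m (γ ≫ p2) ≫ leftMul X m (γ ≫ p1) = 𝟙 X := fun γ => by
    have := congrArg (lift (toUnit X ≫ γ) (𝟙 X) ≫ ·) hf
    simp only [f, comp_lift_assoc, lift_fst_assoc, lift_snd, Category.assoc] at this
    rw [comp_leftMul, ← this]
  -- choose a point over `a`
  have hsurj : Function.Surjective p1.left := by
    intro x
    have hcl : IsClosed (Set.range p1.left) := by
      haveI : IsProper p1.left := by
        have : IsProper (p1.left ≫ X.hom) := by rw [Over.w p1]; infer_instance
        exact IsProper.of_comp p1.left X.hom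
      exact p1.left.isClosedMap.isClosed_range
    have hsub : (U : Set X.left) ⊆ Set.range p1.left := fun y hy => ⟨σ' ⟨y, hy⟩, by
      have : σ' ≫ p1.left = U.ι := by
        simp only [p1, go, Over.comp_left, Over.homMk_left]
        rw [← Category.assoc, hσ']; exact hσh
      exact congrArg (fun (q : Uo.left ⟶ X.left) => q ⟨y, hy⟩) this⟩
    exact (hcl.closure_subset_iff.mpr hsub) ((U.isOpen.dense ⟨_, heU⟩).closure_eq ▸ trivial)
  haveI : IsProper p1.left := by
    have : IsProper (p1.left ≫ X.hom) := by rw [Over.w p1]; infer_instance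
    exact IsProper.of_comp p1.left X.hom
  obtain ⟨z, hz⟩ := hsurj (a.left (closedPoint k))
  haveI : LocallyOfFiniteType Go.hom := inferInstance
  haveI : JacobsonSpace Go.left := LocallyOfFiniteType.jacobsonSpace Go.hom
  have haclosed : IsClosed {a.left (closedPoint k)} := by
    haveI : IsClosedImmersion a.left := by
      have : IsClosedImmersion (a.left ≫ X.hom) := by
        rw [Over.w a]; exact inferInstanceAs (IsClosedImmersion (𝟙 _))
      exact IsClosedImmersion.of_comp a.left X.hom
    convert a.left.isClosedEmbedding.isClosed_range using 1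
    ext y
    exact ⟨fun hy => ⟨_, hy.symm⟩, fun ⟨w, hw⟩ => by
      rw [← hw]
      exact congrArg _ (@Subsingleton.elim ↥(Spec (CommRingCat.of k)) inferInstance w (closedPoint k))⟩
  obtain ⟨y, hy, hycl⟩ := nonempty_inter_closedPoints (X := Go.left)
    (Z := p1.left ⁻¹' {a.left (closedPoint k)}) ⟨z, hz⟩
    ((haclosed.preimage p1.left.continuous).isLocallyClosed)
  obtain ⟨γ, hγ⟩ := exists_ratPoint Go hycl
  have hγa : γ ≫ p1 = a := by
    apply Over.OverMorphism.ext
    refine ext_of_apply_closedPoint_eq X.hom (Over.w _) (Over.w _) ?_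
    rw [Over.comp_left, Scheme.Hom.comp_apply, hγ]
    exact hy
  have hret := hkey γ
  rw [hγa] at hret
  haveI : IsSeparated (leftMul X m a).left := by
    have : IsSeparated ((leftMul X m a).left ≫ X.hom) := by rw [Over.w]; infer_instance
    exact IsSeparated.of_comp (leftMul X m a).left X.hom
  haveI : IsClosedImmersion (leftMul X m (γ ≫ p2)).left := by
    have : IsClosedImmersion ((leftMul X m (γ ≫ p2)).left ≫ (leftMul X m a).left) := by
      rw [← Over.comp_left, hret]; exact inferInstanceAs (IsClosedImmersion (𝟙 _))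
    exact IsClosedImmersion.of_comp _ (leftMul X m a).left
  haveI : Surjective (leftMul X m (γ ≫ p2)).left :=
    ⟨surjective_of_isClosedEmbedding (leftMul X m (γ ≫ p2)).left.isClosedEmbedding⟩
  haveI : IsIso (leftMul X m (γ ≫ p2)).left := isIso_of_isClosedImmersion_of_surjective _
  haveI : IsIso ((Over.forget _).map (leftMul X m (γ ≫ p2))) := ‹IsIso (leftMul X m (γ ≫ p2)).left›
  haveI : IsIso (leftMul X m (γ ≫ p2)) := isIso_of_reflects_iso _ (Over.forget _)
  rw [← IsIso.inv_eq_of_hom_inv_id hret]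
  infer_instance

end Field

open Functor.LaxMonoidal in
theorem isIso_shear (X : Over S) [IsProper X.hom] [Flat X.hom] [LocallyOfFinitePresentation X.hom]
    [GeometricallyIntegral X.hom] (e : 𝟙_ (Over S) ⟶ X) (m : X ⊗ X ⟶ X)
    (h₁ : lift (𝟙 X) (toUnit X ≫ e) ≫ m = 𝟙 X) (h₂ : lift (toUnit X ≫ e) (𝟙 X) ≫ m = 𝟙 X) :
    IsIso (lift (fst X X) m) := by
  let Φ : (X ⊗ X).left ⟶ (X ⊗ X).left := (lift (fst X X) m).left
  let h : (X ⊗ X).left ⟶ X.left := (fst X X).left
  have hΦ : Φ ≫ h = h := by
    change (lift (fst X X) m).left ≫ (fst X X).left = _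
    rw [← Over.comp_left, lift_fst]
  haveI : IsProper h := property_fst X X ‹_›
  haveI : Flat h := property_fst X X ‹_›
  haveI : LocallyOfFinitePresentation h := property_fst X X ‹_›
  haveI : IsProper (Φ ≫ h) := by rw [hΦ]; infer_instance
  haveI : Flat (Φ ≫ h) := by rw [hΦ]; infer_instance
  haveI : LocallyOfFinitePresentation (Φ ≫ h) := by rw [hΦ]; infer_instance
  obtain ⟨U, hU, hiso⟩ := IsoLocus.exists_open_iff Φ h
  have hall : ∀ x : X.left, x ∈ U := by
    intro x
    rw [hU]
    let K := AlgebraicClosure (X.left.residueField x)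
    let φ : X.left.residueField x ⟶ CommRingCat.of K :=
      CommRingCat.ofHom (algebraMap (X.left.residueField x) K)
    let τ : Spec (CommRingCat.of K) ⟶ X.left := Spec.map φ ≫ X.left.fromSpecResidueField x
    have hτ : τ (closedPoint K) = x := by
      simp only [τ, Scheme.Hom.comp_apply]
      exact X.left.fromSpecResidueField_apply x _
    rw [← hτ]
    let F := Over.pullback (τ ≫ X.hom)
    let XK : Over (Spec (CommRingCat.of K)) := F.obj X
    haveI : IsProper XK.hom := inferInstanceAs (IsProper (pullback.snd _ _))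
    haveI : GeometricallyIntegral XK.hom :=
      inferInstanceAs (GeometricallyIntegral (pullback.snd _ _))
    haveI : IsIntegral XK.left := GeometricallyIntegral.isIntegral_of_subsingleton XK.hom
    let eK : 𝟙_ (Over (Spec (CommRingCat.of K))) ⟶ XK := ε F ≫ F.map e
    let mK : XK ⊗ XK ⟶ XK := μ F X X ≫ F.map m
    have he : toUnit XK ≫ eK = F.map (toUnit X ≫ e) := by
      rw [Functor.map_comp]; simp only [eK, XK]
      rw [← Category.assoc, Functor.Monoidal.toUnit_ε]
    have hK₁ : lift (𝟙 XK) (toUnit XK ≫ eK) ≫ mK = 𝟙 XK := by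
      rw [he]; simp only [mK, XK]
      rw [← F.map_id, ← Category.assoc, Functor.Monoidal.lift_μ, ← F.map_comp, h₁]
    have hK₂ : lift (toUnit XK ≫ eK) (𝟙 XK) ≫ mK = 𝟙 XK := by
      rw [he]; simp only [mK, XK]
      rw [← F.map_id, ← Category.assoc, Functor.Monoidal.lift_μ, ← F.map_comp, h₂]
    let a : 𝟙_ (Over (Spec (CommRingCat.of K))) ⟶ XK :=
      Over.homMk (pullback.lift τ (𝟙 _) (Category.id_comp _).symm) (pullback.lift_snd _ _ _)
    haveI := isIso_leftMul XK eK mK hK₁ hK₂ a
    haveI : IsIso (leftMul XK mK a).left :=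
      inferInstanceAs (IsIso ((Over.forget _).map (leftMul XK mK a)))
    let Wk : Over S := Over.mk (pullback.fst X.hom (τ ≫ X.hom) ≫ X.hom)
    let xW : Wk ⟶ X := Over.homMk (pullback.snd X.hom (τ ≫ X.hom) ≫ τ)
      (by rw [Category.assoc]; exact pullback.condition.symm)
    let yW : Wk ⟶ X := Over.homMk (pullback.fst X.hom (τ ≫ X.hom)) rfl
    let c : XK.left ⟶ (X ⊗ X).left := (lift xW yW).left
    have hc1 : c ≫ (fst X X).left = pullback.snd X.hom (τ ≫ X.hom) ≫ τ := by
      change (lift xW yW).left ≫ _ = _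
      rw [← Over.comp_left, lift_fst]; rfl
    have hc2 : c ≫ (snd X X).left = pullback.fst X.hom (τ ≫ X.hom) := by
      change (lift xW yW).left ≫ _ = _
      rw [← Over.comp_left, lift_snd]; rfl
    have sq : IsPullback c XK.hom h τ := by
      refine IsPullback.of_right (h₁₂ := (snd X X).left) (v₁₃ := X.hom) (h₂₂ := X.hom) ?_ hc1
        (isPullback_fst_snd X X).flip
      rw [hc2]
      exact IsPullback.of_hasPullback _ _
    refine isIso_fiberMap Φ h hΦ τ c XK.hom sq (leftMul XK mK a).left (Over.w _) ?_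
    let q : XK ⟶ F.obj (X ⊗ X) := lift (toUnit XK ≫ a) (𝟙 XK) ≫ μ F X X
    have hq1 : q ≫ F.map (fst X X) = toUnit XK ≫ a := by
      simp only [q, Category.assoc, Functor.Monoidal.μ_fst, XK]
      exact lift_fst _ _
    have hq2 : q ≫ F.map (snd X X) = 𝟙 XK := by
      simp only [q, Category.assoc, Functor.Monoidal.μ_snd, XK]
      exact lift_snd _ _
    have hmapfst : ∀ {A B : Over S} (p : A ⟶ B), (F.map p).left ≫ pullback.fst B.hom (τ ≫ X.hom) =
        pullback.fst A.hom (τ ≫ X.hom) ≫ p.left := fun p => pullback.lift_fst _ _ _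
    have hqc : q.left ≫ pullback.fst (X ⊗ X).hom (τ ≫ X.hom) = c := by
      apply (isPullback_fst_snd X X).hom_ext
      · rw [hc1, Category.assoc, ← hmapfst, ← Category.assoc, ← Over.comp_left, hq1, Over.comp_left,
          Category.assoc]
        exact congrArg ((toUnit XK).left ≫ ·) (pullback.lift_fst _ _ _)
      · rw [hc2, Category.assoc, ← hmapfst, ← Category.assoc, ← Over.comp_left, hq2]
        exact Category.id_comp _
    have hL : leftMul XK mK a = q ≫ F.map m := by simp only [q, leftMul, mK, Category.assoc]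
    apply (isPullback_fst_snd X X).hom_ext
    · rw [Category.assoc, Category.assoc, hc1]
      change _ = c ≫ Φ ≫ h
      rw [hΦ, ← Category.assoc]
      refine Eq.trans ?_ hc1.symm
      congr 1
      exact Over.w (leftMul XK mK a)
    · rw [Category.assoc, Category.assoc, hc2]
      change _ = c ≫ (lift (fst X X) m).left ≫ (snd X X).left
      rw [← Over.comp_left, lift_snd, hL, Over.comp_left, Category.assoc, hmapfst, ← Category.assoc, hqc]
  have hUtop : h ⁻¹ᵁ U = ⊤ := eq_top_iff.mpr fun z _ => hall _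
  haveI : IsIso ((Over.forget S).map (lift (fst X X) m)) := by
    change IsIso Φ
    have : IsIso (Φ ∣_ ⊤) := hUtop ▸ hiso
    exact ((MorphismProperty.isomorphisms _).arrow_mk_iso_iff
      (Arrow.isoMk (Scheme.topIso _) (Scheme.topIso _) (morphismRestrict_ι Φ ⊤).symm)).mp this
  exact isIso_of_reflects_iso _ (Over.forget S)

theorem exists_grpObj (X : Over S) [IsProper X.hom] [Flat X.hom] [LocallyOfFinitePresentation X.hom]
    [GeometricallyIntegral X.hom] (e : 𝟙_ (Over S) ⟶ X) (m : X ⊗ X ⟶ X)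
    (h₁ : lift (𝟙 X) (toUnit X ≫ e) ≫ m = 𝟙 X) (h₂ : lift (toUnit X ≫ e) (𝟙 X) ≫ m = 𝟙 X) :
    ∃ h : GrpObj X, h.one = e ∧ h.mul = m := by
  haveI := isIso_shear X e m h₁ h₂
  have hunitr : ∀ {T : Over S} (a : T ⟶ X), lift a (toUnit T ≫ e) ≫ m = a := fun {T} a => by
    have := congrArg (a ≫ ·) h₁
    simp only [comp_lift_assoc, Category.comp_id] at this
    rwa [← Category.assoc a, toUnit_unique (a ≫ toUnit X) (toUnit T)] at this
  have hunitl : ∀ {T : Over S} (a : T ⟶ X), lift (toUnit T ≫ e) a ≫ m = a := fun {T} a => by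
    have := congrArg (a ≫ ·) h₂
    simp only [comp_lift_assoc, Category.comp_id] at this
    rwa [← Category.assoc a, toUnit_unique (a ≫ toUnit X) (toUnit T)] at this
  let dv : X ⊗ X ⟶ X := inv (lift (fst X X) m) ≫ snd X X
  have hdv : ∀ {T : Over S} (a b : T ⟶ X), lift a (lift a b ≫ m) ≫ dv = b := fun a b => by
    have h3 : lift a (lift a b ≫ m) = lift a b ≫ lift (fst X X) m := by
      rw [comp_lift, lift_fst]
    simp only [dv]
    rw [h3, Category.assoc, IsIso.hom_inv_id_assoc, lift_snd]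
  have hmdv : ∀ {T : Over S} (a c : T ⟶ X), lift a (lift a c ≫ dv) ≫ m = c := fun {T} a c => by
    have h3 : lift a (lift a c ≫ dv) = lift a c ≫ inv (lift (fst X X) m) := by
      apply CartesianMonoidalCategory.hom_ext
      · rw [lift_fst, Category.assoc]
        have : inv (lift (fst X X) m) ≫ fst X X = fst X X := by
          rw [IsIso.inv_comp_eq, lift_fst]
        rw [this, lift_fst]
      · rw [lift_snd, Category.assoc]
    rw [h3, Category.assoc]
    have : inv (lift (fst X X) m) ≫ m = snd X X := by rw [IsIso.inv_comp_eq, lift_snd]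
    rw [this, lift_snd]
  haveI : GeometricallyConnected (X ⊗ X).hom := by
    rw [← Over.w (fst X X)]
    haveI : GeometricallyConnected (fst X X).left := property_fst X X inferInstance
    haveI : Flat (fst X X).left := property_fst X X ‹_›
    haveI : LocallyOfFinitePresentation (fst X X).left := property_fst X X ‹_›
    exact GeometricallyConnected.comp _ _
  have hassoc : ∀ {T : Over S} (a b c : T ⟶ X),
      lift (lift a b ≫ m) c ≫ m = lift a (lift b c ≫ m) ≫ m := by
    let D : X ⊗ (X ⊗ X) ⟶ X :=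
      lift (lift (fst _ _) (snd _ _ ≫ fst X X) ≫ m)
        (lift (fst _ _) (lift (snd _ _ ≫ fst X X) (snd _ _ ≫ snd X X) ≫ m) ≫ m) ≫ dv
    have hD : ∀ {T : Over S} (a b c : T ⟶ X), lift a (lift b c) ≫ D =
        lift (lift a b ≫ m) (lift a (lift b c ≫ m) ≫ m) ≫ dv := fun a b c => by
      simp [D, comp_lift_assoc, comp_lift]
    have hrig := AbRigid.rigidity X (X ⊗ X) X e (lift e e) D e (by
      have hw : X ◁ lift e e = lift (fst X (𝟙_ _)) (lift (toUnit _ ≫ e) (toUnit _ ≫ e)) := by
        apply CartesianMonoidalCategory.hom_ext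
        · simp
        · rw [whiskerLeft_snd, lift_snd, ← comp_lift, toUnit_unique (toUnit _) (snd X (𝟙_ _))]
      rw [hw, hD, hunitr, hunitr, hunitr]
      have := hdv (fst X (𝟙_ (Over S))) (toUnit (X ⊗ 𝟙_ (Over S)) ≫ e)
      rwa [hunitr] at this)
    intro T a b c
    have h4 := congrArg (lift a (lift b c) ≫ ·) hrig
    simp only [lift_snd_assoc, hD] at h4
    have h5 : lift b c ≫ lift (toUnit (X ⊗ X) ≫ e) (𝟙 (X ⊗ X)) = lift (toUnit T ≫ e) (lift b c) := by
      rw [comp_lift, Category.comp_id, ← Category.assoc,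
        toUnit_unique (lift b c ≫ toUnit (X ⊗ X)) (toUnit T)]
    rw [← Category.assoc (lift b c), h5, hD, hunitl, hunitl, hdv] at h4
    calc lift (lift a b ≫ m) c ≫ m
        = lift (lift a b ≫ m) (lift (lift a b ≫ m) (lift a (lift b c ≫ m) ≫ m) ≫ dv) ≫ m := by
          rw [h4]
      _ = _ := hmdv _ _
  let iv : X ⟶ X := lift (𝟙 X) (toUnit X ≫ e) ≫ dv
  letI : MonObj X :=
    { one := e
      mul := m
      one_mul := by
        rw [show e ▷ X = lift (toUnit _ ≫ e) (snd _ _) by
          apply CartesianMonoidalCategory.hom_ext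
          · rw [whiskerRight_fst, lift_fst, toUnit_unique (toUnit _) (fst _ _)]
          · simp, hunitl]
        exact (leftUnitor_hom X).symm
      mul_one := by
        rw [show X ◁ e = lift (fst _ _) (toUnit _ ≫ e) by
          apply CartesianMonoidalCategory.hom_ext
          · simp
          · rw [whiskerLeft_snd, lift_snd, toUnit_unique (toUnit _) (snd _ _)], hunitr]
        exact (rightUnitor_hom X).symm
      mul_assoc := by
        have h6 := hassoc (fst (X ⊗ X) X ≫ fst X X) (fst (X ⊗ X) X ≫ snd X X) (snd (X ⊗ X) X)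
        have e1 : m ▷ X = lift (lift (fst (X ⊗ X) X ≫ fst X X) (fst (X ⊗ X) X ≫ snd X X) ≫ m) (snd (X ⊗ X) X) := by
          apply CartesianMonoidalCategory.hom_ext
          · rw [whiskerRight_fst, lift_fst, ← comp_lift, lift_fst_snd, Category.comp_id]
          · simp
        have e2 : (α_ X X X).hom ≫ X ◁ m = lift (fst (X ⊗ X) X ≫ fst X X)
            (lift (fst (X ⊗ X) X ≫ snd X X) (snd (X ⊗ X) X) ≫ m) := by
          apply CartesianMonoidalCategory.hom_ext
          · simp
          · rw [Category.assoc, whiskerLeft_snd, lift_snd, ← Category.assoc]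
            congr 1
            apply CartesianMonoidalCategory.hom_ext <;> simp
        rw [← Category.assoc, e1, e2]
        exact h6 }
  have hright : lift (𝟙 X) iv ≫ m = toUnit X ≫ e := hmdv _ _
  refine ⟨{ inv := iv, left_inv := ?_, right_inv := hright }, rfl, rfl⟩
  change lift iv (𝟙 X) ≫ m = toUnit X ≫ e
  have h7 := hassoc (𝟙 X) iv (𝟙 X)
  rw [hright, hunitl] at h7
  have h8 := hdv (𝟙 X) (lift iv (𝟙 X) ≫ m)
  rw [← h7] at h8
  have h9 := hdv (𝟙 X) (toUnit X ≫ e)
  rw [hunitr] at h9
  exact h8.symm.trans h9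

end Groth.Agent.GrpSch.UnitalMul
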