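import Groth.Agent.GrpSch.OverBase
import Mathlib.AlgebraicGeometry.Morphisms.Affine

/-! The group of units of a monoid scheme. -/

set_option autoImplicit false

universe u

open CategoryTheory MonoidalCategory CartesianMonoidalCategory MonObj Limits AlgebraicGeometry

namespace Groth.Agent.GrpSch

variable {C : Type*} [Category C] [CartesianMonoidalCategory C] (M : C) [MonObj M]

lemma one_mon_eq_toUnit (T : C) : (1 : T ⟶ M) = toUnit T ≫ η[M] := rfl

/-- `(m, n) ↦ (m n, n m)`. -/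
def unitsMap : M ⊗ M ⟶ M ⊗ M := lift (fst M M * snd M M) (snd M M * fst M M)

lemma comp_unitsMap {T : C} (m n : T ⟶ M) :
    lift m n ≫ unitsMap M = lift (m * n) (n * m) := by
  simp [unitsMap, MonObj.comp_mul]

variable {M}

lemma units_pullback_spec {G : C} (p : G ⟶ M ⊗ M)
    (h : IsPullback p (toUnit G) (unitsMap M) (lift η[M] η[M])) :
    Mono (p ≫ fst M M) ∧ ∀ (T : C) (m : T ⟶ M), (∃ g : T ⟶ G, g ≫ p ≫ fst M M = m) ↔ IsUnit m := by
  have aux : ∀ (T : C) (g : T ⟶ G),
      (g ≫ p ≫ fst M M) * (g ≫ p ≫ snd M M) = 1 ∧ (g ≫ p ≫ snd M M) * (g ≫ p ≫ fst M M) = 1 := by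
    intro T g
    have hw := g ≫= h.w
    have e : g ≫ p = lift (g ≫ p ≫ fst M M) (g ≫ p ≫ snd M M) := by
      apply CartesianMonoidalCategory.hom_ext <;> simp
    generalize g ≫ p ≫ fst M M = a at e ⊢
    generalize g ≫ p ≫ snd M M = b at e ⊢
    rw [← Category.assoc, e, comp_unitsMap, ← Category.assoc, comp_toUnit, comp_lift] at hw
    have h₁ := hw =≫ fst M M
    have h₂ := hw =≫ snd M M
    rw [lift_fst, lift_fst] at h₁
    rw [lift_snd, lift_snd] at h₂
    exact ⟨h₁, h₂⟩
  refine ⟨⟨fun {T} a b hab => h.hom_ext ?_ (toUnit_unique _ _)⟩, fun T m => ⟨?_, ?_⟩⟩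
  · apply CartesianMonoidalCategory.hom_ext
    · simpa using hab
    · rw [Category.assoc, Category.assoc]
      exact left_inv_eq_right_inv (aux T a).2 (by rw [hab]; exact (aux T b).1)
  · rintro ⟨g, rfl⟩
    exact ⟨⟨_, _, (aux T g).1, (aux T g).2⟩, rfl⟩
  · rintro ⟨v, rfl⟩
    refine ⟨h.lift (lift (v : T ⟶ M) (↑v⁻¹ : T ⟶ M)) (toUnit T) ?_, ?_⟩
    · rw [comp_unitsMap, comp_lift, v.mul_inv, v.inv_mul, one_mon_eq_toUnit]
    · rw [h.lift_fst_assoc, lift_fst]

lemma exists_units_over {S : Scheme.{u}} (M : Over S) [MonObj M] :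
    ∃ (G : Over S) (p : G ⟶ M ⊗ M),
      IsPullback p (toUnit G) (unitsMap M) (lift η[M] η[M]) := by
  refine ⟨pullback (unitsMap M) (lift η[M] η[M]), pullback.fst _ _, ?_⟩
  rw [toUnit_unique (toUnit _) (pullback.snd (unitsMap M) (lift η[M] η[M]))]
  exact IsPullback.of_hasPullback _ _

lemma property_units_hom {S : Scheme.{u}} {M : Over S} [MonObj M] {G : Over S} {p : G ⟶ M ⊗ M}
    {P : MorphismProperty Scheme.{u}} [P.IsStableUnderBaseChange]
    (h : IsPullback p (toUnit G) (unitsMap M) (lift η[M] η[M]))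
    (hη : P (lift η[M] η[M]).left) : P p.left :=
  P.of_isPullback (isPullback_left h).flip hη

lemma isAffine_units {S : Scheme.{u}} [IsAffine S] {M : Over S} [MonObj M] [IsAffine M.left]
    {G : Over S} {p : G ⟶ M ⊗ M}
    (h : IsPullback p (toUnit G) (unitsMap M) (lift η[M] η[M])) : IsAffine G.left := by
  have : IsAffine (M ⊗ M).left := inferInstanceAs (IsAffine (pullback M.hom M.hom))
  have : IsAffine (𝟙_ (Over S)).left := inferInstanceAs (IsAffine S)
  have : IsAffineHom p.left := property_units_hom (P := @IsAffineHom) h inferInstance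
  exact isAffine_of_isAffineHom p.left

end Groth.Agent.GrpSch
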