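import Groth.Agent.GrpSch.UnitalMul
import Groth.Agent.IsoLocus.Fibrewise
import Groth.Agent.S0386

/-!
# The invertible locus of a flat monoid scheme is open
-/

set_option autoImplicit false

universe u

open CategoryTheory Limits MonoidalCategory CartesianMonoidalCategory AlgebraicGeometry IsLocalRing

namespace Groth.Agent.GrpSch.UnitsOpen

variable {S : Scheme.{u}} {M : Over S} (m : M ⊗ M ⟶ M) (e : 𝟙_ (Over S) ⟶ M)

/-- `(t, x) ↦ (t, a t * x)` -/
noncomputable def mulL {T : Over S} (a : T ⟶ M) : T ⊗ M ⟶ T ⊗ M :=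
  lift (fst T M) (lift (fst T M ≫ a) (snd T M) ≫ m)

/-- two-sided invertible -/
def Inv {T : Over S} (a : T ⟶ M) : Prop :=
  ∃ b, lift a b ≫ m = toUnit T ≫ e ∧ lift b a ≫ m = toUnit T ≫ e

lemma Inv.comp {T T' : Over S} (f : T' ⟶ T) {a : T ⟶ M} (h : Inv m e a) : Inv m e (f ≫ a) := by
  obtain ⟨b, h1, h2⟩ := h
  refine ⟨f ≫ b, ?_, ?_⟩
  · rw [← comp_lift, Category.assoc, h1, ← Category.assoc, toUnit_unique (f ≫ toUnit T) (toUnit T')]
  · rw [← comp_lift, Category.assoc, h2, ← Category.assoc, toUnit_unique (f ≫ toUnit T) (toUnit T')]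

variable (hl : ∀ {T : Over S} (a : T ⟶ M), lift (toUnit T ≫ e) a ≫ m = a)
  (hass : ∀ {T : Over S} (a b c : T ⟶ M),
    lift (lift a b ≫ m) c ≫ m = lift a (lift b c ≫ m) ≫ m)

include hl hass in
lemma mulL_comp {T : Over S} {a b : T ⟶ M} (h : lift b a ≫ m = toUnit T ≫ e) :
    mulL m a ≫ mulL m b = 𝟙 (T ⊗ M) := by
  apply CartesianMonoidalCategory.hom_ext
  · simp [mulL]
  · simp only [mulL, Category.assoc, lift_snd, comp_lift_assoc, lift_fst_assoc, Category.id_comp]
    rw [← hass, ← comp_lift, Category.assoc, h, ← Category.assoc,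
      toUnit_unique (fst T M ≫ toUnit T) (toUnit _), hl]

include hl hass in
lemma isIso_mulL {T : Over S} {a : T ⟶ M} (h : Inv m e a) : IsIso (mulL m a) := by
  obtain ⟨b, h1, h2⟩ := h
  exact ⟨mulL m b, mulL_comp m e hl hass h2, mulL_comp m e hl hass h1⟩

/-- the fibre product square of a whiskering -/
lemma isPullback_whiskerRight {T' T : Over S} (f : T' ⟶ T) :
    IsPullback (f ▷ M) (fst T' M) (fst T M) f :=
  IsPullback.of_isLimit' ⟨whiskerRight_fst f M⟩ (PullbackCone.IsLimit.mk _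
    (fun s => lift s.snd (s.fst ≫ snd T M))
    (fun s => by apply CartesianMonoidalCategory.hom_ext <;> simp [s.condition])
    (fun s => lift_fst _ _)
    (fun s w h1 h2 => by
      apply CartesianMonoidalCategory.hom_ext
      · simp [← h2]
      · simp [← h1]))

include hl hass in
/-- translation by an invertible point is an isomorphism on the fibre -/
lemma isIso_fiberMap_mulL {T : Over S} (a : T ⟶ M) {K : Type u} [Field K]
    (τ : Spec (CommRingCat.of K) ⟶ T.left)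
    (h : Inv m e ((Over.homMk τ rfl : Over.mk (τ ≫ T.hom) ⟶ T) ≫ a)) :
    IsIso (MoreMor.fiberMap (mulL m a).left (fst T M).left (τ (closedPoint K))) := by
  let Tk : Over S := Over.mk (τ ≫ T.hom)
  let τo : Tk ⟶ T := Over.homMk τ rfl
  haveI := isIso_mulL m e hl hass h
  haveI : IsIso (mulL m (τo ≫ a)).left :=
    inferInstanceAs (IsIso ((Over.forget S).map (mulL m (τo ≫ a))))
  refine UnitalMul.isIso_fiberMap (mulL m a).left (fst T M).left ?_ τ (τo ▷ M).left (fst Tk M).left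
    (isPullback_left (isPullback_whiskerRight τo)) (mulL m (τo ≫ a)).left ?_ ?_
  · rw [← Over.comp_left, mulL, lift_fst]
  · rw [← Over.comp_left, mulL, lift_fst]
  · rw [← Over.comp_left, ← Over.comp_left]
    congr 1
    apply CartesianMonoidalCategory.hom_ext
    · simp [mulL]
    · simp [mulL, comp_lift_assoc]

variable [Flat M.hom] [LocallyOfFinitePresentation M.hom]

include hl hass in
/-- Near an invertible point there are right inverses. -/
theorem exists_nhd {K : Type u} [Field K] (τ : Spec (CommRingCat.of K) ⟶ M.left)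
    (h : Inv m e (Over.homMk τ rfl : Over.mk (τ ≫ M.hom) ⟶ M)) :
    ∃ V : M.left.Opens, τ (closedPoint K) ∈ V ∧ ∀ x ∈ V, ∃ (P : Scheme.{u}) (p : P ⟶ M.left),
      x ∈ Set.range p ∧ ∃ b : Over.mk (p ≫ M.hom) ⟶ M,
        lift (Over.homMk p rfl : Over.mk (p ≫ M.hom) ⟶ M) b ≫ m = toUnit _ ≫ e := by
  let Φ := (mulL m (𝟙 M)).left
  let hh := (fst M M).left
  have hΦ : Φ ≫ hh = hh := by
    change (mulL m (𝟙 M)).left ≫ (fst M M).left = _
    rw [← Over.comp_left, mulL, lift_fst]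
  haveI : Flat hh := property_fst M M ‹_›
  haveI : LocallyOfFinitePresentation hh := property_fst M M ‹_›
  haveI : Flat (Φ ≫ hh) := by rw [hΦ]; infer_instance
  haveI : LocallyOfFinitePresentation (Φ ≫ hh) := by rw [hΦ]; infer_instance
  haveI : LocallyOfFinitePresentation Φ := FlatLocus.locallyOfFinitePresentation_of_comp Φ hh
  let sM := (lift (𝟙 M) (toUnit M ≫ e)).left
  let p' := pullback.snd Φ sM
  obtain ⟨b, hb, hb'⟩ := h
  let Tk : Over S := Over.mk (τ ≫ M.hom)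
  let τo : Tk ⟶ M := Over.homMk τ rfl
  have hcond : (lift τo b).left ≫ Φ = τ ≫ sM := by
    change (lift τo b).left ≫ (mulL m (𝟙 M)).left = τo.left ≫ (lift (𝟙 M) (toUnit M ≫ e)).left
    rw [← Over.comp_left, ← Over.comp_left]
    congr 1
    apply CartesianMonoidalCategory.hom_ext
    · simp [mulL]
    · simp only [mulL, Category.assoc, lift_snd, comp_lift_assoc, lift_fst, Category.comp_id]
      rw [hb, ← Category.assoc, toUnit_unique (τo ≫ toUnit M) (toUnit Tk)]
  let z₀ := pullback.lift (lift τo b).left τ hcond (closedPoint K)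
  have hz₀ : (p'.stalkMap z₀).hom.Flat := by
    refine GrpSch.flat_stalkMap_of_isPullback (IsPullback.of_hasPullback Φ sM) z₀ ?_
    let y := pullback.fst Φ sM z₀
    have hy : hh (Φ y) = τ (closedPoint K) := by
      rw [← Scheme.Hom.comp_apply, hΦ]
      change hh (pullback.fst Φ sM (pullback.lift _ τ hcond _)) = _
      rw [← Scheme.Hom.comp_apply, ← Scheme.Hom.comp_apply, pullback.lift_fst_assoc]
      change ((lift τo b).left ≫ (fst M M).left) _ = _
      rw [← Over.comp_left, lift_fst]; rfl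
    have hiso : IsIso (MoreMor.fiberMap Φ hh (hh (Φ y))) := by
      rw [hy]
      exact isIso_fiberMap_mulL m e hl hass (𝟙 M) τ (by rw [Category.comp_id]; exact ⟨b, hb, hb'⟩)
    exact (FlatLocus.flat_of_flat_fiberMap Φ hh y (Flat.stalkMap (Φ ≫ hh) y)
      (Flat.stalkMap _ _)).2
  let O : (pullback Φ sM).Opens := ⟨{z | (p'.stalkMap z).hom.Flat}, Groth.Agent.S0386.result p'⟩
  haveI : Flat (O.ι ≫ p') := by
    refine HasRingHomProperty.of_stalkMap RingHom.Flat.ofLocalizationPrime fun z => ?_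
    rw [Scheme.Hom.stalkMap_comp]
    exact (RingHom.Flat.respectsIso.cancel_right_isIso _ (O.ι.stalkMap z)).mpr z.2
  refine ⟨⟨Set.range (O.ι ≫ p'), (O.ι ≫ p').isOpenMap.isOpen_range⟩,
    ⟨⟨z₀, hz₀⟩, ?_⟩, fun x hx => ?_⟩
  · change p' (pullback.lift (lift τo b).left τ hcond (closedPoint K)) = _
    rw [← Scheme.Hom.comp_apply, pullback.lift_snd]
  · obtain ⟨z, rfl⟩ := hx
    refine ⟨pullback Φ sM, p', ⟨O.ι z, rfl⟩, ?_⟩
    let Po : Over S := Over.mk (p' ≫ M.hom)
    let po : Po ⟶ M := Over.homMk p' rfl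
    have hw : pullback.fst Φ sM ≫ (M ⊗ M).hom = p' ≫ M.hom := by
      rw [← Over.w (fst M M)]
      change _ ≫ hh ≫ M.hom = _
      rw [← hΦ, Category.assoc, pullback.condition_assoc]
      congr 1
      change (lift (𝟙 M) (toUnit M ≫ e)).left ≫ (fst M M).left ≫ M.hom = _
      rw [← Category.assoc, ← Over.comp_left, lift_fst, Over.w]
    let qo : Po ⟶ M ⊗ M := Over.homMk (pullback.fst Φ sM) hw
    have hsq : qo ≫ mulL m (𝟙 M) = po ≫ lift (𝟙 M) (toUnit M ≫ e) :=
      Over.OverMorphism.ext pullback.condition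
    refine ⟨qo ≫ snd M M, ?_⟩
    have h1 := congrArg (· ≫ fst M M) hsq
    have h2 := congrArg (· ≫ snd M M) hsq
    simp only [mulL, Category.assoc, lift_fst, Category.comp_id] at h1
    simp only [mulL, Category.assoc, lift_snd, comp_lift_assoc, Category.comp_id] at h2
    rw [h1, ← Category.assoc po, toUnit_unique (po ≫ toUnit M) (toUnit Po)] at h2
    exact h2

section Units

open MonObj

variable [MonObj M]

lemma inv_iff_isUnit {T : Over S} (a : T ⟶ M) : Inv μ[M] η[M] a ↔ IsUnit a := by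
  rw [isUnit_iff_exists]
  rfl

omit [Flat M.hom] [LocallyOfFinitePresentation M.hom] in
lemma one_mul' {T : Over S} (a : T ⟶ M) : lift (toUnit T ≫ η[M]) a ≫ μ[M] = a := by
  rw [← Hom.one_def, ← Hom.mul_def, _root_.one_mul]

omit [Flat M.hom] [LocallyOfFinitePresentation M.hom] in
lemma mul_assoc' {T : Over S} (a b c : T ⟶ M) :
    lift (lift a b ≫ μ[M]) c ≫ μ[M] = lift a (lift b c ≫ μ[M]) ≫ μ[M] := by
  simp only [← Hom.mul_def, _root_.mul_assoc]

/-- the multiplication with the factors swapped -/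
noncomputable def mulOp : M ⊗ M ⟶ M := lift (snd M M) (fst M M) ≫ μ[M]

omit [Flat M.hom] [LocallyOfFinitePresentation M.hom] in
lemma mulOp_eq {T : Over S} (a b : T ⟶ M) : lift a b ≫ mulOp = b * a := by
  rw [mulOp, comp_lift_assoc, lift_snd, lift_fst, ← Hom.mul_def]

/-- the set of invertible points -/
def unitSet : Set M.left :=
  {x | ∃ (K : Type u) (_ : Field K) (τ : Spec (CommRingCat.of K) ⟶ M.left),
    τ (closedPoint K) = x ∧ IsUnit (Over.homMk τ rfl : Over.mk (τ ≫ M.hom) ⟶ M)}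

theorem isOpen_unitSet : IsOpen (unitSet (M := M)) := by
  refine isOpen_iff_forall_mem_open.mpr ?_
  rintro _ ⟨K, _, τ, rfl, hu⟩
  obtain ⟨b, hb, hb'⟩ := isUnit_iff_exists.mp hu
  obtain ⟨V₁, hV₁, H₁⟩ := exists_nhd μ[M] η[M] one_mul' mul_assoc' τ ⟨b, hb, hb'⟩
  obtain ⟨V₂, hV₂, H₂⟩ := exists_nhd mulOp η[M]
    (fun {T} a => by rw [mulOp_eq, ← Hom.one_def, _root_.mul_one])
    (fun {T} a b c => by simp only [mulOp_eq, _root_.mul_assoc]) τ
    ⟨b, (mulOp_eq _ _).trans hb', (mulOp_eq _ _).trans hb⟩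
  refine ⟨V₁ ⊓ V₂, fun x hx => ?_, (V₁ ⊓ V₂).isOpen, hV₁, hV₂⟩
  obtain ⟨P₁, p₁, ⟨z₁, hz₁⟩, b₁, hb₁⟩ := H₁ x hx.1
  obtain ⟨P₂, p₂, ⟨z₂, hz₂⟩, b₂, hb₂⟩ := H₂ x hx.2
  obtain ⟨z, hzf, hzs⟩ := Scheme.Pullback.exists_preimage_pullback (f := p₁) (g := p₂) z₁ z₂
    (hz₁.trans hz₂.symm)
  let K' := (pullback p₁ p₂).residueField z
  let ρ := (pullback p₁ p₂).fromSpecResidueField z
  let τ' : Spec (CommRingCat.of K') ⟶ M.left := ρ ≫ pullback.fst p₁ p₂ ≫ p₁
  let T : Over S := Over.mk (τ' ≫ M.hom)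
  let a : T ⟶ M := Over.homMk τ' rfl
  let f₁ : T ⟶ Over.mk (p₁ ≫ M.hom) := Over.homMk (ρ ≫ pullback.fst p₁ p₂) (by
    simp [T, τ'])
  let f₂ : T ⟶ Over.mk (p₂ ≫ M.hom) := Over.homMk (ρ ≫ pullback.snd p₁ p₂) (by
    simp [T, τ', pullback.condition_assoc])
  have ha₁ : f₁ ≫ Over.homMk p₁ rfl = a := Over.OverMorphism.ext (Category.assoc _ _ _)
  have ha₂ : f₂ ≫ Over.homMk p₂ rfl = a :=
    Over.OverMorphism.ext (by
      change (ρ ≫ pullback.snd p₁ p₂) ≫ p₂ = τ'
      rw [Category.assoc, ← pullback.condition])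
  have e₁ : a * (f₁ ≫ b₁) = 1 := by
    rw [← ha₁, Hom.mul_def, ← comp_lift, Category.assoc, hb₁, ← Category.assoc, Hom.one_def,
      toUnit_unique (f₁ ≫ toUnit _) (toUnit T)]
  have e₂ : (f₂ ≫ b₂) * a = 1 := by
    rw [← ha₂, ← mulOp_eq, ← comp_lift, Category.assoc, hb₂, ← Category.assoc, Hom.one_def,
      toUnit_unique (f₂ ≫ toUnit _) (toUnit T)]
  refine ⟨K', inferInstance, τ', ?_, ⟨⟨a, f₁ ≫ b₁, e₁, ?_⟩, rfl⟩⟩
  · simp only [τ', ρ, Scheme.Hom.comp_apply]
    erw [Scheme.fromSpecResidueField_apply]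
    rw [hzf, hz₁]
  · have h3 : f₂ ≫ b₂ = f₁ ≫ b₁ := left_inv_eq_right_inv e₂ e₁
    rw [← h3]; exact e₂

theorem isOpenImmersion_units (G : Over S) (i : G ⟶ M) [Mono i]
    (hi : ∀ (T : Over S) (m : T ⟶ M), (∃ g : T ⟶ G, g ≫ i = m) ↔ IsUnit m) :
    IsOpenImmersion i.left := by
  let U : M.left.Opens := ⟨unitSet, isOpen_unitSet⟩
  let T : Over S := Over.mk (U.ι ≫ M.hom)
  let a : T ⟶ M := Over.homMk U.ι rfl
  let Φ := mulL μ[M] a
  haveI : Flat (fst T M).left := property_fst T M ‹_›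
  haveI : LocallyOfFinitePresentation (fst T M).left := property_fst T M ‹_›
  have hΦ : Φ.left ≫ (fst T M).left = (fst T M).left := by
    rw [← Over.comp_left]; simp [Φ, mulL]
  haveI : Flat (Φ.left ≫ (fst T M).left) := by rw [hΦ]; infer_instance
  haveI : LocallyOfFinitePresentation (Φ.left ≫ (fst T M).left) := by rw [hΦ]; infer_instance
  haveI : IsIso Φ.left := by
    refine IsoLocus.isIso_of_fiberMap Φ.left (fst T M).left fun t => ?_
    obtain ⟨K, _, τ, hτ, hu⟩ := t.2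
    let τ' : Spec (CommRingCat.of K) ⟶ T.left := IsOpenImmersion.lift U.ι τ (by
      rw [Scheme.Opens.range_ι]
      rintro _ ⟨w, rfl⟩
      rw [@Subsingleton.elim ↥(Spec (CommRingCat.of K)) inferInstance w (closedPoint K), hτ]
      exact t.2)
    have hτ' : τ' ≫ U.ι = τ := IsOpenImmersion.lift_fac _ _ _
    have ht : τ' (closedPoint K) = t := by
      apply U.ι.isOpenEmbedding.injective
      rw [← Scheme.Hom.comp_apply, hτ', hτ]; rfl
    rw [← ht]
    refine isIso_fiberMap_mulL μ[M] η[M] one_mul' mul_assoc' a τ' ((inv_iff_isUnit _).mpr ?_)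
    let c : Over.mk (τ' ≫ T.hom) ⟶ Over.mk (τ ≫ M.hom) := Over.homMk (𝟙 _) (by
      simp only [T, Over.mk_hom, Category.id_comp]; rw [← Category.assoc, hτ'])
    have : (Over.homMk τ' rfl : Over.mk (τ' ≫ T.hom) ⟶ T) ≫ a = c ≫ Over.homMk τ rfl :=
      Over.OverMorphism.ext (hτ'.trans (Category.id_comp τ).symm)
    rw [this]
    obtain ⟨b, hb, hb'⟩ := (inv_iff_isUnit _).mpr hu
    exact (inv_iff_isUnit _).mp (Inv.comp μ[M] η[M] c ⟨b, hb, hb'⟩)
  haveI : IsIso ((Over.forget S).map Φ) := ‹IsIso Φ.left›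
  haveI : IsIso Φ := isIso_of_reflects_iso _ (Over.forget S)
  have hmul : ∀ x : T ⟶ M, lift (𝟙 T) x ≫ Φ = lift (𝟙 T) (a * x) := fun x => by
    apply CartesianMonoidalCategory.hom_ext
    · simp [Φ, mulL]
    · simp [Φ, mulL, comp_lift_assoc, Hom.mul_def]
  let q := lift (𝟙 T) (1 : T ⟶ M) ≫ inv Φ
  let b := q ≫ snd T M
  have hq : lift (𝟙 T) b = q := by
    apply CartesianMonoidalCategory.hom_ext
    · have hif : inv Φ ≫ fst T M = fst T M := by rw [IsIso.inv_comp_eq]; simp [Φ, mulL]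
      rw [lift_fst, Category.assoc, hif, lift_fst]
    · rw [lift_snd]
  have hab : a * b = 1 := by
    have := congrArg (· ≫ snd T M) (hmul b)
    simp only [hq, q, Category.assoc, IsIso.inv_hom_id_assoc, lift_snd] at this
    exact this.symm
  have hba : b * a = 1 := by
    have h1 : lift (𝟙 T) (b * a) ≫ Φ = lift (𝟙 T) 1 ≫ Φ := by
      rw [hmul, hmul, ← _root_.mul_assoc, hab, _root_.one_mul, _root_.mul_one]
    simpa using congrArg (· ≫ snd T M) ((cancel_mono Φ).mp h1)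
  obtain ⟨g, hg⟩ := (hi T a).mpr ⟨⟨a, b, hab, hba⟩, rfl⟩
  have hrange : Set.range i.left ⊆ Set.range U.ι := by
    rw [Scheme.Opens.range_ι]
    rintro _ ⟨x, rfl⟩
    refine ⟨G.left.residueField x, inferInstance, G.left.fromSpecResidueField x ≫ i.left, ?_, ?_⟩
    · rw [Scheme.Hom.comp_apply]; erw [Scheme.fromSpecResidueField_apply]
    · exact (hi _ _).mp ⟨Over.homMk (G.left.fromSpecResidueField x) (by simp),
        Over.OverMorphism.ext rfl⟩
  let r : G ⟶ T := Over.homMk (IsOpenImmersion.lift U.ι i.left hrange) (by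
    change _ ≫ U.ι ≫ M.hom = _
    rw [IsOpenImmersion.lift_fac_assoc, Over.w i])
  have hr : r ≫ a = i := Over.OverMorphism.ext (IsOpenImmersion.lift_fac _ _ _)
  have hrg : r ≫ g = 𝟙 G := by
    rw [← cancel_mono i, Category.assoc, hg, hr, Category.id_comp]
  haveI : Mono a := by
    haveI : Mono ((Over.forget S).map a) := inferInstanceAs (Mono U.ι)
    exact (Over.forget S).mono_of_mono_map ‹_›
  have hgr : g ≫ r = 𝟙 T := by
    rw [← cancel_mono a, Category.assoc, hr, hg, Category.id_comp]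
  haveI : IsIso r.left := ⟨g.left, by rw [← Over.comp_left, hrg]; rfl, by rw [← Over.comp_left, hgr]; rfl⟩
  rw [← hr, Over.comp_left]
  exact inferInstanceAs (IsOpenImmersion (r.left ≫ U.ι))

end Units

end Groth.Agent.GrpSch.UnitsOpen
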